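import Mathlib
import Cfsg.Statements.S4156

set_option autoImplicit false
open Cfsg

namespace Cfsg.Agent.S4156

open Equiv

variable (n : ℕ) (F : Type*) [Field F]

/-- permutation representation on functions -/
noncomputable def rho (σ : Perm (Fin (n + 1))) : (Fin (n + 1) → F) →ₗ[F] (Fin (n + 1) → F) :=
  LinearMap.funLeft F F (σ⁻¹ : Perm (Fin (n + 1)))

theorem rho_apply (σ : Perm (Fin (n + 1))) (g : Fin (n + 1) → F) (i : Fin (n + 1)) :
    rho n F σ g i = g (σ⁻¹ i) := rfl

/-- the sum functional -/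
noncomputable def sumF : (Fin (n + 1) → F) →ₗ[F] F where
  toFun g := ∑ i, g i
  map_add' g h := by simp [Finset.sum_add_distrib]
  map_smul' c g := by simp [Finset.mul_sum]

/-- the sum-zero hyperplane -/
noncomputable def H : Submodule F (Fin (n + 1) → F) := LinearMap.ker (sumF n F)

theorem mem_H (g : Fin (n + 1) → F) : g ∈ H n F ↔ ∑ i, g i = 0 := by
  rw [H, LinearMap.mem_ker]
  rfl

theorem rho_mem_H (σ : Perm (Fin (n + 1))) : ∀ g ∈ H n F, rho n F σ g ∈ H n F := by
  intro g hg
  rw [mem_H] at hg ⊢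
  rw [← hg]
  exact Equiv.sum_comp (σ⁻¹ : Perm (Fin (n + 1))) g

theorem finrank_H : Module.finrank F (H n F) = n := by
  have h := LinearMap.finrank_range_add_finrank_ker (sumF n F)
  have hsurj : LinearMap.range (sumF n F) = ⊤ := by
    rw [LinearMap.range_eq_top]
    intro c
    refine ⟨Pi.single 0 c, ?_⟩
    show ∑ i, (Pi.single 0 c : Fin (n + 1) → F) i = c
    simp
  rw [hsurj, finrank_top, Module.finrank_self, Module.finrank_fin_fun] at h
  rw [H]
  omega

/-- restriction to the hyperplane -/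
noncomputable def rhoH (σ : Perm (Fin (n + 1))) : H n F →ₗ[F] H n F :=
  (rho n F σ).restrict (rho_mem_H n F σ)

theorem rhoH_one : rhoH n F 1 = LinearMap.id := by
  ext g i
  simp [rhoH, rho_apply]

theorem rhoH_mul (σ τ : Perm (Fin (n + 1))) :
    rhoH n F (σ * τ) = (rhoH n F σ).comp (rhoH n F τ) := by
  ext g i
  simp [rhoH, rho_apply, mul_inv_rev, Perm.mul_apply]

/-- a basis of the hyperplane indexed by `Fin n` -/
noncomputable def bH : Module.Basis (Fin n) F (H n F) :=
  Module.finBasisOfFinrankEq F (H n F) (finrank_H n F)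

/-- the matrix of a permutation on the hyperplane -/
noncomputable def Mat (σ : Perm (Fin (n + 1))) : Matrix (Fin n) (Fin n) F :=
  LinearMap.toMatrix (bH n F) (bH n F) (rhoH n F σ)

theorem Mat_one : Mat n F 1 = 1 := by
  rw [Mat, rhoH_one, LinearMap.toMatrix_id]

theorem Mat_mul (σ τ : Perm (Fin (n + 1))) : Mat n F (σ * τ) = Mat n F σ * Mat n F τ := by
  rw [Mat, rhoH_mul, LinearMap.toMatrix_comp (bH n F) (bH n F) (bH n F)]
  rfl

/-- determinant character -/
noncomputable def detHom : Perm (Fin (n + 1)) →* F where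
  toFun σ := (Mat n F σ).det
  map_one' := by rw [Mat_one, Matrix.det_one]
  map_mul' σ τ := by rw [Mat_mul, Matrix.det_mul]

theorem det_Mat_alt (hn : 5 ≤ n) (σ : alternatingGroup (Fin (n + 1))) :
    (Mat n F (σ : Perm (Fin (n + 1)))).det = 1 := by
  let f : alternatingGroup (Fin (n + 1)) →* Fˣ :=
    ((detHom n F).comp (alternatingGroup (Fin (n + 1))).subtype).toHomUnits
  have h5 : 5 ≤ Nat.card (Fin (n + 1)) := by
    rw [Nat.card_eq_fintype_card, Fintype.card_fin]
    omega
  have hker : f.ker = ⊤ := by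
    rw [eq_top_iff, ← commutator_alternatingGroup_eq_top h5]
    exact Abelianization.commutator_subset_ker f
  have hσ : σ ∈ f.ker := by rw [hker]; trivial
  have := congrArg Units.val (MonoidHom.mem_ker.1 hσ)
  simpa [f, detHom] using this

/-- the homomorphism to `SL_n(F)` -/
noncomputable def toSL (hn : 5 ≤ n) :
    alternatingGroup (Fin (n + 1)) →* Matrix.SpecialLinearGroup (Fin n) F where
  toFun σ := ⟨Mat n F (σ : Perm (Fin (n + 1))), det_Mat_alt n F hn σ⟩
  map_one' := Subtype.ext (Mat_one n F)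
  map_mul' σ τ := Subtype.ext (Mat_mul n F σ τ)

theorem scalar_imp_one (hn : 5 ≤ n) (σ : Perm (Fin (n + 1))) (c : F)
    (h : Mat n F σ = Matrix.scalar (Fin n) c) : σ = 1 := by
  classical
  -- the restriction is `c • id`
  have h1 : rhoH n F σ = c • LinearMap.id := by
    apply (LinearMap.toMatrix (bH n F) (bH n F)).injective
    rw [map_smul, LinearMap.toMatrix_id]
    rw [Mat] at h
    rw [h]
    ext i j
    simp [Matrix.scalar_apply, Matrix.diagonal_apply, Matrix.one_apply]
  by_contra hne
  obtain ⟨i, hi⟩ : ∃ i, σ i ≠ i := by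
    by_contra hno
    apply hne
    ext i
    by_contra hi
    exact hno ⟨i, fun h => hi (by rw [h]; rfl)⟩
  -- a third point
  obtain ⟨k, hki, hkj⟩ : ∃ k : Fin (n + 1), k ≠ i ∧ k ≠ σ i := by
    by_contra hno
    have hall : ∀ k : Fin (n + 1), k = i ∨ k = σ i := by
      intro k
      by_contra hk
      rw [not_or] at hk
      exact hno ⟨k, hk.1, hk.2⟩
    have hsub : (Finset.univ : Finset (Fin (n + 1))) ⊆ {i, σ i} := by
      intro k _
      rcases hall k with h | h <;> simp [h]
    have := Finset.card_le_card hsub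
    rw [Finset.card_univ, Fintype.card_fin] at this
    have h2 : ({i, σ i} : Finset (Fin (n + 1))).card ≤ 2 := Finset.card_le_two
    omega
  -- the vector `e_i - e_k`
  have hmem : (Pi.single i 1 - Pi.single k 1 : Fin (n + 1) → F) ∈ H n F := by
    rw [mem_H]
    simp [Finset.sum_sub_distrib]
  have h2 := congrArg (fun L : H n F →ₗ[F] H n F =>
    ((L ⟨_, hmem⟩ : H n F) : Fin (n + 1) → F) (σ i)) h1
  simp only [rhoH, LinearMap.coe_restrict_apply, rho_apply, LinearMap.smul_apply,
    LinearMap.id_apply, Submodule.coe_smul, Pi.smul_apply, Pi.sub_apply,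
    smul_eq_mul] at h2
  have e1 : (σ⁻¹ : Perm (Fin (n + 1))) (σ i) = i := by simp
  rw [e1, Pi.single_eq_same, Pi.single_eq_of_ne (Ne.symm hki), Pi.single_eq_of_ne hi,
    Pi.single_eq_of_ne (Ne.symm hkj)] at h2
  simp at h2

/-- Let n ≥ 5 and F a finite field. Then the projective special linear group PSL_n(F) contains a subgroup isomorphic to the alternating group of degree n + 1. -/
theorem result (n : ℕ) (hn : 5 ≤ n) (F : Type*) [Field F] [Finite F] :
    ∃ f : alternatingGroup (Fin (n + 1)) →* Matrix.ProjectiveSpecialLinearGroup (Fin n) F, Function.Injective f := by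
  refine ⟨(QuotientGroup.mk' (Subgroup.center (Matrix.SpecialLinearGroup (Fin n) F))).comp
    (toSL n F hn), ?_⟩
  rw [injective_iff_map_eq_one]
  intro σ hσ
  rw [MonoidHom.comp_apply, QuotientGroup.mk'_apply, QuotientGroup.eq_one_iff,
    Matrix.SpecialLinearGroup.mem_center_iff] at hσ
  obtain ⟨c, -, hc⟩ := hσ
  have h1 : Mat n F (σ : Perm (Fin (n + 1))) = Matrix.scalar (Fin n) c := hc.symm
  exact Subtype.ext (scalar_imp_one n F hn _ c h1)

end Cfsg.Agent.S4156
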