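import Cfsg.Statements.S4157
import Mathlib
import Cfsg.Agent.S4003
import Cfsg.Agent.H2.MaxClassLCS

set_option autoImplicit false
open Cfsg

namespace Cfsg.Agent.S4157

section

open Classical
open Cfsg.Agent.S4237 Cfsg.Agent.S4003
open scoped commutatorElement

/-- arithmetic: `gcd (2^(n+2)) a = 2 ↔ a ≡ 2 mod 4` -/
theorem gcd_two_pow_eq_two (n a : ℕ) : Nat.gcd (2 ^ (n + 2)) a = 2 ↔ a % 4 = 2 := by
  have h4 : 4 ∣ 2 ^ (n + 2) := by
    rw [pow_add]; exact Dvd.intro_left _ rfl
  constructor
  · intro h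
    have h1 : 2 ∣ a := by
      have := Nat.gcd_dvd_right (2 ^ (n + 2)) a
      rwa [h] at this
    have h2 : ¬ 4 ∣ a := by
      intro h3
      have := Nat.dvd_gcd h4 h3
      rw [h] at this
      omega
    omega
  · intro h
    have h1 : 2 ∣ a := by omega
    have h2 : ¬ 4 ∣ a := by omega
    have h3 : Nat.gcd (2 ^ (n + 2)) a ∣ 2 ^ (n + 2) := Nat.gcd_dvd_left _ _
    obtain ⟨j, hj, hj2⟩ := (Nat.dvd_prime_pow Nat.prime_two).mp h3
    have h5 : 2 ∣ Nat.gcd (2 ^ (n + 2)) a :=
      Nat.dvd_gcd ((by decide : 2 ∣ 4).trans h4) h1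
    have h6 : ¬ 4 ∣ Nat.gcd (2 ^ (n + 2)) a := fun h => h2 (h.trans (Nat.gcd_dvd_right _ _))
    rw [hj2] at h5 h6 ⊢
    have hj1 : j ≠ 0 := by
      rintro rfl
      simp at h5
    have hj3 : j < 2 := by
      by_contra h7
      push_neg at h7
      apply h6
      have : (4 : ℕ) = 2 ^ 2 := by norm_num
      rw [this]
      exact pow_dvd_pow 2 h7
    have : j = 1 := by omega
    rw [this, pow_one]

section cm

variable {G : Type*} [Group G] [Finite G] {n : ℕ}

theorem index_zpowers_two (hcard : Nat.card G = 2 ^ (n + 3)) {x : G}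
    (hx : orderOf x = 2 ^ (n + 2)) : (Subgroup.zpowers x).index = 2 := by
  have := Subgroup.card_mul_index (Subgroup.zpowers x)
  rw [Nat.card_zpowers, hx, hcard, pow_succ 2 (n + 2)] at this
  exact Nat.eq_of_mul_eq_mul_left (pow_pos (by norm_num) _) this

theorem exists_conj_pow (hcard : Nat.card G = 2 ^ (n + 3)) {x : G}
    (hx : orderOf x = 2 ^ (n + 2)) (g : G) : ∃ r : ℕ, g * x * g⁻¹ = x ^ r := by
  haveI hn : (Subgroup.zpowers x).Normal :=
    Subgroup.normal_of_index_eq_two (index_zpowers_two hcard hx)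
  have h1 : g * x * g⁻¹ ∈ Subgroup.zpowers x := hn.conj_mem x (Subgroup.mem_zpowers x) g
  have h2 : g * x * g⁻¹ ∈ Submonoid.powers x := mem_powers_iff_mem_zpowers.mpr h1
  obtain ⟨r, hr⟩ := (Submonoid.mem_powers_iff _ _).mp h2
  exact ⟨r, hr.symm⟩

/-- elements of `C = ⟨x⟩` commute with `x` -/
theorem conj_of_mem {x y : G} (hy : y ∈ Subgroup.zpowers x) : y * x * y⁻¹ = x := by
  obtain ⟨j, rfl⟩ := Subgroup.mem_zpowers_iff.mp hy
  have : x ^ j * x = x * x ^ j := by
    rw [← zpow_add_one, ← zpow_one_add, add_comm]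
  rw [this, mul_inv_cancel_right]

/-- all elements outside `C` act on `C` the same way -/
theorem conj_of_not_mem (hcard : Nat.card G = 2 ^ (n + 3)) {x g : G}
    (hx : orderOf x = 2 ^ (n + 2)) (hg : g ∉ Subgroup.zpowers x) {r : ℕ}
    (hr : g * x * g⁻¹ = x ^ r) {y : G} (hy : y ∉ Subgroup.zpowers x) :
    y * x * y⁻¹ = x ^ r := by
  have hidx := index_zpowers_two hcard hx
  have h1 : y * g⁻¹ ∈ Subgroup.zpowers x := by
    rw [Subgroup.mul_mem_iff_of_index_two hidx, Subgroup.inv_mem_iff]
    exact ⟨fun h => absurd h hy, fun h => absurd h hg⟩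
  have e : y * x * y⁻¹ = (y * g⁻¹) * (g * x * g⁻¹) * (y * g⁻¹)⁻¹ := by group
  rw [e, hr]
  have h2 := conj_of_mem h1
  have : (y * g⁻¹) * x ^ r * (y * g⁻¹)⁻¹ = ((y * g⁻¹) * x * (y * g⁻¹)⁻¹) ^ r := by
    rw [conj_pow]
  rw [this, h2]

/-- action on arbitrary elements of `C` -/
theorem conj_mem_of_not_mem (hcard : Nat.card G = 2 ^ (n + 3)) {x g : G}
    (hx : orderOf x = 2 ^ (n + 2)) (hg : g ∉ Subgroup.zpowers x) {r : ℕ}
    (hr : g * x * g⁻¹ = x ^ r) {y : G} (hy : y ∉ Subgroup.zpowers x) {u : G}
    (hu : u ∈ Subgroup.zpowers x) : y * u * y⁻¹ = u ^ r := by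
  obtain ⟨j, rfl⟩ := Subgroup.mem_zpowers_iff.mp hu
  have h1 := conj_of_not_mem hcard hx hg hr hy
  have : y * x ^ j * y⁻¹ = (y * x * y⁻¹) ^ j := by rw [conj_zpow]
  rw [this, h1, ← zpow_natCast, ← zpow_natCast, ← zpow_mul, ← zpow_mul, mul_comm]

theorem comm_of_mem {x u v : G} (hu : u ∈ Subgroup.zpowers x) (hv : v ∈ Subgroup.zpowers x) :
    u * v = v * u := by
  obtain ⟨i, rfl⟩ := Subgroup.mem_zpowers_iff.mp hu
  obtain ⟨j, rfl⟩ := Subgroup.mem_zpowers_iff.mp hv
  rw [← zpow_add, ← zpow_add, add_comm]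

theorem r_odd (hcard : Nat.card G = 2 ^ (n + 3)) {x g : G}
    (hx : orderOf x = 2 ^ (n + 2)) {r : ℕ} (hr : g * x * g⁻¹ = x ^ r) : r % 2 = 1 := by
  have h1 : orderOf (g * x * g⁻¹) = orderOf x := (MulAut.conj g).orderOf_eq x
  rw [hr, orderOf_pow, hx] at h1
  have hpos : 0 < 2 ^ (n + 2) := pow_pos (by norm_num) _
  have hg : Nat.gcd (2 ^ (n + 2)) r = 1 := by
    have hd : Nat.gcd (2 ^ (n + 2)) r ∣ 2 ^ (n + 2) := Nat.gcd_dvd_left _ _
    obtain ⟨c, hc⟩ := hd
    have hgpos : 0 < Nat.gcd (2 ^ (n + 2)) r := Nat.gcd_pos_of_pos_left _ hpos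
    have h2 : 2 ^ (n + 2) / Nat.gcd (2 ^ (n + 2)) r = c :=
      Nat.div_eq_of_eq_mul_right hgpos hc
    rw [h2] at h1
    rw [h1] at hc
    have : Nat.gcd (2 ^ (n + 2)) r * 2 ^ (n + 2) = 1 * 2 ^ (n + 2) := by rw [one_mul]; exact hc.symm
    exact Nat.eq_of_mul_eq_mul_right hpos this
  by_contra h
  have h2 : 2 ∣ r := by omega
  have h3 : 2 ∣ 2 ^ (n + 2) := dvd_pow_self 2 (by omega)
  have := Nat.dvd_gcd h3 h2
  rw [hg] at this
  omega

/-- the commutator subgroup -/
theorem commutator_eq (hcard : Nat.card G = 2 ^ (n + 3)) {x g : G}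
    (hx : orderOf x = 2 ^ (n + 2)) (hg : g ∉ Subgroup.zpowers x) {r : ℕ}
    (hr : g * x * g⁻¹ = x ^ r) : commutator G = Subgroup.zpowers (x ^ (r - 1)) := by
  have hr1 : 1 ≤ r := by have := r_odd hcard hx hr; omega
  have hidx := index_zpowers_two hcard hx
  -- `u^(r-1)` lies in the target for `u ∈ C`
  have key : ∀ u ∈ Subgroup.zpowers x, u ^ r * u⁻¹ ∈ Subgroup.zpowers (x ^ (r - 1)) := by
    intro u hu
    obtain ⟨j, rfl⟩ := Subgroup.mem_zpowers_iff.mp hu
    have : (x ^ j) ^ r * (x ^ j)⁻¹ = (x ^ (r - 1)) ^ j := by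
      rw [← zpow_natCast, ← zpow_natCast, ← zpow_mul, ← zpow_mul, ← zpow_neg, ← zpow_add]
      congr 1
      push_cast [hr1]
      ring
    rw [this]
    exact Subgroup.zpow_mem _ (Subgroup.mem_zpowers _) j
  apply le_antisymm
  · rw [commutator_def, Subgroup.commutator_le]
    intro a _ b _
    rw [commutatorElement_def]
    by_cases ha : a ∈ Subgroup.zpowers x
    · by_cases hb : b ∈ Subgroup.zpowers x
      · have : a * b * a⁻¹ * b⁻¹ = 1 := by
          rw [comm_of_mem ha hb]; group
        rw [this]; exact Subgroup.one_mem _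
      · -- a (b a⁻¹ b⁻¹) = a (a⁻¹)^r
        have h1 := conj_mem_of_not_mem hcard hx hg hr hb (Subgroup.inv_mem _ ha)
        have e : a * b * a⁻¹ * b⁻¹ = a * (b * a⁻¹ * b⁻¹) := by group
        rw [e, h1]
        have h2 := key a⁻¹ (Subgroup.inv_mem _ ha)
        rw [inv_inv] at h2
        have e2 : a * a⁻¹ ^ r = a⁻¹ ^ r * a := by
          rw [inv_pow]
          have := comm_of_mem ha (Subgroup.inv_mem _ (Subgroup.pow_mem _ ha r))
          exact this
        rw [e2]; exact h2
    · by_cases hb : b ∈ Subgroup.zpowers x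
      · have h1 := conj_mem_of_not_mem hcard hx hg hr ha hb
        rw [h1]
        exact key b hb
      · -- b = c a
        have hc : b * a⁻¹ ∈ Subgroup.zpowers x := by
          rw [Subgroup.mul_mem_iff_of_index_two hidx, Subgroup.inv_mem_iff]
          exact ⟨fun h => absurd h hb, fun h => absurd h ha⟩
        have h1 := conj_mem_of_not_mem hcard hx hg hr ha hc
        have e : a * b * a⁻¹ * b⁻¹ = (a * (b * a⁻¹) * a⁻¹) * (b * a⁻¹)⁻¹ := by group
        rw [e, h1]
        exact key _ hc
  · rw [Subgroup.zpowers_le]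
    have : x ^ (r - 1) = ⁅g, x⁆ := by
      rw [commutatorElement_def, hr]
      have : x ^ r = x ^ (r - 1) * x := by
        rw [← pow_succ]; congr 1; omega
      rw [this, mul_inv_cancel_right]
    rw [this, commutator_def]
    exact Subgroup.commutator_mem_commutator (Subgroup.mem_top g) (Subgroup.mem_top x)

/-- the Taussky condition in terms of `r` -/
theorem index_commutator_eq_four_iff (hcard : Nat.card G = 2 ^ (n + 3)) {x g : G}
    (hx : orderOf x = 2 ^ (n + 2)) (hg : g ∉ Subgroup.zpowers x) {r : ℕ}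
    (hr : g * x * g⁻¹ = x ^ r) : (commutator G).index = 4 ↔ r % 4 = 3 := by
  have hr1 : r % 2 = 1 := r_odd hcard hx hr
  rw [commutator_eq hcard hx hg hr]
  have h1 := Subgroup.card_mul_index (Subgroup.zpowers (x ^ (r - 1)))
  rw [Nat.card_zpowers, orderOf_pow, hx, hcard] at h1
  have hpos : 0 < 2 ^ (n + 2) := pow_pos (by norm_num) _
  have hgpos : 0 < Nat.gcd (2 ^ (n + 2)) (r - 1) := Nat.gcd_pos_of_pos_left _ hpos
  obtain ⟨c, hc⟩ := Nat.gcd_dvd_left (2 ^ (n + 2)) (r - 1)
  have h2 : 2 ^ (n + 2) / Nat.gcd (2 ^ (n + 2)) (r - 1) = c :=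
    Nat.div_eq_of_eq_mul_right hgpos hc
  rw [h2] at h1
  have h3 : (r - 1) % 4 = 2 ↔ r % 4 = 3 := by omega
  rw [← h3, ← gcd_two_pow_eq_two n]
  have hcpos : 0 < c := by
    rcases Nat.eq_zero_or_pos c with h | h
    · rw [h, mul_zero] at hc; omega
    · exact h
  constructor
  · intro h4
    rw [h4] at h1
    -- c * 4 = 2^(n+3) = 2 * 2^(n+2) = 2 * gcd * c
    have h5 : c * 4 = c * (2 * Nat.gcd (2 ^ (n + 2)) (r - 1)) := by
      rw [h1, pow_succ 2 (n + 2)]
      conv_lhs => rw [hc]
      ring
    have := Nat.eq_of_mul_eq_mul_left hcpos h5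
    omega
  · intro h4
    rw [h4] at hc
    have h5 : c * (Subgroup.zpowers (x ^ (r - 1))).index = c * 4 := by
      rw [h1, pow_succ 2 (n + 2), hc]; ring
    exact Nat.eq_of_mul_eq_mul_left hcpos h5

end cm

end

section

open Classical
open Cfsg.Agent.S4237 Cfsg.Agent.S4003
open scoped commutatorElement

section cm

variable {G : Type*} [Group G] [Finite G] {n : ℕ}

/-- the order of an element outside `C` in terms of its square -/
theorem orderOf_eq_two_mul (hcard : Nat.card G = 2 ^ (n + 3)) {x : G}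
    (hx : orderOf x = 2 ^ (n + 2)) {y : G} (hy : y ∉ Subgroup.zpowers x) {a : ℕ}
    (hya : y ^ 2 = x ^ a) : orderOf y = 2 * (2 ^ (n + 2) / Nat.gcd (2 ^ (n + 2)) a) := by
  have h1 : orderOf (y ^ 2) = orderOf y / Nat.gcd (orderOf y) 2 := orderOf_pow y
  have h2 : orderOf y ∣ 2 ^ (n + 3) := by rw [← hcard]; exact orderOf_dvd_natCard y
  obtain ⟨j, hj, hj2⟩ := (Nat.dvd_prime_pow Nat.prime_two).mp h2
  have hj0 : j ≠ 0 := by
    rintro rfl
    rw [pow_zero, orderOf_eq_one_iff] at hj2
    apply hy
    rw [hj2]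
    exact Subgroup.one_mem _
  obtain ⟨i, rfl⟩ := Nat.exists_eq_succ_of_ne_zero hj0
  have h3 : Nat.gcd (orderOf y) 2 = 2 := by
    rw [hj2]
    apply Nat.gcd_eq_right
    exact dvd_pow_self 2 (Nat.succ_ne_zero i)
  rw [h3, hya, orderOf_pow, hx] at h1
  rw [h1, hj2, pow_succ]
  have : 2 ^ i * 2 / 2 = 2 ^ i := Nat.mul_div_cancel _ (by norm_num)
  rw [this, mul_comm]

theorem orderOf_eq_iff (hcard : Nat.card G = 2 ^ (n + 3)) {x : G}
    (hx : orderOf x = 2 ^ (n + 2)) {y : G} (hy : y ∉ Subgroup.zpowers x) {a : ℕ}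
    (hya : y ^ 2 = x ^ a) : orderOf y = 2 ^ (n + 2) ↔ a % 4 = 2 := by
  rw [orderOf_eq_two_mul hcard hx hy hya, ← gcd_two_pow_eq_two n]
  have hpos : 0 < 2 ^ (n + 2) := pow_pos (by norm_num) _
  have hgpos : 0 < Nat.gcd (2 ^ (n + 2)) a := Nat.gcd_pos_of_pos_left _ hpos
  obtain ⟨c, hc⟩ := Nat.gcd_dvd_left (2 ^ (n + 2)) a
  have h2 : 2 ^ (n + 2) / Nat.gcd (2 ^ (n + 2)) a = c := Nat.div_eq_of_eq_mul_right hgpos hc
  rw [h2]
  have hcpos : 0 < c := by
    rcases Nat.eq_zero_or_pos c with h | h
    · rw [h, mul_zero] at hc; omega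
    · exact h
  constructor
  · intro h
    have h5 : c * 2 = c * Nat.gcd (2 ^ (n + 2)) a := by
      rw [mul_comm c 2, h]
      conv_lhs => rw [hc]
      ring
    exact (Nat.eq_of_mul_eq_mul_left hcpos h5).symm
  · intro h
    rw [h] at hc
    exact hc.symm

/-- in a noncyclic group the square of an element outside `C` is an even power of `x` -/
theorem even_exponent (hcard : Nat.card G = 2 ^ (n + 3)) (hnc : ¬ IsCyclic G) {x : G}
    (hx : orderOf x = 2 ^ (n + 2)) {y : G} (hy : y ∉ Subgroup.zpowers x) {a : ℕ}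
    (hya : y ^ 2 = x ^ a) : a % 2 = 0 := by
  by_contra h
  apply hnc
  have h1 := orderOf_eq_two_mul hcard hx hy hya
  have hg : Nat.gcd (2 ^ (n + 2)) a = 1 := by
    have : Nat.Coprime 2 a := by
      rw [Nat.Prime.coprime_iff_not_dvd Nat.prime_two]
      omega
    exact Nat.Coprime.pow_left _ this
  rw [hg, Nat.div_one, ← pow_succ', ← hcard] at h1
  exact isCyclic_of_orderOf_eq_card y h1

theorem sq_mul (hcard : Nat.card G = 2 ^ (n + 3)) {x g : G}
    (hx : orderOf x = 2 ^ (n + 2)) (hg : g ∉ Subgroup.zpowers x) {r : ℕ}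
    (hr : g * x * g⁻¹ = x ^ r) {y : G} (hy : y ∉ Subgroup.zpowers x) :
    (x * y) ^ 2 = x ^ (r + 1) * y ^ 2 := by
  have h1 := conj_of_not_mem hcard hx hg hr hy
  have e : (x * y) ^ 2 = x * (y * x * y⁻¹) * y ^ 2 := by
    rw [pow_two, pow_two]; group
  rw [e, h1, ← pow_succ']

theorem mul_not_mem {x y : G} (hy : y ∉ Subgroup.zpowers x) : x * y ∉ Subgroup.zpowers x := by
  intro h
  apply hy
  have := Subgroup.mul_mem _ (Subgroup.inv_mem _ (Subgroup.mem_zpowers x)) h
  rwa [inv_mul_cancel_left] at this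

/-- how the property "has order `2^(n+2)`" behaves under left multiplication by `x` -/
theorem orderOf_mul_iff (hcard : Nat.card G = 2 ^ (n + 3)) (hnc : ¬ IsCyclic G) {x g : G}
    (hx : orderOf x = 2 ^ (n + 2)) (hg : g ∉ Subgroup.zpowers x) {r : ℕ}
    (hr : g * x * g⁻¹ = x ^ r) {y : G} (hy : y ∉ Subgroup.zpowers x) :
    (r % 4 = 3 → (orderOf (x * y) = 2 ^ (n + 2) ↔ orderOf y = 2 ^ (n + 2))) ∧
    (r % 4 = 1 → (orderOf (x * y) = 2 ^ (n + 2) ↔ ¬ orderOf y = 2 ^ (n + 2))) := by
  have hidx := index_zpowers_two hcard hx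
  have h1 : y ^ 2 ∈ Subgroup.zpowers x := Subgroup.sq_mem_of_index_two hidx y
  have h2 : y ^ 2 ∈ Submonoid.powers x := mem_powers_iff_mem_zpowers.mpr h1
  obtain ⟨a, ha⟩ := (Submonoid.mem_powers_iff _ _).mp h2
  have hya : y ^ 2 = x ^ a := ha.symm
  have hxy : (x * y) ^ 2 = x ^ (r + 1 + a) := by
    rw [sq_mul hcard hx hg hr hy, hya, ← pow_add]
  have ha2 := even_exponent hcard hnc hx hy hya
  rw [orderOf_eq_iff hcard hx (mul_not_mem hy) hxy, orderOf_eq_iff hcard hx hy hya]
  constructor
  · intro h; omega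
  · intro h; omega

end cm

end

section

open Classical
open Cfsg.Agent.S4237 Cfsg.Agent.S4003
open scoped commutatorElement

section cm

variable {G : Type*} [Group G] [Finite G] {n : ℕ}

/-- the number of elements of order `2^s` in terms of cyclic subgroups -/
theorem card_orderOf_eq [Fintype G] (s : ℕ) :
    (Finset.univ.filter (fun y : G => orderOf y = 2 ^ s)).card =
      (cx 2 s G).card * Nat.totient (2 ^ s) := by
  haveI : Fact (Nat.Prime 2) := ⟨Nat.prime_two⟩
  have hmaps : ((Finset.univ.filter (fun y : G => orderOf y = 2 ^ s) : Finset G) :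
      Set G).MapsTo (fun y => Subgroup.zpowers y) (cx 2 s G) := by
    intro y hy
    have hy' : y ∈ Finset.univ.filter (fun y : G => orderOf y = 2 ^ s) := hy
    rw [Finset.mem_filter] at hy'
    show Subgroup.zpowers y ∈ cx 2 s G
    rw [mem_cx]
    exact ⟨by rw [Nat.card_zpowers, hy'.2], inferInstance⟩
  rw [Finset.card_eq_sum_card_fiberwise hmaps]
  have st : ∀ X ∈ cx 2 s G, ((Finset.univ.filter (fun y : G => orderOf y = 2 ^ s)).filter
      (fun y => Subgroup.zpowers y = X)).card = Nat.totient (2 ^ s) := by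
    intro X hX
    rw [mem_cx] at hX
    rw [← card_generators hX.1 hX.2]
    congr 1
    ext y
    rw [Finset.mem_filter, Finset.mem_filter, Finset.mem_filter]
    constructor
    · rintro ⟨-, h⟩
      exact ⟨Finset.mem_univ _, h⟩
    · rintro ⟨-, h⟩
      refine ⟨⟨Finset.mem_univ _, ?_⟩, h⟩
      rw [← Nat.card_zpowers, h, hX.1]
  rw [Finset.sum_congr rfl st, Finset.sum_const, smul_eq_mul]

/-- the number of cyclic maximal subgroups -/
theorem card_cx_max (hcard : Nat.card G = 2 ^ (n + 3)) (hnc : ¬ IsCyclic G) {x g : G}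
    (hx : orderOf x = 2 ^ (n + 2)) (hg : g ∉ Subgroup.zpowers x) {r : ℕ}
    (hr : g * x * g⁻¹ = x ^ r) :
    (r % 4 = 1 → (cx 2 (n + 2) G).card = 2) ∧
    (r % 4 = 3 → (cx 2 (n + 2) G).card = 1 ∨ (cx 2 (n + 2) G).card = 3) := by
  haveI : Fintype G := Fintype.ofFinite G
  have htot : Nat.totient (2 ^ (n + 2)) = 2 ^ (n + 1) := by
    rw [Nat.totient_prime_pow Nat.prime_two (by omega : 0 < n + 2)]
    simp
  have hpos : 0 < 2 ^ (n + 1) := pow_pos (by norm_num) _
  set O := Finset.univ.filter (fun y : G => orderOf y = 2 ^ (n + 2)) with hO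
  set Oc := O.filter (fun y => y ∈ Subgroup.zpowers x) with hOc
  set Oo := O.filter (fun y => y ∉ Subgroup.zpowers x) with hOo
  set Out := Finset.univ.filter (fun y : G => y ∉ Subgroup.zpowers x) with hOut
  have hOcard : O.card = (cx 2 (n + 2) G).card * 2 ^ (n + 1) := by
    rw [hO, card_orderOf_eq, htot]
  have hsplit : Oc.card + Oo.card = O.card :=
    Finset.card_filter_add_card_filter_not (fun y => y ∈ Subgroup.zpowers x)
  have hOccard : Oc.card = 2 ^ (n + 1) := by
    rw [← htot, ← card_generators (X := Subgroup.zpowers x) (by rw [Nat.card_zpowers, hx])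
      inferInstance]
    congr 1
    ext y
    rw [hOc, hO, Finset.mem_filter, Finset.mem_filter, Finset.mem_filter]
    constructor
    · rintro ⟨⟨-, h1⟩, h2⟩
      refine ⟨Finset.mem_univ _, ?_⟩
      apply Subgroup.eq_of_le_of_card_ge
      · rw [Subgroup.zpowers_le]; exact h2
      · rw [Nat.card_zpowers, Nat.card_zpowers, h1, hx]
    · rintro ⟨-, h⟩
      refine ⟨⟨Finset.mem_univ _, ?_⟩, ?_⟩
      · rw [← Nat.card_zpowers, h, Nat.card_zpowers, hx]
      · rw [← h]; exact Subgroup.mem_zpowers y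
  have hOutcard : Out.card = 2 ^ (n + 2) := by
    have h1 := Finset.card_filter_add_card_filter_not (s := (Finset.univ : Finset G))
      (fun y => y ∈ Subgroup.zpowers x)
    have h2 : (Finset.univ.filter (fun y : G => y ∈ Subgroup.zpowers x)).card = 2 ^ (n + 2) := by
      rw [← hx, ← Nat.card_zpowers, Nat.card_eq_fintype_card, Fintype.card_subtype]
    have h3 : (Finset.univ : Finset G).card = 2 ^ (n + 3) := by
      rw [Finset.card_univ, ← Nat.card_eq_fintype_card, hcard]
    rw [h2, h3, pow_succ 2 (n + 2)] at h1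
    rw [hOut]
    omega
  have hOoOut : Oo ⊆ Out := by
    intro y hy
    rw [hOo, Finset.mem_filter] at hy
    rw [hOut, Finset.mem_filter]
    exact ⟨Finset.mem_univ _, hy.2⟩
  have hidx := index_zpowers_two hcard hx
  constructor
  · intro h1
    -- bijection `y ↦ x y` from `Oo` onto `Out \ Oo`
    have him : Oo.image (fun y => x * y) = Out \ Oo := by
      ext z
      rw [Finset.mem_image, Finset.mem_sdiff]
      constructor
      · rintro ⟨y, hy, rfl⟩
        rw [hOo, Finset.mem_filter, hO, Finset.mem_filter] at hy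
        obtain ⟨⟨-, hy1⟩, hy2⟩ := hy
        have := (orderOf_mul_iff hcard hnc hx hg hr hy2).2 h1
        refine ⟨?_, ?_⟩
        · rw [hOut, Finset.mem_filter]
          exact ⟨Finset.mem_univ _, mul_not_mem hy2⟩
        · intro h
          rw [hOo, Finset.mem_filter, hO, Finset.mem_filter] at h
          exact (this.mp h.1.2) hy1
      · rintro ⟨hz1, hz2⟩
        rw [hOut, Finset.mem_filter] at hz1
        have hy2 : x⁻¹ * z ∉ Subgroup.zpowers x := by
          intro h
          apply hz1.2
          have := Subgroup.mul_mem _ (Subgroup.mem_zpowers x) h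
          rwa [mul_inv_cancel_left] at this
        have := (orderOf_mul_iff hcard hnc hx hg hr hy2).2 h1
        rw [mul_inv_cancel_left] at this
        refine ⟨x⁻¹ * z, ?_, mul_inv_cancel_left x z⟩
        rw [hOo, Finset.mem_filter, hO, Finset.mem_filter]
        refine ⟨⟨Finset.mem_univ _, ?_⟩, hy2⟩
        by_contra h
        apply hz2
        rw [hOo, Finset.mem_filter, hO, Finset.mem_filter]
        exact ⟨⟨Finset.mem_univ _, this.mpr h⟩, hz1.2⟩
    have h2 : Oo.card = (Out \ Oo).card := by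
      rw [← him, Finset.card_image_of_injective _ (mul_right_injective x)]
    rw [Finset.card_sdiff_of_subset hOoOut, hOutcard] at h2
    have h3 : Oo.card ≤ 2 ^ (n + 2) := by
      rw [← hOutcard]; exact Finset.card_le_card hOoOut
    have h4 : Oo.card = 2 ^ (n + 1) := by
      rw [pow_succ 2 (n + 1)] at h2 h3
      omega
    rw [hOccard, h4, hOcard] at hsplit
    have : (cx 2 (n + 2) G).card * 2 ^ (n + 1) = 2 * 2 ^ (n + 1) := by omega
    exact Nat.eq_of_mul_eq_mul_right hpos this
  · intro h3
    have hstep : ∀ y, y ∉ Subgroup.zpowers x → orderOf y = 2 ^ (n + 2) →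
        ∀ i : ℕ, orderOf (x ^ i * y) = 2 ^ (n + 2) := by
      intro y hy hyo i
      induction i with
      | zero => simpa using hyo
      | succ i ih =>
        have hn' : x ^ i * y ∉ Subgroup.zpowers x := by
          intro h
          apply hy
          have := Subgroup.mul_mem _ (Subgroup.inv_mem _ (Subgroup.pow_mem _
            (Subgroup.mem_zpowers x) i)) h
          rwa [inv_mul_cancel_left] at this
        have := ((orderOf_mul_iff hcard hnc hx hg hr hn').1 h3).mpr ih
        rw [← mul_assoc, ← pow_succ'] at this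
        exact this
    have hcases : Oo = ∅ ∨ Oo = Out := by
      by_cases hne : Oo.Nonempty
      · right
        obtain ⟨y₀, hy₀⟩ := hne
        rw [hOo, Finset.mem_filter, hO, Finset.mem_filter] at hy₀
        apply Finset.Subset.antisymm hOoOut
        intro z hz
        rw [hOut, Finset.mem_filter] at hz
        have hc : z * y₀⁻¹ ∈ Subgroup.zpowers x := by
          rw [Subgroup.mul_mem_iff_of_index_two hidx, Subgroup.inv_mem_iff]
          exact ⟨fun h => absurd h hz.2, fun h => absurd h hy₀.2⟩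
        have hc2 : z * y₀⁻¹ ∈ Submonoid.powers x := mem_powers_iff_mem_zpowers.mpr hc
        obtain ⟨i, hi⟩ := (Submonoid.mem_powers_iff _ _).mp hc2
        have hz' : z = x ^ i * y₀ := by rw [hi]; group
        rw [hOo, Finset.mem_filter, hO, Finset.mem_filter]
        refine ⟨⟨Finset.mem_univ _, ?_⟩, hz.2⟩
        rw [hz']
        exact hstep y₀ hy₀.2 hy₀.1.2 i
      · left
        exact Finset.not_nonempty_iff_eq_empty.mp hne
    rcases hcases with h | h
    · left
      rw [h, Finset.card_empty, hOccard, hOcard] at hsplit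
      have : (cx 2 (n + 2) G).card * 2 ^ (n + 1) = 1 * 2 ^ (n + 1) := by omega
      exact Nat.eq_of_mul_eq_mul_right hpos this
    · right
      rw [h, hOutcard, hOccard, hOcard, pow_succ 2 (n + 1)] at hsplit
      have : (cx 2 (n + 2) G).card * 2 ^ (n + 1) = 3 * 2 ^ (n + 1) := by omega
      exact Nat.eq_of_mul_eq_mul_right hpos this

end cm

end

section

open Classical
open Cfsg.Agent.S4237 Cfsg.Agent.S4003
open scoped commutatorElement

section o16

variable {Q : Type*} [Group Q] [Finite Q]

/-- a normal subgroup of order two is central -/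
theorem central_of_card_two {N : Subgroup Q} [hN : N.Normal] (hc : Nat.card N = 2) :
    N ≤ Subgroup.center Q := by
  intro z hz
  rw [Subgroup.mem_center_iff]
  intro g
  by_cases hz1 : z = 1
  · rw [hz1]; simp
  · have h1 : g * z * g⁻¹ ∈ N := hN.conj_mem z hz g
    have h2 : g * z * g⁻¹ ≠ 1 := by
      intro h
      apply hz1
      have : z = g⁻¹ * (g * z * g⁻¹) * g := by group
      rw [this, h]; group
    -- two nonidentity elements of a group of order 2 coincide
    obtain ⟨a, b, hab, huniv⟩ := Nat.card_eq_two_iff.mp hc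
    have hmem : ∀ u : N, u = a ∨ u = b := by
      intro u
      have : u ∈ ({a, b} : Set N) := by rw [huniv]; exact Set.mem_univ u
      simpa using this
    have key : ∀ u v : N, u ≠ 1 → v ≠ 1 → u = v := by
      intro u v hu hv
      rcases hmem 1 with h | h
      · rcases hmem u with h3 | h3
        · exact absurd (h3.trans h.symm) hu
        · rcases hmem v with h4 | h4
          · exact absurd (h4.trans h.symm) hv
          · rw [h3, h4]
      · rcases hmem u with h3 | h3
        · rcases hmem v with h4 | h4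
          · rw [h3, h4]
          · exact absurd (h4.trans h.symm) hv
        · exact absurd (h3.trans h.symm) hu
    have h3 := key ⟨g * z * g⁻¹, h1⟩ ⟨z, hz⟩
      (fun h => h2 (congrArg Subtype.val h)) (fun h => hz1 (congrArg Subtype.val h))
    have h4 : g * z * g⁻¹ = z := congrArg Subtype.val h3
    calc g * z = (g * z * g⁻¹) * g := by group
      _ = z * g := by rw [h4]

/-- commutation with `x` as a homomorphism when the commutator subgroup is central of order two -/
theorem index_centralizer_le_two (hQ' : Nat.card (commutator Q) = 2) (x : Q) :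
    (Subgroup.centralizer ({x} : Set Q)).index ≤ 2 := by
  have hcen : commutator Q ≤ Subgroup.center Q := central_of_card_two hQ'
  have hmem : ∀ a b : Q, ⁅a, b⁆ ∈ commutator Q := by
    intro a b
    rw [commutator_def]
    exact Subgroup.commutator_mem_commutator (Subgroup.mem_top a) (Subgroup.mem_top b)
  let φ : Q →* commutator Q := MonoidHom.mk' (fun y => ⟨⁅y, x⁆, hmem y x⟩) (by
    intro y y'
    apply Subtype.ext
    show ⁅y * y', x⁆ = ⁅y, x⁆ * ⁅y', x⁆
    have h1 : ⁅y', x⁆ ∈ Subgroup.center Q := hcen (hmem y' x)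
    have h2 := Subgroup.mem_center_iff.mp h1 y
    rw [commutatorElement_def, commutatorElement_def] at *
    calc y * y' * x * (y * y')⁻¹ * x⁻¹ = (y * (y' * x * y'⁻¹ * x⁻¹)) * x * y⁻¹ * x⁻¹ := by group
      _ = ((y' * x * y'⁻¹ * x⁻¹) * y) * x * y⁻¹ * x⁻¹ := by rw [h2]
      _ = (y' * x * y'⁻¹ * x⁻¹) * (y * x * y⁻¹ * x⁻¹) := by group
      _ = (y * x * y⁻¹ * x⁻¹) * (y' * x * y'⁻¹ * x⁻¹) := by
        have h3 := Subgroup.mem_center_iff.mp h1 (y * x * y⁻¹ * x⁻¹)
        exact h3.symm)
  have hker : φ.ker = Subgroup.centralizer ({x} : Set Q) := by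
    ext y
    rw [MonoidHom.mem_ker, Subgroup.mem_centralizer_iff]
    constructor
    · intro h z hz
      rw [Set.mem_singleton_iff] at hz
      have h1 : ⁅y, x⁆ = 1 := congrArg Subtype.val h
      rw [commutatorElement_eq_one_iff_mul_comm] at h1
      rw [hz]; exact h1.symm
    · intro h
      apply Subtype.ext
      show ⁅y, x⁆ = 1
      rw [commutatorElement_eq_one_iff_mul_comm]
      exact (h x (Set.mem_singleton x)).symm
  rw [← hker, Subgroup.index_ker]
  calc Nat.card φ.range ≤ Nat.card (commutator Q) := by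
        apply Nat.card_le_card_of_injective (fun u : φ.range => (u : commutator Q))
        exact Subtype.val_injective
    _ = 2 := hQ'

end o16

end

section

open Classical
open Cfsg.Agent.S4237 Cfsg.Agent.S4003
open scoped commutatorElement

section o16

variable {Q : Type*} [Group Q] [Finite Q]

/-- in a group of order 16 with commutator subgroup of order 2 exactly three maximal subgroups
are abelian -/
theorem card_abelian_max (hcard : Nat.card Q = 16) (hQ' : Nat.card (commutator Q) = 2) :
    ((mx 2 (⊥ : Subgroup Q)).filter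
      (fun A : Subgroup Q => ∀ a ∈ A, ∀ b ∈ A, a * b = b * a)).card = 3 := by
  haveI : Fact (Nat.Prime 2) := ⟨Nat.prime_two⟩
  have hP : IsPGroup 2 Q := IsPGroup.of_card (n := 4) (by rw [hcard]; norm_num)
  -- nonabelian
  obtain ⟨x, y, hxy⟩ : ∃ x y : Q, x * y ≠ y * x := by
    by_contra h
    push_neg at h
    have : commutator Q = ⊥ := by
      rw [commutator_def, Subgroup.commutator_eq_bot_iff_le_centralizer]
      intro a _
      rw [Subgroup.mem_centralizer_iff]
      intro b _
      exact h b a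
    rw [this, Subgroup.card_bot] at hQ'
    omega
  set Cx := Subgroup.centralizer ({x} : Set Q) with hCx
  set Cy := Subgroup.centralizer ({y} : Set Q) with hCy
  have memCx : ∀ q : Q, q ∈ Cx ↔ x * q = q * x := by
    intro q
    rw [hCx, Subgroup.mem_centralizer_iff]
    constructor
    · intro h; exact h x (Set.mem_singleton x)
    · intro h z hz
      rw [Set.mem_singleton_iff] at hz
      rw [hz]; exact h
  have memCy : ∀ q : Q, q ∈ Cy ↔ y * q = q * y := by
    intro q
    rw [hCy, Subgroup.mem_centralizer_iff]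
    constructor
    · intro h; exact h y (Set.mem_singleton y)
    · intro h z hz
      rw [Set.mem_singleton_iff] at hz
      rw [hz]; exact h
  have hyCx : y ∉ Cx := fun h => hxy ((memCx y).mp h)
  have hxCy : x ∉ Cy := fun h => hxy ((memCy x).mp h).symm
  have hxCx : x ∈ Cx := (memCx x).mpr rfl
  have hyCy : y ∈ Cy := (memCy y).mpr rfl
  have idx_two : ∀ C : Subgroup Q, C.index ≤ 2 → C ≠ ⊤ → C.index = 2 := by
    intro C h1 h2
    have h3 : C.index ≠ 1 := fun h => h2 (Subgroup.index_eq_one.mp h)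
    have h4 : C.index ≠ 0 := Subgroup.index_ne_zero_of_finite
    omega
  have hix : Cx.index = 2 := idx_two Cx (index_centralizer_le_two hQ' x)
    (fun h => hyCx (h ▸ Subgroup.mem_top y))
  have hiy : Cy.index = 2 := idx_two Cy (index_centralizer_le_two hQ' y)
    (fun h => hxCy (h ▸ Subgroup.mem_top x))
  have hne : Cx ≠ Cy := fun h => hyCx (h ▸ hyCy)
  set D := Cx ⊓ Cy with hD
  have hDi : D.index = 2 ^ 2 := index_inf_eq hP hix hiy hne
  have hDi4 : D.index = 4 := by rw [hDi]; norm_num
  have hDc : Nat.card D = 2 ^ 2 := by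
    have := Subgroup.card_mul_index D
    rw [hDi, hcard] at this
    norm_num at this ⊢
    omega
  have hDab : ∀ a ∈ D, ∀ b ∈ D, a * b = b * a := by
    intro a ha b hb
    have := IsPGroup.commutative_of_card_eq_prime_sq hDc (⟨a, ha⟩ : D) ⟨b, hb⟩
    exact congrArg Subtype.val this
  have hxD : x ∉ D := fun h => hxCy h.2
  -- `D` is central
  have step1 : ∀ d ∈ D, ∀ q ∈ Cx, d * q = q * d := by
    intro d hd q hq
    by_cases hqD : q ∈ D
    · exact hDab d hd q hqD
    · have hrel : (D.subgroupOf Cx).index = 2 := by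
        have h1 : D.relIndex Cx * Cx.index = D.index :=
          Subgroup.relIndex_mul_index (inf_le_left : D ≤ Cx)
        rw [hix, hDi4] at h1
        have : D.relIndex Cx = 2 := by omega
        exact this
      have h2 := Subgroup.mul_mem_iff_of_index_two hrel (a := (⟨q, hq⟩ : Cx))
        (b := (⟨x, hxCx⟩ : Cx)⁻¹)
      have h3 : (⟨q, hq⟩ : Cx) * (⟨x, hxCx⟩ : Cx)⁻¹ ∈ D.subgroupOf Cx := by
        rw [h2, Subgroup.inv_mem_iff]
        constructor
        · intro h; exact absurd (Subgroup.mem_subgroupOf.mp h) hqD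
        · intro h; exact absurd (Subgroup.mem_subgroupOf.mp h) hxD
      have h4 : q * x⁻¹ ∈ D := Subgroup.mem_subgroupOf.mp h3
      have h5 := hDab d hd _ h4
      have h6 : x * d = d * x := (memCx d).mp hd.1
      calc d * q = (d * (q * x⁻¹)) * x := by group
        _ = ((q * x⁻¹) * d) * x := by rw [h5]
        _ = (q * x⁻¹) * (d * x) := by group
        _ = (q * x⁻¹) * (x * d) := by rw [h6]
        _ = q * d := by group
  have hDcen : ∀ d ∈ D, ∀ q : Q, d * q = q * d := by
    intro d hd q
    by_cases hq : q ∈ Cx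
    · exact step1 d hd q hq
    · have h1 : q * y⁻¹ ∈ Cx := by
        rw [Subgroup.mul_mem_iff_of_index_two hix, Subgroup.inv_mem_iff]
        exact ⟨fun h => absurd h hq, fun h => absurd h hyCx⟩
      have h2 := step1 d hd _ h1
      have h3 : y * d = d * y := (memCy d).mp hd.2
      calc d * q = (d * (q * y⁻¹)) * y := by group
        _ = ((q * y⁻¹) * d) * y := by rw [h2]
        _ = (q * y⁻¹) * (d * y) := by group
        _ = (q * y⁻¹) * (y * d) := by rw [h3]
        _ = q * d := by group
  -- characterisation of abelian maximal subgroups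
  have key : ∀ A : Subgroup Q, A.index = 2 →
      ((∀ a ∈ A, ∀ b ∈ A, a * b = b * a) ↔ D ≤ A) := by
    intro A hA
    constructor
    · intro hab d hd
      by_contra hdA
      apply hxy
      have dec : ∀ q : Q, q ∈ A ∨ q * d⁻¹ ∈ A := by
        intro q
        by_cases hq : q ∈ A
        · left; exact hq
        · right
          rw [Subgroup.mul_mem_iff_of_index_two hA, Subgroup.inv_mem_iff]
          exact ⟨fun h => absurd h hq, fun h => absurd h hdA⟩
      -- every element is `a` or `a d`, `a ∈ A`, and `d` is central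
      have comm : ∀ q₁ q₂ : Q, q₁ * q₂ = q₂ * q₁ := by
        intro q₁ q₂
        have c1 := hDcen d hd
        rcases dec q₁ with h1 | h1 <;> rcases dec q₂ with h2 | h2
        · exact hab _ h1 _ h2
        · have h3 := hab _ h1 _ h2
          have e2 : q₂ = (q₂ * d⁻¹) * d := by group
          rw [e2]
          calc q₁ * (q₂ * d⁻¹ * d) = (q₁ * (q₂ * d⁻¹)) * d := by group
            _ = ((q₂ * d⁻¹) * q₁) * d := by rw [h3]
            _ = (q₂ * d⁻¹) * (q₁ * d) := by group
            _ = (q₂ * d⁻¹) * (d * q₁) := by rw [c1 q₁]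
            _ = q₂ * d⁻¹ * d * q₁ := by group
        · have h3 := hab _ h1 _ h2
          have e1 : q₁ = (q₁ * d⁻¹) * d := by group
          rw [e1]
          calc q₁ * d⁻¹ * d * q₂ = (q₁ * d⁻¹) * (d * q₂) := by group
            _ = (q₁ * d⁻¹) * (q₂ * d) := by rw [c1 q₂]
            _ = ((q₁ * d⁻¹) * q₂) * d := by group
            _ = (q₂ * (q₁ * d⁻¹)) * d := by rw [h3]
            _ = q₂ * (q₁ * d⁻¹ * d) := by group
        · have h3 := hab _ h1 _ h2
          have e1 : q₁ = (q₁ * d⁻¹) * d := by group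
          have e2 : q₂ = (q₂ * d⁻¹) * d := by group
          rw [e1, e2]
          calc q₁ * d⁻¹ * d * (q₂ * d⁻¹ * d) = (q₁ * d⁻¹) * (d * (q₂ * d⁻¹)) * d := by group
            _ = (q₁ * d⁻¹) * ((q₂ * d⁻¹) * d) * d := by rw [c1 (q₂ * d⁻¹)]
            _ = ((q₁ * d⁻¹) * (q₂ * d⁻¹)) * d * d := by group
            _ = ((q₂ * d⁻¹) * (q₁ * d⁻¹)) * d * d := by rw [h3]
            _ = (q₂ * d⁻¹) * ((q₁ * d⁻¹) * d) * d := by group
            _ = (q₂ * d⁻¹) * (d * (q₁ * d⁻¹)) * d := by rw [c1 (q₁ * d⁻¹)]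
            _ = q₂ * d⁻¹ * d * (q₁ * d⁻¹ * d) := by group
      exact comm x y
    · intro hDA a ha b hb
      by_cases haD : a ∈ D
      · exact hDcen a haD b
      · by_cases hbD : b ∈ D
        · exact (hDcen b hbD a).symm
        · have hrel : (D.subgroupOf A).index = 2 := by
            have h1 : D.relIndex A * A.index = D.index := Subgroup.relIndex_mul_index hDA
            rw [hA, hDi4] at h1
            have : D.relIndex A = 2 := by omega
            exact this
          have h2 := Subgroup.mul_mem_iff_of_index_two hrel (a := (⟨a, ha⟩ : A))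
            (b := (⟨b, hb⟩ : A)⁻¹)
          have h3 : (⟨a, ha⟩ : A) * (⟨b, hb⟩ : A)⁻¹ ∈ D.subgroupOf A := by
            rw [h2, Subgroup.inv_mem_iff]
            constructor
            · intro h; exact absurd (Subgroup.mem_subgroupOf.mp h) haD
            · intro h; exact absurd (Subgroup.mem_subgroupOf.mp h) hbD
          have h4 : a * b⁻¹ ∈ D := Subgroup.mem_subgroupOf.mp h3
          have h5 := hDcen _ h4 b
          calc a * b = ((a * b⁻¹) * b) * b := by group
            _ = (b * (a * b⁻¹)) * b := by rw [h5]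
            _ = b * a := by group
  have e : (mx 2 (⊥ : Subgroup Q)).filter
      (fun A : Subgroup Q => ∀ a ∈ A, ∀ b ∈ A, a * b = b * a) = mx 2 D := by
    ext A
    rw [Finset.mem_filter, mem_mx, mem_mx]
    constructor
    · rintro ⟨⟨-, h1⟩, h2⟩
      exact ⟨(key A h1).mp h2, h1⟩
    · rintro ⟨h1, h2⟩
      exact ⟨⟨bot_le, h2⟩, (key A h2).mpr h1⟩
  rw [e, hD]
  exact card_mx_inf hP hix hiy hne

end o16

end

section

open Classical
open Cfsg.Agent.S4237 Cfsg.Agent.S4003
open scoped commutatorElement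

section hs

universe u

variable {P : Type u} [Group P] [Finite P]

theorem mx_bot_eq_sx {p : ℕ} [hp : Fact p.Prime] {k : ℕ} (hcard : Nat.card P = p ^ (k + 2)) :
    mx p (⊥ : Subgroup P) = sx p (k + 1) P := by
  ext H
  rw [mem_mx, mem_sx]
  constructor
  · rintro ⟨-, h⟩
    exact card_of_index_eq hcard h
  · intro h
    refine ⟨bot_le, ?_⟩
    have := Subgroup.card_mul_index H
    rw [h, hcard, pow_succ p (k + 1)] at this
    exact Nat.eq_of_mul_eq_mul_left (pow_pos hp.out.pos _) this

/-- Hall's enumeration principle modulo 4 -/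
theorem hall_step {k a : ℕ} (hcard : Nat.card P = 2 ^ (k + 2)) (hnc : ¬ IsCyclic P)
    (hak : a ≤ k) (good : Subgroup P → Prop)
    (hgood : ∀ M : Subgroup P, M.index = 2 →
      (good M → Nat.card {K : Subgroup M // Nat.card K = 2 ^ a} ≡ 1 [MOD 4]) ∧
      (¬ good M → Nat.card {K : Subgroup M // Nat.card K = 2 ^ a} ≡ 3 [MOD 4])) :
    (((mx 2 (⊥ : Subgroup P)).filter good).card % 2 = 0 → (sx 2 a P).card ≡ 3 [MOD 4]) ∧
    (((mx 2 (⊥ : Subgroup P)).filter good).card % 2 = 1 → (sx 2 a P).card ≡ 1 [MOD 4]) := by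
  haveI hp : Fact (Nat.Prime 2) := ⟨Nat.prime_two⟩
  have hpp := hp.out
  have hP : IsPGroup 2 P := IsPGroup.of_card hcard
  have hbot : (⊥ : Subgroup P) ≠ ⊤ := by
    intro h
    have h1 : Nat.card (⊥ : Subgroup P) = Nat.card P := by rw [h, Subgroup.card_top]
    rw [Subgroup.card_bot, hcard] at h1
    have : 1 < 2 ^ (k + 2) := Nat.one_lt_pow (by omega) hpp.one_lt
    omega
  set S := sx 2 a P with hS
  set A := mx 2 (⊥ : Subgroup P) with hA
  set B := wx 2 (⊥ : Subgroup P) with hB
  have hproper : ∀ H ∈ S, H ≠ ⊤ := by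
    intro H hH h
    rw [hS, mem_sx] at hH
    have h1 : Nat.card H = Nat.card P := by rw [h, Subgroup.card_top]
    rw [hH, hcard] at h1
    have := Nat.pow_right_injective hpp.two_le h1
    omega
  have h1 : ∑ H ∈ S, (mx 2 H).card ≡ ∑ H ∈ S, (1 + 2 * (wx 2 H).card) [MOD 2 ^ 2] :=
    Nat.ModEq.sum (fun H hH => enum_modEq hP H (mx_nonempty hP (hproper H hH)))
  have h2 : ∑ H ∈ S, (mx 2 H).card = ∑ M ∈ A, (S.filter (fun H => H ≤ M)).card := by
    have := Finset.sum_card_bipartiteAbove_eq_sum_card_bipartiteBelow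
      (r := fun (H M : Subgroup P) => H ≤ M) (s := S) (t := A)
    have e : ∀ H ∈ S, (A.bipartiteAbove (fun (H M : Subgroup P) => H ≤ M) H) = mx 2 H := by
      intro H _
      ext M
      simp only [Finset.bipartiteAbove, Finset.mem_filter, hA, mem_mx]
      constructor
      · rintro ⟨⟨-, hi⟩, hle⟩
        exact ⟨hle, hi⟩
      · rintro ⟨hle, hi⟩
        exact ⟨⟨bot_le, hi⟩, hle⟩
    rw [Finset.sum_congr rfl (fun H hH => by rw [e H hH])] at this
    exact this
  have h3 : ∑ H ∈ S, (wx 2 H).card = ∑ W ∈ B, (S.filter (fun H => H ≤ W)).card := by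
    have := Finset.sum_card_bipartiteAbove_eq_sum_card_bipartiteBelow
      (r := fun (H W : Subgroup P) => H ≤ W) (s := S) (t := B)
    have e : ∀ H ∈ S, (B.bipartiteAbove (fun (H W : Subgroup P) => H ≤ W) H) = wx 2 H := by
      intro H _
      ext W
      simp only [Finset.bipartiteAbove, Finset.mem_filter, hB, mem_wx]
      constructor
      · rintro ⟨⟨-, hi⟩, hle⟩
        exact ⟨hle, hi⟩
      · rintro ⟨hle, hi⟩
        exact ⟨⟨bot_le, hi⟩, hle⟩
    rw [Finset.sum_congr rfl (fun H hH => by rw [e H hH])] at this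
    exact this
  have h4 : ∀ W ∈ B, (S.filter (fun H => H ≤ W)).card ≡ 1 [MOD 2] := by
    intro W hW
    rw [hB, mem_wx] at hW
    obtain ⟨-, M₁, M₂, hi1, hi2, hne, rfl⟩ := hW
    rw [hS, card_sx_filter_le]
    apply Cfsg.Agent.Lib.Helper4.Wielandt.card_subgroup_modEq_one
    have hWi := index_inf_eq hP hi1 hi2 hne
    have hWc : Nat.card ↥(M₁ ⊓ M₂) = 2 ^ k := by
      have := Subgroup.card_mul_index (M₁ ⊓ M₂)
      rw [hWi, hcard, pow_add] at this
      exact Nat.eq_of_mul_eq_mul_right (pow_pos hpp.pos 2) this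
    rw [hWc]
    exact pow_dvd_pow 2 hak
  have h5 : 2 * ∑ W ∈ B, (S.filter (fun H => H ≤ W)).card ≡ 2 * B.card [MOD 2 ^ 2] := by
    have e1 : ∑ W ∈ B, (S.filter (fun H => H ≤ W)).card ≡ ∑ _W ∈ B, 1 [MOD 2] :=
      Nat.ModEq.sum h4
    rw [Finset.sum_const, smul_eq_mul, mul_one] at e1
    rw [pow_two]
    exact Nat.ModEq.mul_left' 2 e1
  have h6 : ∀ M ∈ A, (S.filter (fun H => H ≤ M)).card ≡
      1 + 2 * (if good M then 0 else 1) [MOD 2 ^ 2] := by
    intro M hM
    rw [hA, mem_mx] at hM
    rw [hS, card_sx_filter_le]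
    by_cases hc : good M
    · rw [if_pos hc, mul_zero, add_zero]
      exact (hgood M hM.2).1 hc
    · rw [if_neg hc, mul_one]
      exact (hgood M hM.2).2 hc
  have h7 : ∑ M ∈ A, (S.filter (fun H => H ≤ M)).card ≡
      A.card + 2 * (A.filter (fun M : Subgroup P => ¬ good M)).card [MOD 2 ^ 2] := by
    have e1 := Nat.ModEq.sum h6
    have e2 : ∑ M ∈ A, (1 + 2 * (if good M then 0 else 1)) =
        A.card + 2 * (A.filter (fun M : Subgroup P => ¬ good M)).card := by
      rw [Finset.sum_add_distrib, Finset.sum_const, smul_eq_mul, mul_one, ← Finset.mul_sum,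
        Finset.card_filter]
      congr 2
      apply Finset.sum_congr rfl
      intro M _
      by_cases hc : good M <;> simp [hc]
    rw [e2] at e1
    exact e1
  have hA3 : A.card ≡ 1 + 2 [MOD 2 ^ 2] := card_max_modEq _ P rfl hP hnc
  have hAB : A.card ≡ 1 + 2 * B.card [MOD 2 ^ 2] := enum_modEq hP ⊥ (mx_nonempty hP hbot)
  rw [h2, Finset.sum_add_distrib, Finset.sum_const, smul_eq_mul, mul_one, ← Finset.mul_sum,
    h3] at h1
  have c1 : S.card + 2 * B.card ≡
      A.card + 2 * (A.filter (fun M : Subgroup P => ¬ good M)).card [MOD 2 ^ 2] :=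
    (Nat.ModEq.add_left S.card h5).symm.trans (h1.symm.trans h7)
  have c2 : S.card + 2 * B.card ≡
      (1 + 2 * (A.filter (fun M : Subgroup P => ¬ good M)).card) + 2 * B.card [MOD 2 ^ 2] := by
    have := c1.trans (Nat.ModEq.add_right _ hAB)
    have e : 1 + 2 * B.card + 2 * (A.filter (fun M : Subgroup P => ¬ good M)).card =
        (1 + 2 * (A.filter (fun M : Subgroup P => ¬ good M)).card) + 2 * B.card := by ring
    rw [e] at this
    exact this
  have c3 : S.card ≡ 1 + 2 * (A.filter (fun M : Subgroup P => ¬ good M)).card [MOD 2 ^ 2] :=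
    Nat.ModEq.add_right_cancel' _ c2
  have e : (A.filter good).card + (A.filter (fun M : Subgroup P => ¬ good M)).card = A.card :=
    Finset.card_filter_add_card_filter_not (s := A) good
  have hA3' : A.card % 4 = 3 := by
    have := hA3
    unfold Nat.ModEq at this
    norm_num at this
    exact this
  have c3' : S.card % 4 = (1 + 2 * (A.filter (fun M : Subgroup P => ¬ good M)).card) % 4 := by
    have := c3
    unfold Nat.ModEq at this
    norm_num at this
    exact this
  constructor
  · intro hg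
    unfold Nat.ModEq
    omega
  · intro hg
    unfold Nat.ModEq
    omega

end hs

end

section

open Classical
open Cfsg.Agent.S4237 Cfsg.Agent.S4003
open scoped commutatorElement

section par

universe u

variable {G : Type u} [Group G] [Finite G] {n : ℕ}

/-- a cyclic subgroup of order `q` has a generator of order `q` -/
theorem exists_generator {C : Subgroup G} (hC : IsCyclic C) :
    ∃ x : G, orderOf x = Nat.card C ∧ Subgroup.zpowers x = C := by
  obtain ⟨g, hg⟩ := hC.exists_generator
  refine ⟨(g : G), ?_, ?_⟩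
  · rw [Subgroup.orderOf_coe]
    exact orderOf_eq_card_of_forall_mem_zpowers hg
  · apply le_antisymm
    · rw [Subgroup.zpowers_le]; exact g.2
    · intro y hy
      have := hg ⟨y, hy⟩
      rw [Subgroup.mem_zpowers_iff] at this ⊢
      obtain ⟨k, hk⟩ := this
      refine ⟨k, ?_⟩
      have := congrArg Subtype.val hk
      rwa [Subgroup.coe_zpow] at this

/-- parity of the number of cyclic maximal subgroups -/
theorem card_cx_parity (hcard : Nat.card G = 2 ^ (n + 3)) (hnc : ¬ IsCyclic G) :
    (¬ (commutator G).index = 4 → (cx 2 (n + 2) G).card % 2 = 0) ∧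
    ((commutator G).index = 4 → (cx 2 (n + 2) G).card % 2 = 1) := by
  haveI : Fact (Nat.Prime 2) := ⟨Nat.prime_two⟩
  have main : ∀ x : G, orderOf x = 2 ^ (n + 2) →
      (¬ (commutator G).index = 4 → (cx 2 (n + 2) G).card % 2 = 0) ∧
      ((commutator G).index = 4 → (cx 2 (n + 2) G).card % 2 = 1) := by
    intro x hx
    have hi := index_zpowers_two hcard hx
    obtain ⟨g, hg⟩ : ∃ g : G, g ∉ Subgroup.zpowers x := by
      by_contra h
      push_neg at h
      have : Subgroup.zpowers x = ⊤ := by
        rw [eq_top_iff]; intro y _; exact h y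
      rw [this, Subgroup.index_top] at hi
      omega
    obtain ⟨r, hr⟩ := exists_conj_pow hcard hx g
    have hodd := r_odd hcard hx hr
    have hiff := index_commutator_eq_four_iff hcard hx hg hr
    have hc := card_cx_max hcard hnc hx hg hr
    constructor
    · intro hT
      have : r % 4 = 1 := by
        have : ¬ r % 4 = 3 := fun h => hT (hiff.mpr h)
        omega
      rw [hc.1 this]
    · intro hT
      rcases hc.2 (hiff.mp hT) with h | h <;> rw [h]
  by_cases hne : (cx 2 (n + 2) G).Nonempty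
  · obtain ⟨C, hC⟩ := hne
    rw [mem_cx] at hC
    obtain ⟨x, hx, -⟩ := exists_generator hC.2
    rw [hC.1] at hx
    exact main x hx
  · rw [Finset.not_nonempty_iff_eq_empty] at hne
    constructor
    · intro _
      rw [hne, Finset.card_empty]
    · intro hT
      obtain ⟨x, hx⟩ := Cfsg.Agent.H2.Taussky.exists_orderOf (n + 3) (by omega) G hcard hT
      have : n + 3 - 1 = n + 2 := by omega
      rw [this] at hx
      exact (main x hx).2 hT

end par

end

section

open Classical
open Cfsg.Agent.S4237 Cfsg.Agent.S4003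
open scoped commutatorElement

section tm

universe u

theorem not_T_of_cyclic {X : Type*} [Group X] [Finite X] (hc : IsCyclic X) {j : ℕ}
    (hcard : Nat.card X = 2 ^ (j + 3)) : ¬ (commutator X).index = 4 := by
  haveI := hc
  have : commutator X = ⊥ := (commutator_eq_bot_iff X).mpr IsCyclic.isMulCommutative
  rw [this, Subgroup.index_bot, hcard]
  intro h
  have h2 : (2 : ℕ) ^ (j + 3) = 2 ^ 2 := by rw [h]; norm_num
  have := Nat.pow_right_injective (le_refl 2) h2
  omega

variable {G : Type u} [Group G] [Finite G] {n : ℕ}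

/-- a noncyclic maximal subgroup of a 2-group with `|G : G'| = 4` has the same property -/
theorem T_of_max (hcard : Nat.card G = 2 ^ (n + 4)) (hT : (commutator G).index = 4)
    {H : Subgroup G} (hH : H.index = 2) (hnc : ¬ IsCyclic H) : (commutator H).index = 4 := by
  haveI : Fact (Nat.Prime 2) := ⟨Nat.prime_two⟩
  have hcard' : Nat.card G = 2 ^ ((n + 1) + 3) := hcard
  obtain ⟨x, hx⟩ := Cfsg.Agent.H2.Taussky.exists_orderOf (n + 4) (by omega) G hcard hT
  have hx' : orderOf x = 2 ^ ((n + 1) + 2) := by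
    have : n + 4 - 1 = n + 1 + 2 := by omega
    rw [hx, this]
  have hi := index_zpowers_two hcard' hx'
  have hxH : x ∉ H := by
    intro h
    have hle : Subgroup.zpowers x ≤ H := by rw [Subgroup.zpowers_le]; exact h
    have := eq_of_le_of_index_eq hle (by rw [hi, hH])
    apply hnc
    rw [← this]
    infer_instance
  have hx2H : x ^ 2 ∈ H := Subgroup.sq_mem_of_index_two hH x
  have hHc : Nat.card H = 2 ^ (n + 3) := card_of_index_eq (k := n + 2) hcard hH
  set x2 : H := ⟨x ^ 2, hx2H⟩ with hx2
  have hox2 : orderOf x2 = 2 ^ (n + 2) := by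
    rw [← Subgroup.orderOf_coe]
    show orderOf (x ^ 2) = 2 ^ (n + 2)
    rw [orderOf_pow' x (by norm_num : (2 : ℕ) ≠ 0), hx]
    have h1 : Nat.gcd (2 ^ (n + 4 - 1)) 2 = 2 := by
      apply Nat.gcd_eq_right
      have : n + 4 - 1 = (n + 2) + 1 := by omega
      rw [this, pow_succ]
      exact Dvd.intro_left _ rfl
    rw [h1]
    have : n + 4 - 1 = (n + 2) + 1 := by omega
    rw [this, pow_succ]
    exact Nat.mul_div_cancel _ (by norm_num)
  have hi2 := index_zpowers_two hHc hox2
  obtain ⟨y, hy⟩ : ∃ y : H, y ∉ Subgroup.zpowers x2 := by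
    by_contra h
    push_neg at h
    have : Subgroup.zpowers x2 = ⊤ := by
      rw [eq_top_iff]; intro y _; exact h y
    rw [this, Subgroup.index_top] at hi2
    omega
  have hyx : (y : G) ∉ Subgroup.zpowers x := by
    intro h
    rw [Subgroup.mem_zpowers_iff] at h
    obtain ⟨j, hj⟩ := h
    rcases Int.even_or_odd' j with ⟨i, hi | hi⟩
    · apply hy
      rw [Subgroup.mem_zpowers_iff]
      refine ⟨i, ?_⟩
      apply Subtype.ext
      rw [Subgroup.coe_zpow]
      show (x ^ 2) ^ i = (y : G)
      rw [← hj, hi, ← zpow_natCast, ← zpow_mul]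
      norm_num
    · apply hxH
      have e : x = (y : G) * ((x ^ 2) ^ i)⁻¹ := by
        rw [← hj, hi, zpow_add, zpow_one, zpow_mul, zpow_ofNat]
        group
      rw [e]
      exact H.mul_mem y.2 (H.inv_mem (H.zpow_mem hx2H i))
  obtain ⟨r, hr⟩ := exists_conj_pow hcard' hx' (y : G)
  have hr3 : r % 4 = 3 := (index_commutator_eq_four_iff hcard' hx' hyx hr).mp hT
  have hr2 : y * x2 * y⁻¹ = x2 ^ r := by
    apply Subtype.ext
    rw [Subgroup.coe_mul, Subgroup.coe_mul, Subgroup.coe_inv, Subgroup.coe_pow]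
    show (y : G) * x ^ 2 * (y : G)⁻¹ = (x ^ 2) ^ r
    have : (y : G) * x ^ 2 * (y : G)⁻¹ = ((y : G) * x * (y : G)⁻¹) ^ 2 := by
      rw [pow_two, pow_two]; group
    rw [this, hr, ← pow_mul, ← pow_mul, mul_comm]
  exact (index_commutator_eq_four_iff hHc hox2 hy hr2).mpr hr3

/-- in a 2-group with `|G : G'| = 4` the number of maximal subgroups with the same property is
even -/
theorem card_T_max_of_T (hcard : Nat.card G = 2 ^ (n + 4)) (hT : (commutator G).index = 4) :
    ((mx 2 (⊥ : Subgroup G)).filter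
      (fun M : Subgroup G => (commutator M).index = 4)).card % 2 = 0 := by
  haveI : Fact (Nat.Prime 2) := ⟨Nat.prime_two⟩
  have hP : IsPGroup 2 G := IsPGroup.of_card hcard
  have hcard' : Nat.card G = 2 ^ ((n + 1) + 3) := hcard
  have hnc : ¬ IsCyclic G := fun h => not_T_of_cyclic h hcard' hT
  have e1 : (mx 2 (⊥ : Subgroup G)).filter
      (fun M : Subgroup G => (commutator M).index = 4) =
      (mx 2 (⊥ : Subgroup G)).filter (fun M : Subgroup G => ¬ IsCyclic M) := by
    apply Finset.filter_congr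
    intro M hM
    rw [mem_mx] at hM
    have hMc : Nat.card M = 2 ^ (n + 3) := card_of_index_eq (k := n + 2) hcard hM.2
    constructor
    · intro h hc
      exact not_T_of_cyclic hc hMc h
    · intro h
      exact T_of_max hcard hT hM.2 h
  have e2 : (mx 2 (⊥ : Subgroup G)).filter (fun M : Subgroup G => IsCyclic M) =
      cx 2 (n + 3) G := by
    rw [cx, mx_bot_eq_sx (k := n + 2) hcard]
  have e3 : ((mx 2 (⊥ : Subgroup G)).filter (fun M : Subgroup G => IsCyclic M)).card +
      ((mx 2 (⊥ : Subgroup G)).filter (fun M : Subgroup G => ¬ IsCyclic M)).card =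
      (mx 2 (⊥ : Subgroup G)).card :=
    Finset.card_filter_add_card_filter_not (s := mx 2 (⊥ : Subgroup G))
      (fun M : Subgroup G => IsCyclic M)
  have h3 : (mx 2 (⊥ : Subgroup G)).card % 4 = 3 := by
    have := card_max_modEq (p := 2) _ G rfl hP hnc
    unfold Nat.ModEq at this
    norm_num at this
    exact this
  have h4 := (card_cx_parity hcard' hnc).2 hT
  rw [e1]
  rw [e2] at e3
  have : n + 1 + 2 = n + 3 := by omega
  rw [this] at h4
  omega

end tm

end

section

open Classical
open Cfsg.Agent.S4237 Cfsg.Agent.S4003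
open scoped commutatorElement

section qt

universe u

variable {G : Type u} [Group G] [Finite G] {n : ℕ}

/-- every subgroup of index two contains the commutator subgroup -/
theorem commutator_le_of_index_two {M : Subgroup G} (hM : M.index = 2) : commutator G ≤ M := by
  rw [commutator_def, Subgroup.commutator_le]
  intro a _ b _
  rw [commutatorElement_def]
  have h1 := Subgroup.mul_mem_iff_of_index_two hM (a := a * b) (b := a⁻¹ * b⁻¹)
  have h2 := Subgroup.mul_mem_iff_of_index_two hM (a := a) (b := b)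
  have h3 := Subgroup.mul_mem_iff_of_index_two hM (a := a⁻¹) (b := b⁻¹)
  have e : a * b * a⁻¹ * b⁻¹ = (a * b) * (a⁻¹ * b⁻¹) := by group
  rw [e, h1, h2, h3, Subgroup.inv_mem_iff, Subgroup.inv_mem_iff]

/-- maximal subgroups with derived group inside `K` correspond to the abelian maximal subgroups
of the quotient -/
theorem card_filter_le_normal {K : Subgroup G} [hKn : K.Normal]
    (hK : ∀ H : Subgroup G, H.index = 2 → K ≤ H) :
    ((mx 2 (⊥ : Subgroup G)).filter (fun H : Subgroup G => ⁅H, H⁆ ≤ K)).card =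
    ((mx 2 (⊥ : Subgroup (G ⧸ K))).filter
      (fun A : Subgroup (G ⧸ K) => ∀ a ∈ A, ∀ b ∈ A, a * b = b * a)).card := by
  haveI : Fact (Nat.Prime 2) := ⟨Nat.prime_two⟩
  have hsurj : Function.Surjective (QuotientGroup.mk' K) := QuotientGroup.mk'_surjective K
  refine Finset.card_bij' (fun H _ => H.map (QuotientGroup.mk' K))
    (fun A _ => A.comap (QuotientGroup.mk' K)) ?_ ?_ ?_ ?_
  · intro H hH
    rw [Finset.mem_filter, mem_mx] at hH ⊢
    obtain ⟨⟨-, hi⟩, hc⟩ := hH
    refine ⟨⟨bot_le, ?_⟩, ?_⟩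
    · rw [Subgroup.index_map_eq _ hsurj (by rw [QuotientGroup.ker_mk']; exact hK H hi)]
      exact hi
    · intro a' ha' b' hb'
      rw [Subgroup.mem_map] at ha' hb'
      obtain ⟨a, ha, rfl⟩ := ha'
      obtain ⟨b, hb, rfl⟩ := hb'
      rw [← map_mul, ← map_mul]
      show (QuotientGroup.mk (a * b) : G ⧸ K) = QuotientGroup.mk (b * a)
      rw [QuotientGroup.eq]
      apply hc
      have e : (a * b)⁻¹ * (b * a) = ⁅b⁻¹, a⁻¹⁆ := by
        rw [commutatorElement_def]; group
      rw [e]
      exact Subgroup.commutator_mem_commutator (H.inv_mem hb) (H.inv_mem ha)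
  · intro A hA
    rw [Finset.mem_filter, mem_mx] at hA ⊢
    obtain ⟨⟨-, hi⟩, hc⟩ := hA
    refine ⟨⟨bot_le, ?_⟩, ?_⟩
    · rw [Subgroup.index_comap_of_surjective _ hsurj]
      exact hi
    · rw [Subgroup.commutator_le]
      intro a ha b hb
      rw [Subgroup.mem_comap] at ha hb
      rw [← QuotientGroup.eq_one_iff, ← QuotientGroup.mk'_apply, map_commutatorElement,
        commutatorElement_eq_one_iff_commute]
      exact hc _ ha _ hb
  · intro H hH
    rw [Finset.mem_filter, mem_mx] at hH
    exact Subgroup.comap_map_eq_self (by rw [QuotientGroup.ker_mk']; exact hK H hH.1.2)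
  · intro A _
    exact Subgroup.map_comap_eq_self_of_surjective hsurj A

end qt

end

section

open Classical
open Cfsg.Agent.S4237 Cfsg.Agent.S4003
open scoped commutatorElement

section p2

universe u

variable {G : Type u} [Group G] [Finite G] {n : ℕ}

theorem card_commutator_sub (H : Subgroup G) :
    Nat.card (⁅H, H⁆ : Subgroup G) = Nat.card (commutator H) := by
  rw [← Subgroup.map_subtype_commutator, Subgroup.card_map_of_injective H.subtype_injective]

theorem T_iff_card {H : Subgroup G} (hHc : Nat.card H = 2 ^ (n + 3)) :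
    (commutator H).index = 4 ↔ Nat.card (⁅H, H⁆ : Subgroup G) = 2 ^ (n + 1) := by
  rw [card_commutator_sub]
  have h := Subgroup.card_mul_index (commutator H)
  rw [hHc] at h
  have e : (2 : ℕ) ^ (n + 3) = 2 ^ (n + 1) * 4 := by
    rw [show n + 3 = (n + 1) + 2 by omega, pow_add]; norm_num
  constructor
  · intro hi
    rw [hi, e] at h
    exact Nat.eq_of_mul_eq_mul_right (by norm_num) h
  · intro hc
    rw [hc, e] at h
    exact Nat.eq_of_mul_eq_mul_left (pow_pos (by norm_num) _) h

theorem exists_gen_commutator {X : Type u} [Group X] [Finite X] (hX : Nat.card X = 2 ^ (n + 3))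
    (hT : (commutator X).index = 4) : ∃ w : X, commutator X = Subgroup.zpowers w := by
  obtain ⟨x, hx⟩ := Cfsg.Agent.H2.Taussky.exists_orderOf (n + 3) (by omega) X hX hT
  have hx' : orderOf x = 2 ^ (n + 2) := by
    have : n + 3 - 1 = n + 2 := by omega
    rw [hx, this]
  have hi := index_zpowers_two hX hx'
  obtain ⟨g, hg⟩ : ∃ g : X, g ∉ Subgroup.zpowers x := by
    by_contra h
    push_neg at h
    have : Subgroup.zpowers x = ⊤ := by
      rw [eq_top_iff]; intro y _; exact h y
    rw [this, Subgroup.index_top] at hi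
    omega
  obtain ⟨r, hr⟩ := exists_conj_pow hX hx' g
  exact ⟨x ^ (r - 1), commutator_eq hX hx' hg hr⟩

/-- proper subgroups of a cyclic 2-group lie in its subgroup of squares -/
theorem le_zpowers_sq {w : G} {j : ℕ} (hw : orderOf w = 2 ^ (j + 1)) {L : Subgroup G}
    (hL : L ≤ Subgroup.zpowers w) (hne : L ≠ Subgroup.zpowers w) :
    L ≤ Subgroup.zpowers (w ^ 2) := by
  intro h hh
  have h1 := hL hh
  rw [← mem_powers_iff_mem_zpowers, Submonoid.mem_powers_iff] at h1
  obtain ⟨k, rfl⟩ := h1
  rcases Nat.even_or_odd' k with ⟨i, hi | hi⟩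
  · rw [hi, pow_mul]
    exact Subgroup.pow_mem _ (Subgroup.mem_zpowers _) i
  · exfalso
    apply hne
    have hco : (orderOf w).Coprime k := by
      rw [hw]
      apply Nat.Coprime.pow_left
      rw [Nat.coprime_two_left, hi]
      exact odd_two_mul_add_one i
    have ho : orderOf (w ^ k) = orderOf w := hco.orderOf_pow
    have hle : Subgroup.zpowers (w ^ k) ≤ L := by
      rw [Subgroup.zpowers_le]; exact hh
    have heq : Subgroup.zpowers (w ^ k) = Subgroup.zpowers w := by
      apply Subgroup.eq_of_le_of_card_ge (hle.trans hL)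
      rw [Nat.card_zpowers, Nat.card_zpowers, ho]
    exact le_antisymm hL (heq ▸ hle)

theorem zpowers_sq_normal {w : G} (hN : (Subgroup.zpowers w).Normal) :
    (Subgroup.zpowers (w ^ 2)).Normal := by
  constructor
  intro k hk g
  rw [Subgroup.mem_zpowers_iff] at hk
  obtain ⟨i, rfl⟩ := hk
  have h1 : g * w ^ i * g⁻¹ ∈ Subgroup.zpowers w :=
    hN.conj_mem _ (Subgroup.zpow_mem _ (Subgroup.mem_zpowers w) i) g
  rw [Subgroup.mem_zpowers_iff] at h1
  obtain ⟨j, hj⟩ := h1
  rw [Subgroup.mem_zpowers_iff]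
  refine ⟨j, ?_⟩
  have e1 : ∀ t : ℤ, (w ^ 2) ^ t = w ^ t * w ^ t := by
    intro t
    rw [pow_two, (Commute.refl w).mul_zpow]
  rw [e1, e1, hj]
  group

/-- a noncyclic 2-group whose commutator subgroup does not have index four has an even number of
maximal subgroups with commutator subgroup of index four -/
theorem card_T_max_of_not_T (hcard : Nat.card G = 2 ^ (n + 4)) (hnc : ¬ IsCyclic G)
    (hT : ¬ (commutator G).index = 4) :
    ((mx 2 (⊥ : Subgroup G)).filter
      (fun M : Subgroup G => (commutator M).index = 4)).card % 2 = 0 := by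
  haveI : Fact (Nat.Prime 2) := ⟨Nat.prime_two⟩
  have hP : IsPGroup 2 G := IsPGroup.of_card hcard
  have hlt : (2 : ℕ) ^ n < 2 ^ (n + 1) := Nat.pow_lt_pow_right (by norm_num) (by omega)
  by_cases hne : ((mx 2 (⊥ : Subgroup G)).filter
      (fun M : Subgroup G => (commutator M).index = 4)).Nonempty
  swap
  · rw [Finset.not_nonempty_iff_eq_empty] at hne
    rw [hne, Finset.card_empty]
  obtain ⟨M₀, hM₀⟩ := hne
  rw [Finset.mem_filter, mem_mx] at hM₀
  obtain ⟨⟨-, hM₀i⟩, hM₀T⟩ := hM₀
  have hM₀c : Nat.card M₀ = 2 ^ (n + 3) := card_of_index_eq (k := n + 2) hcard hM₀i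
  have hmx3 : (mx 2 (⊥ : Subgroup G)).card % 4 = 3 := by
    have := card_max_modEq (p := 2) _ G rfl hP hnc
    unfold Nat.ModEq at this
    norm_num at this
    exact this
  -- `4 ∣ |G : G'|`
  have h4 : 4 ∣ (commutator G).index := by
    have : 1 < (mx 2 (⊥ : Subgroup G)).card := by omega
    obtain ⟨M₁, hM₁, M₂, hM₂, hne⟩ := Finset.one_lt_card.mp this
    rw [mem_mx] at hM₁ hM₂
    have hle : commutator G ≤ M₁ ⊓ M₂ :=
      le_inf (commutator_le_of_index_two hM₁.2) (commutator_le_of_index_two hM₂.2)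
    have := Subgroup.index_dvd_of_le hle
    rw [index_inf_eq hP hM₁.2 hM₂.2 hne] at this
    norm_num at this
    exact this
  -- `G' = M₀'`
  have hM₀' : Nat.card (⁅M₀, M₀⁆ : Subgroup G) = 2 ^ (n + 1) := (T_iff_card hM₀c).mp hM₀T
  have hle₀ : ⁅M₀, M₀⁆ ≤ commutator G := by
    rw [commutator_def]; exact Subgroup.commutator_mono le_top le_top
  have hG'c : Nat.card (commutator G) = 2 ^ (n + 1) := by
    have h1 := Subgroup.card_mul_index (commutator G)
    rw [hcard] at h1
    have h2 : Nat.card (commutator G) ∣ 2 ^ (n + 4) := Dvd.intro _ h1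
    obtain ⟨j, hj, hjc⟩ := (Nat.dvd_prime_pow Nat.prime_two).mp h2
    have h3 : 2 ^ (n + 1) ∣ Nat.card (commutator G) := by
      rw [← hM₀']; exact Subgroup.card_dvd_of_le hle₀
    rw [hjc] at h3 h1
    have h5 : n + 1 ≤ j := (Nat.pow_dvd_pow_iff_le_right (by norm_num)).mp h3
    have h6 : (commutator G).index = 2 ^ (n + 4 - j) := by
      have : (2 : ℕ) ^ (n + 4) = 2 ^ j * 2 ^ (n + 4 - j) := by
        rw [← pow_add]; congr 1; omega
      rw [this] at h1
      exact Nat.eq_of_mul_eq_mul_left (pow_pos (by norm_num) _) h1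
    have h7 : j ≤ n + 2 := by
      rw [h6] at h4
      have h8 : (2 : ℕ) ^ 2 ∣ 2 ^ (n + 4 - j) := by
        have : (2 : ℕ) ^ 2 = 4 := by norm_num
        rw [this]; exact h4
      have := (Nat.pow_dvd_pow_iff_le_right (by norm_num)).mp h8
      omega
    have h8 : j ≠ n + 2 := by
      intro h
      apply hT
      rw [h6, h]
      have : n + 4 - (n + 2) = 2 := by omega
      rw [this]; norm_num
    have : j = n + 1 := by omega
    rw [hjc, this]
  have hG'eq : commutator G = ⁅M₀, M₀⁆ :=
    (Subgroup.eq_of_le_of_card_ge hle₀ (by rw [hG'c, hM₀'])).symm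
  -- a generator
  obtain ⟨w₀, hw₀⟩ := exists_gen_commutator hM₀c hM₀T
  set w : G := (w₀ : G) with hw
  have hG'w : commutator G = Subgroup.zpowers w := by
    rw [hG'eq, ← Subgroup.map_subtype_commutator, hw₀, MonoidHom.map_zpowers]
    rfl
  have how : orderOf w = 2 ^ (n + 1) := by rw [← Nat.card_zpowers, ← hG'w, hG'c]
  have hGn : (Subgroup.zpowers w).Normal := by rw [← hG'w]; infer_instance
  haveI hKn : (Subgroup.zpowers (w ^ 2)).Normal := zpowers_sq_normal hGn
  set K := Subgroup.zpowers (w ^ 2) with hK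
  have hKc : Nat.card K = 2 ^ n := by
    rw [hK, Nat.card_zpowers, orderOf_pow' w (by norm_num : (2 : ℕ) ≠ 0), how]
    have h1 : Nat.gcd (2 ^ (n + 1)) 2 = 2 := by
      apply Nat.gcd_eq_right
      rw [pow_succ]
      exact Dvd.intro_left _ rfl
    rw [h1, pow_succ]
    exact Nat.mul_div_cancel _ (by norm_num)
  have hKle : K ≤ commutator G := by
    rw [hG'w, hK, Subgroup.zpowers_le]
    exact Subgroup.pow_mem _ (Subgroup.mem_zpowers w) 2
  have hKH : ∀ H : Subgroup G, H.index = 2 → K ≤ H :=
    fun H hH => hKle.trans (commutator_le_of_index_two hH)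
  have key : ∀ H : Subgroup G, H.index = 2 →
      ((commutator H).index = 4 ↔ ¬ ⁅H, H⁆ ≤ K) := by
    intro H hH
    have hHc : Nat.card H = 2 ^ (n + 3) := card_of_index_eq (k := n + 2) hcard hH
    rw [T_iff_card hHc]
    have hle : ⁅H, H⁆ ≤ commutator G := by
      rw [commutator_def]; exact Subgroup.commutator_mono le_top le_top
    constructor
    · intro hc hleK
      have := Subgroup.card_le_of_le hleK
      rw [hc, hKc] at this
      omega
    · intro hnle
      by_contra hc
      apply hnle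
      rw [hG'w] at hle
      apply le_zpowers_sq how hle
      intro h
      apply hc
      rw [h, Nat.card_zpowers, how]
  have e1 : (mx 2 (⊥ : Subgroup G)).filter (fun M : Subgroup G => (commutator M).index = 4) =
      (mx 2 (⊥ : Subgroup G)).filter (fun H : Subgroup G => ¬ ⁅H, H⁆ ≤ K) := by
    apply Finset.filter_congr
    intro H hH
    rw [mem_mx] at hH
    exact key H hH.2
  have e2 : ((mx 2 (⊥ : Subgroup G)).filter (fun H : Subgroup G => ⁅H, H⁆ ≤ K)).card +
      ((mx 2 (⊥ : Subgroup G)).filter (fun H : Subgroup G => ¬ ⁅H, H⁆ ≤ K)).card =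
      (mx 2 (⊥ : Subgroup G)).card :=
    Finset.card_filter_add_card_filter_not (s := mx 2 (⊥ : Subgroup G))
      (fun H : Subgroup G => ⁅H, H⁆ ≤ K)
  have e3 := card_filter_le_normal (K := K) hKH
  have hQc : Nat.card (G ⧸ K) = 16 := by
    have := Subgroup.card_eq_card_quotient_mul_card_subgroup K
    rw [hcard, hKc] at this
    have e : (2 : ℕ) ^ (n + 4) = 16 * 2 ^ n := by rw [pow_add]; ring
    rw [e] at this
    exact (Nat.eq_of_mul_eq_mul_right (pow_pos (by norm_num) _) this).symm
  have hQ' : Nat.card (commutator (G ⧸ K)) = 2 := by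
    have : commutator (G ⧸ K) = Subgroup.zpowers (QuotientGroup.mk' K w) := by
      rw [commutator_def,
        ← Subgroup.map_top_of_surjective (QuotientGroup.mk' K) (QuotientGroup.mk'_surjective K),
        ← Subgroup.map_commutator, ← commutator_def G, hG'w, MonoidHom.map_zpowers]
    rw [this, Nat.card_zpowers]
    apply orderOf_eq_prime
    · rw [← map_pow, QuotientGroup.mk'_apply, QuotientGroup.eq_one_iff]
      exact Subgroup.mem_zpowers _
    · rw [QuotientGroup.mk'_apply]
      intro h
      rw [QuotientGroup.eq_one_iff] at h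
      have h1 : Subgroup.zpowers w ≤ K := by rw [Subgroup.zpowers_le]; exact h
      have := Subgroup.card_le_of_le h1
      rw [Nat.card_zpowers, how, hKc] at this
      omega
  have e4 := card_abelian_max hQc hQ'
  rw [e1]
  omega

end p2

end

section

open Classical
open Cfsg.Agent.S4237 Cfsg.Agent.S4003
open scoped commutatorElement

section mn

universe u

/-- the number of maximal subgroups of a noncyclic 2-group -/
theorem sx_max_modEq {X : Type u} [Group X] [Finite X] {j : ℕ} (hX : Nat.card X = 2 ^ (j + 2))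
    (hnc : ¬ IsCyclic X) :
    Nat.card {H : Subgroup X // Nat.card H = 2 ^ (j + 1)} ≡ 3 [MOD 4] := by
  haveI : Fact (Nat.Prime 2) := ⟨Nat.prime_two⟩
  have hP : IsPGroup 2 X := IsPGroup.of_card hX
  rw [← card_sx, ← mx_bot_eq_sx hX]
  have := card_max_modEq (p := 2) _ X rfl hP hnc
  norm_num at this
  exact this

theorem main2 : ∀ (m : ℕ) (G : Type u) [Group G] [Finite G], Nat.card G = 2 ^ m → ¬ IsCyclic G →
    (¬ (commutator G).index = 4 → ∀ a : ℕ, 1 ≤ a → a < m →
      Nat.card {H : Subgroup G // Nat.card H = 2 ^ a} ≡ 3 [MOD 4]) ∧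
    ((commutator G).index = 4 → ∀ a : ℕ, 1 ≤ a → a + 2 ≤ m →
      Nat.card {H : Subgroup G // Nat.card H = 2 ^ a} ≡ 1 [MOD 4]) := by
  intro m
  induction m using Nat.strong_induction_on with
  | _ m ih =>
  intro G _ _ hcard hnc
  haveI : Fact (Nat.Prime 2) := ⟨Nat.prime_two⟩
  by_cases hm : m < 2
  · constructor
    · intro _ a h1 h2; omega
    · intro _ a h1 h2; omega
  obtain ⟨k, rfl⟩ : ∃ k, m = k + 2 := ⟨m - 2, by omega⟩
  -- the two cases `a ≤ k`
  have core : ∀ a : ℕ, 1 ≤ a → a ≤ k →
      (¬ (commutator G).index = 4 →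
        Nat.card {H : Subgroup G // Nat.card H = 2 ^ a} ≡ 3 [MOD 4]) ∧
      ((commutator G).index = 4 →
        Nat.card {H : Subgroup G // Nat.card H = 2 ^ a} ≡ 1 [MOD 4]) := by
    intro a ha1 hak
    rw [← card_sx]
    by_cases hak' : a = k
    · -- `a = k`
      subst hak'
      obtain ⟨j, rfl⟩ : ∃ j, a = j + 1 := ⟨a - 1, by omega⟩
      have hcard' : Nat.card G = 2 ^ (j + 3) := hcard
      have hs := hall_step hcard hnc (le_refl _) (fun M : Subgroup G => IsCyclic M) (by
        intro M hM
        have hMc : Nat.card M = 2 ^ (j + 2) := card_of_index_eq (k := j + 1) hcard hM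
        constructor
        · intro hc
          haveI := hc
          rw [card_subgroups_cyclic hMc (by omega)]
        · intro hc
          exact sx_max_modEq hMc hc)
      have e : (mx 2 (⊥ : Subgroup G)).filter (fun M : Subgroup G => IsCyclic M) =
          cx 2 (j + 2) G := by
        rw [cx, mx_bot_eq_sx (k := j + 1) hcard]
      rw [e] at hs
      have hpar := card_cx_parity hcard' hnc
      exact ⟨fun h => hs.1 (hpar.1 h), fun h => hs.2 (hpar.2 h)⟩
    · -- `a < k`
      have hak2 : a < k := by omega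
      obtain ⟨j, rfl⟩ : ∃ j, k = j + 2 := ⟨k - 2, by omega⟩
      have hcard' : Nat.card G = 2 ^ (j + 4) := hcard
      have hcard'' : Nat.card G = 2 ^ ((j + 1) + 3) := hcard
      have hs := hall_step hcard hnc hak
        (fun M : Subgroup G => IsCyclic M ∨ (commutator M).index = 4) (by
        intro M hM
        have hMc : Nat.card M = 2 ^ (j + 3) := card_of_index_eq (k := j + 2) hcard hM
        constructor
        · rintro (hc | hc)
          · haveI := hc
            rw [card_subgroups_cyclic hMc (by omega)]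
          · have hncM : ¬ IsCyclic M := fun h => not_T_of_cyclic h hMc hc
            exact (ih (j + 3) (by omega) M hMc hncM).2 hc a ha1 (by omega)
        · intro hc
          push_neg at hc
          exact (ih (j + 3) (by omega) M hMc hc.1).1 hc.2 a ha1 (by omega))
      have e : ((mx 2 (⊥ : Subgroup G)).filter
          (fun M : Subgroup G => IsCyclic M ∨ (commutator M).index = 4)).card =
          (cx 2 (j + 3) G).card + ((mx 2 (⊥ : Subgroup G)).filter
          (fun M : Subgroup G => (commutator M).index = 4)).card := by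
        rw [Finset.filter_or, Finset.card_union_of_disjoint]
        · congr 1
          rw [cx, mx_bot_eq_sx (k := j + 2) hcard]
        · rw [Finset.disjoint_filter]
          intro M hM hc hT
          rw [mem_mx] at hM
          have hMc : Nat.card M = 2 ^ (j + 3) := card_of_index_eq (k := j + 2) hcard hM.2
          exact not_T_of_cyclic hc hMc hT
      have e' : ∀ (inst : DecidablePred
          (fun M : Subgroup G => IsCyclic M ∨ (commutator M).index = 4)),
          (@Finset.filter _ (fun M : Subgroup G => IsCyclic M ∨ (commutator M).index = 4) inst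
            (mx 2 (⊥ : Subgroup G))).card =
          (cx 2 (j + 3) G).card + ((mx 2 (⊥ : Subgroup G)).filter
          (fun M : Subgroup G => (commutator M).index = 4)).card := by
        intro inst
        rw [← e]
        congr
      rw [e' _] at hs
      have hpar := card_cx_parity hcard'' hnc
      have e2 : j + 1 + 2 = j + 3 := by omega
      rw [e2] at hpar
      constructor
      · intro h
        have h1 := hpar.1 h
        have h2 := card_T_max_of_not_T hcard' hnc h
        exact hs.1 (by omega)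
      · intro h
        have h1 := hpar.2 h
        have h2 := card_T_max_of_T hcard' h
        exact hs.2 (by omega)
  constructor
  · intro hT a ha1 ham
    by_cases hak : a ≤ k
    · exact (core a ha1 hak).1 hT
    · have : a = k + 1 := by omega
      subst this
      exact sx_max_modEq hcard hnc
  · intro hT a ha1 ham
    exact (core a ha1 (by omega)).2 hT

end mn

end

section

open Classical
open Cfsg.Agent.S4237 Cfsg.Agent.S4003
open scoped commutatorElement

/-- Let G be a finite p-group of order p^m that is not cyclic and, when p = 2, not of maximal class (nilpotency class m − 1). Then for every 1 ≤ k < m the number of subgroups of G of order p^k is congruent to 1 + p modulo p². -/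
theorem result {G : Type*} [Group G] [Finite G] {p : ℕ} [Fact p.Prime] (m : ℕ)
    (hG : Nat.card G = p ^ m) (hnc : ¬ IsCyclic G) (h2 : p = 2 → Group.nilpotencyClass G ≠ m - 1)
    (k : ℕ) (hk1 : 1 ≤ k) (hk2 : k < m) :
    Nat.card {H : Subgroup G // Nat.card H = p ^ k} ≡ 1 + p [MOD p ^ 2] := by
  by_cases hp2 : p = 2
  · subst hp2
    have h2' := h2 rfl
    have goal4 : Nat.card {H : Subgroup G // Nat.card H = 2 ^ k} ≡ 3 [MOD 4] := by
      by_cases hm : m = 2
      · subst hm
        have hk : k = 0 + 1 := by omega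
        rw [hk]
        exact sx_max_modEq (j := 0) hG hnc
      · have hT : ¬ (commutator G).index = 4 := by
          intro hT
          exact h2' (Cfsg.Agent.H2.MaxClassLCS.class_of_index m (by omega) hG hT)
        exact (main2 m G hG hnc).1 hT k hk1 hk2
    norm_num
    exact goal4
  · exact Cfsg.Agent.S4237.kulakoff hp2 m G hG hnc k hk1 hk2

end

end Cfsg.Agent.S4157
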