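import Mathlib
import Cfsg.Statements.S4168
import Cfsg.Agent.H2.Transfer

set_option autoImplicit false
open Cfsg

namespace Cfsg.Agent.S4168

open Cfsg.Agent.H2

theorem result {L : Type*} [Group L] [Finite L] (hL : Cfsg.IsQuasisimple L)
    (p : ℕ) (hp : p.Prime) (hdiv : p ∣ Nat.card (Subgroup.center L)) : p ∣ (Subgroup.center L).index := by
  haveI : Fact p.Prime := ⟨hp⟩
  by_contra hnd
  obtain ⟨P⟩ : Nonempty (Sylow p L) := inferInstance
  have hPZ : (P : Subgroup L) ≤ Subgroup.center L :=
    sylow_le_of_normal_of_not_dvd_index P _ hnd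
  have hcent : Subgroup.normalizer ((P : Subgroup L) : Set L) ≤ Subgroup.centralizer (P : Set L) := by
    intro x _
    rw [Subgroup.mem_centralizer_iff]
    intro y hy
    exact ((Subgroup.mem_center_iff.1 (hPZ hy)) x).symm
  have hperf : commutator L = ⊤ := hL.1.commutator_eq_top
  have hbot := sylow_eq_bot_of_perfect_of_normalizer_le_centralizer hperf P hcent
  -- p ∣ |L| so P ≠ ⊥
  have hpL : p ∣ Nat.card L := hdiv.trans (Subgroup.card_subgroup_dvd_card _)
  have := P.card_eq_multiplicity
  rw [hbot] at this
  simp only [Subgroup.card_bot] at this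
  have hfac : (Nat.card L).factorization p = 0 := by
    by_contra h
    have : 1 < p ^ (Nat.card L).factorization p := Nat.one_lt_pow h hp.one_lt
    omega
  rw [Nat.factorization_eq_zero_iff] at hfac
  rcases hfac with h | h | h
  · exact h hp
  · exact h hpL
  · exact Nat.card_pos.ne' h

end Cfsg.Agent.S4168
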