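import Mathlib
import Cfsg.Statements.S4169
import Cfsg.Agent.H2.SmallClasses
import Cfsg.Agent.S0015

set_option autoImplicit false
open Cfsg

namespace Cfsg.Agent.S4169

/-- Let P be a finite p-group whose conjugacy classes have exactly two sizes (1 and one other value). Then P has nilpotency class at most 3. -/
theorem result {P : Type*} [Group P] [Finite P] {p : ℕ} [Fact p.Prime] (hP : IsPGroup p P)
    (m : ℕ) (hm : 1 < m) (h : ∀ x : P, (Subgroup.centralizer ({x} : Set P)).index = 1 ∨ (Subgroup.centralizer ({x} : Set P)).index = m) :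
    upperCentralSeries P 3 = ⊤ := by
  have hnil : Group.IsNilpotent P := hP.isNilpotent
  obtain ⟨A, -, hAmax⟩ := Finite.exists_le_maximal
    (p := fun M : Subgroup P => M.Normal ∧ IsMulCommutative M) (a := ⊥) ⟨inferInstance, inferInstance⟩
  obtain ⟨⟨hAn, hAc⟩, hAm⟩ := hAmax
  have hCA : Subgroup.centralizer (A : Set P) = A :=
    Cfsg.Agent.S0015.result A (fun M hMn hMc hle => le_antisymm (hAm ⟨hMn, hMc⟩ hle) hle)
  have hAcomm : ∀ a ∈ A, ∀ b ∈ A, a * b = b * a := by
    intro a ha b hb
    exact congrArg Subtype.val (hAc.is_comm.comm ⟨a, ha⟩ ⟨b, hb⟩)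
  have hmin : ∀ x : P, 1 < (Subgroup.centralizer ({x} : Set P)).index →
      m ≤ (Subgroup.centralizer ({x} : Set P)).index := by
    intro x hx
    rcases h x with h1 | h1
    · omega
    · omega
  have hK : ∀ x : P, x ∈ Cfsg.Agent.H2.SmallClasses.centralActing A := by
    intro x
    rcases h x with hx | hx
    · intro a _
      rw [Subgroup.index_eq_one] at hx
      have hxc : a ∈ Subgroup.centralizer ({x} : Set P) := hx ▸ Subgroup.mem_top a
      rw [Subgroup.mem_centralizer_singleton_iff] at hxc
      have : a * x * a⁻¹ * x⁻¹ = 1 := by rw [hxc]; group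
      rw [this]; exact Subgroup.one_mem _
    · intro a ha
      exact Cfsg.Agent.H2.SmallClasses.comm_mem_center A hAcomm m hmin x hx a ha
  rw [eq_top_iff]
  intro w _
  change w ∈ Subgroup.upperCentralSeries P (2 + 1)
  rw [Subgroup.mem_upperCentralSeries_succ_iff]
  intro y
  rw [Subgroup.mem_upperCentralSeries_succ_iff]
  intro y'
  rw [Subgroup.upperCentralSeries_one, Subgroup.mem_center_iff]
  intro v
  have hu : (w * y * w⁻¹ * y⁻¹) ∈ A :=
    Cfsg.Agent.H2.SmallClasses.commutator_mem A hCA w y (hK w) (hK y)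
  have hz := (Cfsg.Agent.H2.SmallClasses.mem_centralActing A y').mp (hK y') _ hu
  simp only [commutatorElement_def]
  exact (Subgroup.mem_center_iff.mp hz) v

end Cfsg.Agent.S4169
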