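import Mathlib
import Cfsg.Statements.S4176
import Cfsg.Agent.H2.PSolvOrbit

set_option autoImplicit false
open Cfsg

namespace Cfsg.Agent.S4176

/-- Let k be a field of prime characteristic p, H a finite p-soluble group and ρ a k-linear representation of H on V. Let a be a vector that is fixed by some Sylow p-subgroup of H and whose H-orbit spans V. Then the space of H-fixed vectors has dimension at most 1, and every vector b whose H-orbit has size coprime to the size of the orbit of a is fixed by H. -/
theorem result {k V H : Type*} [Field k] (p : ℕ) [Fact p.Prime] [CharP k p] [AddCommGroup V] [Module k V]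
    [Group H] [Finite H] (hsol : Cfsg.IsPSolvable p H) (ρ : Representation k H V) (a : V)
    (hfix : ∃ P : Sylow p H, ∀ x : H, x ∈ (P : Subgroup H) → ρ x a = a)
    (hspan : Submodule.span k {u : V | ∃ h : H, ρ h a = u} = ⊤) :
    Module.finrank k ρ.invariants ≤ 1 ∧
    ∀ b : V, (Nat.card {u : V | ∃ h : H, ρ h a = u}).Coprime (Nat.card {u : V | ∃ h : H, ρ h b = u}) → ∀ h : H, ρ h b = b := by
  obtain ⟨h1, h2⟩ := Cfsg.Agent.H2.PSolvOrbit.main p hsol ρ a hfix hspan
  refine ⟨?_, h2⟩
  have hle : ρ.invariants ≤
      Submodule.span k {∑ᶠ u ∈ Set.range (fun h : H => ρ h a), u} := by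
    intro v hv
    obtain ⟨c, hc⟩ := h1 v ((Representation.mem_invariants ρ v).mp hv)
    rw [hc]
    exact Submodule.smul_mem _ _ (Submodule.mem_span_singleton_self _)
  calc Module.finrank k ρ.invariants
      ≤ Module.finrank k (Submodule.span k {∑ᶠ u ∈ Set.range (fun h : H => ρ h a), u}) :=
        Submodule.finrank_mono hle
    _ ≤ 1 := by
        have h3 := finrank_span_le_card (R := k)
          ({∑ᶠ u ∈ Set.range (fun h : H => ρ h a), u} : Set V)
        rwa [Set.toFinset_singleton, Finset.card_singleton] at h3

end Cfsg.Agent.S4176
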