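import Mathlib
import Cfsg.Statements.S4177

set_option autoImplicit false
open Cfsg

namespace Cfsg.Agent.S4177

open scoped BigOperators

section

variable {k V H : Type*} [Field k] [AddCommGroup V] [Module k V] [Group H] [Fintype H]

/-- the sum of the translates under a subgroup -/
noncomputable def sumB (ρ : Representation k H V) (B : Subgroup H) [Fintype B] : V →ₗ[k] V :=
  ∑ β : B, ρ (β : H)

theorem sumB_apply (ρ : Representation k H V) (B : Subgroup H) [Fintype B] (v : V) :
    sumB ρ B v = ∑ β : B, ρ (β : H) v := by
  unfold sumB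
  rw [LinearMap.sum_apply]

theorem rho_sumB (ρ : Representation k H V) (B : Subgroup H) [Fintype B] (v : V) (b : H)
    (hb : b ∈ B) : ρ b (sumB ρ B v) = sumB ρ B v := by
  rw [sumB_apply, map_sum]
  have : ∀ β : B, ρ b (ρ (β : H) v) = ρ (((⟨b, hb⟩ : B) * β : B) : H) v := by
    intro β
    rw [Subgroup.coe_mul, map_mul]; rfl
  simp_rw [this]
  exact Fintype.sum_equiv (Equiv.mulLeft (⟨b, hb⟩ : B)) _ _ (fun β => rfl)

theorem sumB_rho (ρ : Representation k H V) (B : Subgroup H) [Fintype B] (v : V) (b : H)
    (hb : b ∈ B) : sumB ρ B (ρ b v) = sumB ρ B v := by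
  rw [sumB_apply, sumB_apply]
  have : ∀ β : B, ρ (β : H) (ρ b v) = ρ ((β * (⟨b, hb⟩ : B) : B) : H) v := by
    intro β
    rw [Subgroup.coe_mul, map_mul]; rfl
  simp_rw [this]
  exact Fintype.sum_equiv (Equiv.mulRight (⟨b, hb⟩ : B)) _ _ (fun β => rfl)

theorem sumB_fixed (ρ : Representation k H V) (B : Subgroup H) [Fintype B] (v : V)
    (hv : ∀ b ∈ B, ρ b v = v) : sumB ρ B v = (Fintype.card B : k) • v := by
  rw [sumB_apply]
  have : ∀ β : B, ρ (β : H) v = v := fun β => hv β β.2
  simp_rw [this]
  rw [Finset.sum_const, Finset.card_univ, Nat.cast_smul_eq_nsmul]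

/-- a `B`-fixed vector in the span of the `B`-orbit of `a` is a multiple of the orbit sum -/
theorem fixed_mem_span (ρ : Representation k H V) (B : Subgroup H) [Fintype B]
    (hB : (Fintype.card B : k) ≠ 0) (a w : V)
    (hw : w ∈ Submodule.span k {u : V | ∃ b ∈ B, ρ b a = u}) (hfix : ∀ b ∈ B, ρ b w = w) :
    w ∈ Submodule.span k {sumB ρ B a} := by
  have h1 : ∀ v ∈ Submodule.span k {u : V | ∃ b ∈ B, ρ b a = u},
      sumB ρ B v ∈ Submodule.span k {sumB ρ B a} := by
    intro v hv
    induction hv using Submodule.span_induction with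
    | mem x hx =>
      obtain ⟨b, hb, rfl⟩ := hx
      rw [sumB_rho ρ B a b hb]
      exact Submodule.subset_span rfl
    | zero => rw [map_zero]; exact Submodule.zero_mem _
    | add x y _ _ hx hy => rw [map_add]; exact Submodule.add_mem _ hx hy
    | smul c x _ hx => rw [map_smul]; exact Submodule.smul_mem _ c hx
  have h2 := h1 w hw
  rw [sumB_fixed ρ B w hfix] at h2
  have h3 := Submodule.smul_mem _ ((Fintype.card B : k)⁻¹) h2
  rwa [smul_smul, inv_mul_cancel₀ hB, one_smul] at h3

end

/-- Let k be a field whose characteristic does not divide the order of the finite group H (for instance a field of characteristic zero), and ρ a k-linear representation of H on V. Let a be a vector whose H-orbit spans V. Then the space of H-fixed vectors has dimension at most 1, and every vector b whose H-orbit has size coprime to the size of the orbit of a is fixed by H. -/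
theorem result {k V H : Type*} [Field k] [AddCommGroup V] [Module k V] [Group H] [Finite H]
    (hchar : ¬ ringChar k ∣ Nat.card H) (ρ : Representation k H V) (a : V)
    (hspan : Submodule.span k {u : V | ∃ h : H, ρ h a = u} = ⊤) :
    Module.finrank k ρ.invariants ≤ 1 ∧
    ∀ b : V, (Nat.card {u : V | ∃ h : H, ρ h a = u}).Coprime (Nat.card {u : V | ∃ h : H, ρ h b = u}) → ∀ h : H, ρ h b = b := by
  classical
  have : Fintype H := Fintype.ofFinite H
  -- cardinalities of subgroups are invertible in `k`
  have hcard : ∀ B : Subgroup H, ∀ [Fintype B], (Fintype.card B : k) ≠ 0 := by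
    intro B _ h0
    rw [ringChar.spec] at h0
    apply hchar
    rw [← Nat.card_eq_fintype_card] at h0
    exact h0.trans (Subgroup.card_subgroup_dvd_card B)
  constructor
  · -- the invariants lie in the span of the total orbit sum
    have hle : ρ.invariants ≤ Submodule.span k {sumB ρ (⊤ : Subgroup H) a} := by
      intro w hw
      apply fixed_mem_span ρ ⊤ (hcard ⊤) a w
      · have : {u : V | ∃ b ∈ (⊤ : Subgroup H), ρ b a = u} = {u : V | ∃ h : H, ρ h a = u} := by
          ext u; simp
        rw [this, hspan]; exact Submodule.mem_top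
      · intro b _
        exact (Representation.mem_invariants ρ w).1 hw b
    refine (Submodule.finrank_mono hle).trans ?_
    have := finrank_span_le_card (R := k) ({sumB ρ (⊤ : Subgroup H) a} : Set V)
    simpa using this
  · intro b hcop
    -- the action
    let act : MulAction H V :=
      { smul := fun h v => ρ h v
        one_smul := by intro v; show ρ 1 v = v; rw [map_one]; rfl
        mul_smul := by intro g h v; show ρ (g * h) v = ρ g (ρ h v); rw [map_mul]; rfl }
    have hsmul : ∀ (h : H) (v : V), h • v = ρ h v := fun _ _ => rfl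
    have horb : ∀ v : V, {u : V | ∃ h : H, ρ h v = u} = MulAction.orbit H v := by
      intro v; ext u; rfl
    rw [horb a, horb b, Nat.card_coe_set_eq, Nat.card_coe_set_eq, ← MulAction.index_stabilizer,
      ← MulAction.index_stabilizer] at hcop
    -- the stabilizer of `b` is transitive on the orbit of `a`
    have hstab : MulAction.stabilizer (MulAction.stabilizer H b) a
        = (MulAction.stabilizer H a).subgroupOf (MulAction.stabilizer H b) := by
      ext x
      rw [Subgroup.mem_subgroupOf, MulAction.mem_stabilizer_iff, MulAction.mem_stabilizer_iff]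
      rfl
    have hidx : (MulAction.stabilizer H a).relIndex (MulAction.stabilizer H b)
        = (MulAction.orbit (MulAction.stabilizer H b) a).ncard := by
      rw [← MulAction.index_stabilizer, hstab]; rfl
    have e1 := Subgroup.relIndex_mul_index
      (inf_le_right : MulAction.stabilizer H a ⊓ MulAction.stabilizer H b ≤ MulAction.stabilizer H b)
    have e2 := Subgroup.relIndex_mul_index
      (inf_le_left : MulAction.stabilizer H a ⊓ MulAction.stabilizer H b ≤ MulAction.stabilizer H a)
    rw [Subgroup.inf_relIndex_right] at e1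
    rw [Subgroup.inf_relIndex_left] at e2
    have hdvd : (MulAction.stabilizer H a).index ∣
        (MulAction.stabilizer H a).relIndex (MulAction.stabilizer H b) := by
      apply Nat.Coprime.dvd_of_dvd_mul_right hcop
      rw [e1, ← e2]
      exact Dvd.intro_left _ rfl
    have hsub : MulAction.orbit (MulAction.stabilizer H b) a ⊆ MulAction.orbit H a := by
      rintro _ ⟨x, rfl⟩
      exact ⟨(x : H), rfl⟩
    have hfin : (MulAction.orbit H a).Finite := Set.finite_range _
    have horbeq : MulAction.orbit (MulAction.stabilizer H b) a = MulAction.orbit H a := by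
      apply Set.eq_of_subset_of_ncard_le hsub _ hfin
      rw [← hidx, ← MulAction.index_stabilizer]
      apply Nat.le_of_dvd _ hdvd
      rw [hidx]
      exact (Set.ncard_pos (hfin.subset hsub)).2 ⟨a, MulAction.mem_orbit_self a⟩
    -- so the orbit of `a` under the stabilizer of `b` spans
    have hspanB : Submodule.span k {u : V | ∃ β ∈ MulAction.stabilizer H b, ρ β a = u} = ⊤ := by
      rw [← hspan]
      congr 1
      ext u
      constructor
      · rintro ⟨β, _, rfl⟩; exact ⟨β, rfl⟩
      · rintro ⟨h, rfl⟩
        have : ρ h a ∈ MulAction.orbit (MulAction.stabilizer H b) a := by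
          rw [horbeq]; exact ⟨h, rfl⟩
        obtain ⟨x, hx⟩ := this
        exact ⟨(x : H), x.2, hx⟩
    have hbfix : ∀ β ∈ MulAction.stabilizer H b, ρ β b = b := fun β hβ =>
      MulAction.mem_stabilizer_iff.1 hβ
    have hb := fixed_mem_span ρ (MulAction.stabilizer H b) (hcard _) a b
      (by rw [hspanB]; exact Submodule.mem_top) hbfix
    -- the orbit sum
    have hTfix : ∀ h : H, ρ h (∑ u ∈ hfin.toFinset, u) = ∑ u ∈ hfin.toFinset, u := by
      intro h
      rw [map_sum]
      apply Finset.sum_bij (fun u _ => ρ h u)
      · intro u hu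
        rw [Set.Finite.mem_toFinset] at hu ⊢
        obtain ⟨g, rfl⟩ := hu
        exact ⟨h * g, by show ρ (h * g) a = ρ h (ρ g a); rw [map_mul]; rfl⟩
      · intro u _ v _ huv
        have := congrArg (ρ h⁻¹) huv
        simpa [← Module.End.mul_apply, ← map_mul] using this
      · intro v hv
        rw [Set.Finite.mem_toFinset] at hv
        obtain ⟨g, rfl⟩ := hv
        refine ⟨ρ (h⁻¹ * g) a, ?_, ?_⟩
        · rw [Set.Finite.mem_toFinset]; exact ⟨h⁻¹ * g, rfl⟩
        · show ρ h (ρ (h⁻¹ * g) a) = ρ g a
          rw [← Module.End.mul_apply, ← map_mul, mul_inv_cancel_left]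
      · intro u _; rfl
    have hsum1 : sumB ρ (MulAction.stabilizer H b) (∑ u ∈ hfin.toFinset, u)
        = (Fintype.card (MulAction.stabilizer H b) : k) • ∑ u ∈ hfin.toFinset, u :=
      sumB_fixed ρ _ _ (fun β _ => hTfix β)
    have hsum2 : sumB ρ (MulAction.stabilizer H b) (∑ u ∈ hfin.toFinset, u)
        = (hfin.toFinset.card : k) • sumB ρ (MulAction.stabilizer H b) a := by
      rw [map_sum]
      have : ∀ u ∈ hfin.toFinset, sumB ρ (MulAction.stabilizer H b) u
          = sumB ρ (MulAction.stabilizer H b) a := by
        intro u hu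
        rw [Set.Finite.mem_toFinset, ← horbeq] at hu
        obtain ⟨x, rfl⟩ := hu
        exact sumB_rho ρ _ a (x : H) x.2
      rw [Finset.sum_congr rfl this, Finset.sum_const, Nat.cast_smul_eq_nsmul]
    have hm : (hfin.toFinset.card : k) ≠ 0 := by
      intro h0
      rw [ringChar.spec] at h0
      apply hchar
      refine h0.trans ?_
      rw [← Set.ncard_eq_toFinset_card _ hfin, ← MulAction.index_stabilizer]
      exact Subgroup.index_dvd_card _
    have hsfix : ∀ h : H, ρ h (sumB ρ (MulAction.stabilizer H b) a)
        = sumB ρ (MulAction.stabilizer H b) a := by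
      intro h
      have e : sumB ρ (MulAction.stabilizer H b) a = (hfin.toFinset.card : k)⁻¹ •
          ((Fintype.card (MulAction.stabilizer H b) : k) • ∑ u ∈ hfin.toFinset, u) := by
        rw [← hsum1, hsum2, smul_smul, inv_mul_cancel₀ hm, one_smul]
      rw [e, map_smul, map_smul, hTfix h]
    intro h
    obtain ⟨c, hc⟩ := Submodule.mem_span_singleton.1 hb
    rw [← hc, map_smul, hsfix h]

end Cfsg.Agent.S4177
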