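import Mathlib
import Cfsg.Statements.S4178
import Cfsg.Agent.H2.LinearIndex

set_option autoImplicit false
open Cfsg

namespace Cfsg.Agent.S4178

open Cfsg.Agent.H2.LinIdx

/-- Let F be a finite field with q elements, V a non-zero finite-dimensional F-space of dimension d, H a group of invertible linear maps of V, and R the subgroup of H generated by the elements of H that fix some non-zero vector (have eigenvalue 1). Then the index of R in H is at most q^d − 1; and if H leaves invariant some proper non-zero subspace, the index is at most q^(d/2) − 1. -/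
theorem result {F V : Type*} [Field F] [Fintype F] [AddCommGroup V] [Module F V] [FiniteDimensional F V] [Nontrivial V]
    (H : Subgroup (V ≃ₗ[F] V)) :
    (Subgroup.closure {h : ↥H | ∃ v : V, v ≠ 0 ∧ (h : V ≃ₗ[F] V) v = v}).index ≤ Fintype.card F ^ Module.finrank F V - 1 ∧
    ((∃ W : Submodule F V, W ≠ ⊥ ∧ W ≠ ⊤ ∧ ∀ h ∈ H, ∀ w ∈ W, h w ∈ W) →
      ((Subgroup.closure {h : ↥H | ∃ v : V, v ≠ 0 ∧ (h : V ≃ₗ[F] V) v = v}).index : ℝ) ≤ Real.sqrt ((Fintype.card F : ℝ) ^ Module.finrank F V) - 1) := by
  constructor
  · have h := index_le_of_invariant H (⊤ : Submodule F V) top_ne_bot (fun _ _ _ _ => trivial)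
    rw [finrank_top] at h
    exact h
  · rintro ⟨W, hW0, hW1, hinv⟩
    have hq : 1 ≤ Fintype.card F := Fintype.card_pos
    have hle : Module.finrank F W ≤ Module.finrank F V := Submodule.finrank_le W
    by_cases hc : 2 * Module.finrank F W ≤ Module.finrank F V
    · exact real_bound _ _ _ hq hc _ (index_le_of_invariant H W hW0 hinv)
    · refine real_bound _ (Module.finrank F V - Module.finrank F W) _ hq (by omega) _
        (index_le_of_invariant_dual H W hW1 hinv)

end Cfsg.Agent.S4178
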