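import Cfsg.Statements.S4182
import Cfsg.Agent.Lib.Lead.Conj

set_option autoImplicit false
open Cfsg

namespace Cfsg.Agent.S4182

universe u

theorem pgroup_cover {G : Type*} [Group G] [Finite G] (p : ℕ) [Fact p.Prime] (hG : IsPGroup p G)
    {ι : Type*} [Fintype ι] (K : ι → Subgroup G) (hι : Fintype.card ι ≤ p)
    (hcov : ∀ g : G, ∃ i, g ∈ K i) : ∃ i, K i = ⊤ := by
  classical
  by_contra hne
  push Not at hne
  have hp := (Fact.out : p.Prime)
  haveI : Fintype G := Fintype.ofFinite G
  have h1 : ∀ i, p * Nat.card (K i) ≤ Nat.card G := by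
    intro i
    have hidx : (K i).index ≠ 1 := fun h => hne i (Subgroup.index_eq_one.1 h)
    obtain ⟨k, hk⟩ := hG.index (K i)
    have hpd : p ∣ (K i).index := by
      rw [hk]
      cases k with
      | zero => exact absurd (by simpa using hk) hidx
      | succ k => exact dvd_pow_self p (Nat.succ_ne_zero k)
    have hci := (K i).card_mul_index
    obtain ⟨c, hc⟩ := hpd
    have hcpos : 0 < c := by
      rcases Nat.eq_zero_or_pos c with h | h
      · exfalso
        rw [h, mul_zero] at hc
        rw [hc, mul_zero] at hci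
        exact (Nat.card_pos (α := G)).ne hci
      · exact h
    calc p * Nat.card (K i) ≤ p * Nat.card (K i) * c := Nat.le_mul_of_pos_right _ hcpos
      _ = Nat.card (K i) * (p * c) := by ring
      _ = Nat.card G := by rw [← hc, hci]
  let f : ι → ℕ := fun i => (Finset.univ.filter fun g : G => g ∈ K i ∧ g ≠ 1).card
  have hsub : (Finset.univ : Finset G) ⊆
      insert 1 (Finset.univ.biUnion fun i => (Finset.univ.filter fun g : G => g ∈ K i ∧ g ≠ 1)) := by
    intro g _
    by_cases hg : g = 1
    · rw [hg]; exact Finset.mem_insert_self _ _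
    · obtain ⟨i, hi⟩ := hcov g
      apply Finset.mem_insert_of_mem
      rw [Finset.mem_biUnion]
      exact ⟨i, Finset.mem_univ _, Finset.mem_filter.2 ⟨Finset.mem_univ _, hi, hg⟩⟩
  have hcardK : ∀ i, f i + 1 = Nat.card (K i) := by
    intro i
    have h2 : Nat.card (K i) = (insert 1 (Finset.univ.filter fun g : G => g ∈ K i ∧ g ≠ 1)).card := by
      rw [Nat.card_eq_fintype_card]
      apply Fintype.card_of_subtype
      intro g
      rw [Finset.mem_insert, Finset.mem_filter]
      constructor
      · rintro (h | h)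
        · rw [h]; exact (K i).one_mem
        · exact h.2.1
      · intro h
        by_cases hg : g = 1
        · exact Or.inl hg
        · exact Or.inr ⟨Finset.mem_univ _, h, hg⟩
    rw [h2, Finset.card_insert_of_notMem]
    intro h
    exact (Finset.mem_filter.1 h).2.2 rfl
  have hN : Nat.card G ≤ 1 + ∑ i, f i := by
    rw [Nat.card_eq_fintype_card, ← Finset.card_univ]
    calc (Finset.univ : Finset G).card ≤ _ := Finset.card_le_card hsub
      _ ≤ (Finset.univ.biUnion fun i => (Finset.univ.filter fun g : G => g ∈ K i ∧ g ≠ 1)).card + 1 :=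
          Finset.card_insert_le _ _
      _ ≤ (∑ i, f i) + 1 := Nat.add_le_add_right Finset.card_biUnion_le 1
      _ = 1 + ∑ i, f i := by ring
  have hS : p * (∑ i, f i) + p * Fintype.card ι ≤ Fintype.card ι * Nat.card G := by
    have : ∑ i : ι, p * (f i + 1) ≤ ∑ _i : ι, Nat.card G :=
      Finset.sum_le_sum (fun i _ => by rw [hcardK i]; exact h1 i)
    rw [Finset.sum_const, Finset.card_univ, smul_eq_mul, ← Finset.mul_sum, Finset.sum_add_distrib,
      Finset.sum_const, Finset.card_univ, smul_eq_mul, mul_one, mul_add] at this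
    exact this
  have hn1 : Fintype.card ι ≤ 1 := by
    have h3 : Fintype.card ι * Nat.card G ≤ p * Nat.card G := Nat.mul_le_mul_right _ hι
    have h4 : p * Nat.card G ≤ p * (1 + ∑ i, f i) := Nat.mul_le_mul_left _ hN
    have h5 : p * Fintype.card ι ≤ p * 1 := by
      have : p * (∑ i, f i) + p * Fintype.card ι ≤ p * (1 + ∑ i, f i) := le_trans hS (le_trans h3 h4)
      rw [mul_add] at this
      omega
    exact Nat.le_of_mul_le_mul_left h5 hp.pos
  obtain ⟨i0, _⟩ := hcov 1
  apply hne i0
  rw [eq_top_iff]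
  intro g _
  obtain ⟨i, hi⟩ := hcov g
  rwa [Fintype.card_le_one_iff.1 hn1 i i0] at hi

/-- `H` is generated by its elements of `p`-power order. -/
def PGen (p : ℕ) {G : Type*} [Group G] (H : Subgroup G) : Prop :=
  Subgroup.closure {g : G | g ∈ H ∧ ∃ k : ℕ, orderOf g = p ^ k} = H

theorem pgen_map_conj (p : ℕ) {G : Type*} [Group G] (H : Subgroup G) (y : G) (h : PGen p H) :
    PGen p (H.map (MulAut.conj y).toMonoidHom) := by
  unfold PGen at *
  have hset : {g : G | g ∈ H.map (MulAut.conj y).toMonoidHom ∧ ∃ k : ℕ, orderOf g = p ^ k}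
      = (MulAut.conj y).toMonoidHom '' {g : G | g ∈ H ∧ ∃ k : ℕ, orderOf g = p ^ k} := by
    ext g
    constructor
    · rintro ⟨⟨a, ha, rfl⟩, k, hk⟩
      refine ⟨a, ⟨ha, k, ?_⟩, rfl⟩
      rw [← hk]
      exact (orderOf_injective (MulAut.conj y).toMonoidHom (MulAut.conj y).injective a).symm
    · rintro ⟨a, ⟨ha, k, hk⟩, rfl⟩
      refine ⟨⟨a, ha, rfl⟩, k, ?_⟩
      rw [← hk]
      exact orderOf_injective (MulAut.conj y).toMonoidHom (MulAut.conj y).injective a
  rw [hset, ← MonoidHom.map_closure, h]

theorem map_conj_one' {G : Type*} [Group G] (H : Subgroup G) :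
    H.map (MulAut.conj (1 : G)).toMonoidHom = H := by
  ext g
  constructor
  · rintro ⟨a, ha, rfl⟩
    simpa using ha
  · intro hg
    exact ⟨g, hg, by simp⟩

theorem map_conj_mul' {G : Type*} [Group G] (H : Subgroup G) (a b : G) :
    H.map (MulAut.conj (a * b)).toMonoidHom =
      (H.map (MulAut.conj b).toMonoidHom).map (MulAut.conj a).toMonoidHom := by
  rw [Subgroup.map_map]
  congr 1
  ext g
  simp [MulAut.conj_apply, mul_assoc]

theorem map_conj_inv_map_conj {G : Type*} [Group G] (H : Subgroup G) (y : G) :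
    (H.map (MulAut.conj y).toMonoidHom).map (MulAut.conj y⁻¹).toMonoidHom = H := by
  rw [← map_conj_mul', inv_mul_cancel, map_conj_one']

theorem main (p : ℕ) [Fact p.Prime] {ι : Type*} [Fintype ι] (hι : Fintype.card ι ≤ p) :
    ∀ (m : ℕ) (G : Type u) [Group G] [Finite G], Nat.card G = m →
      ∀ (K : ι → Subgroup G), (∀ i, K i ≠ ⊤) →
      Subgroup.closure {g : G | ∃ k : ℕ, orderOf g = p ^ k} = ⊤ →
      (∀ g : G, (∃ k : ℕ, orderOf g = p ^ k) → ∃ i, g ∈ K i) → False := by
  intro m
  induction m using Nat.strong_induction_on with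
  | _ m ih =>
  intro G _ _ hm K hK hgen hcov
  classical
  have hp := (Fact.out : p.Prime)
  have step1 : ∀ H : Subgroup G, H ≠ ⊤ → PGen p H → ∃ i, H ≤ K i := by
    intro H hH hpg
    by_contra hcon
    push Not at hcon
    have hlt : Nat.card H < m := by
      rw [← hm]
      refine lt_of_le_of_ne (Subgroup.card_le_card_group H) (fun h => hH ?_)
      exact Subgroup.eq_top_of_card_eq H h
    refine ih (Nat.card H) hlt ↥H rfl (fun i => (K i).subgroupOf H) ?_ ?_ ?_
    · intro i h
      exact hcon i (Subgroup.subgroupOf_eq_top.1 h)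
    · apply Subgroup.map_injective H.subtype_injective
      rw [MonoidHom.map_closure, ← MonoidHom.range_eq_map, Subgroup.range_subtype]
      unfold PGen at hpg
      conv_rhs => rw [← hpg]
      congr 1
      ext g
      constructor
      · rintro ⟨a, ⟨k, hk⟩, rfl⟩
        exact ⟨a.2, k, by rw [← hk]; exact Subgroup.orderOf_coe a⟩
      · rintro ⟨hg, k, hk⟩
        exact ⟨⟨g, hg⟩, ⟨k, by rw [← hk]; exact (Subgroup.orderOf_coe _).symm⟩, rfl⟩
    · rintro g ⟨k, hk⟩
      obtain ⟨i, hi⟩ := hcov (g : G) ⟨k, by rw [← hk]; exact Subgroup.orderOf_coe g⟩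
      exact ⟨i, Subgroup.mem_subgroupOf.2 hi⟩
  set Pr : Subgroup G → Prop := fun H => H ≠ ⊤ ∧ PGen p H with hPr
  have exmax : ∀ H, Pr H → ∃ M, H ≤ M ∧ Maximal Pr M := fun H hH => Finite.exists_le_maximal hH
  set L : ι → Subgroup G :=
    fun i => Subgroup.closure {g : G | g ∈ K i ∧ ∃ k : ℕ, orderOf g = p ^ k} with hL
  have hLK : ∀ i, L i ≤ K i := fun i => (Subgroup.closure_le _).2 (fun g hg => hg.1)
  have hLP : ∀ i, Pr (L i) := by
    intro i
    refine ⟨fun h => hK i (top_le_iff.1 (h ▸ hLK i)), ?_⟩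
    unfold PGen
    apply le_antisymm
    · exact (Subgroup.closure_le _).2 (fun g hg => hg.1)
    · exact Subgroup.closure_mono (fun g hg => ⟨Subgroup.subset_closure hg, hg.2⟩)
  have hML : ∀ M, Maximal Pr M → ∀ i, M ≤ K i → M = L i := by
    intro M hM i hMi
    have hle : M ≤ L i := by
      have h2 : PGen p M := hM.prop.2
      unfold PGen at h2
      calc M = Subgroup.closure {g : G | g ∈ M ∧ ∃ k : ℕ, orderOf g = p ^ k} := h2.symm
        _ ≤ L i := Subgroup.closure_mono (fun g hg => ⟨hMi hg.1, hg.2⟩)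
    exact le_antisymm hle (hM.le_of_ge (hLP i) hle)
  have hcardM : Nat.card {M : Subgroup G // Maximal Pr M} ≤ p := by
    have hch : ∀ M : {M : Subgroup G // Maximal Pr M}, ∃ i, M.1 ≤ K i :=
      fun M => step1 M.1 M.2.prop.1 M.2.prop.2
    choose φ hφ using hch
    have hinj : Function.Injective φ := by
      intro M M' h
      apply Subtype.ext
      rw [hML M.1 M.2 (φ M) (hφ M), hML M'.1 M'.2 (φ M') (hφ M'), h]
    calc Nat.card {M : Subgroup G // Maximal Pr M} ≤ Nat.card ι := Nat.card_le_card_of_injective φ hinj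
      _ = Fintype.card ι := Nat.card_eq_fintype_card
      _ ≤ p := hι
  have hPconj : ∀ (y : G) (H : Subgroup G), Pr H → Pr (H.map (MulAut.conj y).toMonoidHom) := by
    rintro y H ⟨h1, h2⟩
    refine ⟨fun h => h1 ?_, pgen_map_conj p H y h2⟩
    have h3 := congrArg (Subgroup.map (MulAut.conj y⁻¹).toMonoidHom) h
    rw [map_conj_inv_map_conj] at h3
    rw [h3]
    exact Subgroup.map_top_of_surjective _ (MulAut.conj y⁻¹).surjective
  have hMconj : ∀ (y : G) (M : Subgroup G), Maximal Pr M →
      Maximal Pr (M.map (MulAut.conj y).toMonoidHom) := by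
    intro y M hM
    refine ⟨hPconj y M hM.prop, ?_⟩
    intro N hN hle
    have h1 : M ≤ N.map (MulAut.conj y⁻¹).toMonoidHom := by
      have := Subgroup.map_mono (f := (MulAut.conj y⁻¹).toMonoidHom) hle
      rwa [map_conj_inv_map_conj] at this
    have h2 := hM.le_of_ge (hPconj y⁻¹ N hN) h1
    have h4 := Subgroup.map_mono (f := (MulAut.conj y).toMonoidHom) h2
    have h3 := map_conj_inv_map_conj N y⁻¹
    rw [inv_inv] at h3
    rwa [h3] at h4
  have hnorm : ∀ x : G, (∃ k : ℕ, orderOf x = p ^ k) → ∀ M : Subgroup G, Maximal Pr M →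
      M.map (MulAut.conj x).toMonoidHom = M := by
    rintro x ⟨k, hk⟩ M hM
    have hZ : IsPGroup p (Subgroup.zpowers x) := by
      apply IsPGroup.of_card (n := k)
      rw [Nat.card_zpowers, hk]
    letI act : MulAction (Subgroup.zpowers x) {M : Subgroup G // Maximal Pr M} :=
      { smul := fun g M => ⟨M.1.map (MulAut.conj (g : G)).toMonoidHom, hMconj _ _ M.2⟩
        one_smul := by
          intro M
          apply Subtype.ext
          exact map_conj_one' M.1
        mul_smul := by
          intro a b M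
          apply Subtype.ext
          exact map_conj_mul' M.1 (a : G) (b : G) }
    have hmod := hZ.card_modEq_card_fixedPoints {M : Subgroup G // Maximal Pr M}
    -- a fixed point
    have hxP : Pr (Subgroup.zpowers x) := by
      refine ⟨fun h => ?_, ?_⟩
      · obtain ⟨i, hi⟩ := hcov x ⟨k, hk⟩
        apply hK i
        rw [eq_top_iff, ← h]
        exact (Subgroup.zpowers_le).2 hi
      · unfold PGen
        apply le_antisymm
        · exact (Subgroup.closure_le _).2 (fun g hg => hg.1)
        · rw [Subgroup.zpowers_le]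
          exact Subgroup.subset_closure ⟨Subgroup.mem_zpowers x, k, hk⟩
    obtain ⟨Mx, hxM, hMx⟩ := exmax _ hxP
    have hfixMx : (⟨Mx, hMx⟩ : {M : Subgroup G // Maximal Pr M}) ∈
        MulAction.fixedPoints (Subgroup.zpowers x) {M : Subgroup G // Maximal Pr M} := by
      intro g
      apply Subtype.ext
      show Mx.map (MulAut.conj (g : G)).toMonoidHom = Mx
      apply Cfsg.Agent.Lib.Lead.Conj.map_conj_eq_of_le
      rintro _ ⟨a, ha, rfl⟩
      exact Mx.mul_mem (Mx.mul_mem (hxM g.2) ha) (Mx.inv_mem (hxM g.2))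
    by_contra hne
    have hnotfix : (⟨M, hM⟩ : {M : Subgroup G // Maximal Pr M}) ∉
        MulAction.fixedPoints (Subgroup.zpowers x) {M : Subgroup G // Maximal Pr M} := by
      intro h
      have := h ⟨x, Subgroup.mem_zpowers x⟩
      exact hne (congrArg Subtype.val this)
    have hlt : Nat.card (MulAction.fixedPoints (Subgroup.zpowers x) {M : Subgroup G // Maximal Pr M})
        < Nat.card {M : Subgroup G // Maximal Pr M} := Finite.card_subtype_lt hnotfix
    have hpos : 0 < Nat.card (MulAction.fixedPoints (Subgroup.zpowers x) {M : Subgroup G // Maximal Pr M}) := by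
      haveI : Nonempty (MulAction.fixedPoints (Subgroup.zpowers x) {M : Subgroup G // Maximal Pr M}) :=
        ⟨⟨_, hfixMx⟩⟩
      exact Nat.card_pos
    have hdvd := (Nat.modEq_iff_dvd' hlt.le).1 hmod.symm
    have := Nat.le_of_dvd (by omega) hdvd
    omega
  have hnormal : ∀ M : Subgroup G, Maximal Pr M → M.Normal := by
    intro M hM
    rw [← Subgroup.normalizer_eq_top_iff, eq_top_iff, ← hgen, Subgroup.closure_le]
    intro x hx
    apply Cfsg.Agent.Lib.Lead.Conj.mem_normalizer_of_conj_mem
    intro r hr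
    rw [← hnorm x hx M hM]
    exact Cfsg.Agent.Lib.Lead.Conj.conj_mem_map_conj M x hr
  -- final step
  obtain ⟨P⟩ : Nonempty (Sylow p G) := inferInstance
  by_cases hPtop : (P : Subgroup G) = ⊤
  · have hG : IsPGroup p G := by
      have := P.isPGroup'
      rw [hPtop] at this
      exact IsPGroup.of_equiv this Subgroup.topEquiv
    have hall : ∀ g : G, ∃ k : ℕ, orderOf g = p ^ k := by
      intro g
      obtain ⟨k, hk⟩ := hG g
      exact (Nat.dvd_prime_pow hp).1 (orderOf_dvd_of_pow_eq_one hk) |>.imp fun j hj => hj.2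
    obtain ⟨i, hi⟩ := pgroup_cover p hG K hι (fun g => hcov g (hall g))
    exact hK i hi
  · have hPP : Pr (P : Subgroup G) := by
      refine ⟨hPtop, ?_⟩
      unfold PGen
      apply le_antisymm
      · exact (Subgroup.closure_le _).2 (fun g hg => hg.1)
      · intro g hg
        apply Subgroup.subset_closure
        refine ⟨hg, ?_⟩
        obtain ⟨k, hk⟩ := P.isPGroup' ⟨g, hg⟩
        have hk' : g ^ p ^ k = 1 := by
          have := congrArg Subtype.val hk
          simpa using this
        exact (Nat.dvd_prime_pow hp).1 (orderOf_dvd_of_pow_eq_one hk') |>.imp fun j hj => hj.2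
    obtain ⟨M, hPM, hM⟩ := exmax _ hPP
    haveI := hnormal M hM
    apply hM.prop.1
    rw [eq_top_iff, ← hgen, Subgroup.closure_le]
    rintro y ⟨k, hk⟩
    have hyp : IsPGroup p (Subgroup.zpowers y) := by
      apply IsPGroup.of_card (n := k)
      rw [Nat.card_zpowers, hk]
    obtain ⟨Q, hQ⟩ := hyp.exists_le_sylow
    obtain ⟨g, hg⟩ := MulAction.exists_smul_eq G P Q
    have hyQ : y ∈ (Q : Subgroup G) := hQ (Subgroup.mem_zpowers y)
    rw [← hg, Sylow.coe_subgroup_smul, Subgroup.mem_pointwise_smul_iff_inv_smul_mem] at hyQ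
    have h5 := hPM hyQ
    have h6 := (inferInstance : M.Normal).conj_mem _ h5 g
    have h7 : g * ((MulAut.conj g)⁻¹ • y) * g⁻¹ = y := by
      rw [← map_inv, MulAut.smul_def, MulAut.conj_apply]
      group
    rwa [h7] at h6

/-- Let p be a prime and G a finite group generated by its p-elements. If a finite family of proper subgroups of G covers the set of p-elements of G (every element of p-power order lies in one of them), then the family has at least p + 1 members. -/
theorem result {G : Type*} [Group G] [Finite G] (p : ℕ) [Fact p.Prime] (hgen : Subgroup.closure {g : G | ∃ k : ℕ, orderOf g = p ^ k} = ⊤)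
    {ι : Type*} [Fintype ι] (K : ι → Subgroup G) (hK : ∀ i, K i ≠ ⊤)
    (hcov : ∀ g : G, (∃ k : ℕ, orderOf g = p ^ k) → ∃ i, g ∈ K i) :
    p + 1 ≤ Fintype.card ι := by
  by_contra hlt
  push Not at hlt
  exact main p (Nat.lt_succ_iff.1 hlt) (Nat.card G) G rfl K hK hgen hcov

end Cfsg.Agent.S4182
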