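import Cfsg.Statements.S4194
import Cfsg.Agent.H1.CaminaHerzogC

set_option autoImplicit false
open Cfsg

namespace Cfsg.Agent.S4194

set_option autoImplicit false
open Cfsg

/-- A finite group G has commutative Sylow 2-subgroups if and only if every 2-element of G (element of order a power of 2) is 2-central, that is, its centralizer contains a Sylow 2-subgroup of G. -/
theorem result {G : Type*} [Group G] [Finite G] (P : Sylow 2 G) :
    IsMulCommutative (P : Subgroup G) ↔ ∀ x : G, (∃ k : ℕ, orderOf x = 2 ^ k) → (∃ Q : Sylow 2 G, (Q : Subgroup G) ≤ Subgroup.centralizer ({x} : Set G)) := by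
  constructor
  · intro hc x hx
    obtain ⟨k, hk⟩ := hx
    have hzp : IsPGroup 2 (Subgroup.zpowers x) := by
      apply IsPGroup.of_card (n := k)
      rw [Nat.card_zpowers, hk]
    obtain ⟨Q₀, hQ₀⟩ := hzp.exists_le_sylow
    refine ⟨Q₀, ?_⟩
    obtain ⟨t, ht⟩ := MulAction.exists_smul_eq G P Q₀
    intro y hy
    rw [Subgroup.mem_centralizer_singleton_iff]
    have hxQ : x ∈ Q₀ := hQ₀ (Subgroup.mem_zpowers x)
    have hyQ : y ∈ Q₀ := hy
    rw [← ht, H1.CaminaHerzog.mem_smul_sylow] at hxQ hyQ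
    have := hc.is_comm.comm (⟨t⁻¹ * y * t, hyQ⟩ : (P : Subgroup G)) ⟨t⁻¹ * x * t, hxQ⟩
    have h2 : (t⁻¹ * y * t) * (t⁻¹ * x * t) = (t⁻¹ * x * t) * (t⁻¹ * y * t) :=
      congrArg Subtype.val this
    calc y * x = t * ((t⁻¹ * y * t) * (t⁻¹ * x * t)) * t⁻¹ := by group
      _ = t * ((t⁻¹ * x * t) * (t⁻¹ * y * t)) * t⁻¹ := by rw [h2]
      _ = x * y := by group
  · intro hP
    exact ⟨⟨fun a b => Subtype.ext (H1.CaminaHerzog.main hP P a.1 a.2 b.1 b.2)⟩⟩

end Cfsg.Agent.S4194
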