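import Mathlib
import Cfsg.Statements.S4195
import Cfsg.Agent.H2.Basic
import Cfsg.Agent.H2.SylowExtra

set_option autoImplicit false
open Cfsg

namespace Cfsg.Agent.S4195

open Cfsg.Agent.H2

/-- Let x be a non-identity element of a finite group G whose centralizer contains a Sylow 2-subgroup of G. If x is conjugate to its inverse, then x has order 2. -/
theorem result {G : Type*} [Group G] [Finite G] (x : G) (hx : x ≠ 1) (P : Sylow 2 G) (hP : (P : Subgroup G) ≤ Subgroup.centralizer ({x} : Set G)) (hreal : IsConj x x⁻¹) : orderOf x = 2 := by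
  haveI : Fact (Nat.Prime 2) := ⟨Nat.prime_two⟩
  obtain ⟨g, hg⟩ := isConj_iff.1 hreal
  set C := Subgroup.centralizer ({x} : Set G) with hC
  have hg' : g⁻¹ * x * g = x⁻¹ := by
    have : x = g⁻¹ * x⁻¹ * g := by rw [← hg]; group
    calc g⁻¹ * x * g = (g⁻¹ * x⁻¹ * g)⁻¹ := by group
      _ = x⁻¹ := by rw [← this]
  -- Y = gPg⁻¹ ≤ C
  have hYC : (P : Subgroup G).map (MulAut.conj g).toMonoidHom ≤ C := by
    intro y hy
    rw [mem_map_conj_iff] at hy
    have h1 := hP hy
    rw [Subgroup.mem_centralizer_singleton_iff] at h1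
    rw [hC, Subgroup.mem_centralizer_singleton_iff]
    -- (g⁻¹ y g) x = x (g⁻¹ y g)  ⟹ y (g x g⁻¹) = (g x g⁻¹) y ⟹ y x⁻¹ = x⁻¹ y
    have h2 : y * x⁻¹ = x⁻¹ * y := by
      rw [← hg]
      calc y * (g * x * g⁻¹) = g * ((g⁻¹ * y * g) * x) * g⁻¹ := by group
        _ = g * (x * (g⁻¹ * y * g)) * g⁻¹ := by rw [h1]
        _ = g * x * g⁻¹ * y := by group
    calc y * x = x * (x⁻¹ * y) * x := by group
      _ = x * (y * x⁻¹) * x := by rw [h2]
      _ = x * y := by group
  obtain ⟨k, hkC, hk⟩ := exists_conj_le_sylow_of_le P C hP _ (P.2.map _) hYC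
  rw [← map_conj_mul] at hk
  have hn : k * g ∈ Subgroup.normalizer ((P : Subgroup G) : Set G) :=
    (map_conj_eq_self_iff_mem_normalizer _ _).1 (map_conj_eq_of_le _ _ hk)
  have hnx : (k * g) * x * (k * g)⁻¹ = x⁻¹ := by
    rw [hC, Subgroup.mem_centralizer_singleton_iff] at hkC
    calc (k * g) * x * (k * g)⁻¹ = k * (g * x * g⁻¹) * k⁻¹ := by group
      _ = k * x⁻¹ * k⁻¹ := by rw [hg]
      _ = (k * x * k⁻¹)⁻¹ := by group
      _ = (x * k * k⁻¹)⁻¹ := by rw [hkC]
      _ = x⁻¹ := by group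
  set n := k * g with hndef
  clear_value n
  obtain ⟨a, m, hm, hord⟩ := Nat.exists_eq_two_pow_mul_odd (orderOf_pos n).ne'
  have hpow : (n ^ m) ^ 2 ^ a = 1 := by
    rw [← pow_mul, mul_comm, ← hord, pow_orderOf_eq_one]
  have hmem : n ^ m ∈ (P : Subgroup G) :=
    mem_sylow_of_mem_normalizer_of_pow_eq_one P (Subgroup.pow_mem _ hn m) hpow
  have h1 := hP hmem
  rw [Subgroup.mem_centralizer_singleton_iff] at h1
  have h2 := odd_pow_inverts' hnx hm
  have h3 : x = x⁻¹ := by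
    rw [← h2, h1]; group
  have h4 : x ^ 2 = 1 := by
    rw [pow_two]
    nth_rewrite 1 [h3]
    group
  exact orderOf_eq_prime h4 hx

end Cfsg.Agent.S4195
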