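import Mathlib
import Cfsg.Statements.S4196
import Cfsg.Agent.S4195
import Cfsg.Agent.H2.ConjMap

set_option autoImplicit false
open Cfsg

namespace Cfsg.Agent.S4196

open Cfsg.Agent.H2

theorem result {G : Type*} [Group G] [Finite G] (P : Sylow 2 G) :
    (IsMulCommutative (P : Subgroup G) ∧ ∀ x ∈ (P : Subgroup G), x ^ 2 = 1) ↔
      ∀ x : G, (∃ k : ℕ, orderOf x = 2 ^ k) → (∃ Q : Sylow 2 G, (Q : Subgroup G) ≤ Subgroup.centralizer ({x} : Set G)) ∧ IsConj x x⁻¹ := by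
  haveI : Fact (Nat.Prime 2) := ⟨Nat.prime_two⟩
  constructor
  · rintro ⟨hcomm, hsq⟩ x ⟨k, hk⟩
    -- x lies in some Sylow 2-subgroup Q = u • P
    have hZ : IsPGroup 2 (Subgroup.zpowers x) := by
      apply IsPGroup.of_card (n := k)
      rw [Nat.card_zpowers, hk]
    obtain ⟨Q, hQ⟩ := hZ.exists_le_sylow
    obtain ⟨u, rfl⟩ := MulAction.exists_smul_eq G P Q
    have hxQ : x ∈ ((u • P : Sylow 2 G) : Subgroup G) := hQ (Subgroup.mem_zpowers x)
    rw [isMulCommutative_iff] at hcomm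
    refine ⟨⟨u • P, ?_⟩, ?_⟩
    · intro y hy
      rw [Subgroup.mem_centralizer_singleton_iff]
      rw [mem_sylow_smul_iff] at hxQ hy
      have := hcomm ⟨_, hy⟩ ⟨_, hxQ⟩
      have h1 : u⁻¹ * y * u * (u⁻¹ * x * u) = u⁻¹ * x * u * (u⁻¹ * y * u) := congrArg Subtype.val this
      calc y * x = u * (u⁻¹ * y * u * (u⁻¹ * x * u)) * u⁻¹ := by group
        _ = u * (u⁻¹ * x * u * (u⁻¹ * y * u)) * u⁻¹ := by rw [h1]
        _ = x * y := by group
    · rw [mem_sylow_smul_iff] at hxQ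
      have h1 := hsq _ hxQ
      have h2 : x ^ 2 = 1 := by
        calc x ^ 2 = u * (u⁻¹ * x * u) ^ 2 * u⁻¹ := by rw [pow_two, pow_two]; group
          _ = 1 := by rw [h1]; group
      have h3 : x⁻¹ = x := by
        rw [pow_two] at h2
        exact inv_eq_of_mul_eq_one_left h2
      rw [h3]
  · intro h
    have hsq : ∀ x ∈ (P : Subgroup G), x ^ 2 = 1 := by
      intro x hx
      by_cases hx1 : x = 1
      · rw [hx1]; simp
      obtain ⟨k, hk⟩ := (IsPGroup.iff_orderOf.1 P.2) ⟨x, hx⟩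
      rw [Subgroup.orderOf_mk] at hk
      obtain ⟨⟨Q, hQ⟩, hreal⟩ := h x ⟨k, hk⟩
      have := Cfsg.Agent.S4195.result x hx1 Q hQ hreal
      rw [← this]
      exact pow_orderOf_eq_one x
    refine ⟨?_, hsq⟩
    rw [isMulCommutative_iff]
    rintro ⟨a, ha⟩ ⟨b, hb⟩
    apply Subtype.ext
    show a * b = b * a
    have h1 := hsq a ha
    have h2 := hsq b hb
    have h3 := hsq (a * b) (Subgroup.mul_mem _ ha hb)
    rw [pow_two] at h1 h2 h3
    have ha' : a⁻¹ = a := inv_eq_of_mul_eq_one_left h1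
    have hb' : b⁻¹ = b := inv_eq_of_mul_eq_one_left h2
    have hab' : (a * b)⁻¹ = a * b := inv_eq_of_mul_eq_one_left h3
    calc a * b = (a * b)⁻¹ := hab'.symm
      _ = b⁻¹ * a⁻¹ := by group
      _ = b * a := by rw [ha', hb']

end Cfsg.Agent.S4196
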