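import Mathlib
import Cfsg.Statements.S4200
import Cfsg.Agent.H2.ConjOrbit
import Cfsg.Agent.H1.Card

set_option autoImplicit false

namespace Cfsg.Agent.S4200

open Cfsg.Agent.H2

section

variable {X : Type*} [Group X] [Finite X] (Y : Subgroup X)

/-- number of pairs `(a, b) ∈ A × B` with `R a b`, as a sum over `a` -/
theorem card_pairs {A B : Type*} [Fintype A] [Finite B] (R : A → B → Prop) :
    Nat.card {p : A × B // R p.1 p.2} = ∑ a : A, Nat.card {b : B // R a b} := by
  rw [Nat.card_congr (Equiv.subtypeProdEquivSigmaSubtype R), Nat.card_sigma]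

theorem card_pairs' {A B : Type*} [Finite A] [Fintype B] (R : A → B → Prop) :
    Nat.card {p : A × B // R p.1 p.2} = ∑ b : B, Nat.card {a : A // R a b} := by
  rw [← card_pairs (fun b a => R a b)]
  apply Nat.card_congr
  exact { toFun := fun p => ⟨(p.1.2, p.1.1), p.2⟩
          invFun := fun p => ⟨(p.1.2, p.1.1), p.2⟩
          left_inv := fun _ => rfl
          right_inv := fun _ => rfl }

theorem card_commute_X (x : X) :
    Nat.card {b : X // Commute x b} = Nat.card (Subgroup.centralizer ({x} : Set X)) := by
  apply Nat.card_congr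
  refine Equiv.subtypeEquivRight ?_
  intro b
  rw [Subgroup.mem_centralizer_iff]
  constructor
  · intro h y hy
    rw [Set.mem_singleton_iff] at hy
    subst hy
    exact h
  · intro h
    exact h x (Set.mem_singleton x)

theorem card_commute_X' (x : X) :
    Nat.card {b : X // Commute b x} = Nat.card (Subgroup.centralizer ({x} : Set X)) := by
  rw [← card_commute_X]
  apply Nat.card_congr
  exact Equiv.subtypeEquivRight (fun b => ⟨fun h => h.symm, fun h => h.symm⟩)

theorem card_commute_Y (x : X) :
    Nat.card {b : Y // Commute x (b : X)} =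
      Nat.card (Y ⊓ Subgroup.centralizer ({x} : Set X) : Subgroup X) := by
  apply Nat.card_congr
  refine { toFun := fun b => ⟨(b.1 : X), b.1.2, ?_⟩
           invFun := fun c => ⟨⟨(c : X), c.2.1⟩, ?_⟩
           left_inv := fun _ => rfl
           right_inv := fun _ => rfl }
  · show (b.1 : X) ∈ Subgroup.centralizer ({x} : Set X)
    rw [Subgroup.mem_centralizer_iff]
    intro y hy
    rw [Set.mem_singleton_iff] at hy
    subst hy
    exact b.2
  · exact Subgroup.mem_centralizer_iff.1 c.2.2 x (Set.mem_singleton x)

theorem card_commute_YY (y : Y) :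
    Nat.card {b : Y // Commute y b} =
      Nat.card (Y ⊓ Subgroup.centralizer ({(y : X)} : Set X) : Subgroup X) := by
  rw [← card_commute_Y]
  apply Nat.card_congr
  refine Equiv.subtypeEquivRight ?_
  intro b
  constructor
  · intro h
    exact congrArg Subtype.val h
  · intro h
    exact Subtype.ext h

/-- `|C| ≤ [X : Y] |C ∩ Y|` -/
theorem card_le_index_mul (C : Subgroup X) :
    Nat.card C ≤ Y.index * Nat.card (Y ⊓ C : Subgroup X) := by
  rw [Cfsg.Agent.H1.card_eq_relIndex_mul_card (inf_le_right : Y ⊓ C ≤ C), Subgroup.inf_relIndex_right]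
  apply Nat.mul_le_mul_right
  have := Subgroup.relIndex_le_of_le_right (H := Y) (le_top : C ≤ ⊤)
    (by rw [Subgroup.relIndex_top_right]; exact Subgroup.index_ne_zero_of_finite)
  rwa [Subgroup.relIndex_top_right] at this

end

/-- Let Y be a subgroup of the finite group X, of index m. Then the numbers of conjugacy classes satisfy k(Y) ≤ m·k(X) and k(X) ≤ m·k(Y), and the second inequality is strict unless Y is normal in X. -/
theorem result {X : Type*} [Group X] [Finite X] (Y : Subgroup X) : Nat.card (ConjClasses Y) ≤ Y.index * Nat.card (ConjClasses X) ∧ Nat.card (ConjClasses X) ≤ Y.index * Nat.card (ConjClasses Y) ∧ (¬ Y.Normal → Nat.card (ConjClasses X) < Y.index * Nat.card (ConjClasses Y)) := by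
  have : Fintype X := Fintype.ofFinite X
  have : Fintype Y := Fintype.ofFinite Y
  have hX := card_comm_eq_card_conjClasses_mul_card X
  have hY := card_comm_eq_card_conjClasses_mul_card Y
  have hidx : Nat.card Y * Y.index = Nat.card X := Y.card_mul_index
  have hYpos : 0 < Nat.card Y := Nat.card_pos
  have hXpos : 0 < Nat.card X := Nat.card_pos
  have hmpos : 0 < Y.index := Nat.pos_of_ne_zero Subgroup.index_ne_zero_of_finite
  -- sums
  have sA : Nat.card {p : X × X // Commute p.1 p.2} =
      ∑ x : X, Nat.card (Subgroup.centralizer ({x} : Set X)) := by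
    rw [card_pairs (fun a b : X => Commute a b)]
    exact Finset.sum_congr rfl (fun x _ => card_commute_X x)
  have sM1 : Nat.card {p : X × Y // Commute p.1 (p.2 : X)} =
      ∑ x : X, Nat.card (Y ⊓ Subgroup.centralizer ({x} : Set X) : Subgroup X) := by
    rw [card_pairs (fun (a : X) (b : Y) => Commute a (b : X))]
    exact Finset.sum_congr rfl (fun x _ => card_commute_Y Y x)
  have sM2 : Nat.card {p : X × Y // Commute p.1 (p.2 : X)} =
      ∑ y : Y, Nat.card (Subgroup.centralizer ({(y : X)} : Set X)) := by
    rw [card_pairs' (fun (a : X) (b : Y) => Commute a (b : X))]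
    exact Finset.sum_congr rfl (fun y _ => card_commute_X' (y : X))
  have sB : Nat.card {p : Y × Y // Commute p.1 p.2} =
      ∑ y : Y, Nat.card (Y ⊓ Subgroup.centralizer ({(y : X)} : Set X) : Subgroup X) := by
    rw [card_pairs (fun a b : Y => Commute a b)]
    exact Finset.sum_congr rfl (fun y _ => card_commute_YY Y y)
  -- inequalities
  have i1 : Nat.card {p : X × X // Commute p.1 p.2} ≤
      Y.index * Nat.card {p : X × Y // Commute p.1 (p.2 : X)} := by
    rw [sA, sM1, Finset.mul_sum]
    exact Finset.sum_le_sum (fun x _ => card_le_index_mul Y _)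
  have i2 : Nat.card {p : X × Y // Commute p.1 (p.2 : X)} ≤
      Y.index * Nat.card {p : Y × Y // Commute p.1 p.2} := by
    rw [sM2, sB, Finset.mul_sum]
    exact Finset.sum_le_sum (fun y _ => card_le_index_mul Y _)
  have i3 : Nat.card {p : Y × Y // Commute p.1 p.2} ≤ Nat.card {p : X × Y // Commute p.1 (p.2 : X)} := by
    rw [sB, sM2]
    apply Finset.sum_le_sum
    intro y _
    exact Subgroup.card_le_of_le inf_le_right
  have i4 : Nat.card {p : X × Y // Commute p.1 (p.2 : X)} ≤ Nat.card {p : X × X // Commute p.1 p.2} := by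
    rw [sM1, sA]
    apply Finset.sum_le_sum
    intro y _
    exact Subgroup.card_le_of_le inf_le_right
  refine ⟨?_, ?_, ?_⟩
  · -- k(Y)|Y| ≤ k(X)|X| = k(X) m |Y|
    have h1 := i3.trans i4
    rw [hX, hY, ← hidx] at h1
    have h2 : Nat.card (ConjClasses Y) * Nat.card Y ≤
        (Y.index * Nat.card (ConjClasses X)) * Nat.card Y := by
      calc _ ≤ Nat.card (ConjClasses X) * (Nat.card Y * Y.index) := h1
        _ = _ := by ring
    exact Nat.le_of_mul_le_mul_right h2 hYpos
  · have h1 : Nat.card {p : X × X // Commute p.1 p.2} ≤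
        Y.index * (Y.index * Nat.card {p : Y × Y // Commute p.1 p.2}) :=
      i1.trans (Nat.mul_le_mul_left _ i2)
    rw [hX, hY, ← hidx] at h1
    have h2 : Nat.card (ConjClasses X) * (Nat.card Y * Y.index) ≤
        (Y.index * Nat.card (ConjClasses Y)) * (Nat.card Y * Y.index) := by
      calc _ ≤ Y.index * (Y.index * (Nat.card (ConjClasses Y) * Nat.card Y)) := h1
        _ = _ := by ring
    exact Nat.le_of_mul_le_mul_right h2 (Nat.mul_pos hYpos hmpos)
  · intro hnn
    -- some strict term
    have hstrict : ∃ y : Y, Nat.card (Subgroup.centralizer ({(y : X)} : Set X)) <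
        Y.index * Nat.card (Y ⊓ Subgroup.centralizer ({(y : X)} : Set X) : Subgroup X) := by
      by_contra hcon
      push Not at hcon
      apply hnn
      constructor
      intro y hy g
      have heq : Nat.card (Subgroup.centralizer ({y} : Set X)) =
          Y.index * Nat.card (Y ⊓ Subgroup.centralizer ({y} : Set X) : Subgroup X) :=
        le_antisymm (card_le_index_mul Y _) (hcon ⟨y, hy⟩)
      have h1 := card_eq_card_conjOrbit_mul (⊤ : Subgroup X) y
      have h2 := card_eq_card_conjOrbit_mul Y y
      rw [top_inf_eq, Subgroup.card_top, heq, ← hidx, h2] at h1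
      have h3 : Nat.card (conjOrbit Y y) = Nat.card (conjOrbit (⊤ : Subgroup X) y) := by
        have hpos : 0 < Nat.card (Y ⊓ Subgroup.centralizer ({y} : Set X) : Subgroup X) * Y.index :=
          Nat.mul_pos Nat.card_pos hmpos
        apply Nat.eq_of_mul_eq_mul_right hpos
        rw [← mul_assoc, h1]; ring
      have hsub : conjOrbit Y y ⊆ conjOrbit (⊤ : Subgroup X) y := by
        rintro _ ⟨u, _, rfl⟩
        exact ⟨u, trivial, rfl⟩
      have heq2 : conjOrbit Y y = conjOrbit (⊤ : Subgroup X) y := by
        apply Set.eq_of_subset_of_ncard_le hsub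
        rw [← Nat.card_coe_set_eq, ← Nat.card_coe_set_eq, h3]
      have : g * y * g⁻¹ ∈ conjOrbit Y y := by
        rw [heq2]; exact ⟨g, trivial, rfl⟩
      obtain ⟨u, hu, e⟩ := this
      rw [e]
      exact Y.mul_mem (Y.mul_mem hu hy) (Y.inv_mem hu)
    obtain ⟨y₀, hy₀⟩ := hstrict
    have i2' : Nat.card {p : X × Y // Commute p.1 (p.2 : X)} <
        Y.index * Nat.card {p : Y × Y // Commute p.1 p.2} := by
      rw [sM2, sB, Finset.mul_sum]
      exact Finset.sum_lt_sum (fun y _ => card_le_index_mul Y _) ⟨y₀, Finset.mem_univ _, hy₀⟩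
    have h1 : Nat.card {p : X × X // Commute p.1 p.2} <
        Y.index * (Y.index * Nat.card {p : Y × Y // Commute p.1 p.2}) :=
      lt_of_le_of_lt i1 (Nat.mul_lt_mul_of_pos_left i2' hmpos)
    rw [hX, hY, ← hidx] at h1
    have h2 : Nat.card (ConjClasses X) * (Nat.card Y * Y.index) <
        (Y.index * Nat.card (ConjClasses Y)) * (Nat.card Y * Y.index) := by
      calc _ < Y.index * (Y.index * (Nat.card (ConjClasses Y) * Nat.card Y)) := h1
        _ = _ := by ring
    exact Nat.lt_of_mul_lt_mul_right h2

end Cfsg.Agent.S4200
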