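import Mathlib
import Cfsg.Statements.S4201
import Cfsg.Agent.S4200

set_option autoImplicit false

namespace Cfsg.Agent.S4201

open Cfsg.Agent.S4200

section

variable {X : Type*} [Group X] [Finite X] (N : Subgroup X) [N.Normal]

/-- the elements of a coset commuting with `z` are at most as many as the elements of `N`
commuting with `z` -/
theorem card_coset_commute_le (a : X ⧸ N) (z : X) :
    Nat.card {x : {x : X // (QuotientGroup.mk x : X ⧸ N) = a} // Commute z (x : X)} ≤
      Nat.card {n : N // Commute z (n : X)} := by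
  by_cases hne : Nonempty {x : {x : X // (QuotientGroup.mk x : X ⧸ N) = a} // Commute z (x : X)}
  · obtain ⟨x₀⟩ := hne
    apply Nat.card_le_card_of_injective
      (fun x => (⟨⟨(x₀.1.1)⁻¹ * x.1.1, ?_⟩, ?_⟩ : {n : N // Commute z (n : X)}))
    · intro x y hxy
      have h1 : (x₀.1.1)⁻¹ * x.1.1 = (x₀.1.1)⁻¹ * y.1.1 := congrArg (fun t => (t.1 : X)) hxy
      exact Subtype.ext (Subtype.ext (mul_left_cancel h1))
    · rw [← QuotientGroup.eq, x₀.1.2, x.1.2]
    · exact (x₀.2.inv_right).mul_right x.2
  · rw [not_nonempty_iff] at hne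
    rw [Nat.card_of_isEmpty]
    exact Nat.zero_le _

theorem card_coset_commute_le' (a : X ⧸ N) (z : X) :
    Nat.card {x : {x : X // (QuotientGroup.mk x : X ⧸ N) = a} // Commute (x : X) z} ≤
      Nat.card {n : N // Commute (n : X) z} := by
  have h1 : Nat.card {x : {x : X // (QuotientGroup.mk x : X ⧸ N) = a} // Commute (x : X) z} =
      Nat.card {x : {x : X // (QuotientGroup.mk x : X ⧸ N) = a} // Commute z (x : X)} :=
    Nat.card_congr (Equiv.subtypeEquivRight (fun b => ⟨fun h => h.symm, fun h => h.symm⟩))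
  have h2 : Nat.card {n : N // Commute (n : X) z} = Nat.card {n : N // Commute z (n : X)} :=
    Nat.card_congr (Equiv.subtypeEquivRight (fun b => ⟨fun h => h.symm, fun h => h.symm⟩))
  rw [h1, h2]
  exact card_coset_commute_le N a z

/-- commuting pairs in a pair of cosets are at most as many as commuting pairs in `N` -/
theorem card_fiber_le (a b : X ⧸ N) :
    Nat.card {p : {x : X // (QuotientGroup.mk x : X ⧸ N) = a} ×
        {y : X // (QuotientGroup.mk y : X ⧸ N) = b} // Commute (p.1 : X) (p.2 : X)} ≤
      Nat.card {p : N × N // Commute p.1 p.2} := by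
  have : Fintype {x : X // (QuotientGroup.mk x : X ⧸ N) = a} := Fintype.ofFinite _
  have : Fintype N := Fintype.ofFinite _
  calc Nat.card {p : {x : X // (QuotientGroup.mk x : X ⧸ N) = a} ×
        {y : X // (QuotientGroup.mk y : X ⧸ N) = b} // Commute (p.1 : X) (p.2 : X)}
      = ∑ x : {x : X // (QuotientGroup.mk x : X ⧸ N) = a},
          Nat.card {y : {y : X // (QuotientGroup.mk y : X ⧸ N) = b} // Commute (x : X) (y : X)} :=
        card_pairs (fun (x : {x : X // (QuotientGroup.mk x : X ⧸ N) = a})
          (y : {y : X // (QuotientGroup.mk y : X ⧸ N) = b}) => Commute (x : X) (y : X))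
    _ ≤ ∑ x : {x : X // (QuotientGroup.mk x : X ⧸ N) = a},
          Nat.card {n : N // Commute (x : X) (n : X)} :=
        Finset.sum_le_sum (fun x _ => card_coset_commute_le N b (x : X))
    _ = Nat.card {p : {x : X // (QuotientGroup.mk x : X ⧸ N) = a} × N //
          Commute (p.1 : X) (p.2 : X)} :=
        (card_pairs (fun (x : {x : X // (QuotientGroup.mk x : X ⧸ N) = a}) (n : N) =>
          Commute (x : X) (n : X))).symm
    _ = ∑ n : N, Nat.card {x : {x : X // (QuotientGroup.mk x : X ⧸ N) = a} //
          Commute (x : X) (n : X)} :=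
        card_pairs' (fun (x : {x : X // (QuotientGroup.mk x : X ⧸ N) = a}) (n : N) =>
          Commute (x : X) (n : X))
    _ ≤ ∑ n : N, Nat.card {m : N // Commute (m : X) (n : X)} :=
        Finset.sum_le_sum (fun n _ => card_coset_commute_le' N a (n : X))
    _ = Nat.card {p : N × N // Commute (p.1 : X) (p.2 : X)} :=
        (card_pairs' (fun (m : N) (n : N) => Commute (m : X) (n : X))).symm
    _ = Nat.card {p : N × N // Commute p.1 p.2} := by
        apply Nat.card_congr
        refine Equiv.subtypeEquivRight ?_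
        intro p
        constructor
        · intro h; exact Subtype.ext h
        · intro h; exact congrArg Subtype.val h

end

/-- If N is a normal subgroup of the finite group X then k(X) ≤ k(N)·k(X ⧸ N), where k denotes the number of conjugacy classes. -/
theorem result {X : Type*} [Group X] [Finite X] (N : Subgroup X) [N.Normal] : Nat.card (ConjClasses X) ≤ Nat.card (ConjClasses N) * Nat.card (ConjClasses (X ⧸ N)) := by
  have hX := card_comm_eq_card_conjClasses_mul_card X
  have hN := card_comm_eq_card_conjClasses_mul_card N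
  have hQ := card_comm_eq_card_conjClasses_mul_card (X ⧸ N)
  have hcard : Nat.card X = Nat.card (X ⧸ N) * Nat.card N :=
    Subgroup.card_eq_card_quotient_mul_card_subgroup N
  have : Fintype {p : (X ⧸ N) × (X ⧸ N) // Commute p.1 p.2} := Fintype.ofFinite _
  -- the map on commuting pairs
  let f : {p : X × X // Commute p.1 p.2} → {p : (X ⧸ N) × (X ⧸ N) // Commute p.1 p.2} :=
    fun p => ⟨((QuotientGroup.mk p.1.1 : X ⧸ N), (QuotientGroup.mk p.1.2 : X ⧸ N)), by
      have := p.2
      show (QuotientGroup.mk' N p.1.1) * (QuotientGroup.mk' N p.1.2) =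
        (QuotientGroup.mk' N p.1.2) * (QuotientGroup.mk' N p.1.1)
      rw [← map_mul, ← map_mul, this.eq]⟩
  have hsum : Nat.card {p : X × X // Commute p.1 p.2} =
      ∑ t : {p : (X ⧸ N) × (X ⧸ N) // Commute p.1 p.2},
        Nat.card {p : {p : X × X // Commute p.1 p.2} // f p = t} := by
    rw [← Nat.card_sigma]
    exact Nat.card_congr (Equiv.sigmaFiberEquiv f).symm
  have hfib : ∀ t : {p : (X ⧸ N) × (X ⧸ N) // Commute p.1 p.2},
      Nat.card {p : {p : X × X // Commute p.1 p.2} // f p = t} ≤
        Nat.card {p : N × N // Commute p.1 p.2} := by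
    intro t
    refine le_trans ?_ (card_fiber_le N t.1.1 t.1.2)
    apply Nat.card_le_card_of_injective (fun p =>
      (⟨(⟨p.1.1.1, congrArg (fun s => s.1.1) p.2⟩, ⟨p.1.1.2, congrArg (fun s => s.1.2) p.2⟩), p.1.2⟩ :
        {p : {x : X // (QuotientGroup.mk x : X ⧸ N) = t.1.1} ×
        {y : X // (QuotientGroup.mk y : X ⧸ N) = t.1.2} // Commute (p.1 : X) (p.2 : X)}))
    intro p q hpq
    have h1 : p.1.1.1 = q.1.1.1 := congrArg (fun s => (s.1.1 : X)) hpq
    have h2 : p.1.1.2 = q.1.1.2 := congrArg (fun s => (s.1.2 : X)) hpq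
    exact Subtype.ext (Subtype.ext (Prod.ext h1 h2))
  have hle : Nat.card {p : X × X // Commute p.1 p.2} ≤
      Nat.card {p : (X ⧸ N) × (X ⧸ N) // Commute p.1 p.2} *
        Nat.card {p : N × N // Commute p.1 p.2} := by
    rw [hsum]
    calc _ ≤ ∑ _t : {p : (X ⧸ N) × (X ⧸ N) // Commute p.1 p.2},
          Nat.card {p : N × N // Commute p.1 p.2} := Finset.sum_le_sum (fun t _ => hfib t)
      _ = _ := by
        rw [Finset.sum_const, Finset.card_univ, smul_eq_mul, ← Nat.card_eq_fintype_card]
  rw [hX, hN, hQ, hcard] at hle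
  have hpos : 0 < Nat.card (X ⧸ N) * Nat.card N := Nat.mul_pos Nat.card_pos Nat.card_pos
  apply Nat.le_of_mul_le_mul_right _ hpos
  calc _ ≤ _ := hle
    _ = _ := by ring

end Cfsg.Agent.S4201
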