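import Mathlib
import Cfsg.Statements.S4203
import Cfsg.Agent.H1.PrimeIndex
import Cfsg.Agent.Lib.helper3.Burnside

set_option autoImplicit false
open Cfsg

namespace Cfsg.Agent.S4203

open Cfsg.Agent.H1

/-- arithmetic: a prime or prime square `≡ 1 mod p` with the prime at most `p` forces `p = 3` -/
theorem arith {p q i : ℕ} (hp : p.Prime) (hq : q.Prime) (hqp : q ≤ p) (hi : i = q ∨ i = q ^ 2)
    (hmod : i ≡ 1 [MOD p]) : p = 3 := by
  have hq2 := hq.two_le
  have hp2 := hp.two_le
  rcases hi with hi | hi
  · -- `q ≡ 1 mod p` with `2 ≤ q ≤ p` is impossible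
    exfalso
    rw [hi] at hmod
    rcases Nat.lt_or_ge q p with hlt | hge
    · have := Nat.ModEq.eq_of_lt_of_lt hmod hlt hp.one_lt
      omega
    · have heq : q = p := le_antisymm hqp hge
      rw [heq] at hmod
      have : p % p = 1 % p := hmod
      rw [Nat.mod_self, Nat.mod_eq_of_lt hp.one_lt] at this
      omega
  · -- `p ∣ q ^ 2 - 1 = (q - 1) (q + 1)`
    rw [hi] at hmod
    have h1 : p ∣ q ^ 2 - 1 := (Nat.modEq_iff_dvd' (Nat.one_le_pow _ _ hq.pos)).1 hmod.symm
    have h2 : q ^ 2 - 1 = (q - 1) * (q + 1) := by
      obtain ⟨k, rfl⟩ : ∃ k, q = k + 1 := ⟨q - 1, by omega⟩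
      have : (k + 1) ^ 2 = (k + 1 - 1) * (k + 1 + 1) + 1 := by
        simp only [Nat.add_sub_cancel]; ring
      omega
    rw [h2] at h1
    rcases (Nat.Prime.dvd_mul hp).1 h1 with h | h
    · have := Nat.le_of_dvd (by omega) h
      omega
    · have h3 := Nat.le_of_dvd (by omega) h
      have h4 : p = q + 1 ∨ p = q := by omega
      rcases h4 with h4 | h4
      · -- consecutive primes
        rcases Nat.even_or_odd q with he | ho
        · have : q = 2 := (Nat.Prime.even_iff hq).1 he
          omega
        · have hpe : Even p := by rw [h4]; exact ho.add_one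
          have : p = 2 := (Nat.Prime.even_iff hp).1 hpe
          omega
      · rw [h4] at h
        have := (Nat.dvd_add_right (dvd_refl q)).1 h
        have := Nat.le_of_dvd (by omega) this
        omega

theorem solvable_aux.{u} : ∀ n : ℕ, ∀ (G : Type u) [Group G] [Finite G], Nat.card G = n →
    (∀ M : Subgroup G, IsCoatom M → ∃ p : ℕ, p.Prime ∧ (M.index = p ∨ M.index = p ^ 2)) →
    Group.IsSolvable G := by
  intro n
  induction n using Nat.strong_induction_on with
  | _ n ih =>
    intro G _ _ hn h
    by_cases htriv : Nat.card G = 1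
    · have : Subsingleton G := (Nat.card_eq_one_iff_unique.mp htriv).1
      infer_instance
    -- the largest prime divisor
    have hne : (Nat.card G).primeFactors.Nonempty := by
      rw [Nat.nonempty_primeFactors]
      have : 0 < Nat.card G := Nat.card_pos
      omega
    obtain ⟨p, hpmem, hpmax⟩ : ∃ p ∈ (Nat.card G).primeFactors,
        ∀ q ∈ (Nat.card G).primeFactors, q ≤ p :=
      ⟨_, Finset.max'_mem _ hne, fun q hq => Finset.le_max' _ q hq⟩
    have hp : p.Prime := Nat.prime_of_mem_primeFactors hpmem
    have hpd : p ∣ Nat.card G := Nat.dvd_of_mem_primeFactors hpmem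
    have : Fact p.Prime := ⟨hp⟩
    obtain P : Sylow p G := default
    by_cases hPn : (P : Subgroup G).Normal
    · -- quotient
      have hPne : (P : Subgroup G) ≠ ⊥ := P.ne_bot_of_dvd_card hpd
      have hcardlt : Nat.card (G ⧸ (P : Subgroup G)) < n := by
        rw [← hn, ← Subgroup.index_eq_card, ← Subgroup.card_mul_index (P : Subgroup G)]
        have h1 : 1 < Nat.card (P : Subgroup G) := by
          rw [Subgroup.one_lt_card_iff_ne_bot]; exact hPne
        have h2 : 0 < (P : Subgroup G).index :=
          Nat.pos_of_ne_zero Subgroup.index_ne_zero_of_finite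
        nlinarith
      have hQ : Group.IsSolvable (G ⧸ (P : Subgroup G)) := by
        apply ih _ hcardlt (G ⧸ (P : Subgroup G)) rfl
        intro M hM
        have h1 := Subgroup.isCoatom_comap_of_surjective
          (QuotientGroup.mk'_surjective (P : Subgroup G)) hM
        have h2 := h _ h1
        have h3 := Subgroup.index_comap_of_surjective (H := M)
          (QuotientGroup.mk'_surjective (P : Subgroup G))
        rw [h3] at h2
        exact h2
      have hPs : Group.IsSolvable (P : Subgroup G) := by
        have := P.isPGroup'.isNilpotent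
        infer_instance
      apply Group.isSolvable_of_ker_le_range (P : Subgroup G).subtype
        (QuotientGroup.mk' (P : Subgroup G))
      rw [QuotientGroup.ker_mk', Subgroup.range_subtype]
    · -- then `p = 3` and Burnside applies
      rw [← Subgroup.normalizer_eq_top_iff] at hPn
      obtain ⟨M, hM, hNM⟩ := (eq_top_or_exists_le_coatom _).resolve_left hPn
      obtain ⟨q, hq, hqi⟩ := h M hM
      have h1 := index_modEq_one_of_normalizer_le P M hNM
      have hqd : q ∣ Nat.card G := by
        refine dvd_trans ?_ (Subgroup.index_dvd_card M)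
        rcases hqi with h | h
        · rw [h]
        · rw [h]; exact dvd_pow_self q (by norm_num)
      have hqle : q ≤ p := hpmax _ (Nat.mem_primeFactors.mpr ⟨hq, hqd, Nat.card_pos.ne'⟩)
      have hp3 : p = 3 := arith hp hq hqle hqi h1
      -- the order of `G` is `2 ^ a * 3 ^ b`
      have hfac : ∀ r ∈ (Nat.card G).primeFactors, r = 2 ∨ r = 3 := by
        intro r hr
        have hr' := hpmax r hr
        have hrp := Nat.prime_of_mem_primeFactors hr
        have := hrp.two_le
        have : r = 2 ∨ r = 3 := by omega
        exact this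
      apply Cfsg.Agent.Lib.helper3.Burnside.isSolvable_of_card_eq 2 3 Nat.prime_two Nat.prime_three
        _ G rfl
      refine ⟨(Nat.card G).factorization 2, (Nat.card G).factorization 3, ?_⟩
      have hprod := Nat.prod_factorization_pow_eq_self (Nat.card_pos (α := G)).ne'
      rw [Finsupp.prod, Nat.support_factorization] at hprod
      have hsub : (Nat.card G).primeFactors ⊆ ({2, 3} : Finset ℕ) := by
        intro r hr
        rcases hfac r hr with h | h <;> simp [h]
      rw [Finset.prod_subset hsub (by
        intro r _ hr
        have : (Nat.card G).factorization r = 0 :=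
          Finsupp.notMem_support_iff.1 (by rwa [Nat.support_factorization])
        rw [this, pow_zero])] at hprod
      rw [Finset.prod_pair (by norm_num)] at hprod
      exact hprod.symm

/-- A finite group in which every maximal subgroup has index a prime or the square of a prime is solvable. -/
theorem result {G : Type*} [Group G] [Finite G] (h : ∀ M : Subgroup G, IsCoatom M → ∃ p : ℕ, p.Prime ∧ (M.index = p ∨ M.index = p ^ 2)) : Group.IsSolvable G :=
  solvable_aux _ G rfl h

end Cfsg.Agent.S4203
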