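import Mathlib
import Cfsg.Statements.S4204

set_option autoImplicit false

namespace Cfsg.Agent.S4204

section

variable {G : Type*} [Group G]

theorem commutator_le_iff_map_le_centralizer (T : Subgroup G) [T.Normal] (A B : Subgroup G) :
    ⁅A, B⁆ ≤ T ↔ A.map (QuotientGroup.mk' T) ≤
      Subgroup.centralizer ((B.map (QuotientGroup.mk' T) : Subgroup (G ⧸ T)) : Set (G ⧸ T)) := by
  rw [← Subgroup.commutator_eq_bot_iff_le_centralizer, ← Subgroup.map_commutator,
    Subgroup.map_eq_bot_iff, QuotientGroup.ker_mk']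

theorem iSup_commutator_le {ι : Sort*} (T : Subgroup G) [T.Normal] (A : ι → Subgroup G)
    (B : Subgroup G) (h : ∀ i, ⁅A i, B⁆ ≤ T) : ⁅⨆ i, A i, B⁆ ≤ T := by
  rw [commutator_le_iff_map_le_centralizer, Subgroup.map_iSup]
  apply iSup_le
  intro i
  rw [← commutator_le_iff_map_le_centralizer]
  exact h i

theorem commutator_sup_le (T : Subgroup G) [T.Normal] (A B C : Subgroup G)
    (h1 : ⁅A, B⁆ ≤ T) (h2 : ⁅A, C⁆ ≤ T) : ⁅A, B ⊔ C⁆ ≤ T := by
  rw [Subgroup.commutator_comm, commutator_le_iff_map_le_centralizer, Subgroup.map_sup]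
  apply sup_le
  · rw [← commutator_le_iff_map_le_centralizer, Subgroup.commutator_comm]; exact h1
  · rw [← commutator_le_iff_map_le_centralizer, Subgroup.commutator_comm]; exact h2

/-- shifted lower central series, with term `0` the whole group -/
def gam (H : Subgroup G) : ℕ → Subgroup G
  | 0 => ⊤
  | a + 1 => H.lowerCentralSeries a

instance gam_normal (H : Subgroup G) [H.Normal] (a : ℕ) : (gam H a).Normal := by
  cases a with
  | zero => show (⊤ : Subgroup G).Normal; infer_instance
  | succ a => show (H.lowerCentralSeries a).Normal; infer_instance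

theorem comm_gam_le (H : Subgroup G) [H.Normal] (a : ℕ) (X : Subgroup G) (hX : X ≤ gam H a) :
    ⁅X, H⁆ ≤ gam H (a + 1) := by
  cases a with
  | zero =>
    show ⁅X, H⁆ ≤ H.lowerCentralSeries 0
    exact Subgroup.commutator_le_right X H
  | succ a =>
    show ⁅X, H⁆ ≤ H.lowerCentralSeries (a + 1)
    exact Subgroup.commutator_mono hX le_rfl

theorem gam_eq_bot (H : Subgroup G) (c a : ℕ) (hH : H.lowerCentralSeries c = ⊥) (ha : c + 1 ≤ a) :
    gam H a = ⊥ := by
  obtain ⟨a', rfl⟩ : ∃ a', a = a' + 1 := ⟨a - 1, by omega⟩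
  show H.lowerCentralSeries a' = ⊥
  rw [eq_bot_iff, ← hH]
  exact H.lowerCentralSeries_antitone (by omega)

variable (H K : Subgroup G) [H.Normal] [K.Normal]

theorem claim (n : ℕ) : (H ⊔ K).lowerCentralSeries n ≤
    ⨆ p : {p : ℕ × ℕ // p.1 + p.2 = n + 1}, gam H p.1.1 ⊓ gam K p.1.2 := by
  induction n with
  | zero =>
    rw [Subgroup.lowerCentralSeries_zero]
    apply sup_le
    · refine le_trans ?_ (le_iSup _ ⟨(1, 0), rfl⟩)
      show H ≤ H.lowerCentralSeries 0 ⊓ ⊤
      simp
    · refine le_trans ?_ (le_iSup _ ⟨(0, 1), rfl⟩)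
      show K ≤ ⊤ ⊓ K.lowerCentralSeries 0
      simp
  | succ n ih =>
    rw [Subgroup.lowerCentralSeries_succ]
    refine le_trans (Subgroup.commutator_mono ih le_rfl) ?_
    apply iSup_commutator_le
    rintro ⟨⟨a, b⟩, hab⟩
    simp only at hab
    apply commutator_sup_le
    · refine le_trans ?_ (le_iSup _ ⟨(a + 1, b), by simp only; omega⟩)
      apply le_inf
      · exact comm_gam_le H a _ inf_le_left
      · exact (Subgroup.commutator_mono inf_le_right le_rfl).trans (Subgroup.commutator_le_left _ _)
    · refine le_trans ?_ (le_iSup _ ⟨(a, b + 1), by simp only; omega⟩)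
      apply le_inf
      · exact (Subgroup.commutator_mono inf_le_left le_rfl).trans (Subgroup.commutator_le_left _ _)
      · exact comm_gam_le K b _ inf_le_right

end

/-- If `H` and `K` are normal subgroups of a finite group with `H` nilpotent of class at most `c` and `K` nilpotent of class at most `d` (the terms with index `c`, respectively `d`, of their lower central series are trivial, indices starting at `0`), then `HK` is nilpotent of class at most `c + d`. -/
theorem result {G : Type*} [Group G] [Finite G] (H K : Subgroup G) [H.Normal] [K.Normal] (c d : ℕ) (hH : H.lowerCentralSeries c = ⊥) (hK : K.lowerCentralSeries d = ⊥) : (H ⊔ K).lowerCentralSeries (c + d) = ⊥ := by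
  rw [eq_bot_iff]
  refine le_trans (claim H K (c + d)) ?_
  apply iSup_le
  rintro ⟨⟨a, b⟩, hab⟩
  simp only at hab
  by_cases h : c + 1 ≤ a
  · rw [gam_eq_bot H c a hH h]; exact inf_le_left
  · rw [gam_eq_bot K d b hK (by omega)]; exact inf_le_right

end Cfsg.Agent.S4204
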