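import Mathlib
import Cfsg.Statements.S4205

set_option autoImplicit false
open Cfsg
open scoped commutatorElement

namespace Cfsg.Agent.S4205

theorem result {G : Type*} [Group G] [Finite G] (c : ℕ) (hG : Subgroup.upperCentralSeries G c = ⊤) (H : Subgroup G) : (fun K : Subgroup G => Subgroup.normalizer (K : Set G))^[c] H = ⊤ := by
  have key : ∀ i : ℕ, Subgroup.upperCentralSeries G i ≤ (fun K : Subgroup G => Subgroup.normalizer (K : Set G))^[i] H := by
    intro i
    induction i with
    | zero => simp
    | succ i ih =>
      rw [Function.iterate_succ_apply']
      set K := (fun K : Subgroup G => Subgroup.normalizer (K : Set G))^[i] H with hK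
      have h0 : ∀ z ∈ Subgroup.upperCentralSeries G (i + 1), ∀ k ∈ K, z * k * z⁻¹ ∈ K := by
        intro z hz k hk
        rw [Subgroup.mem_upperCentralSeries_succ_iff] at hz
        have h1 := ih (hz k)
        have : z * k * z⁻¹ = ⁅z, k⁆ * k := by rw [commutatorElement_def]; group
        rw [this]
        exact K.mul_mem h1 hk
      intro z hz
      rw [Subgroup.mem_normalizer_iff]
      intro k
      constructor
      · exact h0 z hz k
      · intro hk
        have := h0 z⁻¹ (Subgroup.inv_mem _ hz) _ hk
        convert this using 1
        group
  have := key c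
  rw [hG] at this
  exact top_le_iff.1 this

end Cfsg.Agent.S4205
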