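import Mathlib
import Cfsg.Statements.S4208
import Cfsg.Agent.H2.ElemAbCount
import Cfsg.Agent.H1.Frattini

set_option autoImplicit false
open Cfsg

namespace Cfsg.Agent.S4208

open scoped commutatorElement

/-- Let `P` be a group of order `p^n` whose Frattini subgroup has index `p^r`. Then the order of the automorphism group of `P` divides `p^(r(n-r)) · (p^r - 1)(p^r - p) ⋯ (p^r - p^(r-1))`. -/
theorem result {P : Type*} [Group P] [Finite P] {p n r : ℕ} [Fact p.Prime] (hP : Nat.card P = p ^ n) (hr : (frattini P).index = p ^ r) : Nat.card (MulAut P) ∣ p ^ (r * (n - r)) * ∏ i ∈ Finset.range r, (p ^ r - p ^ i) := by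
  classical
  have hp : p.Prime := Fact.out
  have hPp : IsPGroup p P := IsPGroup.of_card hP
  have hcomm := Cfsg.Agent.H1.commutator_le_frattini hPp
  have hpow := Cfsg.Agent.H1.pow_p_mem_frattini hPp
  -- the quotient V
  let π : P →* P ⧸ frattini P := QuotientGroup.mk' (frattini P)
  have hπsurj : Function.Surjective π := QuotientGroup.mk'_surjective _
  have hπker : π.ker = frattini P := QuotientGroup.ker_mk' _
  have hmulcomm : ∀ a b : P ⧸ frattini P, a * b = b * a := by
    intro a b
    obtain ⟨a, rfl⟩ := hπsurj a
    obtain ⟨b, rfl⟩ := hπsurj b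
    rw [← map_mul, ← map_mul]
    apply (QuotientGroup.eq).mpr
    have h1 : (a * b)⁻¹ * (b * a) = ⁅b⁻¹, a⁻¹⁆ := by rw [commutatorElement_def]; group
    rw [h1]
    exact hcomm (Subgroup.commutator_mem_commutator (Subgroup.mem_top _) (Subgroup.mem_top _))
  let instV : CommGroup (P ⧸ frattini P) :=
    { (inferInstance : Group (P ⧸ frattini P)) with mul_comm := hmulcomm }
  have hexp : ∀ x : P ⧸ frattini P, x ^ p = 1 := by
    intro x
    obtain ⟨x, rfl⟩ := hπsurj x
    rw [← map_pow]
    exact (QuotientGroup.eq_one_iff _).mpr (hpow x)
  have hV : Nat.card (P ⧸ frattini P) = p ^ r := by rw [← hr, Subgroup.index_eq_card]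
  have hcount := Cfsg.Agent.H2.ElemAb.card_indep (V := P ⧸ frattini P) hexp hV r le_rfl
  -- |Φ| = p^(n-r)
  have hrn : r ≤ n := by
    have h1 : p ^ r ∣ p ^ n := by
      rw [← hr, ← hP]; exact Subgroup.index_dvd_card _
    exact (Nat.pow_dvd_pow_iff_le_right hp.one_lt).mp h1
  have hΦ : Nat.card (frattini P) = p ^ (n - r) := by
    have h1 := Subgroup.card_mul_index (frattini P)
    rw [hr, hP] at h1
    have h2 : p ^ n = p ^ (n - r) * p ^ r := by rw [← pow_add]; congr 1; omega
    rw [h2] at h1
    exact Nat.eq_of_mul_eq_mul_right (pow_pos hp.pos r) h1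
  -- generation criterion
  have hgen : ∀ y : Fin r → P, Subgroup.closure (Set.range y) = ⊤ ↔
      Nat.card (Subgroup.closure (Set.range (fun i => π (y i)))) = p ^ r := by
    intro y
    have h1 : Subgroup.closure (Set.range (fun i => π (y i))) =
        (Subgroup.closure (Set.range y)).map π := by
      rw [MonoidHom.map_closure, ← Set.range_comp]
      rfl
    rw [h1]
    constructor
    · intro h
      rw [h, Subgroup.map_top_of_surjective π hπsurj, Subgroup.card_top, hV]
    · intro h
      have h2 : (Subgroup.closure (Set.range y)).map π = ⊤ := by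
        rw [← Subgroup.card_eq_iff_eq_top, h, hV]
      apply frattini_nongenerating
      have h3 := Subgroup.comap_map_eq π (Subgroup.closure (Set.range y))
      rw [h2, Subgroup.comap_top, hπker] at h3
      exact h3.symm
  -- the set of generating r-tuples
  let Y := {y : Fin r → P // Subgroup.closure (Set.range y) = ⊤}
  have eY : Y ≃ {v : Fin r → P ⧸ frattini P //
      Nat.card (Subgroup.closure (Set.range v)) = p ^ r} × (Fin r → frattini P) :=
    { toFun := fun y => (⟨fun i => π (y.1 i), (hgen y.1).mp y.2⟩,
        fun i => ⟨(Quotient.out (π (y.1 i)))⁻¹ * y.1 i, by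
          apply (QuotientGroup.eq).mp
          exact QuotientGroup.out_eq' _⟩)
      invFun := fun q => ⟨fun i => Quotient.out (q.1.1 i) * (q.2 i : P), by
        rw [hgen]
        have : (fun i => π (Quotient.out (q.1.1 i) * (q.2 i : P))) = q.1.1 := by
          funext i
          rw [map_mul]
          have h1 : π (q.2 i : P) = 1 := (QuotientGroup.eq_one_iff _).mpr (q.2 i).2
          have h2 : π (Quotient.out (q.1.1 i)) = q.1.1 i := QuotientGroup.out_eq' _
          rw [h1, h2, mul_one]
        rw [this]
        exact q.1.2⟩
      left_inv := by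
        intro y
        apply Subtype.ext
        funext i
        simp
      right_inv := by
        rintro ⟨⟨v, hv⟩, z⟩
        have hvi : ∀ i, π (Quotient.out (v i) * (z i : P)) = v i := by
          intro i
          rw [map_mul]
          have h1 : π (z i : P) = 1 := (QuotientGroup.eq_one_iff _).mpr (z i).2
          have h2 : π (Quotient.out (v i)) = v i := QuotientGroup.out_eq' _
          rw [h1, h2, mul_one]
        apply Prod.ext
        · apply Subtype.ext
          funext i
          exact hvi i
        · funext i
          apply Subtype.ext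
          change (Quotient.out (π (Quotient.out (v i) * (z i : P))))⁻¹ *
            (Quotient.out (v i) * (z i : P)) = (z i : P)
          rw [hvi i]
          group }
  have hcardY : Nat.card Y = (∏ i ∈ Finset.range r, (p ^ r - p ^ i)) * p ^ ((n - r) * r) := by
    rw [Nat.card_congr eY, Nat.card_prod, hcount, Nat.card_fun, hΦ, ← pow_mul]
    congr 2
    simp
  -- the action of Aut P on Y
  let act : MulAut P → Y → Y := fun α y => ⟨fun i => α (y.1 i), by
    have h1 : Subgroup.closure (Set.range (fun i => α (y.1 i))) =
        (Subgroup.closure (Set.range y.1)).map α.toMonoidHom := by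
      rw [MonoidHom.map_closure, ← Set.range_comp]
      rfl
    rw [h1, y.2]
    exact Subgroup.map_top_of_surjective _ α.surjective⟩
  let inst : MulAction (MulAut P) Y :=
    { smul := act
      one_smul := by
        intro y
        apply Subtype.ext
        funext i
        rfl
      mul_smul := by
        intro α β y
        apply Subtype.ext
        funext i
        rfl }
  have hstab : ∀ y : Y, MulAction.stabilizer (MulAut P) y = ⊥ := by
    intro y
    rw [eq_bot_iff]
    intro α hα
    rw [MulAction.mem_stabilizer_iff] at hα
    have hfix : ∀ i, α (y.1 i) = y.1 i := by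
      intro i
      have := congrArg (fun z : Y => z.1 i) hα
      exact this
    have h3 : α.toMonoidHom = MonoidHom.id P := by
      apply MonoidHom.eq_of_eqOn_dense y.2
      rintro _ ⟨i, rfl⟩
      exact hfix i
    rw [Subgroup.mem_bot]
    ext x
    have := congrArg (fun f : P →* P => f x) h3
    exact this
  have e := MulAction.selfEquivOrbitsQuotientProd hstab
  have hcardY2 : Nat.card Y =
      Nat.card (Quotient (MulAction.orbitRel (MulAut P) Y)) * Nat.card (MulAut P) := by
    rw [Nat.card_congr e, Nat.card_prod]
  have h1 : Nat.card (MulAut P) ∣ Nat.card Y := by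
    rw [hcardY2]; exact Dvd.intro_left _ rfl
  rw [hcardY] at h1
  rw [mul_comm (p ^ (r * (n - r))), mul_comm r]
  exact h1

end Cfsg.Agent.S4208
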