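import Mathlib
import Cfsg.Statements.S4211
import Cfsg.Agent.Lib.Helper8.Q8Ext

set_option autoImplicit false

namespace Cfsg.Agent.S4211

section formula
variable {G : Type*} [Group G]

lemma pow_mul_comm_z {x y z : G} (h : y * x = x * y * z) (_hzx : Commute z x) (hzy : Commute z y)
    (k : ℕ) : y ^ k * x = x * y ^ k * z ^ k := by
  induction k with
  | zero => simp
  | succ k ih =>
    calc y ^ (k + 1) * x = y ^ k * (y * x) := by rw [pow_succ, mul_assoc]
      _ = y ^ k * (x * y * z) := by rw [h]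
      _ = (y ^ k * x) * y * z := by simp only [mul_assoc]
      _ = x * y ^ k * z ^ k * y * z := by rw [ih]
      _ = x * y ^ k * (z ^ k * y) * z := by simp only [mul_assoc]
      _ = x * y ^ k * (y * z ^ k) * z := by rw [(hzy.pow_left k).eq]
      _ = x * (y ^ k * y) * (z ^ k * z) := by simp only [mul_assoc]
      _ = x * y ^ (k + 1) * z ^ (k + 1) := by rw [← pow_succ, ← pow_succ]

lemma mul_pow_z {x y z : G} (h : y * x = x * y * z) (hzx : Commute z x) (hzy : Commute z y)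
    (k : ℕ) : (x * y) ^ k = x ^ k * y ^ k * z ^ (k.choose 2) := by
  induction k with
  | zero => simp
  | succ k ih =>
    have hc : (k + 1).choose 2 = k + k.choose 2 := by
      rw [Nat.choose_succ_succ, Nat.choose_one_right]
    have hz1 : Commute (z ^ k.choose 2) x := hzx.pow_left _
    have hz2 : Commute (z ^ k.choose 2) y := hzy.pow_left _
    have hz3 : Commute (z ^ k) y := hzy.pow_left _
    calc (x * y) ^ (k + 1) = (x * y) ^ k * (x * y) := pow_succ _ _
      _ = x ^ k * y ^ k * z ^ k.choose 2 * (x * y) := by rw [ih]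
      _ = x ^ k * y ^ k * (z ^ k.choose 2 * x) * y := by simp only [mul_assoc]
      _ = x ^ k * y ^ k * (x * z ^ k.choose 2) * y := by rw [hz1.eq]
      _ = x ^ k * (y ^ k * x) * (z ^ k.choose 2 * y) := by simp only [mul_assoc]
      _ = x ^ k * (x * y ^ k * z ^ k) * (y * z ^ k.choose 2) := by
          rw [pow_mul_comm_z h hzx hzy k, hz2.eq]
      _ = x ^ k * x * y ^ k * (z ^ k * y) * z ^ k.choose 2 := by simp only [mul_assoc]
      _ = x ^ k * x * y ^ k * (y * z ^ k) * z ^ k.choose 2 := by rw [hz3.eq]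
      _ = (x ^ k * x) * (y ^ k * y) * (z ^ k * z ^ k.choose 2) := by simp only [mul_assoc]
      _ = x ^ (k + 1) * y ^ (k + 1) * z ^ ((k + 1).choose 2) := by
          rw [← pow_succ, ← pow_succ, ← pow_add, hc]

lemma inv_rel {x y z : G} (h : y * x = x * y * z) (hzy : Commute z y) :
    y⁻¹ * x = x * y⁻¹ * z⁻¹ := by
  apply mul_left_cancel (a := y)
  have h1 : y * (x * y⁻¹ * z⁻¹) = (y * x) * y⁻¹ * z⁻¹ := by simp only [mul_assoc]
  rw [mul_inv_cancel_left, h1, h]
  have h2 : x * y * z * y⁻¹ * z⁻¹ = x * (y * (z * y⁻¹) * z⁻¹) := by simp only [mul_assoc]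
  rw [h2, (hzy.inv_right).eq]
  simp

end formula

section dedekind
variable {K : Type*} [Group K] [Finite K]

lemma cyc_of_pow_prime {x y : K} {p n : ℕ} (hn : 1 ≤ n) (hx : orderOf x = p ^ n)
    (hp : 0 < p) (hy : y ∈ Subgroup.zpowers x) (hyp : y ^ p = 1) :
    ∃ k : ℕ, y = (x ^ p ^ (n - 1)) ^ k := by
  rw [← mem_powers_iff_mem_zpowers] at hy
  obtain ⟨j, rfl⟩ := (Submonoid.mem_powers_iff _ _).1 hy
  rw [← pow_mul] at hyp
  have h1 := orderOf_dvd_of_pow_eq_one hyp
  rw [hx] at h1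
  have h2 : p ^ n = p ^ (n - 1) * p := by
    rw [← pow_succ, Nat.sub_add_cancel hn]
  rw [h2] at h1
  have h3 : p ^ (n - 1) ∣ j := (Nat.mul_dvd_mul_iff_right hp).1 h1
  obtain ⟨k, rfl⟩ := h3
  exact ⟨k, by rw [pow_mul]⟩

theorem exists_q8 (hn : ∀ H : Subgroup K, H.Normal) (hna : ∃ x y : K, x * y ≠ y * x) :
    ∃ a b : K, orderOf a = 4 ∧ b ^ 2 = a ^ 2 ∧ b * a * b⁻¹ = a⁻¹ := by
  classical
  -- a minimal non-central element, and a minimal element not commuting with it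
  have hex : ∃ k, ∃ x : K, (∃ y, x * y ≠ y * x) ∧ orderOf x = k := by
    obtain ⟨x, y, hxy⟩ := hna; exact ⟨_, x, ⟨y, hxy⟩, rfl⟩
  obtain ⟨a, ⟨y₀, hay₀⟩, haord⟩ := Nat.find_spec hex
  have hamin : ∀ x : K, (∃ y, x * y ≠ y * x) → orderOf a ≤ orderOf x := by
    intro x hx; rw [haord]; exact Nat.find_min' hex ⟨x, hx, rfl⟩
  have hex2 : ∃ k, ∃ y : K, a * y ≠ y * a ∧ orderOf y = k := ⟨_, y₀, hay₀, rfl⟩
  obtain ⟨b, hab, hbord⟩ := Nat.find_spec hex2
  have hbmin : ∀ y : K, a * y ≠ y * a → orderOf b ≤ orderOf y := by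
    intro y hy; rw [hbord]; exact Nat.find_min' hex2 ⟨y, hy, rfl⟩
  clear haord hbord hay₀ y₀
  -- the commutator
  obtain ⟨c, hc⟩ : ∃ c : K, c = a * b * a⁻¹ * b⁻¹ := ⟨_, rfl⟩
  have hca : c ∈ Subgroup.zpowers a := by
    have h1 : b * a⁻¹ * b⁻¹ ∈ Subgroup.zpowers a :=
      (hn _).conj_mem _ (Subgroup.inv_mem _ (Subgroup.mem_zpowers a)) b
    have : c = a * (b * a⁻¹ * b⁻¹) := by rw [hc]; simp only [mul_assoc]
    rw [this]; exact Subgroup.mul_mem _ (Subgroup.mem_zpowers a) h1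
  have hcb : c ∈ Subgroup.zpowers b := by
    have h1 : a * b * a⁻¹ ∈ Subgroup.zpowers b := (hn _).conj_mem _ (Subgroup.mem_zpowers b) a
    rw [hc]
    exact Subgroup.mul_mem _ h1 (Subgroup.inv_mem _ (Subgroup.mem_zpowers b))
  have hcca : Commute c a := by
    obtain ⟨i, hi⟩ := Subgroup.mem_zpowers_iff.1 hca
    rw [← hi]; exact (Commute.refl a).zpow_left i
  have hccb : Commute c b := by
    obtain ⟨i, hi⟩ := Subgroup.mem_zpowers_iff.1 hcb
    rw [← hi]; exact (Commute.refl b).zpow_left i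
  have hcba : c * b * a = a * b := by rw [hc]; group
  have hc1 : c ≠ 1 := by
    intro h
    apply hab
    rw [← hcba, h, one_mul]
  have hrel1 : a * b = b * a * c := by
    rw [← hcba, hccb.eq, mul_assoc, hcca.eq, ← mul_assoc]
  have hrel2 : b * a = a * b * c⁻¹ := by
    rw [hrel1, mul_inv_cancel_right]
  have hpowa : ∀ k : ℕ, a ^ k * b = b * a ^ k * c ^ k := pow_mul_comm_z hrel1 hccb hcca
  have hpowb : ∀ k : ℕ, b ^ k * a = a * b ^ k * (c⁻¹) ^ k :=
    pow_mul_comm_z hrel2 hcca.inv_left hccb.inv_left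
  have hba : b * a ≠ a * b := fun h => hab h.symm
  -- orders
  have hao1 : orderOf a ≠ 1 := by
    intro h
    rw [orderOf_eq_one_iff] at h
    apply hab; rw [h]; simp
  have hbo1 : orderOf b ≠ 1 := by
    intro h
    rw [orderOf_eq_one_iff] at h
    apply hab; rw [h]; simp
  have hA : ∀ q : ℕ, q.Prime → q ∣ orderOf a → c ^ q = 1 := by
    intro q hq hqa
    have h1 : orderOf (a ^ q) < orderOf a := by
      rw [orderOf_pow_of_dvd hq.ne_zero hqa]
      exact Nat.div_lt_self (orderOf_pos a) hq.one_lt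
    have h2 : a ^ q * b = b * a ^ q := by
      by_contra h; exact absurd (hamin (a ^ q) ⟨b, h⟩) (not_le.2 h1)
    have h3 := hpowa q
    rw [h2] at h3
    exact (mul_eq_left.1 h3.symm)
  have hB : ∀ q : ℕ, q.Prime → q ∣ orderOf b → c ^ q = 1 := by
    intro q hq hqb
    have h1 : orderOf (b ^ q) < orderOf b := by
      rw [orderOf_pow_of_dvd hq.ne_zero hqb]
      exact Nat.div_lt_self (orderOf_pos b) hq.one_lt
    have h2 : a * b ^ q = b ^ q * a := by
      by_contra h; exact absurd (hbmin (b ^ q) h) (not_le.2 h1)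
    have h3 := hpowb q
    rw [← h2] at h3
    have h4 : (c⁻¹) ^ q = 1 := mul_eq_left.1 h3.symm
    rwa [inv_pow, inv_eq_one] at h4
  obtain ⟨p, hp, hpa⟩ : ∃ p : ℕ, p.Prime ∧ p ∣ orderOf a :=
    ⟨_, Nat.minFac_prime hao1, Nat.minFac_dvd _⟩
  have hpF : Fact p.Prime := ⟨hp⟩
  have hcp : orderOf c = p := orderOf_eq_prime (hA p hp hpa) hc1
  have hcpow : ∀ e : ℕ, c ^ e = 1 ↔ p ∣ e := by
    intro e; rw [← hcp]; exact (orderOf_dvd_iff_pow_eq_one).symm
  have hqa : ∀ {q : ℕ}, q.Prime → q ∣ orderOf a → q = p := by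
    intro q hq hqa
    have := (hcpow q).1 (hA q hq hqa)
    exact ((Nat.prime_dvd_prime_iff_eq hp hq).1 this).symm
  have hqb : ∀ {q : ℕ}, q.Prime → q ∣ orderOf b → q = p := by
    intro q hq hqb
    have := (hcpow q).1 (hB q hq hqb)
    exact ((Nat.prime_dvd_prime_iff_eq hp hq).1 this).symm
  obtain ⟨m, hm⟩ : ∃ m, orderOf a = p ^ m :=
    ⟨_, Nat.eq_prime_pow_of_unique_prime_dvd (orderOf_pos a).ne' hqa⟩
  obtain ⟨n, hnn⟩ : ∃ n, orderOf b = p ^ n :=
    ⟨_, Nat.eq_prime_pow_of_unique_prime_dvd (orderOf_pos b).ne' hqb⟩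
  have hm1 : 1 ≤ m := by
    rcases Nat.eq_zero_or_pos m with h | h
    · rw [h, pow_zero] at hm; exact absurd hm hao1
    · exact h
  have hmn : m ≤ n := by
    have h1 := hamin b ⟨a, hba⟩
    rw [hm, hnn] at h1
    exact (Nat.pow_le_pow_iff_right hp.one_lt).1 h1
  have hn1 : 1 ≤ n := le_trans hm1 hmn
  -- the elements of order p
  obtain ⟨A₀, hA₀⟩ : ∃ A₀ : K, A₀ = a ^ p ^ (m - 1) := ⟨_, rfl⟩
  obtain ⟨B₀, hB₀⟩ : ∃ B₀ : K, B₀ = b ^ p ^ (n - 1) := ⟨_, rfl⟩
  have hA₀ord : orderOf A₀ = p := by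
    rw [hA₀, orderOf_pow_of_dvd (pow_ne_zero _ hp.ne_zero) (by rw [hm]; exact pow_dvd_pow p (by omega)),
      hm]
    have : p ^ m = p ^ (m - 1) * p := by rw [← pow_succ, Nat.sub_add_cancel hm1]
    rw [this, Nat.mul_div_cancel_left _ (pow_pos hp.pos _)]
  have hA₀p : A₀ ^ p = 1 := by rw [← hA₀ord]; exact pow_orderOf_eq_one A₀
  obtain ⟨j, hj⟩ := cyc_of_pow_prime hm1 hm hp.pos hca ((hcpow p).2 dvd_rfl)
  rw [← hA₀] at hj
  have hzc : Subgroup.zpowers c = Subgroup.zpowers A₀ := by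
    apply Subgroup.eq_of_le_of_card_ge
    · rw [Subgroup.zpowers_le, hj]
      exact Subgroup.pow_mem _ (Subgroup.mem_zpowers A₀) j
    · rw [Nat.card_zpowers, Nat.card_zpowers, hcp, hA₀ord]
  have hA₀b : A₀ ∈ Subgroup.zpowers b := by
    have : A₀ ∈ Subgroup.zpowers c := by rw [hzc]; exact Subgroup.mem_zpowers A₀
    exact (Subgroup.zpowers_le.2 hcb) this
  obtain ⟨k, hk⟩ := cyc_of_pow_prime hn1 hnn hp.pos hA₀b hA₀p
  rw [← hB₀] at hk
  -- the modified element
  obtain ⟨w, hw⟩ : ∃ w : K, w = b ^ (k * p ^ (n - m)) := ⟨_, rfl⟩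
  have hwN : w ^ p ^ (m - 1) = A₀ := by
    rw [hw, ← pow_mul, hk, hB₀, ← pow_mul]
    congr 1
    have : p ^ (n - 1) = p ^ (n - m) * p ^ (m - 1) := by
      rw [← pow_add]; congr 1; omega
    rw [this]; ring
  have hwa : w * a = a * w * (c⁻¹) ^ (k * p ^ (n - m)) := by rw [hw]; exact hpowb _
  have hwb : Commute w b := by rw [hw]; exact (Commute.refl b).pow_left _
  have hcw : Commute c w := by rw [hw]; exact hccb.pow_right _
  have hwinv : w⁻¹ * a = a * w⁻¹ * ((c⁻¹) ^ (k * p ^ (n - m)))⁻¹ :=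
    inv_rel hwa ((hcw.inv_left).pow_left _)
  have hz : ((c⁻¹) ^ (k * p ^ (n - m)))⁻¹ = c ^ (k * p ^ (n - m)) := by
    rw [inv_pow, inv_inv]
  rw [hz] at hwinv
  have hformula := mul_pow_z hwinv ((hcca.pow_left _)) ((hcw.inv_right).pow_left _) (p ^ (m - 1))
  rw [inv_pow, hwN, ← hA₀, mul_inv_cancel, one_mul, ← pow_mul] at hformula
  -- a' is non-central, so it has order at least that of `a`
  have hnc : (a * w⁻¹) * b ≠ b * (a * w⁻¹) := by
    intro h
    apply hab
    have h1 : a * w⁻¹ * b = a * b * w⁻¹ := by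
      rw [mul_assoc, (hwb.inv_left).eq, ← mul_assoc]
    have h2 : b * (a * w⁻¹) = b * a * w⁻¹ := by rw [mul_assoc]
    rw [h1, h2] at h
    exact mul_right_cancel h
  have hord := hamin (a * w⁻¹) ⟨b, hnc⟩
  have hne : (a * w⁻¹) ^ p ^ (m - 1) ≠ 1 := by
    intro h
    have h1 := orderOf_dvd_of_pow_eq_one h
    have h2 := Nat.le_of_dvd (pow_pos hp.pos _) h1
    rw [hm] at hord
    have h3 : p ^ (m - 1) < p ^ m := Nat.pow_lt_pow_right hp.one_lt (by omega)
    omega
  rw [hformula, Ne, hcpow] at hne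
  -- arithmetic
  have hnm : n = m := by
    by_contra h
    apply hne
    have : p ∣ p ^ (n - m) := dvd_pow_self p (by omega)
    exact Dvd.dvd.mul_right (Dvd.dvd.mul_left this k) _
  subst hnm
  rw [Nat.sub_self, pow_zero, mul_one] at hne
  have hk' : ¬ p ∣ k := fun h => hne (Dvd.dvd.mul_right h _)
  have hch : ¬ p ∣ (p ^ (n - 1)).choose 2 := fun h => hne (Dvd.dvd.mul_left h _)
  have hn2 : 2 ≤ n := by
    by_contra h
    have : n = 1 := by omega
    subst this
    apply hch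
    simp
  have hp2 : p = 2 := by
    by_contra h
    apply hch
    have h1 : p ∣ p ^ (n - 1) := dvd_pow_self p (by omega)
    have h2 : (p ^ (n - 1)).choose 2 * 2 = p ^ (n - 1) * (p ^ (n - 1) - 1) := by
      rw [Nat.choose_two_right]
      exact Nat.div_mul_cancel (Nat.even_mul_pred_self _).two_dvd
    have h3 : p ∣ (p ^ (n - 1)).choose 2 * 2 := by rw [h2]; exact Dvd.dvd.mul_right h1 _
    rcases (Nat.Prime.dvd_mul hp).1 h3 with h4 | h4
    · exact h4
    · exact absurd ((Nat.prime_dvd_prime_iff_eq hp Nat.prime_two).1 h4) h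
  subst hp2
  have hn2' : n = 2 := by
    by_contra h
    have h3 : 3 ≤ n := by omega
    apply hch
    obtain ⟨t, ht⟩ : ∃ t, n - 1 = t + 2 := ⟨n - 3, by omega⟩
    rw [ht, Nat.choose_two_right]
    have h4 : 2 ^ (t + 2) * (2 ^ (t + 2) - 1) = 2 * (2 * 2 ^ t * (2 ^ (t + 2) - 1)) := by
      rw [pow_add]; ring
    rw [h4, Nat.mul_div_cancel_left _ (by norm_num : 0 < 2)]
    exact Dvd.dvd.mul_right (Dvd.dvd.mul_right (dvd_refl 2) _) _
  subst hn2'
  -- conclusion
  norm_num at hA₀ hB₀ hm hnn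
  have hkodd : k % 2 = 1 := by omega
  have hb4 : b ^ 4 = 1 := by rw [← hnn]; exact pow_orderOf_eq_one b
  have hB₀2 : B₀ ^ 2 = 1 := by
    rw [hB₀, ← pow_mul]; exact hb4
  have hAB : A₀ = B₀ := by
    rw [hk, ← Nat.div_add_mod k 2, hkodd, pow_add, pow_mul, hB₀2, one_pow, one_mul, pow_one]
  have hjodd : j % 2 = 1 := by
    by_contra h
    have h0 : j % 2 = 0 := by omega
    apply hc1
    rw [hj, ← Nat.div_add_mod j 2, h0, add_zero, pow_mul, hA₀p, one_pow]
  have hcA : c = A₀ := by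
    rw [hj, ← Nat.div_add_mod j 2, hjodd, pow_add, pow_mul, hA₀p, one_pow, one_mul, pow_one]
  refine ⟨a, b, hm, ?_, ?_⟩
  · rw [← hA₀, ← hB₀, hAB]
  · have h1 : b * a * b⁻¹ = a * c⁻¹ := by
      calc b * a * b⁻¹ = a * (b * c⁻¹) * b⁻¹ := by rw [hrel2]; simp only [mul_assoc]
        _ = a * (c⁻¹ * b) * b⁻¹ := by rw [(hccb.inv_left).eq]
        _ = a * c⁻¹ := by simp only [mul_assoc, mul_inv_cancel, mul_one]
    rw [h1, hcA, hA₀]
    have h4 : a ^ 4 = 1 := by rw [← hm]; exact pow_orderOf_eq_one a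
    have : a * (a ^ 2)⁻¹ * a = 1 * 1 := by
      rw [mul_one]
      have : a ^ 2 * (a * (a ^ 2)⁻¹ * a) = a ^ 2 := by
        have h5 : a ^ 2 * (a * (a ^ 2)⁻¹ * a) = a ^ 4 * (a ^ 2)⁻¹ := by group
        rw [h5, h4, one_mul]
        have : (a ^ 2)⁻¹ = a ^ 2 := by
          rw [inv_eq_iff_mul_eq_one, ← pow_add]; exact h4
        exact this
      exact mul_left_cancel (a := a ^ 2) (by rw [this, mul_one])
    rw [mul_one] at this
    exact eq_inv_of_mul_eq_one_left this

end dedekind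


section main
variable {G : Type*} [Group G] [Finite G]

open Cfsg.Agent.Lib.Helper8.Q8Ext

lemma q8_center : ∀ x : QuaternionGroup 2,
    x * QuaternionGroup.a 1 = QuaternionGroup.a 1 * x →
    x * QuaternionGroup.xa 0 = QuaternionGroup.xa 0 * x →
    x = 1 ∨ x = QuaternionGroup.a 2 := by decide

lemma q8_mul_a2 : ∀ x : QuaternionGroup 2, ∃ y : QuaternionGroup 2, x * QuaternionGroup.a 2 = y :=
  fun x => ⟨_, rfl⟩

/-- conjugates of an element of order four in a Dedekind group -/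
lemma conj_eq_or_inv (hn : ∀ H : Subgroup G, H.Normal) (x : G) (hx : orderOf x = 4) (g : G) :
    g * x * g⁻¹ = x ∨ g * x * g⁻¹ = x⁻¹ := by
  have h4 : x ^ 4 = 1 := by rw [← hx]; exact pow_orderOf_eq_one x
  have h2 : x ^ 2 ≠ 1 := by
    intro h
    have := orderOf_dvd_of_pow_eq_one h
    rw [hx] at this
    omega
  have h1 : g * x * g⁻¹ ∈ Subgroup.zpowers x := (hn _).conj_mem _ (Subgroup.mem_zpowers x) g
  rw [← mem_powers_iff_mem_zpowers] at h1
  obtain ⟨i, hi⟩ := (Submonoid.mem_powers_iff _ _).1 h1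
  rw [pow_eq_pow_mod i h4] at hi
  have hi4 : i % 4 < 4 := Nat.mod_lt _ (by norm_num)
  have hsq : (g * x * g⁻¹) ^ 2 = g * x ^ 2 * g⁻¹ := by rw [conj_pow]
  have hsq_ne : (g * x * g⁻¹) ^ 2 ≠ 1 := by
    rw [hsq]
    intro h
    apply h2
    have : x ^ 2 = g⁻¹ * (g * x ^ 2 * g⁻¹) * g := by group
    rw [this, h]; group
  interval_cases h : i % 4
  · exfalso; apply hsq_ne; rw [← hi]; simp
  · left; rw [← hi, pow_one]
  · exfalso; apply hsq_ne; rw [← hi, ← pow_mul]; exact h4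
  · right
    rw [← hi]
    exact eq_inv_of_mul_eq_one_left (by rw [← pow_succ]; exact h4)

theorem main (hna : ¬ IsMulCommutative G) (hn : ∀ H : Subgroup G, H.Normal) :
    ∃ Q E A : Subgroup G, Nonempty (Q ≃* QuaternionGroup 2) ∧ Cfsg.IsElementaryAbelian 2 E ∧
      IsMulCommutative A ∧ Odd (Nat.card A) ∧ E ⊓ A = ⊥ ∧ Q ⊓ (E ⊔ A) = ⊥ ∧ Q ⊔ (E ⊔ A) = ⊤ := by
  classical
  have hna' : ∃ x y : G, x * y ≠ y * x := by
    by_contra h
    apply hna
    refine ⟨⟨fun x y => ?_⟩⟩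
    by_contra hxy
    exact h ⟨x, y, hxy⟩
  obtain ⟨a, b, ha, hb2, hbab⟩ := exists_q8 hn hna'
  have ha4 : a ^ 4 = 1 := by rw [← ha]; exact pow_orderOf_eq_one a
  have ha2 : a ^ 2 ≠ 1 := by
    intro h
    have := orderOf_dvd_of_pow_eq_one h
    rw [ha] at this
    omega
  have hb4 : b ^ 4 = 1 := by
    have : b ^ 4 = (b ^ 2) ^ 2 := by rw [← pow_mul]
    rw [this, hb2, ← pow_mul]; exact ha4
  have hbo : orderOf b = 4 := by
    have h1 : orderOf b ∣ 4 := orderOf_dvd_of_pow_eq_one hb4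
    have h2 : ¬ orderOf b ∣ 2 := by
      intro h
      apply ha2
      rw [← hb2]
      exact orderOf_dvd_iff_pow_eq_one.1 h
    have h3 : orderOf b ≤ 4 := Nat.le_of_dvd (by norm_num) h1
    have h4 := orderOf_pos b
    interval_cases h : orderOf b
    · exact absurd (one_dvd 2) h2
    · exact absurd (dvd_refl 2) h2
    · omega
    · rfl
  -- relations
  have Rb : b * a = a⁻¹ * b := by
    rw [← hbab]; group
  have Rb' : a * b⁻¹ = b⁻¹ * a⁻¹ := by
    rw [← hbab]; group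
  have Ra : a * b = b⁻¹ * a := by
    have h1 : b * a * b = a := by
      rw [Rb, mul_assoc, ← sq, hb2]
      group
    calc a * b = b⁻¹ * (b * a * b) := by group
      _ = b⁻¹ * a := by rw [h1]
  have Ra' : b * a⁻¹ = a⁻¹ * b⁻¹ := by
    calc b * a⁻¹ = a⁻¹ * (a * b) * a⁻¹ := by group
      _ = a⁻¹ * (b⁻¹ * a) * a⁻¹ := by rw [Ra]
      _ = a⁻¹ * b⁻¹ := by group
  have hab_ne : a * b ≠ b * a := by
    intro h
    rw [Rb] at h
    apply ha2
    have h1 : a = a⁻¹ := mul_right_cancel h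
    rw [sq]
    nth_rewrite 1 [h1]
    group
  -- the quaternion subgroup
  have hA : a ^ (2 * 2) = 1 := ha4
  let φ : QuaternionGroup 2 →* G := lift (n := 2) hA hb2 hbab
  have hφa : φ (QuaternionGroup.a 1) = a := by
    change a ^ (1 : ZMod 4).val = a
    have : (1 : ZMod 4).val = 1 := by decide
    rw [this]; exact pow_one a
  have hφb : φ (QuaternionGroup.xa 0) = b := by
    change b * a ^ (0 : ZMod 4).val = b
    have : (0 : ZMod 4).val = 0 := by decide
    rw [this, pow_zero, mul_one]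
  have hφc : φ (QuaternionGroup.a 2) = a ^ 2 := by
    change a ^ (2 : ZMod 4).val = a ^ 2
    have : (2 : ZMod 4).val = 2 := by decide
    rw [this]
  have hφinj : Function.Injective φ := by
    rw [injective_iff_map_eq_one]
    intro x hx
    by_contra hx1
    rcases q8_min x hx1 with h | h
    · apply ha2
      rw [← hφc, ← h, map_pow, hx, one_pow]
    · apply ha2
      rw [← hφc, ← h, hx]
  obtain ⟨Q, hQ⟩ : ∃ Q : Subgroup G, Q = φ.range := ⟨_, rfl⟩
  have haQ : a ∈ Q := by rw [hQ, ← hφa]; exact ⟨_, rfl⟩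
  have hbQ : b ∈ Q := by rw [hQ, ← hφb]; exact ⟨_, rfl⟩
  obtain ⟨c, hc⟩ : ∃ c : G, c = a ^ 2 := ⟨_, rfl⟩
  have hcQ : c ∈ Q := by rw [hc]; exact Q.pow_mem haQ 2
  have hc2 : c ^ 2 = 1 := by rw [hc, ← pow_mul]; exact ha4
  have hc1 : c ≠ 1 := by rw [hc]; exact ha2
  have hca : c * a = a * c := by rw [hc]; group
  have hcb : c * b = b * c := by rw [hc, ← hb2]; group
  -- the centralizer
  obtain ⟨C, hC⟩ : ∃ C : Subgroup G, C = Subgroup.centralizer ({a, b} : Set G) := ⟨_, rfl⟩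
  have hmemC : ∀ g : G, g ∈ C ↔ a * g = g * a ∧ b * g = g * b := by
    intro g
    rw [hC, Subgroup.mem_centralizer_iff]
    constructor
    · intro h
      exact ⟨h a (by simp), h b (by simp)⟩
    · rintro ⟨h1, h2⟩ x hx
      rcases hx with rfl | rfl
      · exact h1
      · exact h2
  have hcC : c ∈ C := (hmemC c).2 ⟨hca.symm, hcb.symm⟩
  have hQC : ∀ x ∈ Q, x ∈ C → x = 1 ∨ x = c := by
    intro x hxQ hxC
    rw [hQ] at hxQ
    obtain ⟨y, rfl⟩ := hxQ
    obtain ⟨h1, h2⟩ := (hmemC _).1 hxC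
    have h3 : y * QuaternionGroup.a 1 = QuaternionGroup.a 1 * y := by
      apply hφinj
      rw [map_mul, map_mul, hφa]; exact h1.symm
    have h4 : y * QuaternionGroup.xa 0 = QuaternionGroup.xa 0 * y := by
      apply hφinj
      rw [map_mul, map_mul, hφb]; exact h2.symm
    rcases q8_center y h3 h4 with h | h
    · left; rw [h, map_one]
    · right; rw [h, hφc, hc]
  -- Step 2: G = Q C
  have hQCtop : ∀ g : G, ∃ q ∈ Q, ∃ z ∈ C, g = q * z := by
    intro g
    have Fa : g * a = a * g ∨ g * a = a⁻¹ * g := by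
      rcases conj_eq_or_inv hn a ha g with h | h
      · left
        calc g * a = (g * a * g⁻¹) * g := by group
          _ = a * g := by rw [h]
      · right
        calc g * a = (g * a * g⁻¹) * g := by group
          _ = a⁻¹ * g := by rw [h]
    have Fb : g * b = b * g ∨ g * b = b⁻¹ * g := by
      rcases conj_eq_or_inv hn b hbo g with h | h
      · left
        calc g * b = (g * b * g⁻¹) * g := by group
          _ = b * g := by rw [h]
      · right
        calc g * b = (g * b * g⁻¹) * g := by group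
          _ = b⁻¹ * g := by rw [h]
    rcases Fa with fa | fa <;> rcases Fb with fb | fb
    · exact ⟨1, Q.one_mem, g, (hmemC g).2 ⟨fa.symm, fb.symm⟩, (one_mul g).symm⟩
    · refine ⟨a, haQ, a⁻¹ * g, (hmemC _).2 ⟨?_, ?_⟩, by group⟩
      · rw [mul_assoc, fa]; group
      · calc b * (a⁻¹ * g) = (b * a⁻¹) * g := by rw [mul_assoc]
          _ = a⁻¹ * (b⁻¹ * g) := by rw [Ra']; simp only [mul_assoc]
          _ = a⁻¹ * (g * b) := by rw [fb]
          _ = a⁻¹ * g * b := by rw [mul_assoc]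
    · refine ⟨b, hbQ, b⁻¹ * g, (hmemC _).2 ⟨?_, ?_⟩, by group⟩
      · calc a * (b⁻¹ * g) = (a * b⁻¹) * g := by rw [mul_assoc]
          _ = b⁻¹ * (a⁻¹ * g) := by rw [Rb']; simp only [mul_assoc]
          _ = b⁻¹ * (g * a) := by rw [fa]
          _ = b⁻¹ * g * a := by rw [mul_assoc]
      · rw [mul_assoc, fb]; group
    · refine ⟨a * b, Q.mul_mem haQ hbQ, (a * b)⁻¹ * g, (hmemC _).2 ⟨?_, ?_⟩, by group⟩
      · calc a * ((a * b)⁻¹ * g) = (a * b⁻¹) * a⁻¹ * g := by group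
          _ = b⁻¹ * a⁻¹ * (a⁻¹ * g) := by rw [Rb']; simp only [mul_assoc]
          _ = b⁻¹ * a⁻¹ * (g * a) := by rw [fa]
          _ = (a * b)⁻¹ * g * a := by group
      · calc b * ((a * b)⁻¹ * g) = a⁻¹ * g := by group
          _ = (b⁻¹ * (b * a⁻¹)) * g := by group
          _ = b⁻¹ * a⁻¹ * (b⁻¹ * g) := by rw [Ra']; simp only [mul_assoc]
          _ = b⁻¹ * a⁻¹ * (g * b) := by rw [fb]
          _ = (a * b)⁻¹ * g * b := by group
  -- Step 3: no element of order four in C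
  have hno4 : ∀ g ∈ C, orderOf g ≠ 4 := by
    intro g hgC hg
    obtain ⟨hga, hgb⟩ := (hmemC g).1 hgC
    have hg4 : g ^ 4 = 1 := by rw [← hg]; exact pow_orderOf_eq_one g
    have hg2 : g ^ 2 ≠ 1 := by
      intro h
      have := orderOf_dvd_of_pow_eq_one h
      rw [hg] at this
      omega
    have hgb' : Commute b g := hgb
    have hy4 : (b * g) ^ 4 = 1 := by rw [hgb'.mul_pow, hb4, hg4, one_mul]
    have h1 : a * (b * g) * a⁻¹ ∈ Subgroup.zpowers (b * g) :=
      (hn _).conj_mem _ (Subgroup.mem_zpowers _) a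
    have h2 : a * (b * g) * a⁻¹ = b⁻¹ * g := by
      calc a * (b * g) * a⁻¹ = (a * b) * (g * a⁻¹) := by simp only [mul_assoc]
        _ = (b⁻¹ * a) * (a⁻¹ * g) := by
            rw [Ra]
            congr 1
            have : a⁻¹ * g = a⁻¹ * (g * a) * a⁻¹ := by group
            rw [this, ← hga]; group
        _ = b⁻¹ * g := by group
    rw [h2, ← mem_powers_iff_mem_zpowers] at h1
    obtain ⟨i, hi⟩ := (Submonoid.mem_powers_iff _ _).1 h1
    rw [pow_eq_pow_mod i hy4, hgb'.mul_pow] at hi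
    have hi4 : i % 4 < 4 := Nat.mod_lt _ (by norm_num)
    have hgb_ne : g ≠ b := by
      intro h
      rw [h] at hga
      exact hab_ne hga
    interval_cases h : i % 4
    · -- b⁻¹ g = 1
      apply hgb_ne
      have : b⁻¹ * g = 1 := by rw [← hi]; simp
      exact (inv_mul_eq_one.1 this).symm
    · -- b⁻¹ g = b g
      rw [pow_one, pow_one] at hi
      have h3 : b = b⁻¹ := mul_right_cancel hi
      apply ha2
      rw [← hb2, sq]
      nth_rewrite 1 [h3]
      group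
    · -- b⁻¹ g = b² g²
      apply hgb_ne
      have h3 : b⁻¹ = b ^ 2 * g := by
        have : b ^ 2 * g ^ 2 = b ^ 2 * g * g := by rw [sq g, mul_assoc]
        rw [this] at hi
        exact (mul_right_cancel hi).symm
      have h5 : g = (b ^ 2)⁻¹ * b⁻¹ := by rw [h3]; group
      rw [h5]
      have : (b ^ 2)⁻¹ * b⁻¹ * b ^ 4 = b := by group
      rw [hb4, mul_one] at this
      exact this
    · -- b⁻¹ g = b³ g³
      apply hg2
      have h3 : b⁻¹ * g = b ^ 3 * g ^ 2 * g := by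
        rw [← hi]
        have : g ^ 3 = g ^ 2 * g := pow_succ g 2
        rw [this, mul_assoc]
      have h5 : b⁻¹ = b ^ 3 * g ^ 2 := mul_right_cancel h3
      have h6 : g ^ 2 = (b ^ 3)⁻¹ * b⁻¹ := by rw [h5]; group
      rw [h6]
      have : (b ^ 3)⁻¹ * b⁻¹ * b ^ 4 = 1 := by group
      rw [hb4, mul_one] at this
      exact this
  -- Step 4: C is abelian
  have hCcomm : ∀ x ∈ C, ∀ y ∈ C, x * y = y * x := by
    by_contra h
    have hnaC : ∃ x y : C, x * y ≠ y * x := by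
      by_contra h'
      apply h
      intro x hx y hy
      by_contra hxy
      apply h'
      refine ⟨⟨x, hx⟩, ⟨y, hy⟩, ?_⟩
      intro h3
      exact hxy (congrArg Subtype.val h3)
    have hnC : ∀ H : Subgroup C, H.Normal := by
      intro H
      have h1 : (H.map C.subtype).Normal := hn _
      have h2 : (H.map C.subtype).comap C.subtype = H :=
        Subgroup.comap_map_eq_self_of_injective C.subtype_injective H
      rw [← h2]
      exact h1.comap _
    obtain ⟨x, -, hx, -, -⟩ := exists_q8 hnC hnaC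
    apply hno4 x.1 x.2
    rw [← hx]
    exact (Subgroup.orderOf_coe x)
  -- Step 5: decomposition of C
  obtain ⟨s, t, ht, hst⟩ := Nat.exists_eq_two_pow_mul_odd (Nat.card_pos (α := G)).ne'
  have hCpow : ∀ z ∈ C, z ^ (2 * t) = 1 := by
    intro z hz
    obtain ⟨i, u, hu, hiu⟩ := Nat.exists_eq_two_pow_mul_odd (orderOf_pos z).ne'
    have hi1 : i ≤ 1 := by
      by_contra hi
      have h4 : 4 ∣ orderOf z := by
        rw [hiu]
        have : (4 : ℕ) = 2 ^ 2 := by norm_num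
        rw [this]
        exact Dvd.dvd.mul_right (pow_dvd_pow 2 (by omega)) _
      apply hno4 (z ^ (orderOf z / 4)) (C.pow_mem hz _)
      rw [orderOf_pow_of_dvd (by
        intro h0
        have := Nat.div_eq_zero_iff.1 h0
        have h5 := Nat.le_of_dvd (orderOf_pos z) h4
        omega) (Nat.div_dvd_of_dvd h4)]
      exact Nat.div_div_self h4 (orderOf_pos z).ne'
    have hdvd : orderOf z ∣ 2 ^ s * t := by rw [← hst]; exact orderOf_dvd_natCard z
    have hut : u ∣ t := by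
      have h1 : u ∣ 2 ^ s * t := (Dvd.intro_left _ hiu.symm).trans hdvd
      have h2 : Nat.Coprime u (2 ^ s) :=
        Nat.Coprime.pow_right _ (Nat.coprime_two_right.2 hu)
      exact h2.dvd_of_dvd_mul_left h1
    apply orderOf_dvd_iff_pow_eq_one.1
    rw [hiu]
    exact Nat.mul_dvd_mul (by
      interval_cases i
      · exact one_dvd _
      · exact dvd_refl _) hut
  let E : Subgroup G :=
    { carrier := {g | g ∈ C ∧ g ^ 2 = 1}
      one_mem' := ⟨C.one_mem, one_pow _⟩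
      mul_mem' := by
        rintro x y ⟨hx, hx2⟩ ⟨hy, hy2⟩
        refine ⟨C.mul_mem hx hy, ?_⟩
        have : Commute x y := hCcomm x hx y hy
        rw [this.mul_pow, hx2, hy2, one_mul]
      inv_mem' := by
        rintro x ⟨hx, hx2⟩
        exact ⟨C.inv_mem hx, by rw [inv_pow, hx2, inv_one]⟩ }
  let A : Subgroup G :=
    { carrier := {g | g ∈ C ∧ g ^ t = 1}
      one_mem' := ⟨C.one_mem, one_pow _⟩
      mul_mem' := by
        rintro x y ⟨hx, hx2⟩ ⟨hy, hy2⟩
        refine ⟨C.mul_mem hx hy, ?_⟩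
        have : Commute x y := hCcomm x hx y hy
        rw [this.mul_pow, hx2, hy2, one_mul]
      inv_mem' := by
        rintro x ⟨hx, hx2⟩
        exact ⟨C.inv_mem hx, by rw [inv_pow, hx2, inv_one]⟩ }
  have hmemE : ∀ g, g ∈ E ↔ g ∈ C ∧ g ^ 2 = 1 := fun g => Iff.rfl
  have hmemA : ∀ g, g ∈ A ↔ g ∈ C ∧ g ^ t = 1 := fun g => Iff.rfl
  have hEA : ∀ g, g ∈ E → g ∈ A → g = 1 := by
    intro g hgE hgA
    obtain ⟨u, hu⟩ := ht
    have h1 := hgA.2
    rw [hu, pow_succ, pow_mul, hgE.2, one_pow, one_mul] at h1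
    exact h1
  have hCdec : ∀ z ∈ C, ∃ e ∈ E, ∃ x ∈ A, z = e * x := by
    intro z hz
    refine ⟨z ^ t, ⟨C.pow_mem hz _, ?_⟩, z ^ (t + 1), ⟨C.pow_mem hz _, ?_⟩, ?_⟩
    · rw [← pow_mul, mul_comm]; exact hCpow z hz
    · obtain ⟨u, hu⟩ := ht
      rw [← pow_mul]
      have : (t + 1) * t = 2 * t * (u + 1) := by rw [hu]; ring
      rw [this, pow_mul, hCpow z hz, one_pow]
    · rw [← pow_add]
      have : t + (t + 1) = 2 * t + 1 := by ring
      rw [this, pow_succ, hCpow z hz, one_mul]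
  have hcE : c ∈ E := ⟨hcC, hc2⟩
  -- a complement to ⟨c⟩ in E
  obtain ⟨E₁, -, hE₁max⟩ := Finite.exists_le_maximal
    (p := fun M : Subgroup G => M ≤ E ∧ c ∉ M) (a := ⊥)
    ⟨bot_le, by rw [Subgroup.mem_bot]; exact hc1⟩
  obtain ⟨⟨hE₁E, hcE₁⟩, hE₁m⟩ := hE₁max
  have hE₁dec : ∀ e ∈ E, e ∈ E₁ ∨ c * e ∈ E₁ := by
    intro e he
    by_contra hcon
    rw [not_or] at hcon
    obtain ⟨h1, h2⟩ := hcon
    have hnz : (Subgroup.zpowers e).Normal := hn _
    have hle : E₁ ≤ E₁ ⊔ Subgroup.zpowers e := le_sup_left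
    have hp : (E₁ ⊔ Subgroup.zpowers e) ≤ E ∧ c ∉ E₁ ⊔ Subgroup.zpowers e := by
      refine ⟨sup_le hE₁E (Subgroup.zpowers_le.2 he), ?_⟩
      intro hcm
      rw [← SetLike.mem_coe, Subgroup.mul_normal, Set.mem_mul] at hcm
      obtain ⟨e₁, he₁, z, hz, hez⟩ := hcm
      rw [SetLike.mem_coe, ← mem_powers_iff_mem_zpowers] at hz
      obtain ⟨i, rfl⟩ := (Submonoid.mem_powers_iff _ _).1 hz
      rw [pow_eq_pow_mod i he.2] at hez
      have hi2 : i % 2 < 2 := Nat.mod_lt _ (by norm_num)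
      interval_cases h : i % 2
      · rw [pow_zero, mul_one] at hez
        rw [← hez] at hcE₁
        exact hcE₁ he₁
      · rw [pow_one] at hez
        apply h2
        have hcomm : Commute e₁ e := hCcomm e₁ (hE₁E he₁).1 e he.1
        have : c * e = e₁ := by
          rw [← hez, mul_assoc, ← sq, he.2, mul_one]
        rw [this]; exact he₁
    have := hE₁m hp hle
    exact h1 (this (Subgroup.mem_sup_right (Subgroup.mem_zpowers e)))
  have hE₁comm : ∀ x ∈ E₁, ∀ y ∈ E₁, x * y = y * x :=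
    fun x hx y hy => hCcomm x (hE₁E hx).1 y (hE₁E hy).1
  have hnA : A.Normal := hn _
  have hsupC : E₁ ⊔ A ≤ C := sup_le (fun x hx => (hE₁E hx).1) (fun x hx => hx.1)
  refine ⟨Q, E₁, A, ?_, ?_, ?_, ?_, ?_, ?_, ?_⟩
  · rw [hQ]
    exact ⟨(MonoidHom.ofInjective hφinj).symm⟩
  · exact ⟨⟨⟨fun x y => Subtype.ext (hE₁comm x.1 x.2 y.1 y.2)⟩⟩, fun x hx => (hE₁E hx).2⟩
  · exact ⟨⟨fun x y => Subtype.ext (hCcomm x.1 x.2.1 y.1 y.2.1)⟩⟩
  · by_contra hodd
    rw [Nat.not_odd_iff_even] at hodd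
    have h2 : 2 ∣ Nat.card A := hodd.two_dvd
    have : Fact (Nat.Prime 2) := ⟨Nat.prime_two⟩
    obtain ⟨x, hx⟩ := exists_prime_orderOf_dvd_card' 2 h2
    have hx2 : (x : G) ^ 2 = 1 := by
      have := pow_orderOf_eq_one x
      rw [hx] at this
      exact congrArg Subtype.val this
    have hx1 := hEA x.1 ⟨x.2.1, hx2⟩ x.2
    have : x = 1 := Subtype.ext hx1
    rw [this, orderOf_one] at hx
    omega
  · rw [eq_bot_iff]
    intro g hg
    obtain ⟨h1, h2⟩ := Subgroup.mem_inf.1 hg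
    rw [Subgroup.mem_bot]
    exact hEA g (hE₁E h1) h2
  · rw [eq_bot_iff]
    intro g hg
    obtain ⟨h1, h2⟩ := Subgroup.mem_inf.1 hg
    rw [Subgroup.mem_bot]
    rcases hQC g h1 (hsupC h2) with h | h
    · exact h
    · exfalso
      rw [h, ← SetLike.mem_coe, Subgroup.mul_normal, Set.mem_mul] at h2
      obtain ⟨e₁, he₁, y, hy, hey⟩ := h2
      have hyE : y ∈ E := by
        have : y = e₁⁻¹ * c := by rw [← hey]; group
        rw [this]
        exact E.mul_mem (E.inv_mem (hE₁E he₁)) hcE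
      have hy1 := hEA y hyE hy
      rw [hy1, mul_one] at hey
      rw [← hey] at hcE₁
      exact hcE₁ he₁
  · rw [eq_top_iff]
    intro g _
    obtain ⟨q, hq, z, hz, rfl⟩ := hQCtop g
    obtain ⟨e, he, x, hx, rfl⟩ := hCdec z hz
    rcases hE₁dec e he with h | h
    · exact Subgroup.mul_mem _ (Subgroup.mem_sup_left hq)
        (Subgroup.mem_sup_right (Subgroup.mul_mem _ (Subgroup.mem_sup_left h)
          (Subgroup.mem_sup_right hx)))
    · have : q * (e * x) = (q * c) * ((c * e) * x) := by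
        have hc' : c * c = 1 := by rw [← sq]; exact hc2
        calc q * (e * x) = q * ((c * c) * e * x) := by rw [hc', one_mul]
          _ = (q * c) * ((c * e) * x) := by simp only [mul_assoc]
      rw [this]
      exact Subgroup.mul_mem _ (Subgroup.mem_sup_left (Q.mul_mem hq hcQ))
        (Subgroup.mem_sup_right (Subgroup.mul_mem _ (Subgroup.mem_sup_left h)
          (Subgroup.mem_sup_right hx)))

end main

/-- A finite Hamiltonian group (non-abelian, all subgroups normal) is Q8 × (elementary abelian 2-group) × (abelian group of odd order). -/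
theorem result {G : Type*} [Group G] [Finite G] (hna : ¬ IsMulCommutative G) (hn : ∀ H : Subgroup G, H.Normal) : ∃ Q E A : Subgroup G, Nonempty (Q ≃* QuaternionGroup 2) ∧ Cfsg.IsElementaryAbelian 2 E ∧ IsMulCommutative A ∧ Odd (Nat.card A) ∧ E ⊓ A = ⊥ ∧ Q ⊓ (E ⊔ A) = ⊥ ∧ Q ⊔ (E ⊔ A) = ⊤ := by
  exact main hna hn

end Cfsg.Agent.S4211
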