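import Cfsg.Statements.S4212
import Mathlib
import Cfsg.Agent.Lib.Helper4.FrobDiv

set_option autoImplicit false
open Cfsg

namespace Cfsg.Agent.S4212

universe u

open Cfsg.Agent.Lib.Helper4.FrobDiv

section lemmas

variable {G : Type*} [Group G]

/-- conjugation invariance of the root count -/
theorem card_roots_conj [Finite G] (n : ℕ) (g y : G) :
    Nat.card {x : G // x ^ n = g * y * g⁻¹} = Nat.card {x : G // x ^ n = y} := by
  apply Nat.card_congr
  refine (MulAut.conj g⁻¹).toEquiv.subtypeEquiv ?_
  intro x
  simp only [MulEquiv.toEquiv_eq_coe, EquivLike.coe_coe, MulAut.conj_apply, inv_inv]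
  constructor
  · intro h
    have := conj_pow (a := g⁻¹) (b := x) (i := n)
    rw [inv_inv] at this
    rw [this, h]; group
  · intro h
    have h1 := conj_pow (a := g⁻¹) (b := x) (i := n)
    rw [inv_inv] at h1
    rw [h1] at h
    calc x ^ n = g * (g⁻¹ * x ^ n * g) * g⁻¹ := by group
      _ = g * y * g⁻¹ := by rw [h]

/-- coprime splitting step -/
theorem cs_step [Finite G] (n1 n2 : ℕ) (c : G) (hc : c ∈ Subgroup.center G)
    (hT : ∀ y : G, Nat.gcd n1 (Nat.card G) ∣
      (Subgroup.centralizer ({y} : Set G)).index * Nat.card {x : G // x ^ n1 = y}) :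
    Nat.gcd n1 (Nat.card G) ∣ Nat.card {x : G // x ^ (n1 * n2) = c} := by
  classical
  haveI : Fintype G := Fintype.ofFinite G
  have e : ∀ (k : ℕ) (y : G), Nat.card {x : G // x ^ k = y} =
      (Finset.univ.filter (fun x : G => x ^ k = y)).card := by
    intro k y
    rw [Nat.card_eq_fintype_card, Fintype.card_subtype]
  rw [e, Finset.card_eq_sum_card_fiberwise (f := fun x : G => x ^ n1)
    (t := Finset.univ.filter (fun y : G => y ^ n2 = c))]
  · have h1 : ∀ y ∈ Finset.univ.filter (fun y : G => y ^ n2 = c),
        ((Finset.univ.filter (fun x : G => x ^ (n1 * n2) = c)).filter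
          (fun x => x ^ n1 = y)).card = (Finset.univ.filter (fun x : G => x ^ n1 = y)).card := by
      intro y hy
      rw [Finset.mem_filter] at hy
      congr 1
      ext x
      simp only [Finset.mem_filter, Finset.mem_univ, true_and]
      constructor
      · exact fun h => h.2
      · intro h
        refine ⟨?_, h⟩
        rw [pow_mul, h]; exact hy.2
    rw [Finset.sum_congr rfl h1]
    apply classSum
    · intro g y hy
      simp only [Finset.mem_filter, Finset.mem_univ, true_and] at hy ⊢
      rw [conj_pow, hy]
      have := Subgroup.mem_center_iff.mp hc g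
      rw [this, mul_inv_cancel_right]
    · intro g y
      rw [← e, ← e]
      exact card_roots_conj n1 g y
    · intro y _
      rw [← e]
      exact hT y
  · intro x hx
    simp only [Finset.coe_filter, Finset.mem_filter, Finset.mem_univ, true_and,
      Set.mem_ofPred_eq] at hx ⊢
    rw [← pow_mul]; exact hx

/-- prime-to-order case: multiply by a central root -/
theorem card_roots_of_coprime [Finite G] (q : ℕ) (c : G) (hc : c ∈ Subgroup.center G)
    (hco : (orderOf c).Coprime q) :
    Nat.card {x : G // x ^ q = c} = Nat.card {x : G // x ^ q = 1} := by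
  have hco' : (Nat.card (Subgroup.zpowers c)).Coprime q := by rwa [Nat.card_zpowers]
  obtain ⟨w, hw⟩ := (powCoprime hco').surjective ⟨c, Subgroup.mem_zpowers c⟩
  have hw' : (w : G) ^ q = c := by
    have := congrArg Subtype.val hw
    simpa using this
  have hwc : (w : G) ∈ Subgroup.center G := by
    have : Subgroup.zpowers c ≤ Subgroup.center G := by
      rw [Subgroup.zpowers_le]; exact hc
    exact this w.2
  apply Nat.card_congr
  refine (Equiv.mulRight (w : G)⁻¹).subtypeEquiv ?_
  intro x
  simp only [Equiv.coe_mulRight]
  have hcomm : Commute x (w : G)⁻¹ :=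
    (show Commute x (w : G) from Subgroup.mem_center_iff.mp hwc x).inv_right
  rw [hcomm.mul_pow, inv_pow, hw']
  constructor
  · intro h; rw [h, mul_inv_cancel]
  · intro h
    calc x ^ q = x ^ q * c⁻¹ * c := by group
      _ = c := by rw [h, one_mul]



theorem orderOf_root [Finite G] {p a : ℕ} (hp : p.Prime) (x c : G) (hx : x ^ (p ^ a) = c)
    (hpc : p ∣ orderOf c) :
    orderOf x = p ^ a * orderOf c := by
  have h1 : orderOf c = orderOf x / Nat.gcd (orderOf x) (p ^ a) := by
    rw [← hx]; exact orderOf_pow x
  have hd : Nat.gcd (orderOf x) (p ^ a) ∣ orderOf x := Nat.gcd_dvd_left _ _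
  have h2 : orderOf c * Nat.gcd (orderOf x) (p ^ a) = orderOf x := by
    rw [h1]; exact Nat.div_mul_cancel hd
  obtain ⟨b, hb, hbe⟩ := (Nat.dvd_prime_pow hp).mp (Nat.gcd_dvd_right (orderOf x) (p ^ a))
  rcases hb.lt_or_eq with hlt | heq
  · exfalso
    have h3 : p ^ (b + 1) ∣ orderOf x := by
      rw [← h2, hbe, pow_succ, mul_comm]
      exact Nat.mul_dvd_mul_right hpc _
    have h4 : p ^ (b + 1) ∣ p ^ a := pow_dvd_pow p hlt
    have h5 : p ^ (b + 1) ∣ p ^ b := by
      rw [← hbe]; exact Nat.dvd_gcd h3 h4
    have := (Nat.pow_dvd_pow_iff_le_right hp.one_lt).mp h5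
    omega
  · rw [← h2, hbe, heq, mul_comm]

theorem pp_dvd [Finite G] {p a : ℕ} (hp : p.Prime) (c : G) (hpc : p ∣ orderOf c) :
    p ^ a ∣ Nat.card {x : G // x ^ (p ^ a) = c} := by
  classical
  haveI : Fintype G := Fintype.ofFinite G
  rw [Nat.card_eq_fintype_card, Fintype.card_subtype]
  set X := Finset.univ.filter (fun x : G => x ^ (p ^ a) = c) with hX
  have hXmem : ∀ x, x ∈ X ↔ x ^ (p ^ a) = c := by
    intro x; simp [hX]
  rw [Finset.card_eq_sum_card_fiberwise (f := fun x : G => Subgroup.zpowers x)
    (t := X.image (fun x => Subgroup.zpowers x))]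
  · apply Finset.dvd_sum
    intro H hH
    rw [Finset.mem_image] at hH
    obtain ⟨x0, hx0, rfl⟩ := hH
    have hx0' : x0 ^ (p ^ a) = c := (hXmem x0).mp hx0
    have hN := orderOf_root hp x0 c hx0' hpc
    have hm2 : 2 ≤ orderOf c := le_trans hp.two_le (Nat.le_of_dvd (orderOf_pos c) hpc)
    have hlt : ∀ i, i < p ^ a → 1 + orderOf c * i < orderOf x0 := by
      intro i hi
      rw [hN]
      calc 1 + orderOf c * i < orderOf c * (i + 1) := by
            rw [mul_add, mul_one]; omega
        _ ≤ orderOf c * p ^ a := Nat.mul_le_mul_left _ hi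
        _ = p ^ a * orderOf c := mul_comm _ _
    have hfib : (X.filter (fun x => Subgroup.zpowers x = Subgroup.zpowers x0)) =
        (Finset.range (p ^ a)).image (fun i => x0 ^ (1 + orderOf c * i)) := by
      ext x
      simp only [Finset.mem_filter, Finset.mem_image, Finset.mem_range]
      constructor
      · rintro ⟨hxX, hz⟩
        have hxz : x ∈ Subgroup.zpowers x0 := by rw [← hz]; exact Subgroup.mem_zpowers x
        rw [mem_zpowers_iff_mem_range_orderOf] at hxz
        simp only [Finset.mem_image, Finset.mem_range] at hxz
        obtain ⟨j, hj, rfl⟩ := hxz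
        have hxc : (x0 ^ j) ^ (p ^ a) = c := (hXmem _).mp hxX
        have hcj : c ^ j = c ^ 1 := by
          rw [pow_one]
          calc c ^ j = (x0 ^ (p ^ a)) ^ j := by rw [hx0']
            _ = (x0 ^ j) ^ (p ^ a) := by rw [← pow_mul, mul_comm, pow_mul]
            _ = c := hxc
        rw [pow_eq_pow_iff_modEq] at hcj
        have hj1 : j % orderOf c = 1 := by
          have := hcj
          unfold Nat.ModEq at this
          rw [this]; exact Nat.mod_eq_of_lt hm2
        refine ⟨j / orderOf c, ?_, ?_⟩
        · rw [Nat.div_lt_iff_lt_mul (orderOf_pos c)]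
          rw [← hN]; exact hj
        · congr 1
          have := Nat.div_add_mod j (orderOf c)
          omega
      · rintro ⟨i, hi, rfl⟩
        have hin : (x0 ^ (1 + orderOf c * i)) ^ (p ^ a) = c := by
          rw [← pow_mul, mul_comm, pow_mul, hx0', pow_add, pow_one, pow_mul, pow_orderOf_eq_one,
            one_pow, mul_one]
        refine ⟨(hXmem _).mpr hin, ?_⟩
        have hord := orderOf_root hp _ c hin hpc
        apply Subgroup.eq_of_le_of_card_ge
        · rw [Subgroup.zpowers_le]
          exact Subgroup.pow_mem _ (Subgroup.mem_zpowers x0) _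
        · rw [Nat.card_zpowers, Nat.card_zpowers, hord, hN]
    rw [hfib, Finset.card_image_of_injOn, Finset.card_range]
    intro i hi i' hi'
    simp only [Finset.coe_range, Set.mem_Iio] at hi hi'
    intro h
    have := pow_injOn_Iio_orderOf (x := x0) (hlt i hi) (hlt i' hi') h
    have hpos : 0 < orderOf c := orderOf_pos c
    have h2 : orderOf c * i = orderOf c * i' := by omega
    exact Nat.eq_of_mul_eq_mul_left hpos h2
  · intro x hx
    exact Finset.mem_coe.mpr (Finset.mem_image_of_mem _ hx)



theorem self_mem_centralizer (c : G) : c ∈ Subgroup.centralizer ({c} : Set G) :=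
  Subgroup.mem_centralizer_singleton_iff.mpr rfl

theorem tz [Finite G] (n : ℕ) (c : G)
    (hK : Nat.gcd n (Nat.card (Subgroup.centralizer ({c} : Set G))) ∣
      Nat.card {x : Subgroup.centralizer ({c} : Set G) // x ^ n = ⟨c, self_mem_centralizer c⟩}) :
    Nat.gcd ((Subgroup.centralizer ({c} : Set G)).index * n) (Nat.card G) ∣
      (Subgroup.centralizer ({c} : Set G)).index * Nat.card {x : G // x ^ n = c} := by
  have hcard : Nat.card G = (Subgroup.centralizer ({c} : Set G)).index *
      Nat.card (Subgroup.centralizer ({c} : Set G)) := by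
    rw [mul_comm]; exact (Subgroup.card_mul_index _).symm
  have heq : Nat.card {x : Subgroup.centralizer ({c} : Set G) // x ^ n = ⟨c, self_mem_centralizer c⟩} =
      Nat.card {x : G // x ^ n = c} := by
    apply Nat.card_congr
    exact
      { toFun := fun x => ⟨x.1.1, by have := congrArg Subtype.val x.2; simpa using this⟩
        invFun := fun x => ⟨⟨x.1, by
          rw [Subgroup.mem_centralizer_singleton_iff]
          have h := (Commute.self_pow x.1 n).eq
          rw [x.2] at h
          exact h⟩, by
            apply Subtype.ext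
            simp [x.2]⟩
        left_inv := fun x => by ext; rfl
        right_inv := fun x => by ext; rfl }
  rw [hcard, Nat.gcd_mul_left, ← heq]
  exact Nat.mul_dvd_mul_left _ hK


end lemmas

theorem Zall : ∀ (N : ℕ) (G : Type u) [Group G] [Finite G], Nat.card G = N →
    ∀ (n : ℕ) (c : G), c ∈ Subgroup.center G →
      Nat.gcd n N ∣ Nat.card {x : G // x ^ n = c} := by
  intro N
  induction N using Nat.strong_induction_on with
  | _ N IH =>
    intro G _ _ hN n
    induction n using Nat.strong_induction_on with
    | _ n IHn =>
      intro c hc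
      have hT : ∀ n' < n, ∀ y : G, Nat.gcd n' (Nat.card G) ∣
          (Subgroup.centralizer ({y} : Set G)).index * Nat.card {x : G // x ^ n' = y} := by
        intro n' hn' y
        by_cases hy : y ∈ Subgroup.center G
        · rw [hN]; exact Dvd.dvd.mul_left (IHn n' hn' y hy) _
        · have hlt : Nat.card (Subgroup.centralizer ({y} : Set G)) < N := by
            rw [← hN]
            refine lt_of_le_of_ne (Subgroup.card_le_card_group _) (fun h => hy ?_)
            have htop := Subgroup.eq_top_of_card_eq _ h
            rw [Subgroup.centralizer_eq_top_iff_subset] at htop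
            exact htop (Set.mem_singleton y)
          have hyc : (⟨y, self_mem_centralizer y⟩ : Subgroup.centralizer ({y} : Set G)) ∈
              Subgroup.center (Subgroup.centralizer ({y} : Set G)) := by
            rw [Subgroup.mem_center_iff]
            intro g
            apply Subtype.ext
            exact Subgroup.mem_centralizer_singleton_iff.mp g.2
          have hK := IH _ hlt (Subgroup.centralizer ({y} : Set G)) rfl n'
            ⟨y, self_mem_centralizer y⟩ hyc
          have h1 := tz n' y hK
          exact dvd_trans (Nat.gcd_dvd_gcd_of_dvd_left (Nat.card G)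
            (Dvd.intro_left _ rfl)) h1
      rcases Nat.lt_or_ge n 2 with hn2 | hn2
      · interval_cases n
        · rw [Nat.gcd_zero_left]
          by_cases h1 : c = 1
          · subst h1
            have : Nat.card {x : G // x ^ 0 = (1 : G)} = Nat.card G := by
              apply Nat.card_congr
              exact (Equiv.subtypeUnivEquiv (fun x => by simp))
            rw [this, hN]
          · have : Nat.card {x : G // x ^ 0 = c} = 0 := by
              haveI : IsEmpty {x : G // x ^ 0 = c} :=
                ⟨fun x => h1 (by rw [← x.2, pow_zero])⟩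
              exact Nat.card_of_isEmpty
            rw [this]; exact dvd_zero _
        · rw [Nat.gcd_one_left]; exact one_dvd _
      · have hn0 : n ≠ 0 := by omega
        obtain ⟨p, hp, hpn⟩ : ∃ p, p.Prime ∧ p ∣ n :=
          ⟨n.minFac, Nat.minFac_prime (by omega), Nat.minFac_dvd n⟩
        obtain ⟨a, m, hpm, hnm⟩ := Nat.exists_eq_pow_mul_and_not_dvd hn0 p hp.ne_one
        have ha : a ≠ 0 := by
          rintro rfl
          rw [pow_zero, one_mul] at hnm
          exact hpm (hnm ▸ hpn)
        have hm0 : m ≠ 0 := by
          rintro rfl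
          rw [mul_zero] at hnm
          exact hn0 hnm
        have hpa2 : 2 ≤ p ^ a := by
          calc 2 ≤ p := hp.two_le
            _ = p ^ 1 := (pow_one p).symm
            _ ≤ p ^ a := Nat.pow_le_pow_right hp.pos (Nat.one_le_iff_ne_zero.mpr ha)
        rcases Nat.lt_or_ge m 2 with hm2 | hm2
        · have hm1 : m = 1 := by omega
          rw [hm1, mul_one] at hnm
          rw [hnm]
          by_cases hpc : p ∣ orderOf c
          · exact dvd_trans (Nat.gcd_dvd_left _ _) (pp_dvd hp c hpc)
          · have hco : (orderOf c).Coprime (p ^ a) :=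
              Nat.Coprime.pow_right _ ((Nat.Prime.coprime_iff_not_dvd hp).mpr hpc).symm
            rw [card_roots_of_coprime (p ^ a) c hc hco, ← hN]
            exact frobenius_gcd_dvd (p ^ a)
        · have hco : Nat.Coprime (p ^ a) m :=
            Nat.Coprime.pow_left _ ((Nat.Prime.coprime_iff_not_dvd hp).mpr hpm)
          have h1lt : p ^ a < n := by rw [hnm]; nlinarith
          have h2lt : m < n := by rw [hnm]; nlinarith
          have d1 := cs_step (p ^ a) m c hc (hT _ h1lt)
          have d2 := cs_step m (p ^ a) c hc (hT _ h2lt)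
          rw [mul_comm m] at d2
          rw [hN] at d1 d2
          rw [hnm, Nat.gcd_comm, Nat.Coprime.gcd_mul N hco]
          rw [Nat.gcd_comm] at d1 d2
          exact Nat.Coprime.mul_dvd_of_dvd_of_dvd (Nat.Coprime.gcd_both N N hco) d1 d2

/-- Let `G` be a finite group of order `g`, `c` an element whose conjugacy class has `h` elements, and `n` a natural number. Then the number of elements `x` of `G` with `x^n` conjugate to `c` is a multiple of `gcd(hn, g)`. -/
theorem result {G : Type*} [Group G] [Finite G] (c : G) (n : ℕ) : Nat.gcd (Nat.card {y : G // IsConj c y} * n) (Nat.card G) ∣ Nat.card {x : G // IsConj c (x ^ n)} := by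
  have hcls : Nat.card {y : G // IsConj c y} = (Subgroup.centralizer ({c} : Set G)).index := by
    rw [index_centralizer_eq_ncard_carrier, ← Nat.card_coe_set_eq]
    apply Nat.card_congr
    apply Equiv.subtypeEquivRight
    intro y
    rw [ConjClasses.mem_carrier_iff_mk_eq, ConjClasses.mk_eq_mk_iff_isConj]
    exact isConj_comm
  have hcount : Nat.card {x : G // IsConj c (x ^ n)} =
      Nat.card {y : G // IsConj c y} * Nat.card {x : G // x ^ n = c} := by
    classical
    haveI : Fintype {y : G // IsConj c y} := Fintype.ofFinite _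
    let f : {x : G // IsConj c (x ^ n)} → {y : G // IsConj c y} := fun x => ⟨x.1 ^ n, x.2⟩
    rw [Nat.card_congr (Equiv.sigmaFiberEquiv f).symm, Nat.card_sigma]
    have hfib : ∀ y : {y : G // IsConj c y},
        Nat.card {x // f x = y} = Nat.card {x : G // x ^ n = c} := by
      intro y
      obtain ⟨g, hg⟩ := isConj_iff.mp y.2
      rw [← card_roots_conj n g c, hg]
      apply Nat.card_congr
      exact
        { toFun := fun x => ⟨x.1.1, by have := congrArg Subtype.val x.2; simpa [f] using this⟩
          invFun := fun x => ⟨⟨x.1, by rw [x.2]; exact y.2⟩, by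
            apply Subtype.ext
            simp [f, x.2]⟩
          left_inv := fun x => by ext; rfl
          right_inv := fun x => by ext; rfl }
    rw [Finset.sum_congr rfl (fun y _ => hfib y), Finset.sum_const, Finset.card_univ,
      smul_eq_mul, Nat.card_eq_fintype_card (α := {y : G // IsConj c y})]
  rw [hcount, hcls]
  have hyc : (⟨c, self_mem_centralizer c⟩ : Subgroup.centralizer ({c} : Set G)) ∈
      Subgroup.center (Subgroup.centralizer ({c} : Set G)) := by
    rw [Subgroup.mem_center_iff]
    intro g
    apply Subtype.ext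
    exact Subgroup.mem_centralizer_singleton_iff.mp g.2
  exact tz n c (Zall _ (Subgroup.centralizer ({c} : Set G)) rfl n ⟨c, self_mem_centralizer c⟩ hyc)

end Cfsg.Agent.S4212
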