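import Cfsg.Statements.S4215
import Cfsg.Agent.Lib.Helper7.WeakClosureTransfer

set_option autoImplicit false
open Cfsg

namespace Cfsg.Agent.S4215

/-- Let `P` be a Sylow `p`-subgroup of the finite group `G`, `Q` a subgroup of `P` weakly closed in `P` with respect to `G`, and `H` the normalizer of `Q`. Suppose that for all `u ∈ P` and `z ∈ Q` the iterated commutator `[u, z, …, z]` with `p - 1` entries `z` is trivial, where `[x, z] = x⁻¹z⁻¹xz` and `[x, z, z] = [[x, z], z]`. Then `O^p(H) = O^p(G) ∩ H`, where `O^p` denotes the subgroup generated by the elements of order prime to `p`; so the largest `p`-factor groups of `G` and of `H` are isomorphic. -/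
theorem result {G : Type*} [Group G] [Finite G] {p : ℕ} [Fact p.Prime] (P : Sylow p G) (Q : Subgroup G) (hQ : Cfsg.IsWeaklyClosed Q (P : Subgroup G)) (h : ∀ u ∈ (P : Subgroup G), ∀ z ∈ Q, (fun y : G => y⁻¹ * z⁻¹ * y * z)^[p - 1] u = 1) : Cfsg.pResidualOf p (Subgroup.normalizer (Q : Set G)) = Cfsg.pResidual p G ⊓ Subgroup.normalizer (Q : Set G) := by
  classical
  have hSH : (P : Subgroup G) ≤ Subgroup.normalizer (Q : Set G) :=
    Cfsg.Agent.Lib.Helper7.WeakClosureTransfer.le_normalizer_of_weaklyClosed P Q hQ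
  have hH : ¬ p ∣ (Subgroup.normalizer (Q : Set G)).index := fun hd =>
    P.not_dvd_index (dvd_trans hd (Subgroup.index_dvd_of_le hSH))
  have hno : ¬ ∃ x ∈ (P : Subgroup G), ∃ z ∈ Q, ∃ W₀ : Subgroup ↥Q, IsCoatom W₀ ∧
      (fun y : G => y⁻¹ * z⁻¹ * y * z)^[p - 1] x ∈ W₀.map Q.subtype ∧
      (fun y : G => y⁻¹ * z⁻¹ * y * z)^[p - 1] x ∉
        ((frattini ↥W₀).map W₀.subtype).map Q.subtype := by
    rintro ⟨x, hx, z, hz, W₀, -, -, hnot⟩
    apply hnot
    rw [h x hx z hz]
    exact Subgroup.one_mem _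
  have hext : ∀ (Z : Type _) [CommGroup Z], Nat.card Z = p →
      ∀ lam : ↥(Subgroup.normalizer (Q : Set G)) →* Z,
      ∃ μ : G →* Z, ∀ h : ↥(Subgroup.normalizer (Q : Set G)), μ (h : G) = lam h := by
    intro Z _ hZ lam
    exact ⟨MonoidHom.transfer lam, fun h =>
      Cfsg.Agent.Lib.Helper7.WeakClosureTransfer.transfer_eq_of_weaklyClosed P Q hQ hno Z hZ lam h.1 h.2⟩
  have hT := Cfsg.Agent.Lib.Helper7.TateH.tateH (Subgroup.normalizer (Q : Set G)) hH hext
  unfold Cfsg.pResidualOf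
  apply le_antisymm
  · rw [Subgroup.map_le_iff_le_comap]
    unfold Cfsg.pResidual
    rw [Subgroup.closure_le]
    intro g hg
    have hg' : Nat.Coprime (orderOf g) p := hg
    rw [SetLike.mem_coe, Subgroup.mem_comap]
    refine ⟨Subgroup.subset_closure ?_, g.2⟩
    show Nat.Coprime (orderOf ((g : ↥(Subgroup.normalizer (Q : Set G))) : G)) p
    rw [Subgroup.orderOf_coe]
    exact hg'
  · rintro x ⟨hx1, hx2⟩
    exact ⟨⟨x, hx2⟩, hT (Subgroup.mem_subgroupOf.mpr hx1), rfl⟩

end Cfsg.Agent.S4215
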