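import Cfsg.Statements.S4250
import Mathlib
import Cfsg.Agent.Lib.Lead.TameControl

set_option autoImplicit false
open Cfsg

namespace Cfsg.Agent.S4250

open Cfsg.Agent.Lib.Lead.AlperinTame Cfsg.Agent.Lib.Lead.DecP Cfsg.Agent.Lib.Lead.ConjFamily
open scoped commutatorElement

set_option linter.unusedVariables false

/-- Let P be a Sylow p-subgroup of a finite group G. Call an intersection H = P ∩ Q with a Sylow p-subgroup Q tame when N_P(H) and N_Q(H) are Sylow p-subgroups of N_G(H). Then P ∩ G′ is generated by [P, N_G(P)] together with the commutator subgroups [P ∩ Q, ⟨x⟩] for all tame intersections P ∩ Q and all p-elements x of N_G(P ∩ Q). -/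
theorem result {G : Type*} [Group G] [Finite G] (p : ℕ) [Fact p.Prime] (P : Sylow p G) :
    (P : Subgroup G) ⊓ commutator G =
      ⁅(P : Subgroup G), Subgroup.normalizer ((P : Subgroup G) : Set G)⁆ ⊔
        ⨆ (Q : Sylow p G) (_ : (¬ p ∣ ((P : Subgroup G) ⊓ Subgroup.normalizer (((P : Subgroup G) ⊓ (Q : Subgroup G) : Subgroup G) : Set G)).relIndex (Subgroup.normalizer (((P : Subgroup G) ⊓ (Q : Subgroup G) : Subgroup G) : Set G)) ∧ ¬ p ∣ ((Q : Subgroup G) ⊓ Subgroup.normalizer (((P : Subgroup G) ⊓ (Q : Subgroup G) : Subgroup G) : Set G)).relIndex (Subgroup.normalizer (((P : Subgroup G) ⊓ (Q : Subgroup G) : Subgroup G) : Set G))))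
          (x : G) (_ : x ∈ Subgroup.normalizer (((P : Subgroup G) ⊓ (Q : Subgroup G) : Subgroup G) : Set G) ∧ ∃ k : ℕ, orderOf x = p ^ k),
          ⁅(P : Subgroup G) ⊓ (Q : Subgroup G), Subgroup.zpowers x⁆ := by
  classical
  set F : Subgroup G := ⁅(P : Subgroup G), Subgroup.normalizer ((P : Subgroup G) : Set G)⁆ ⊔
        ⨆ (Q : Sylow p G) (_ : (¬ p ∣ ((P : Subgroup G) ⊓ Subgroup.normalizer (((P : Subgroup G) ⊓ (Q : Subgroup G) : Subgroup G) : Set G)).relIndex (Subgroup.normalizer (((P : Subgroup G) ⊓ (Q : Subgroup G) : Subgroup G) : Set G)) ∧ ¬ p ∣ ((Q : Subgroup G) ⊓ Subgroup.normalizer (((P : Subgroup G) ⊓ (Q : Subgroup G) : Subgroup G) : Set G)).relIndex (Subgroup.normalizer (((P : Subgroup G) ⊓ (Q : Subgroup G) : Subgroup G) : Set G))))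
          (x : G) (_ : x ∈ Subgroup.normalizer (((P : Subgroup G) ⊓ (Q : Subgroup G) : Subgroup G) : Set G) ∧ ∃ k : ℕ, orderOf x = p ^ k),
          ⁅(P : Subgroup G) ⊓ (Q : Subgroup G), Subgroup.zpowers x⁆ with hF
  -- commutators with normalizing elements stay inside
  have hcomm : ∀ (T : Subgroup G) (a y : G), a ∈ T → y ∈ Subgroup.normalizer (T : Set G) → ⁅a, y⁆ ∈ T := by
    intro T a y ha hy
    rw [commutatorElement_def]
    have : a * y * a⁻¹ * y⁻¹ = a * (y * a⁻¹ * y⁻¹) := by group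
    rw [this]
    exact T.mul_mem ha ((Subgroup.mem_normalizer_iff.1 hy a⁻¹).1 (T.inv_mem ha))
  have hG' : ∀ a y : G, ⁅a, y⁆ ∈ commutator G := by
    intro a y
    rw [commutator_def]
    exact Subgroup.commutator_mem_commutator (Subgroup.mem_top _) (Subgroup.mem_top _)
  apply le_antisymm
  · -- via the focal subgroup theorem and Alperin's theorem
    have hfoc : (P : Subgroup G) ⊓ commutator G = (P : Subgroup G).focalSubgroup := by
      rw [inf_comm]; exact Subgroup.commutator_inf_eq_focalSubgroup P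
    rw [hfoc, Subgroup.focalSubgroup_def, Subgroup.closure_le]
    -- the chain claim
    have hchain : ∀ (l : List (Subgroup G × G)) (B : Set G), DecP (Tame P) l B →
        ∀ b ∈ B, b⁻¹ * ((prodL l)⁻¹ * b * prodL l) ∈ F := by
      intro l
      induction l with
      | nil =>
        intro B _ b _
        simp only [prodL_nil, inv_one, one_mul, mul_one, inv_mul_cancel]
        exact F.one_mem
      | cons c l ih =>
        obtain ⟨T, y⟩ := c
        rintro B ⟨hT, hy, hBT, hdec⟩ b hb
        have hb' : y⁻¹ * b * y ∈ rc y B := ⟨b, hb, rfl⟩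
        have h1 := ih (rc y B) hdec _ hb'
        have h2 : b⁻¹ * (y⁻¹ * b * y) ∈ F := by
          have e : b⁻¹ * (y⁻¹ * b * y) = ⁅b⁻¹, y⁻¹⁆ := by rw [commutatorElement_def]; group
          rw [e]
          obtain ⟨Q, hTQ, t1, t2, hor⟩ := hT
          subst hTQ
          rcases hor with hQP | hyp
          · -- `Q = P`
            rw [hQP, inf_idem] at hy hBT
            apply (le_sup_left : _ ≤ F)
            exact Subgroup.commutator_mem_commutator (Subgroup.inv_mem _ (hBT hb))
              (Subgroup.inv_mem _ hy)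
          · have hle : ⁅(P : Subgroup G) ⊓ (Q : Subgroup G), Subgroup.zpowers y⁆ ≤ F := by
              rw [hF]
              refine le_sup_of_le_right ?_
              refine le_iSup_of_le Q ?_
              refine le_iSup_of_le ⟨t1, t2⟩ ?_
              refine le_iSup_of_le y ?_
              exact le_iSup_of_le ⟨hy, hyp⟩ le_rfl
            apply hle
            exact Subgroup.commutator_mem_commutator (Subgroup.inv_mem _ (hBT hb))
              (Subgroup.inv_mem _ (Subgroup.mem_zpowers y))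
        have e2 : b⁻¹ * ((prodL ((T, y) :: l))⁻¹ * b * prodL ((T, y) :: l)) =
            (b⁻¹ * (y⁻¹ * b * y)) * ((y⁻¹ * b * y)⁻¹ * ((prodL l)⁻¹ * (y⁻¹ * b * y) * prodL l)) := by
          rw [prodL_cons]; group
        rw [e2]
        exact F.mul_mem h2 h1
    rintro g ⟨hgP, a, haP, u, rfl⟩
    have hb : u * a⁻¹ * u⁻¹ ∈ (P : Subgroup G) := by
      have e : u * a⁻¹ * u⁻¹ = a⁻¹ * ⁅a, u⁆ := by rw [commutatorElement_def]; group
      rw [e]
      exact Subgroup.mul_mem _ (Subgroup.inv_mem _ haP) hgP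
    have hA : ({a⁻¹} : Set G) ⊆ ((P : Subgroup G) : Set G) := by
      rintro _ rfl; exact Subgroup.inv_mem _ haP
    have hrc : rc u⁻¹ ({a⁻¹} : Set G) ⊆ ((P : Subgroup G) : Set G) := by
      rintro _ ⟨c, rfl, rfl⟩
      show u⁻¹⁻¹ * a⁻¹ * u⁻¹ ∈ (P : Subgroup G)
      rw [inv_inv]; exact hb
    obtain ⟨l, hl, hd⟩ := alperin_tame P {a⁻¹} u⁻¹ hA hrc
    have := hchain l _ hd a⁻¹ rfl
    rw [hl] at this
    have e : ⁅a, u⁆ = a⁻¹⁻¹ * (u⁻¹⁻¹ * a⁻¹ * u⁻¹) := by rw [commutatorElement_def]; group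
    rw [SetLike.mem_coe, e]
    exact this
  · apply sup_le
    · rw [Subgroup.commutator_le]
      intro a ha y hy
      exact ⟨hcomm _ a y ha hy, hG' a y⟩
    · refine iSup_le fun Q => iSup_le fun hQ => iSup_le fun x => iSup_le fun hx => ?_
      rw [Subgroup.commutator_le]
      intro a ha y hy
      have hy' : y ∈ Subgroup.normalizer ((((P : Subgroup G) ⊓ (Q : Subgroup G) : Subgroup G)) : Set G) :=
        (Subgroup.zpowers_le.2 hx.1) hy
      exact ⟨(inf_le_left : (P : Subgroup G) ⊓ (Q : Subgroup G) ≤ (P : Subgroup G)) (hcomm _ a y ha hy'),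
        hG' a y⟩

end Cfsg.Agent.S4250
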