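import Cfsg.Statements.S4216
import Mathlib
import Cfsg.Agent.S4250

set_option autoImplicit false
open Cfsg

namespace Cfsg.Agent.S4216

open Cfsg.Agent.Lib.Lead.Conj
open scoped commutatorElement

set_option linter.unusedVariables false

/-- Grün's first Theorem: if `P` is a Sylow `p`-subgroup of the finite group `G`, then `P ∩ G'` is the subgroup generated by `P ∩ N_G(P)'` together with the subgroups `P ∩ z P' z⁻¹` for all `z ∈ G`, where `'` denotes the derived subgroup and `N_G(P)` the normalizer of `P`. -/
theorem result {G : Type*} [Group G] [Finite G] {p : ℕ} [Fact p.Prime] (P : Sylow p G) : (P : Subgroup G) ⊓ commutator G = ((P : Subgroup G) ⊓ ⁅Subgroup.normalizer ((P : Subgroup G) : Set G), Subgroup.normalizer ((P : Subgroup G) : Set G)⁆) ⊔ ⨆ z : G, (P : Subgroup G) ⊓ (⁅(P : Subgroup G), (P : Subgroup G)⁆).map (MulAut.conj z).toMonoidHom := by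
  classical
  have hp : p.Prime := Fact.out
  have hG' : ∀ a y : G, ⁅a, y⁆ ∈ commutator G := by
    intro a y
    rw [commutator_def]
    exact Subgroup.commutator_mem_commutator (Subgroup.mem_top _) (Subgroup.mem_top _)
  apply le_antisymm
  · rw [Cfsg.Agent.S4250.result p P]
    apply sup_le
    · refine le_sup_of_le_left (le_inf ?_ ?_)
      · rw [Subgroup.commutator_le]
        intro a ha y hy
        rw [commutatorElement_def]
        have : a * y * a⁻¹ * y⁻¹ = a * (y * a⁻¹ * y⁻¹) := by group
        rw [this]
        exact Subgroup.mul_mem _ ha ((Subgroup.mem_normalizer_iff.1 hy a⁻¹).1 (Subgroup.inv_mem _ ha))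
      · exact Subgroup.commutator_mono Subgroup.le_normalizer le_rfl
    · refine iSup_le fun Q => iSup_le fun hQ => iSup_le fun x => iSup_le fun hx => ?_
      set T := (P : Subgroup G) ⊓ (Q : Subgroup G) with hT
      obtain ⟨hxN, k, hk⟩ := hx
      -- `T ⟨x⟩` is a `p`-group
      have hTp : IsPGroup p ↥T := P.isPGroup'.to_le inf_le_left
      have hxp : IsPGroup p ↥(Subgroup.zpowers x) := by
        apply IsPGroup.of_card (n := k)
        rw [Nat.card_zpowers, hk]
      have hD : IsPGroup p ↥(T ⊔ Subgroup.zpowers x : Subgroup G) :=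
        hTp.to_sup_of_normal_left' hxp (Subgroup.zpowers_le.2 hxN)
      obtain ⟨g, hg⟩ := Cfsg.Agent.Lib.Lead.Frobenius.exists_conj_mem_sylow P hD
      refine le_sup_of_le_right (le_iSup_of_le g⁻¹ ?_)
      rw [Subgroup.commutator_le]
      intro a ha y hy
      refine ⟨?_, ?_⟩
      · -- in `T ≤ P`
        have hyN : y ∈ Subgroup.normalizer (T : Set G) := (Subgroup.zpowers_le.2 hxN) hy
        rw [commutatorElement_def]
        have : a * y * a⁻¹ * y⁻¹ = a * (y * a⁻¹ * y⁻¹) := by group
        rw [this]
        exact (inf_le_left : T ≤ (P : Subgroup G))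
          (T.mul_mem ha ((Subgroup.mem_normalizer_iff.1 hyN a⁻¹).1 (T.inv_mem ha)))
      · show ⁅a, y⁆ ∈ (⁅(P : Subgroup G), (P : Subgroup G)⁆).map (MulAut.conj g⁻¹).toMonoidHom
        rw [mem_map_conj, inv_inv]
        have e : g * ⁅a, y⁆ * g⁻¹ = ⁅g * a * g⁻¹, g * y * g⁻¹⁆ := by
          rw [commutatorElement_def, commutatorElement_def]; group
        rw [e]
        exact Subgroup.commutator_mem_commutator
          (hg a ((le_sup_left : T ≤ T ⊔ Subgroup.zpowers x) ha))
          (hg y ((le_sup_right : Subgroup.zpowers x ≤ T ⊔ Subgroup.zpowers x) hy))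
  · apply sup_le
    · refine le_inf inf_le_left (inf_le_right.trans ?_)
      rw [commutator_def]
      exact Subgroup.commutator_mono le_top le_top
    · refine iSup_le fun z => le_inf inf_le_left (inf_le_right.trans ?_)
      rintro _ ⟨c, hc, rfl⟩
      have hc' : c ∈ commutator G := by
        rw [commutator_def]
        exact Subgroup.commutator_mono le_top le_top hc
      exact (inferInstance : (commutator G).Normal).conj_mem c hc' z

end Cfsg.Agent.S4216
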