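import Cfsg.Statements.S4218
import Mathlib
import Cfsg.Agent.Lib.Lead.PSolvable
import Cfsg.Agent.Lib.Lead.QuotAut
import Cfsg.Agent.H1.Frattini
import Cfsg.Agent.H2.AutFrattini

set_option autoImplicit false
open Cfsg

namespace Cfsg.Agent.S4218

open Cfsg.Agent.Lib.Lead.PSolvable Cfsg.Agent.Lib.Lead.QuotAut
open scoped commutatorElement

section
variable {G : Type*} [Group G] [Finite G] {p : ℕ} [hp : Fact p.Prime]

local notation "MM" => Cfsg.pPrimePCore p G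
local notation "KK" => Cfsg.pPrimeCore p G

theorem card_section : ∃ n : ℕ, Nat.card (↥(Cfsg.pPrimePCore p G) ⧸
    (Cfsg.pPrimeCore p G).subgroupOf (Cfsg.pPrimePCore p G)) = p ^ n := by
  haveI hKn : (Cfsg.pPrimeCore p G).Normal := Cfsg.Agent.H1.pPrimeCore_normal p
  obtain ⟨a, ha⟩ := IsPGroup.iff_card.mp (Cfsg.Agent.H1.pCore_isPGroup (G := G ⧸ Cfsg.pPrimeCore p G) p)
  refine ⟨a, ?_⟩
  have h1 := Subgroup.card_eq_card_quotient_mul_card_subgroup
    ((Cfsg.pPrimeCore p G).subgroupOf (Cfsg.pPrimePCore p G))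
  have h2 : Nat.card ↥((Cfsg.pPrimeCore p G).subgroupOf (Cfsg.pPrimePCore p G)) =
      Nat.card ↥(Cfsg.pPrimeCore p G) :=
    Nat.card_congr (Subgroup.subgroupOfEquivOfLe pPrimeCore_le_pPrimePCore).toEquiv
  have h3 : Nat.card ↥(Cfsg.pPrimePCore p G) =
      Nat.card ↥(Cfsg.pCore p (G ⧸ Cfsg.pPrimeCore p G)) * Nat.card ↥(Cfsg.pPrimeCore p G) :=
    Cfsg.Agent.H2.card_comap_mk' (Cfsg.pPrimeCore p G) (Cfsg.pCore p (G ⧸ Cfsg.pPrimeCore p G))
  rw [h2, h3, ha] at h1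
  exact (Nat.eq_of_mul_eq_mul_right Nat.card_pos h1).symm

theorem trivOnFrattini_isPGroup : IsPGroup p ↥(trivOnFrattini (↥(Cfsg.pPrimePCore p G) ⧸
    (Cfsg.pPrimeCore p G).subgroupOf (Cfsg.pPrimePCore p G))) := by
  obtain ⟨n, hn⟩ := card_section (G := G) (p := p)
  have hidx : (frattini (↥(Cfsg.pPrimePCore p G) ⧸
      (Cfsg.pPrimeCore p G).subgroupOf (Cfsg.pPrimePCore p G))).index ∣ p ^ n := by
    rw [← hn]; exact Subgroup.index_dvd_card _
  obtain ⟨r, -, hr⟩ := (Nat.dvd_prime_pow hp.out).1 hidx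
  have := Cfsg.Agent.H2.AutFrat.card_dvd_of_trivial_on_frattini_quotient hn hr (trivOnFrattini _) (fun α hα => hα)
  obtain ⟨j, -, hj⟩ := (Nat.dvd_prime_pow hp.out).1 this
  exact IsPGroup.of_card hj

omit hp in
theorem mem_iff (g : G) :
    (∀ x ∈ Cfsg.pPrimePCore p G, g * x * g⁻¹ * x⁻¹ ∈ ((frattini (↥(Cfsg.pPrimePCore p G) ⧸
      (Cfsg.pPrimeCore p G).subgroupOf (Cfsg.pPrimePCore p G))).comap
        (QuotientGroup.mk' ((Cfsg.pPrimeCore p G).subgroupOf (Cfsg.pPrimePCore p G)))).map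
          (Cfsg.pPrimePCore p G).subtype) ↔
      quotAut (hK := Cfsg.Agent.H1.pPrimeCore_normal p) (Cfsg.pPrimePCore p G) (Cfsg.pPrimeCore p G) g ∈
        trivOnFrattini _ := by
  haveI hKn : (Cfsg.pPrimeCore p G).Normal := Cfsg.Agent.H1.pPrimeCore_normal p
  rw [mem_trivOnFrattini]
  constructor
  · intro h x
    induction x using QuotientGroup.induction_on with
    | H x =>
      obtain ⟨z, hz, hzeq⟩ := h x.1 x.2
      rw [quotAut_mk]
      have hzz : z = (MulAut.conjNormal g : MulAut ↥(Cfsg.pPrimePCore p G)) x * x⁻¹ := by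
        apply Subtype.ext
        rw [Subgroup.coe_mul, MulAut.conjNormal_apply, Subgroup.coe_inv]
        exact hzeq
      rw [hzz] at hz
      exact Subgroup.mem_comap.1 hz
  · intro h x hx
    have h1 := h ((⟨x, hx⟩ : ↥(Cfsg.pPrimePCore p G)) : _ ⧸ _)
    rw [quotAut_mk] at h1
    refine ⟨(MulAut.conjNormal g : MulAut ↥(Cfsg.pPrimePCore p G)) ⟨x, hx⟩ * ⟨x, hx⟩⁻¹, ?_, ?_⟩
    · rw [SetLike.mem_coe, Subgroup.mem_comap]
      exact h1
    · rw [Subgroup.subtype_apply, Subgroup.coe_mul, MulAut.conjNormal_apply, Subgroup.coe_inv]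

/-- an element acting trivially on `O_{p',p}(G) / O_{p'}(G)` lies in `O_{p',p}(G)` (for `p`-solvable `G`) -/
theorem mem_of_quotAut_eq_one (hG : Cfsg.IsPSolvable p G) (h : G)
    (hh : quotAut (hK := Cfsg.Agent.H1.pPrimeCore_normal p) (Cfsg.pPrimePCore p G) (Cfsg.pPrimeCore p G) h = 1) :
    h ∈ Cfsg.pPrimePCore p G := by
  haveI hKn : (Cfsg.pPrimeCore p G).Normal := Cfsg.Agent.H1.pPrimeCore_normal p
  have hHH := centralizer_pCore_le (IsPSolvable.quotient (Cfsg.pPrimeCore p G) hG)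
    (Cfsg.Agent.H2.pPrimeCore_quotient_eq_bot p)
  rw [mem_pPrimePCore_iff]
  apply hHH
  rw [Subgroup.mem_centralizer_iff]
  intro y hy
  obtain ⟨x, rfl⟩ := QuotientGroup.mk'_surjective (Cfsg.pPrimeCore p G) y
  have hxM : x ∈ Cfsg.pPrimePCore p G := (mem_pPrimePCore_iff x).2 hy
  have h1 : quotAut (Cfsg.pPrimePCore p G) (Cfsg.pPrimeCore p G) h
      ((⟨x, hxM⟩ : ↥(Cfsg.pPrimePCore p G)) : _ ⧸ _) = ((⟨x, hxM⟩ : ↥(Cfsg.pPrimePCore p G)) : _ ⧸ _) := by
    rw [hh, MulAut.one_apply]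
  rw [quotAut_mk] at h1
  have h2 := QuotientGroup.eq.1 h1
  rw [Subgroup.mem_subgroupOf, Subgroup.coe_mul, Subgroup.coe_inv, MulAut.conjNormal_apply] at h2
  -- `h2 : (h x h⁻¹)⁻¹ * x ∈ K`
  have h3 : QuotientGroup.mk' (Cfsg.pPrimeCore p G) ((h * x * h⁻¹)⁻¹ * x) = 1 :=
    (QuotientGroup.eq_one_iff _).2 h2
  simp only [map_mul, map_inv] at h3
  -- from `(h̄ x̄ h̄⁻¹)⁻¹ x̄ = 1`
  have h4 : QuotientGroup.mk' (Cfsg.pPrimeCore p G) x =
      QuotientGroup.mk' (Cfsg.pPrimeCore p G) h * QuotientGroup.mk' (Cfsg.pPrimeCore p G) x *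
        (QuotientGroup.mk' (Cfsg.pPrimeCore p G) h)⁻¹ := by
    rw [← inv_mul_eq_one]; 
    have e : (QuotientGroup.mk' (Cfsg.pPrimeCore p G) x)⁻¹ * (QuotientGroup.mk' (Cfsg.pPrimeCore p G) h *
        QuotientGroup.mk' (Cfsg.pPrimeCore p G) x * (QuotientGroup.mk' (Cfsg.pPrimeCore p G) h)⁻¹) =
        ((QuotientGroup.mk' (Cfsg.pPrimeCore p G) h * QuotientGroup.mk' (Cfsg.pPrimeCore p G) x *
          (QuotientGroup.mk' (Cfsg.pPrimeCore p G) h)⁻¹)⁻¹ * QuotientGroup.mk' (Cfsg.pPrimeCore p G) x)⁻¹ := by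
      group
    rw [e, h3, inv_one]
  calc QuotientGroup.mk' (Cfsg.pPrimeCore p G) x * QuotientGroup.mk' (Cfsg.pPrimeCore p G) h
      = (QuotientGroup.mk' (Cfsg.pPrimeCore p G) h * QuotientGroup.mk' (Cfsg.pPrimeCore p G) x *
        (QuotientGroup.mk' (Cfsg.pPrimeCore p G) h)⁻¹) * QuotientGroup.mk' (Cfsg.pPrimeCore p G) h := by
        rw [← h4]
    _ = QuotientGroup.mk' (Cfsg.pPrimeCore p G) h * QuotientGroup.mk' (Cfsg.pPrimeCore p G) x := by group

end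

/-- Let `G` be a finite `p`-solvable group, `N₀ = O_{p'}(G)`, `P₁ = O_{p',p}(G)`, and let `F ≤ P₁` be the preimage of the Frattini subgroup of `P₁/N₀`. Then an element `g` of `G` induces the identity on `P₁/F` by conjugation (that is, `g x g⁻¹ x⁻¹ ∈ F` for all `x ∈ P₁`) if and only if `g ∈ P₁`: the group `G/P₁` acts faithfully on `P₁/F`. -/
theorem result {G : Type*} [Group G] [Finite G] {p : ℕ} [Fact p.Prime] (hG : Cfsg.IsPSolvable p G) (g : G) : (∀ x ∈ Cfsg.pPrimePCore p G, g * x * g⁻¹ * x⁻¹ ∈ ((frattini (↥(Cfsg.pPrimePCore p G) ⧸ (Cfsg.pPrimeCore p G).subgroupOf (Cfsg.pPrimePCore p G))).comap (QuotientGroup.mk' ((Cfsg.pPrimeCore p G).subgroupOf (Cfsg.pPrimePCore p G)))).map (Cfsg.pPrimePCore p G).subtype) ↔ g ∈ Cfsg.pPrimePCore p G := by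
  have hp : p.Prime := Fact.out
  haveI hKn : (Cfsg.pPrimeCore p G).Normal := Cfsg.Agent.H1.pPrimeCore_normal p
  rw [mem_iff]
  constructor
  · intro hg
    -- the normal subgroup `L'`
    set L' := (trivOnFrattini (↥(Cfsg.pPrimePCore p G) ⧸
      (Cfsg.pPrimeCore p G).subgroupOf (Cfsg.pPrimePCore p G))).comap
        (quotAut (Cfsg.pPrimePCore p G) (Cfsg.pPrimeCore p G)) with hL'
    haveI hL'n : L'.Normal := Subgroup.Normal.comap inferInstance _
    have hAp := trivOnFrattini_isPGroup (G := G) (p := p)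
    have hRp : IsPGroup p ↥(Cfsg.pCore p (G ⧸ Cfsg.pPrimeCore p G)) := Cfsg.Agent.H1.pCore_isPGroup p
    have hLp : IsPGroup p ↥(L'.map (QuotientGroup.mk' (Cfsg.pPrimeCore p G))) := by
      rintro ⟨_, y, hy, rfl⟩
      obtain ⟨k, hk⟩ := hAp ⟨_, hy⟩
      have hk' : quotAut (Cfsg.pPrimePCore p G) (Cfsg.pPrimeCore p G) (y ^ p ^ k) = 1 := by
        rw [map_pow]
        have := congrArg Subtype.val hk
        simpa using this
      have hM := mem_of_quotAut_eq_one hG _ hk'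
      rw [mem_pPrimePCore_iff] at hM
      obtain ⟨j, hj⟩ := hRp ⟨_, hM⟩
      have hj' : (QuotientGroup.mk' (Cfsg.pPrimeCore p G) (y ^ p ^ k)) ^ p ^ j = 1 := by
        have := congrArg Subtype.val hj
        simpa using this
      refine ⟨k + j, ?_⟩
      apply Subtype.ext
      rw [Subgroup.coe_pow, Subgroup.coe_one]
      show (QuotientGroup.mk' (Cfsg.pPrimeCore p G) y) ^ p ^ (k + j) = 1
      rw [pow_add, pow_mul, ← map_pow]
      exact hj'
    have hLn : (L'.map (QuotientGroup.mk' (Cfsg.pPrimeCore p G))).Normal :=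
      hL'n.map _ (QuotientGroup.mk'_surjective _)
    have hle := Cfsg.Agent.H1.le_pCore hLn hLp
    rw [mem_pPrimePCore_iff]
    exact hle (Subgroup.mem_map_of_mem _ hg)
  · intro hg
    rw [mem_trivOnFrattini]
    intro x
    induction x using QuotientGroup.induction_on with
    | H x =>
      rw [quotAut_mk]
      obtain ⟨n, hn⟩ := card_section (G := G) (p := p)
      have hPp : IsPGroup p (↥(Cfsg.pPrimePCore p G) ⧸
          (Cfsg.pPrimeCore p G).subgroupOf (Cfsg.pPrimePCore p G)) := IsPGroup.of_card hn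
      have hcf := Cfsg.Agent.H1.commutator_le_frattini hPp
      apply hcf
      rw [commutator_def]
      have h1 : ⁅(((⟨g, hg⟩ : ↥(Cfsg.pPrimePCore p G)) : _ ⧸ (Cfsg.pPrimeCore p G).subgroupOf (Cfsg.pPrimePCore p G))),
          ((x : ↥(Cfsg.pPrimePCore p G)) : _ ⧸ (Cfsg.pPrimeCore p G).subgroupOf (Cfsg.pPrimePCore p G))⁆ ∈
          ⁅(⊤ : Subgroup (↥(Cfsg.pPrimePCore p G) ⧸ (Cfsg.pPrimeCore p G).subgroupOf (Cfsg.pPrimePCore p G))), ⊤⁆ :=
        Subgroup.commutator_mem_commutator (Subgroup.mem_top _) (Subgroup.mem_top _)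
      have e : (((MulAut.conjNormal g : MulAut ↥(Cfsg.pPrimePCore p G)) x : ↥(Cfsg.pPrimePCore p G)) :
          _ ⧸ (Cfsg.pPrimeCore p G).subgroupOf (Cfsg.pPrimePCore p G)) * (x : _ ⧸ _)⁻¹ =
          ⁅(((⟨g, hg⟩ : ↥(Cfsg.pPrimePCore p G)) : _ ⧸ (Cfsg.pPrimeCore p G).subgroupOf (Cfsg.pPrimePCore p G))),
          ((x : ↥(Cfsg.pPrimePCore p G)) : _ ⧸ (Cfsg.pPrimeCore p G).subgroupOf (Cfsg.pPrimePCore p G))⁆ := by
        rw [commutatorElement_def, ← QuotientGroup.mk_inv, ← QuotientGroup.mk_mul, ← QuotientGroup.mk_inv,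
          ← QuotientGroup.mk_mul, ← QuotientGroup.mk_mul, ← QuotientGroup.mk_mul]
        congr 1
      rw [e]
      exact h1

end Cfsg.Agent.S4218
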