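import Mathlib
import Cfsg.Statements.S4222

set_option autoImplicit false
open Cfsg
open scoped Pointwise

namespace Cfsg.Agent.S4222

theorem result {T : Type*} [Group T] [Finite T] (N : Subgroup T) [N.Normal] (hz : Subgroup.center ↥N = ⊥) (ha : Function.Surjective (MulAut.conj : ↥N →* MulAut ↥N)) : (Subgroup.centralizer (N : Set T)).IsComplement' N := by
  apply Subgroup.isComplement'_of_disjoint_and_mul_eq_univ
  · rw [Subgroup.disjoint_def]
    intro x hxC hxN
    have : (⟨x, hxN⟩ : N) ∈ Subgroup.center N := by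
      rw [Subgroup.mem_center_iff]
      intro g
      apply Subtype.ext
      exact (Subgroup.mem_centralizer_iff.1 hxC) g g.2
    rw [hz, Subgroup.mem_bot] at this
    exact congrArg Subtype.val this
  · rw [Set.eq_univ_iff_forall]
    intro t
    -- conjugation by t as an automorphism of N
    let φ : MulAut N := MulAut.conjNormal t
    obtain ⟨n, hn⟩ := ha φ
    refine ⟨t * (n : T)⁻¹, ?_, n, n.2, by group⟩
    rw [SetLike.mem_coe, Subgroup.mem_centralizer_iff]
    intro g hg
    have hall : ∀ g' : N, (n : T) * (g' : T) * (n : T)⁻¹ = t * (g' : T) * t⁻¹ := by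
      intro g'
      have h1 : (MulAut.conj n) g' = φ g' := by rw [hn]
      have := congrArg Subtype.val h1
      simpa [φ, MulAut.conj_apply, MulAut.conjNormal_apply] using this
    have hg' : (n : T)⁻¹ * g * (n : T) ∈ N := by
      have := N.mul_mem (N.mul_mem (N.inv_mem n.2) hg) n.2
      exact this
    have h2 := hall ⟨_, hg'⟩
    simp only at h2
    have h3 : t * ((n : T)⁻¹ * g * (n : T)) * t⁻¹ = g := by
      rw [← h2]; group
    calc g * (t * (n : T)⁻¹) = (t * ((n : T)⁻¹ * g * (n : T)) * t⁻¹) * (t * (n : T)⁻¹) := by rw [h3]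
      _ = t * (n : T)⁻¹ * g := by group

end Cfsg.Agent.S4222
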