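import Mathlib
import Cfsg.Statements.S4223

set_option autoImplicit false
open Cfsg

namespace Cfsg.Agent.S4223

/-- directly indecomposable -/
def Indec (A : Type*) [Group A] : Prop :=
  ∀ H K : Subgroup A, H.Normal → K.Normal → H ⊓ K = ⊥ → H ⊔ K = ⊤ → H = ⊥ ∨ K = ⊥

/-- normal endomorphism -/
def NormalEnd {A : Type*} [Group A] (φ : A →* A) : Prop :=
  ∀ a x, φ (a * x * a⁻¹) = a * φ x * a⁻¹

theorem NormalEnd.iterate {A : Type*} [Group A] {φ : A →* A} (hφ : NormalEnd φ) (k : ℕ) (a x : A) :
    φ^[k] (a * x * a⁻¹) = a * φ^[k] x * a⁻¹ := by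
  induction k with
  | zero => rfl
  | succ k ih => rw [Function.iterate_succ_apply', Function.iterate_succ_apply', ih, hφ]

theorem NormalEnd.comp {A : Type*} [Group A] {φ ψ : A →* A} (hφ : NormalEnd φ) (hψ : NormalEnd ψ) :
    NormalEnd (φ.comp ψ) := by
  intro a x
  simp only [MonoidHom.comp_apply]
  rw [hψ, hφ]

/-- idempotent iterate of a self-map of a finite type -/
theorem exists_idem_iterate {A : Type*} [Finite A] (f : A → A) :
    ∃ k, 0 < k ∧ ∀ x, f^[k] (f^[k] x) = f^[k] x := by
  obtain ⟨m, n, hmn, h⟩ := Finite.exists_ne_map_eq_of_infinite (fun i : ℕ => f^[i])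
  have key : ∀ m d : ℕ, 0 < d → f^[m] = f^[m + d] → ∃ k, 0 < k ∧ ∀ x, f^[k] (f^[k] x) = f^[k] x := by
    intro m d hd h
    have h1 : ∀ t : ℕ, f^[m + t * d] = f^[m] := by
      intro t
      induction t with
      | zero => simp
      | succ t ih =>
        have : m + (t + 1) * d = d + (m + t * d) := by ring
        rw [this, Function.iterate_add, ih, ← Function.iterate_add, add_comm d m, ← h]
    refine ⟨(m + 1) * d, Nat.mul_pos (Nat.succ_pos m) hd, ?_⟩
    intro x
    rw [← Function.iterate_add_apply]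
    have hk : m ≤ (m + 1) * d := by nlinarith
    obtain ⟨r, hr⟩ : ∃ r, (m + 1) * d = m + r := ⟨(m + 1) * d - m, by omega⟩
    have h2 : (m + 1) * d + (m + 1) * d = r + (m + (m + 1) * d) := by omega
    rw [h2, Function.iterate_add_apply, h1 (m + 1)]
    rw [← Function.iterate_add_apply, add_comm r m, ← hr]
  rcases Nat.lt_or_gt_of_ne hmn with hlt | hgt
  · obtain ⟨d, rfl⟩ : ∃ d, n = m + d := ⟨n - m, by omega⟩
    exact key m d (by omega) h
  · obtain ⟨d, rfl⟩ : ∃ d, m = n + d := ⟨m - n, by omega⟩
    exact key n d (by omega) h.symm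

/-- Fitting's lemma for a normal endomorphism of a finite indecomposable group -/
theorem fitting {A : Type*} [Group A] [Finite A] (hA : Indec A) (φ : A →* A) (hφ : NormalEnd φ) :
    Function.Bijective φ ∨ ∃ k : ℕ, ∀ x, φ^[k] x = 1 := by
  obtain ⟨k, hk0, hk⟩ := exists_idem_iterate (φ : A → A)
  let e : A →* A :=
    { toFun := φ^[k]
      map_one' := iterate_map_one φ k
      map_mul' := iterate_map_mul φ k }
  have he : ∀ x, e x = φ^[k] x := fun _ => rfl
  have hnK : (e.range).Normal := by
    constructor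
    rintro y ⟨x, rfl⟩ a
    exact ⟨a * x * a⁻¹, by rw [he, he, hφ.iterate]⟩
  have hnH : (e.ker).Normal := inferInstance
  have hinf : e.ker ⊓ e.range = ⊥ := by
    rw [eq_bot_iff]
    intro x hx
    obtain ⟨hx1, hx2⟩ := Subgroup.mem_inf.mp hx
    obtain ⟨y, rfl⟩ := hx2
    have hx1' : e (e y) = 1 := MonoidHom.mem_ker.mp hx1
    rw [Subgroup.mem_bot]
    have : e (e y) = e y := hk y
    rw [← this, hx1']
  have hsup : e.ker ⊔ e.range = ⊤ := by
    rw [eq_top_iff]
    intro g _
    have h1 : g * (e g)⁻¹ ∈ e.ker := by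
      rw [MonoidHom.mem_ker, map_mul, map_inv]
      have : e (e g) = e g := hk g
      rw [this, mul_inv_cancel]
    have h2 : e g ∈ e.range := ⟨g, rfl⟩
    have : g = g * (e g)⁻¹ * e g := by group
    rw [this]
    exact Subgroup.mul_mem_sup h1 h2
  rcases hA _ _ hnH hnK hinf hsup with h | h
  · left
    have hinj : Function.Injective e := (MonoidHom.ker_eq_bot_iff e).mp h
    have hφinj : Function.Injective φ := by
      intro x y hxy
      apply hinj
      obtain ⟨k', rfl⟩ : ∃ k', k = k' + 1 := ⟨k - 1, by omega⟩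
      rw [he, he, Function.iterate_succ_apply, Function.iterate_succ_apply, hxy]
    exact Finite.injective_iff_bijective.mp hφinj
  · right
    refine ⟨k, fun x => ?_⟩
    have : e x ∈ e.range := ⟨x, rfl⟩
    rw [h, Subgroup.mem_bot] at this
    exact this

/-- if a sum of two endomorphisms is an automorphism, one of them is -/
theorem sum_lemma {A : Type*} [Group A] [Finite A] (hA : Indec A) (φ ψ σ : A →* A)
    (hφ : NormalEnd φ) (hσ : NormalEnd σ) (hσb : Function.Bijective σ)
    (hsum : ∀ x, σ x = φ x * ψ x) : Function.Bijective φ ∨ Function.Bijective ψ := by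
  let τe : A ≃* A := (MulEquiv.ofBijective σ hσb).symm
  have hτσ : ∀ x, τe (σ x) = x := fun x => (MulEquiv.ofBijective σ hσb).symm_apply_apply x
  have hστ : ∀ x, σ (τe x) = x := fun x => (MulEquiv.ofBijective σ hσb).apply_symm_apply x
  have hτ : NormalEnd τe.toMonoidHom := by
    intro a x
    apply hσb.1
    show σ (τe (a * x * a⁻¹)) = σ (a * τe x * a⁻¹)
    rw [hστ, hσ, hστ]
  let φ' : A →* A := φ.comp τe.toMonoidHom
  let ψ' : A →* A := ψ.comp τe.toMonoidHom
  have hφ' : NormalEnd φ' := hφ.comp hτ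
  have hsum' : ∀ x, x = φ' x * ψ' x := by
    intro x
    show x = φ (τe x) * ψ (τe x)
    rw [← hsum, hστ]
  rcases fitting hA φ' hφ' with hb | ⟨k, hk⟩
  · left
    have : (φ : A → A) = φ' ∘ σ := by
      funext x
      show φ x = φ (τe (σ x))
      rw [hτσ]
    rw [this]
    exact hb.comp hσb
  · right
    have hinj : Function.Injective ψ' := by
      rw [injective_iff_map_eq_one]
      intro x hx
      have h1 : φ' x = x := by
        have := hsum' x
        rw [hx, mul_one] at this
        exact this.symm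
      have h2 : φ'^[k] x = x := Function.iterate_fixed h1 k
      rw [← h2, hk]
    have hb : Function.Bijective ψ' := Finite.injective_iff_bijective.mp hinj
    have : (ψ : A → A) = ψ' ∘ σ := by
      funext x
      show ψ x = ψ (τe (σ x))
      rw [hτσ]
    rw [this]
    exact hb.comp hσb

section Main

variable {A : Type*} {A' : Type*} [Group A] [Group A'] {n : ℕ} {B : Fin (n + 1) → Type*}
  [∀ j, Group (B j)]

/-- keep the coordinates in `S`, kill the others -/
def mask (S : Finset (Fin (n + 1))) : (∀ j, B j) →* (∀ j, B j) where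
  toFun f j := if j ∈ S then f j else 1
  map_one' := by
    funext j
    by_cases h : j ∈ S <;> simp [h]
  map_mul' f g := by
    funext j
    by_cases h : j ∈ S <;> simp [h]

theorem mask_apply (S : Finset (Fin (n + 1))) (f : ∀ j, B j) (j : Fin (n + 1)) :
    mask S f j = if j ∈ S then f j else 1 := rfl

theorem mask_conj (S : Finset (Fin (n + 1))) (g f : ∀ j, B j) :
    mask S (g * f * g⁻¹) = g * mask S f * g⁻¹ := by
  funext j
  by_cases h : j ∈ S <;> simp [mask_apply, h]

theorem mask_insert (S : Finset (Fin (n + 1))) (j : Fin (n + 1)) (hj : j ∉ S) (f : ∀ j, B j) :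
    mask (insert j S) f = mask S f * mask {j} f := by
  funext i
  by_cases hi : i = j
  · subst hi
    simp [mask_apply, hj]
  · by_cases hS : i ∈ S <;> simp [mask_apply, hi, hS]

theorem mask_univ (f : ∀ j, B j) : mask Finset.univ f = f := by
  funext i
  simp [mask_apply]

theorem mask_empty (f : ∀ j, B j) : mask (∅ : Finset (Fin (n + 1))) f = 1 := by
  funext i
  simp [mask_apply]

theorem mask_single (j : Fin (n + 1)) (f : ∀ j, B j) : mask {j} f = Pi.mulSingle j (f j) := by
  funext i
  by_cases hi : i = j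
  · subst hi
    simp [mask_apply]
  · simp [mask_apply, hi]

section
variable (e : A × A' ≃* (∀ j, B j))

/-- the endomorphisms of `A` obtained from the projections of the second decomposition -/
def Θ (S : Finset (Fin (n + 1))) : A →* A :=
  (MonoidHom.fst A A').comp (e.symm.toMonoidHom.comp ((mask S).comp
    (e.toMonoidHom.comp (MonoidHom.inl A A'))))

theorem Θ_apply (S : Finset (Fin (n + 1))) (x : A) :
    Θ e S x = (e.symm (mask S (e (x, 1)))).1 := rfl

theorem Θ_normal (S : Finset (Fin (n + 1))) : NormalEnd (Θ e S) := by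
  intro a x
  rw [Θ_apply, Θ_apply]
  have h1 : ((a * x * a⁻¹, 1) : A × A') = (a, 1) * (x, 1) * (a, 1)⁻¹ := by
    ext <;> simp
  have h2 : e ((a, 1) * (x, 1) * (a, 1)⁻¹) = e (a, 1) * e (x, 1) * (e (a, 1))⁻¹ := by
    simp only [map_mul, map_inv]
  rw [h1, h2, mask_conj]
  have h3 : e.symm (e (a, 1) * mask S (e (x, 1)) * (e (a, 1))⁻¹) =
      (a, 1) * e.symm (mask S (e (x, 1))) * (a, 1)⁻¹ := by
    simp only [map_mul, map_inv, MulEquiv.symm_apply_apply]
  rw [h3]
  simp

theorem Θ_univ (x : A) : Θ e Finset.univ x = x := by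
  rw [Θ_apply, mask_univ]
  simp

theorem Θ_empty (x : A) : Θ e ∅ x = 1 := by
  rw [Θ_apply, mask_empty]
  simp

theorem Θ_insert (S : Finset (Fin (n + 1))) (j : Fin (n + 1)) (hj : j ∉ S) (x : A) :
    Θ e (insert j S) x = Θ e S x * Θ e {j} x := by
  rw [Θ_apply, Θ_apply, Θ_apply, mask_insert S j hj, map_mul]
  rfl

theorem exists_bij [Finite A] [Nontrivial A] (hA : Indec A) (S : Finset (Fin (n + 1))) :
    Function.Bijective (Θ e S) → ∃ j ∈ S, Function.Bijective (Θ e {j}) := by
  induction S using Finset.induction_on with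
  | empty =>
    intro hb
    exfalso
    obtain ⟨x, hx⟩ := exists_ne (1 : A)
    apply hx
    apply hb.1
    rw [Θ_empty, Θ_empty]
  | insert j S hj ih =>
    intro hb
    rcases sum_lemma hA (Θ e S) (Θ e {j}) (Θ e (insert j S)) (Θ_normal e S)
      (Θ_normal e _) hb (Θ_insert e S j hj) with h | h
    · obtain ⟨i, hi, hbi⟩ := ih h
      exact ⟨i, Finset.mem_insert_of_mem hi, hbi⟩
    · exact ⟨j, Finset.mem_insert_self j S, h⟩

end

theorem iterate_comp_comm {X Y : Type*} (v : Y → X) (u : X → Y) (k : ℕ) (x : X) :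
    (v ∘ u)^[k + 1] x = v ((u ∘ v)^[k] (u x)) := by
  induction k generalizing x with
  | zero => rfl
  | succ k ih =>
    rw [Function.iterate_succ_apply, ih, Function.iterate_succ_apply]
    rfl

/-- the exchange lemma -/
theorem exchange [Finite A] [Finite A'] [∀ j, Finite (B j)] [Nontrivial A]
    (e : A × A' ≃* (∀ j, B j)) (hA : Indec A)
    (hB : ∀ j, Indec (B j)) :
    ∃ j : Fin (n + 1), Nonempty (A ≃* B j) ∧ Nonempty (A' ≃* (∀ k : Fin n, B (j.succAbove k))) := by
  classical
  obtain ⟨j, -, hθ⟩ := exists_bij e hA Finset.univ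
    (by
      have : (Θ e Finset.univ : A → A) = id := funext (Θ_univ e)
      rw [this]
      exact Function.bijective_id)
  let u : A →* B j := (Pi.evalMonoidHom B j).comp (e.toMonoidHom.comp (MonoidHom.inl A A'))
  let v : B j →* A := (MonoidHom.fst A A').comp (e.symm.toMonoidHom.comp (MonoidHom.mulSingle B j))
  have hu : ∀ x, u x = e (x, 1) j := fun _ => rfl
  have hv : ∀ b, v b = (e.symm (Pi.mulSingle j b)).1 := fun _ => rfl
  have hvu : ∀ x, v (u x) = Θ e {j} x := by
    intro x
    rw [hv, hu, Θ_apply, mask_single]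
  let ρ : B j →* B j := u.comp v
  have hρ : NormalEnd ρ := by
    intro b y
    show u (v (b * y * b⁻¹)) = b * u (v y) * b⁻¹
    rw [hu, hu]
    have h1 : ((v (b * y * b⁻¹), 1) : A × A') =
        e.symm (Pi.mulSingle j b) * (v y, 1) * (e.symm (Pi.mulSingle j b))⁻¹ := by
      ext
      · simp only [Prod.fst_mul, Prod.fst_inv]
        rw [hv, hv]
        rw [Pi.mulSingle_mul, Pi.mulSingle_mul, Pi.mulSingle_inv, map_mul, map_mul, map_inv]
        simp
      · simp
    rw [h1, map_mul, map_mul, map_inv, MulEquiv.apply_symm_apply]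
    simp
  have hvub : Function.Bijective (v ∘ u) := by
    have : (v ∘ u : A → A) = Θ e {j} := funext hvu
    rw [this]
    exact hθ
  have hρb : Function.Bijective ρ := by
    rcases fitting (hB j) ρ hρ with h | ⟨k, hk⟩
    · exact h
    · exfalso
      obtain ⟨x, hx⟩ := exists_ne (1 : A)
      apply hx
      have hit : Function.Bijective ((v ∘ u)^[k + 1]) := hvub.iterate (k + 1)
      apply hit.1
      rw [iterate_comp_comm, iterate_comp_comm]
      have h2 : ∀ y, (⇑u ∘ ⇑v)^[k] y = 1 := hk
      rw [h2, h2]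
  have hvb : Function.Bijective v := by
    constructor
    · have : Function.Injective (u ∘ v) := hρb.1
      exact this.of_comp
    · exact hvub.2.of_comp
  have hAB : Nat.card A = Nat.card (B j) := (Nat.card_congr (Equiv.ofBijective v hvb)).symm
  refine ⟨j, ⟨(MulEquiv.ofBijective v hvb).symm⟩, ?_⟩
  -- the complement
  let restr : (∀ i, B i) →* (∀ k : Fin n, B (j.succAbove k)) :=
    { toFun := fun f k => f (j.succAbove k)
      map_one' := rfl
      map_mul' := fun _ _ => rfl }
  let t : A' →* (∀ k : Fin n, B (j.succAbove k)) :=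
    restr.comp (e.toMonoidHom.comp (MonoidHom.inr A A'))
  have ht : ∀ a' k, t a' k = e (1, a') (j.succAbove k) := fun _ _ => rfl
  have htinj : Function.Injective t := by
    rw [injective_iff_map_eq_one]
    intro a' ha'
    have h1 : e (1, a') = Pi.mulSingle j (e (1, a') j) := by
      funext i
      rcases Fin.eq_self_or_eq_succAbove j i with hi | ⟨k, hk⟩
      · rw [hi]; simp
      · rw [hk, Pi.mulSingle_eq_of_ne (Fin.succAbove_ne j k)]
        have := congrFun ha' k
        rw [ht] at this
        exact this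
    have h2 : ((1, a') : A × A') = e.symm (Pi.mulSingle j (e (1, a') j)) := by
      rw [← h1, MulEquiv.symm_apply_apply]
    have h3 : v (e (1, a') j) = 1 := by
      rw [hv, ← h2]
    have h4 : e (1, a') j = 1 := by
      apply hvb.1
      rw [h3, map_one]
    rw [h4, Pi.mulSingle_one] at h2
    have := congrArg Prod.snd h2
    simpa using this
  have hcard : Nat.card A' = Nat.card (∀ k : Fin n, B (j.succAbove k)) := by
    have h1 : Nat.card (A × A') = Nat.card (∀ i, B i) := Nat.card_congr e.toEquiv
    have h2 : Nat.card (∀ i, B i) = Nat.card (B j) * Nat.card (∀ k : Fin n, B (j.succAbove k)) := by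
      rw [← Nat.card_prod]
      exact (Nat.card_congr (Fin.insertNthEquiv B j)).symm
    rw [Nat.card_prod, h2, hAB] at h1
    have hpos : 0 < Nat.card (B j) := Nat.card_pos
    exact Nat.eq_of_mul_eq_mul_left hpos h1
  have htb : Function.Bijective t :=
    htinj.bijective_of_nat_card_le hcard.ge
  exact ⟨MulEquiv.ofBijective t htb⟩

end Main

/-- splitting off the first coordinate -/
def splitZero {m : ℕ} (A : Fin (m + 1) → Type*) [∀ i, Group (A i)] :
    (∀ i, A i) ≃* A 0 × (∀ i : Fin m, A i.succ) where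
  toFun f := (f 0, fun i => f i.succ)
  invFun p := Fin.cons p.1 p.2
  left_inv f := by
    funext i
    refine Fin.cases ?_ (fun i => ?_) i <;> simp
  right_inv p := by
    ext <;> simp
  map_mul' _ _ := rfl

theorem main : ∀ (m : ℕ) {n : ℕ} (A : Fin m → Type*) (B : Fin n → Type*) [∀ i, Group (A i)]
    [∀ j, Group (B j)] [∀ i, Finite (A i)] [∀ j, Finite (B j)]
    (_ : ∀ i, Nontrivial (A i) ∧ Indec (A i)) (_ : ∀ j, Nontrivial (B j) ∧ Indec (B j))
    (_ : (∀ i, A i) ≃* (∀ j, B j)), ∃ σ : Fin m ≃ Fin n, ∀ i, Nonempty (A i ≃* B (σ i)) := by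
  intro m
  induction m with
  | zero =>
    intro n A B _ _ _ _ hA hB e
    rcases n with _ | n
    · exact ⟨Equiv.refl _, fun i => i.elim0⟩
    · exfalso
      have := (hB 0).1
      obtain ⟨b, hb⟩ := exists_ne (1 : B 0)
      apply hb
      have h1 : e.symm (Pi.mulSingle 0 b) = e.symm 1 := Subsingleton.elim _ _
      have h2 := e.symm.injective h1
      have := congrFun h2 0
      simpa using this
  | succ m ih =>
    intro n A B _ _ _ _ hA hB e
    rcases n with _ | n
    · exfalso
      have := (hA 0).1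
      obtain ⟨a, ha⟩ := exists_ne (1 : A 0)
      apply ha
      have h1 : e (Pi.mulSingle 0 a) = e 1 := Subsingleton.elim _ _
      have h2 := e.injective h1
      have := congrFun h2 0
      simpa using this
    · have := (hA 0).1
      let e' : A 0 × (∀ i : Fin m, A i.succ) ≃* (∀ j, B j) := (splitZero A).symm.trans e
      obtain ⟨j, ⟨f0⟩, ⟨f1⟩⟩ := exchange e' (hA 0).2 (fun j => (hB j).2)
      obtain ⟨σ', hσ'⟩ := ih (fun i => A i.succ) (fun k => B (j.succAbove k))
        (fun i => hA i.succ) (fun k => hB (j.succAbove k)) f1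
      let σ : Fin (m + 1) ≃ Fin (n + 1) :=
        (finSuccEquiv m).trans ((Equiv.optionCongr σ').trans (finSuccEquiv' j).symm)
      have hσ0 : σ 0 = j := by
        simp [σ]
      have hσs : ∀ i : Fin m, σ i.succ = j.succAbove (σ' i) := by
        intro i
        simp [σ]
      refine ⟨σ, fun i => ?_⟩
      refine Fin.cases ?_ (fun i => ?_) i
      · rw [hσ0]
        exact ⟨f0⟩
      · rw [hσs]
        exact hσ' i

/-- If a finite group is isomorphic both to a direct product of `m` directly indecomposable nontrivial groups and to a direct product of `n` such groups (a group is directly indecomposable when it is not the internal direct product of two nontrivial normal subgroups), then `m = n` and the factors are isomorphic in pairs after a suitable matching. -/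
theorem result {m n : ℕ} {A : Fin m → Type*} {B : Fin n → Type*} [∀ i, Group (A i)] [∀ j, Group (B j)] [∀ i, Finite (A i)] [∀ j, Finite (B j)] (hA : ∀ i, Nontrivial (A i) ∧ ∀ H K : Subgroup (A i), H.Normal → K.Normal → H ⊓ K = ⊥ → H ⊔ K = ⊤ → H = ⊥ ∨ K = ⊥) (hB : ∀ j, Nontrivial (B j) ∧ ∀ H K : Subgroup (B j), H.Normal → K.Normal → H ⊓ K = ⊥ → H ⊔ K = ⊤ → H = ⊥ ∨ K = ⊥) (e : ((i : Fin m) → A i) ≃* ((j : Fin n) → B j)) : ∃ σ : Fin m ≃ Fin n, ∀ i, Nonempty (A i ≃* B (σ i)) := by
  exact main m A B hA hB e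

end Cfsg.Agent.S4223
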