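import Mathlib
import Cfsg.Statements.S4230

set_option autoImplicit false
open Cfsg

namespace Cfsg.Agent.S4230

open Polynomial

/-- Let p be an odd prime, q a natural number not divisible by p, and e the multiplicative order of q modulo p. For a natural number f, p divides the value at q of the f-th cyclotomic polynomial if and only if f = e·p^j for some j ≥ 0. -/
theorem result (p q f : ℕ) (hp : p.Prime) (hp2 : p ≠ 2) (hpq : ¬ p ∣ q) :
    ((p : ℤ) ∣ (Polynomial.cyclotomic f ℤ).eval (q : ℤ)) ↔ ∃ j : ℕ, f = orderOf (q : ZMod p) * p ^ j := by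
  have hpf : Fact p.Prime := ⟨hp⟩
  have hq0 : (q : ZMod p) ≠ 0 := by
    rw [Ne, ZMod.natCast_eq_zero_iff]; exact hpq
  have he1 : orderOf (q : ZMod p) ∣ p - 1 := ZMod.orderOf_dvd_card_sub_one hq0
  have hepos : 0 < orderOf (q : ZMod p) := by
    apply Nat.pos_of_ne_zero
    intro h
    rw [h, zero_dvd_iff] at he1
    have := hp.one_lt
    omega
  have hpe : ¬ p ∣ orderOf (q : ZMod p) := by
    intro h
    have h1 := Nat.le_of_dvd hepos h
    have h2 := Nat.le_of_dvd (by have := hp.one_lt; omega) he1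
    have := hp.one_lt
    omega
  have htrans : ((p : ℤ) ∣ (Polynomial.cyclotomic f ℤ).eval (q : ℤ)) ↔
      (cyclotomic f (ZMod p)).IsRoot (q : ZMod p) := by
    rw [← ZMod.intCast_zmod_eq_zero_iff_dvd, IsRoot.def, ← map_cyclotomic_int f (ZMod p)]
    have := eval_intCast_map (Int.castRingHom (ZMod p)) (cyclotomic f ℤ) (q : ℤ)
    simp only [Int.cast_natCast, eq_intCast] at this
    rw [this]
  rw [htrans]
  constructor
  · intro h
    have hf0 : f ≠ 0 := by
      rintro rfl
      rw [cyclotomic_zero, IsRoot.def, eval_one] at h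
      exact one_ne_zero h
    obtain ⟨k, m, hm, hfm⟩ := Nat.exists_eq_pow_mul_and_not_dvd hf0 p hp.ne_one
    have hmz : NeZero ((m : ℕ) : ZMod p) := ⟨by
      rw [Ne, ZMod.natCast_eq_zero_iff]; exact hm⟩
    rw [hfm, isRoot_cyclotomic_prime_pow_mul_iff_of_charP] at h
    refine ⟨k, ?_⟩
    rw [hfm, ← h.eq_orderOf, mul_comm]
  · rintro ⟨j, rfl⟩
    have hmz : NeZero ((orderOf (q : ZMod p) : ℕ) : ZMod p) := ⟨by
      rw [Ne, ZMod.natCast_eq_zero_iff]; exact hpe⟩
    rw [mul_comm, isRoot_cyclotomic_prime_pow_mul_iff_of_charP]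
    exact IsPrimitiveRoot.orderOf _

end Cfsg.Agent.S4230
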