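import Cfsg.Statements.S4236
import Cfsg.Agent.S0713
import Mathlib

set_option autoImplicit false
set_option linter.unusedSectionVars false
open Cfsg

namespace Cfsg.Agent.S4236

open MulAction

section abstract

variable {H : Type*} [Group H]

/-- An element of order coprime to `6` permuting (by conjugation) a set with at most three
elements fixes each of them. -/
lemma conj_fix_of_small (E : Set H) (hEfin : E.Finite) (hE : Set.ncard E ≤ 3) (y : H)
    (hy : ∀ x ∈ E, y * x * y⁻¹ ∈ E) (hfin : IsOfFinOrder y) (hord : Nat.Coprime (orderOf y) 6) :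
    ∀ x ∈ E, y * x * y⁻¹ = x := by
  intro x hx
  set D : Subgroup (ConjAct H) := Subgroup.zpowers (ConjAct.toConjAct y) with hD
  have hyD : ConjAct.toConjAct y ∈ D := Subgroup.mem_zpowers _
  have hfin' : IsOfFinOrder (ConjAct.toConjAct y) :=
    (ConjAct.toConjAct (G := H)).toMonoidHom.isOfFinOrder hfin
  have hord' : orderOf (ConjAct.toConjAct y) = orderOf y :=
    orderOf_injective (ConjAct.toConjAct (G := H)).toMonoidHom (ConjAct.toConjAct (G := H)).injective y
  have : Finite D := by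
    rw [hD]
    exact (finite_zpowers.mpr hfin').to_subtype
  have hpow : ∀ k : ℕ, ∀ z ∈ E, y ^ k * z * (y ^ k)⁻¹ ∈ E := by
    intro k
    induction k with
    | zero => intro z hz; simpa using hz
    | succ k ih =>
      intro z hz
      have := hy _ (ih z hz)
      rw [pow_succ']
      simpa [mul_assoc] using this
  have hsub : orbit D x ⊆ E := by
    rintro w ⟨d, rfl⟩
    obtain ⟨k, hk⟩ := (hfin'.mem_powers_iff_mem_zpowers).mpr d.2
    have hk' : ConjAct.toConjAct (y ^ k) = (d : ConjAct H) := by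
      rw [← hk, map_pow]
    change (d : ConjAct H) • x ∈ E
    rw [← hk', ConjAct.toConjAct_smul]
    exact hpow k x hx
  have hidx : (stabilizer D x).index = Set.ncard (orbit D x) := MulAction.index_stabilizer D x
  have hle : (stabilizer D x).index ≤ 3 := by
    rw [hidx]
    exact (Set.ncard_le_ncard hsub hEfin).trans hE
  have hdvd : (stabilizer D x).index ∣ orderOf y := by
    have := Subgroup.index_dvd_card (stabilizer D x)
    rw [hD, Nat.card_zpowers, hord'] at this
    exact this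
  have hcop : Nat.Coprime (stabilizer D x).index 6 := Nat.Coprime.coprime_dvd_left hdvd hord
  have hpos : (stabilizer D x).index ≠ 0 := Subgroup.index_ne_zero_of_finite
  have hone : (stabilizer D x).index = 1 := by
    interval_cases h : (stabilizer D x).index
    · exact absurd rfl hpos
    · rfl
    · norm_num at hcop
    · norm_num at hcop
  rw [Subgroup.index_eq_one] at hone
  have hmem : (⟨ConjAct.toConjAct y, hyD⟩ : D) ∈ stabilizer D x := by rw [hone]; trivial
  have := mem_stabilizer_iff.mp hmem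
  change ConjAct.toConjAct y • x = x at this
  rwa [ConjAct.toConjAct_smul] at this

/-- An odd order element normalising an abelian `2`-group and centralising its elements of order
at most two centralises the whole group. -/
lemma conj_fix_two_group (S : Subgroup H) (hab : ∀ a ∈ S, ∀ b ∈ S, a * b = b * a) (y : H)
    (hy : ∀ x ∈ S, y * x * y⁻¹ ∈ S) (hodd : Odd (orderOf y))
    (h1 : ∀ x ∈ S, x ^ 2 = 1 → y * x * y⁻¹ = x) :
    ∀ k : ℕ, ∀ x ∈ S, x ^ 2 ^ k = 1 → y * x * y⁻¹ = x := by
  intro k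
  induction k with
  | zero =>
    intro x _ hx1
    rw [pow_zero, pow_one] at hx1
    rw [hx1]; group
  | succ k ih =>
    intro x hx hxk
    have hx2 : (x ^ 2) ^ 2 ^ k = 1 := by rw [← pow_mul, ← pow_succ']; exact hxk
    have hfix2 : y * x ^ 2 * y⁻¹ = x ^ 2 := ih _ (S.pow_mem hx 2) hx2
    set x' := y * x * y⁻¹ with hx'
    have hx'S : x' ∈ S := hy x hx
    set s := x⁻¹ * x' with hs
    have hsS : s ∈ S := S.mul_mem (S.inv_mem hx) hx'S
    have hx'2 : x' ^ 2 = x ^ 2 := by
      rw [hx', ← hfix2]; simp [pow_two, mul_assoc]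
    have hs2 : s ^ 2 = 1 := by
      have hc : Commute x⁻¹ x' := hab _ (S.inv_mem hx) _ hx'S
      rw [hs, hc.mul_pow, hx'2, inv_pow, inv_mul_cancel]
    have hsfix : y * s * y⁻¹ = s := h1 s hsS hs2
    have hxx' : x' = x * s := by rw [hs, mul_inv_cancel_left]
    have hiter : ∀ n : ℕ, y ^ n * x * (y ^ n)⁻¹ = x * s ^ n := by
      intro n
      induction n with
      | zero => simp
      | succ n ihn =>
        have hsn : y * s ^ n * y⁻¹ = s ^ n := by
          have : y * s ^ n * y⁻¹ = (y * s * y⁻¹) ^ n := by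
            simp [conj_pow]
          rw [this, hsfix]
        calc y ^ (n + 1) * x * (y ^ (n + 1))⁻¹
            = y * (y ^ n * x * (y ^ n)⁻¹) * y⁻¹ := by rw [pow_succ']; group
          _ = y * (x * s ^ n) * y⁻¹ := by rw [ihn]
          _ = (y * x * y⁻¹) * (y * s ^ n * y⁻¹) := by group
          _ = x * s ^ (n + 1) := by rw [hsn, ← hx', hxx', mul_assoc, ← pow_succ']
    have hn := hiter (orderOf y)
    rw [pow_orderOf_eq_one, one_mul, inv_one, mul_one] at hn
    have hsn : s ^ orderOf y = 1 := by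
      have := mul_left_cancel (a := x) (b := 1) (c := s ^ orderOf y) (by rw [mul_one]; exact hn)
      exact this.symm
    obtain ⟨m, hm⟩ := hodd
    rw [hm, pow_succ, pow_mul, hs2, one_pow, one_mul] at hsn
    rw [hxx', hsn, mul_one]

/-- If `g` normalises a subgroup `A` of prime order `p`, then `g ^ (p - 1)` centralises `A`. -/
lemma aut_pow (A : Subgroup H) {p : ℕ} (hp : p.Prime) (hA : Nat.card A = p) {g : H}
    (hg : g ∈ Subgroup.normalizer (A : Set H)) : ∀ a ∈ A, g ^ (p - 1) * a = a * g ^ (p - 1) := by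
  have : Fact p.Prime := ⟨hp⟩
  have hcyc : IsCyclic A := isCyclic_of_prime_card hA
  have : Finite A := Nat.finite_of_card_ne_zero (by rw [hA]; exact hp.ne_zero)
  have hcard : Nat.card (MulAut A) = p - 1 := by
    rw [IsCyclic.card_mulAut A, hA, Nat.totient_prime hp]
  have : Finite (MulAut A) := Nat.finite_of_card_ne_zero (by
    rw [hcard]; have := hp.two_le; omega)
  set x : Subgroup.normalizer (A : Set H) := ⟨g, hg⟩ with hx
  have h1 : (A.normalizerMonoidHom x) ^ (p - 1) = 1 := by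
    rw [← hcard]; exact pow_card_eq_one'
  have h2 : x ^ (p - 1) ∈ A.normalizerMonoidHom.ker := by
    rw [MonoidHom.mem_ker, map_pow, h1]
  rw [Subgroup.normalizerMonoidHom_ker, Subgroup.mem_subgroupOf] at h2
  have h3 : g ^ (p - 1) ∈ Subgroup.centralizer (A : Set H) := by simpa [hx] using h2
  intro a ha
  exact (Subgroup.mem_centralizer_iff.mp h3 a ha).symm

lemma exp_of_card {A : Subgroup H} {n : ℕ} (hA : Nat.card A = n) : ∀ a ∈ A, a ^ n = 1 := by
  intro a ha
  have : (⟨a, ha⟩ : A) ^ Nat.card A = 1 := pow_card_eq_one'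
  rw [hA] at this
  have := congrArg Subtype.val this
  simpa using this

lemma comm_of_prime_card {A : Subgroup H} {p : ℕ} (hp : p.Prime) (hA : Nat.card A = p) :
    ∀ a ∈ A, ∀ b ∈ A, a * b = b * a := by
  have : Fact p.Prime := ⟨hp⟩
  have hcyc : IsCyclic A := isCyclic_of_prime_card hA
  intro a ha b hb
  have hc : IsMulCommutative A := IsCyclic.isMulCommutative
  have := mul_comm' (⟨a, ha⟩ : A) ⟨b, hb⟩
  have := congrArg Subtype.val this
  simpa using this

end abstract

section core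

variable {H : Type*} [Group H] {Ω : Type*} [Fintype Ω] [MulAction H Ω]

/-- Orbits of a `17`-group on `35` points have size `1` or `17`. -/
lemma orbit_card (hΩ : Fintype.card Ω = 35) (Q : Subgroup H) (hQ : IsPGroup 17 Q) (ω : Ω)
    (hω : ∃ q ∈ Q, q • ω ≠ ω) : Set.ncard (orbit Q ω) = 17 := by
  classical
  have : Fact (Nat.Prime 17) := ⟨by norm_num⟩
  obtain ⟨n, hn⟩ := hQ.card_orbit ω
  rw [Nat.card_coe_set_eq] at hn
  have hle : Set.ncard (orbit Q ω) ≤ 35 := by
    have := Set.ncard_le_card (orbit Q ω)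
    rw [Nat.card_eq_fintype_card, hΩ] at this
    exact this
  rcases n with _ | _ | n
  · exfalso
    obtain ⟨q, hq, hne⟩ := hω
    rw [pow_zero, Set.ncard_eq_one] at hn
    obtain ⟨a, ha⟩ := hn
    have h1 : ω ∈ orbit Q ω := mem_orbit_self ω
    have h2 : (⟨q, hq⟩ : Q) • ω ∈ orbit Q ω := mem_orbit ω _
    rw [ha, Set.mem_singleton_iff] at h1 h2
    apply hne
    change (⟨q, hq⟩ : Q) • ω = ω
    rw [h2]; exact h1.symm
  · simpa using hn
  · exfalso
    rw [hn] at hle
    have : 17 ^ 2 ≤ 17 ^ (n + 1 + 1) := Nat.pow_le_pow_right (by norm_num) (by omega)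
    omega

/-- The standing hypotheses: a `17`-subgroup `Q` acting on `35` points with exactly one fixed
point `ω0`. -/
structure Setup (Q : Subgroup H) (ω0 : Ω) : Prop where
  card : Fintype.card Ω = 35
  pgroup : IsPGroup 17 Q
  fix : ∀ q ∈ Q, q • ω0 = ω0
  uniq : ∀ ω : Ω, (∀ q ∈ Q, q • ω = ω) → ω = ω0

lemma Setup.orbit17 {Q : Subgroup H} {ω0 : Ω} (hS : Setup Q ω0) {ω : Ω} (hω : ω ≠ ω0) :
    Set.ncard (orbit Q ω) = 17 := by
  apply orbit_card hS.card Q hS.pgroup
  by_contra hcon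
  push Not at hcon
  exact hω (hS.uniq ω hcon)

lemma Setup.notMem_orbit {Q : Subgroup H} {ω0 : Ω} (hS : Setup Q ω0) {ω : Ω} (hω : ω ≠ ω0) :
    ω0 ∉ orbit Q ω := by
  rintro ⟨q, hq⟩
  apply hω
  have h1 : (q : H) • ω = ω0 := hq
  have h2 : (q : H)⁻¹ • ω0 = ω0 := hS.fix _ (Q.inv_mem q.2)
  rw [← h2, ← h1, inv_smul_smul]

/-- The three orbits cover everything. -/
lemma Setup.cover {Q : Subgroup H} {ω0 : Ω} (hS : Setup Q ω0) {ω1 ω2 : Ω} (h1 : ω1 ≠ ω0)
    (h2 : ω2 ≠ ω0) (h12 : ω2 ∉ orbit Q ω1) (ω : Ω) :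
    ω = ω0 ∨ ω ∈ orbit Q ω1 ∨ ω ∈ orbit Q ω2 := by
  classical
  have hd12 : Disjoint (orbit Q ω1) (orbit Q ω2) := by
    rw [Set.disjoint_left]
    intro x hx1 hx2
    apply h12
    rw [← orbit_eq_iff] at hx1 hx2
    rw [← hx1, hx2]
    exact mem_orbit_self _
  have hd0 : Disjoint ({ω0} : Set Ω) (orbit Q ω1 ∪ orbit Q ω2) := by
    rw [Set.disjoint_singleton_left]
    rintro (h | h)
    · exact hS.notMem_orbit h1 h
    · exact hS.notMem_orbit h2 h
  have hc : Set.ncard (({ω0} : Set Ω) ∪ (orbit Q ω1 ∪ orbit Q ω2)) = 35 := by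
    rw [Set.ncard_union_eq hd0 (Set.toFinite _) (Set.toFinite _),
      Set.ncard_union_eq hd12 (Set.toFinite _) (Set.toFinite _), hS.orbit17 h1, hS.orbit17 h2,
      Set.ncard_singleton]
  have hu : (({ω0} : Set Ω) ∪ (orbit Q ω1 ∪ orbit Q ω2)) = Set.univ := by
    apply Set.eq_of_subset_of_ncard_le (Set.subset_univ _) _ (Set.toFinite _)
    rw [hc, Set.ncard_univ, Nat.card_eq_fintype_card, hS.card]
  have := Set.mem_univ ω
  rw [← hu] at this
  simpa using this

lemma Setup.exists_third {Q : Subgroup H} {ω0 : Ω} (hS : Setup Q ω0) {ω1 : Ω} (h1 : ω1 ≠ ω0) :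
    ∃ ω2 : Ω, ω2 ≠ ω0 ∧ ω2 ∉ orbit Q ω1 := by
  classical
  by_contra hcon
  push Not at hcon
  have hsub : (Set.univ : Set Ω) ⊆ ({ω0} : Set Ω) ∪ orbit Q ω1 := by
    intro ω _
    by_cases h : ω = ω0
    · left; exact h
    · right; exact hcon ω h
  have h3 := Set.ncard_le_ncard hsub (Set.toFinite _)
  have h4 := Set.ncard_union_le ({ω0} : Set Ω) (orbit Q ω1)
  rw [Set.ncard_univ, Nat.card_eq_fintype_card, hS.card] at h3
  rw [Set.ncard_singleton, hS.orbit17 h1] at h4
  omega

lemma Setup.exists_ne {Q : Subgroup H} {ω0 : Ω} (hS : Setup Q ω0) : ∃ ω1 : Ω, ω1 ≠ ω0 := by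
  by_contra hcon
  push Not at hcon
  have : Fintype.card Ω ≤ 1 := Fintype.card_le_one_iff.mpr (fun a b => by rw [hcon a, hcon b])
  rw [hS.card] at this
  omega

omit [Fintype Ω] in
lemma pow_smul_fix {h : H} {ω : Ω} (hh : h • ω = ω) (n : ℕ) : h ^ n • ω = ω := by
  have : h ∈ stabilizer H ω := hh
  exact (stabilizer H ω).pow_mem this n

/-- An element commuting with `Q` fixes `ω0`. -/
lemma Setup.comm_fix {Q : Subgroup H} {ω0 : Ω} (hS : Setup Q ω0) {g : H}
    (hg : ∀ q ∈ Q, g * q = q * g) : g • ω0 = ω0 := by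
  apply hS.uniq
  intro q hq
  rw [← mul_smul, ← hg q hq, mul_smul, hS.fix q hq]

/-- Key lemma: an element centralising `Q` (abelian of exponent `17`) and mapping `ω1` into its own
`Q`-orbit has order dividing `17`. -/
lemma Setup.pow17 [FaithfulSMul H Ω] {Q : Subgroup H} {ω0 : Ω} (hS : Setup Q ω0)
    (hexp : ∀ q ∈ Q, q ^ 17 = 1) (hab : ∀ a ∈ Q, ∀ b ∈ Q, a * b = b * a) {g : H}
    (hg : ∀ q ∈ Q, g * q = q * g) {ω1 : Ω} (h1 : ω1 ≠ ω0) (hgω : g • ω1 ∈ orbit Q ω1) :
    g ^ 17 = 1 := by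
  obtain ⟨q1, hq1⟩ := hgω
  have hq1' : (q1 : H) • ω1 = g • ω1 := hq1
  set h : H := (q1 : H)⁻¹ * g with hdef
  have hcomm : ∀ q ∈ Q, h * q = q * h := by
    intro q hq
    rw [hdef, mul_assoc, hg q hq, ← mul_assoc, ← mul_assoc]
    congr 1
    have := hab q hq (q1 : H)⁻¹ (Q.inv_mem q1.2)
    exact this.symm
  have hω1 : h • ω1 = ω1 := by
    rw [hdef, mul_smul, ← hq1', inv_smul_smul]
  have hO1 : ∀ ω ∈ orbit Q ω1, h • ω = ω := by
    rintro ω ⟨q, rfl⟩
    change h • ((q : H) • ω1) = (q : H) • ω1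
    rw [← mul_smul, hcomm q q.2, mul_smul, hω1]
  have hω0 : h • ω0 = ω0 := hS.comm_fix hcomm
  obtain ⟨ω2, h2, h12⟩ := hS.exists_third h1
  have hmem : h • ω2 ∈ orbit Q ω2 := by
    rcases hS.cover h1 h2 h12 (h • ω2) with hc | hc | hc
    · exfalso
      apply h2
      have : h • ω2 = h • ω0 := by rw [hc, hω0]
      exact smul_left_cancel h this
    · exfalso
      apply h12
      have : h • ω2 = h • (h • ω2) := by rw [hO1 _ hc]
      have h3 := smul_left_cancel h this
      rw [h3]; exact hc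
    · exact hc
  obtain ⟨q2, hq2⟩ := hmem
  have hq2' : (q2 : H) • ω2 = h • ω2 := hq2
  have hpow : ∀ n : ℕ, h ^ n • ω2 = (q2 : H) ^ n • ω2 := by
    intro n
    induction n with
    | zero => simp
    | succ n ih =>
      rw [pow_succ', mul_smul, ih, ← mul_smul, (Commute.pow_right (hcomm q2 q2.2) n).eq, mul_smul,
        ← hq2', ← mul_smul, ← pow_succ]
  have h17ω2 : h ^ 17 • ω2 = ω2 := by
    rw [hpow 17, hexp q2 q2.2, one_smul]
  have hcomm17 : ∀ q ∈ Q, h ^ 17 * q = q * h ^ 17 := by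
    intro q hq
    exact (Commute.pow_left (hcomm q hq) 17).eq
  have hO2 : ∀ ω ∈ orbit Q ω2, h ^ 17 • ω = ω := by
    rintro ω ⟨q, rfl⟩
    change h ^ 17 • ((q : H) • ω2) = (q : H) • ω2
    rw [← mul_smul, hcomm17 q q.2, mul_smul, h17ω2]
  have hh17 : h ^ 17 = 1 := by
    apply FaithfulSMul.eq_of_smul_eq_smul (α := Ω)
    intro ω
    rw [one_smul]
    rcases hS.cover h1 h2 h12 ω with hc | hc | hc
    · rw [hc]; exact pow_smul_fix hω0 17
    · exact pow_smul_fix (hO1 ω hc) 17
    · exact hO2 ω hc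
  have hg' : g = (q1 : H) * h := by rw [hdef, mul_inv_cancel_left]
  have hc1 : Commute (q1 : H) h := (hcomm q1 q1.2).symm
  rw [hg', hc1.mul_pow, hexp q1 q1.2, hh17, one_mul]

/-- Centralising elements that move `ω1` into the other orbit move `ω2` back. -/
lemma Setup.swap {Q : Subgroup H} {ω0 : Ω} (hS : Setup Q ω0) {g : H}
    (hg : ∀ q ∈ Q, g * q = q * g) {ω1 ω2 : Ω} (h1 : ω1 ≠ ω0) (h2 : ω2 ≠ ω0)
    (h12 : ω2 ∉ orbit Q ω1) (hgω : g • ω1 ∈ orbit Q ω2) : g • ω2 ∈ orbit Q ω1 := by
  have hω0 : g • ω0 = ω0 := hS.comm_fix hg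
  rcases hS.cover h1 h2 h12 (g • ω2) with hc | hc | hc
  · exfalso
    apply h2
    have : g • ω2 = g • ω0 := by rw [hc, hω0]
    exact smul_left_cancel g this
  · exact hc
  · exfalso
    apply h12
    obtain ⟨q0, hq0⟩ := hgω
    obtain ⟨q', hq'⟩ := hc
    have hq0' : (q0 : H) • ω2 = g • ω1 := hq0
    have hq'' : (q' : H) • ω2 = g • ω2 := hq'
    have h3 : g • ω1 = g • (((q0 : H) * (q' : H)⁻¹) • ω2) := by
      rw [← mul_smul, hg _ (Q.mul_mem q0.2 (Q.inv_mem q'.2)), mul_smul, ← hq'', mul_smul,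
        inv_smul_smul, hq0']
    have h4 := smul_left_cancel g h3
    refine ⟨(q0 * q'⁻¹)⁻¹, ?_⟩
    change (((q0 * q'⁻¹)⁻¹ : Q) : H) • ω1 = ω2
    rw [h4]
    push_cast
    rw [inv_smul_smul]

/-- Elements centralising `Q` have order dividing `34`. -/
lemma Setup.pow34 [FaithfulSMul H Ω] {Q : Subgroup H} {ω0 : Ω} (hS : Setup Q ω0)
    (hexp : ∀ q ∈ Q, q ^ 17 = 1) (hab : ∀ a ∈ Q, ∀ b ∈ Q, a * b = b * a) {g : H}
    (hg : ∀ q ∈ Q, g * q = q * g) : g ^ 34 = 1 := by
  obtain ⟨ω1, h1⟩ := hS.exists_ne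
  obtain ⟨ω2, h2, h12⟩ := hS.exists_third h1
  have hω0 : g • ω0 = ω0 := hS.comm_fix hg
  rcases hS.cover h1 h2 h12 (g • ω1) with hc | hc | hc
  · exfalso
    apply h1
    have : g • ω1 = g • ω0 := by rw [hc, hω0]
    exact smul_left_cancel g this
  · have := hS.pow17 hexp hab hg h1 hc
    rw [show 34 = 17 * 2 from rfl, pow_mul, this, one_pow]
  · have hsw := hS.swap hg h1 h2 h12 hc
    have hg2 : ∀ q ∈ Q, g ^ 2 * q = q * g ^ 2 := fun q hq => (Commute.pow_left (hg q hq) 2).eq
    have hmem : g ^ 2 • ω1 ∈ orbit Q ω1 := by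
      obtain ⟨q0, hq0⟩ := hc
      obtain ⟨q', hq'⟩ := hsw
      have hq0' : (q0 : H) • ω2 = g • ω1 := hq0
      have hq'' : (q' : H) • ω1 = g • ω2 := hq'
      refine ⟨q0 * q', ?_⟩
      change ((q0 * q' : Q) : H) • ω1 = g ^ 2 • ω1
      push_cast
      rw [pow_two, mul_smul, mul_smul, ← hq0', ← mul_smul g, hg q0 q0.2, mul_smul, ← hq'']
    have := hS.pow17 hexp hab hg2 h1 hmem
    rw [show 34 = 2 * 17 from rfl, pow_mul, this]

/-- A `2`-subgroup centralising `Q` has at most one non-identity element. -/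
lemma Setup.two_sub_unique [FaithfulSMul H Ω] {Q : Subgroup H} {ω0 : Ω} (hS : Setup Q ω0)
    (hexp : ∀ q ∈ Q, q ^ 17 = 1) (hab : ∀ a ∈ Q, ∀ b ∈ Q, a * b = b * a) (T : Subgroup H)
    (hT : IsPGroup 2 T) (hTC : ∀ t ∈ T, ∀ q ∈ Q, t * q = q * t) :
    ∀ t ∈ T, ∀ t' ∈ T, t ≠ 1 → t' ≠ 1 → t = t' := by
  obtain ⟨ω1, h1⟩ := hS.exists_ne
  obtain ⟨ω2, h2, h12⟩ := hS.exists_third h1
  have hsq : ∀ t ∈ T, t ^ 2 = 1 := by
    intro t ht
    obtain ⟨k, hk⟩ := hT ⟨t, ht⟩
    have hk' : t ^ 2 ^ k = 1 := by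
      have := congrArg (Subtype.val) hk
      simpa using this
    have h34 := hS.pow34 hexp hab (hTC t ht)
    have d1 : orderOf t ∣ 2 ^ k := orderOf_dvd_of_pow_eq_one hk'
    have d2 : orderOf t ∣ 2 * 17 := orderOf_dvd_of_pow_eq_one h34
    have hcop : Nat.Coprime (orderOf t) 17 := by
      apply Nat.Coprime.coprime_dvd_left d1
      apply Nat.Coprime.pow_left
      norm_num
    have d3 : orderOf t ∣ 2 := hcop.dvd_of_dvd_mul_right d2
    exact orderOf_dvd_iff_pow_eq_one.mp d3
  have hkill : ∀ u ∈ T, u ^ 17 = 1 → u = 1 := by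
    intro u hu h17
    have h2' := hsq u hu
    have : u ^ (17 - 2 * 8) = 1 := by
      have h16 : u ^ (2 * 8) = 1 := by rw [pow_mul, h2', one_pow]
      have : u ^ 17 = u ^ (2 * 8) * u ^ 1 := by rw [← pow_add]
      rw [h16, one_mul, pow_one] at this
      rw [← this]; simpa using h17
    simpa using this
  have hmove : ∀ t ∈ T, t ≠ 1 → t • ω1 ∈ orbit Q ω2 := by
    intro t ht hne
    have hω0 : t • ω0 = ω0 := hS.comm_fix (hTC t ht)
    rcases hS.cover h1 h2 h12 (t • ω1) with hc | hc | hc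
    · exfalso
      apply h1
      have : t • ω1 = t • ω0 := by rw [hc, hω0]
      exact smul_left_cancel t this
    · exfalso
      exact hne (hkill t ht (hS.pow17 hexp hab (hTC t ht) h1 hc))
    · exact hc
  · intro t ht t' ht' hne hne'
    obtain ⟨q, hq⟩ := hmove t ht hne
    obtain ⟨q', hq'⟩ := hmove t' ht' hne'
    have hq1 : (q : H) • ω2 = t • ω1 := hq
    have hq1' : (q' : H) • ω2 = t' • ω1 := hq'
    have hu : t⁻¹ * t' ∈ T := T.mul_mem (T.inv_mem ht) ht'
    have hcomm : ∀ r ∈ Q, t⁻¹ * r = r * t⁻¹ := by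
      intro r hr
      have := hTC t ht r hr
      rw [inv_mul_eq_iff_eq_mul, ← mul_assoc, this, mul_inv_cancel_right]
    have hmem : (t⁻¹ * t') • ω1 ∈ orbit Q ω1 := by
      refine ⟨q' * q⁻¹, ?_⟩
      change ((q' * q⁻¹ : Q) : H) • ω1 = (t⁻¹ * t') • ω1
      push_cast
      have e1 : t⁻¹ • ω2 = (q : H)⁻¹ • ω1 := by
        have : ω1 = t⁻¹ • ((q : H) • ω2) := by rw [hq1, inv_smul_smul]
        rw [← mul_smul, hcomm q q.2, mul_smul] at this
        rw [this, inv_smul_smul]
      rw [mul_smul, mul_smul, ← hq1', ← mul_smul t⁻¹, hcomm q' q'.2, mul_smul, e1]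
    have h17 := hS.pow17 hexp hab (fun r hr => hTC _ hu r hr) h1 hmem
    have := hkill _ hu h17
    rw [inv_mul_eq_one] at this
    exact this

/-- A `2`-subgroup centralising `Q` has order at most `2`. -/
lemma Setup.two_sub_card [FaithfulSMul H Ω] {Q : Subgroup H} {ω0 : Ω} (hS : Setup Q ω0)
    (hexp : ∀ q ∈ Q, q ^ 17 = 1) (hab : ∀ a ∈ Q, ∀ b ∈ Q, a * b = b * a) (T : Subgroup H)
    (hT : IsPGroup 2 T) (hTC : ∀ t ∈ T, ∀ q ∈ Q, t * q = q * t) : Nat.card T ≤ 2 := by
  have heq := hS.two_sub_unique hexp hab T hT hTC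
  by_cases hbot : ∀ t ∈ T, t = 1
  · have : T = ⊥ := by
      rw [Subgroup.eq_bot_iff_forall]; exact hbot
    rw [this, Subgroup.card_bot]; norm_num
  · push Not at hbot
    obtain ⟨t, ht, hne⟩ := hbot
    have hsub : (T : Set H) ⊆ {1, t} := by
      intro x hx
      by_cases hx1 : x = 1
      · left; exact hx1
      · right; exact (heq t ht x hx hne hx1).symm
    have := Set.ncard_le_ncard hsub (Set.toFinite _)
    have h3 : Set.ncard ({1, t} : Set H) ≤ 2 := by
      have := Set.ncard_insert_le (1 : H) ({t} : Set H)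
      rw [Set.ncard_singleton] at this
      exact this
    have h4 : Nat.card T = Set.ncard (T : Set H) := rfl
    omega

/-- Elements normalising `Q` (of order `17`) have order dividing `544`. -/
lemma Setup.pow544 [FaithfulSMul H Ω] {Q : Subgroup H} {ω0 : Ω} (hS : Setup Q ω0)
    (h17 : Nat.card Q = 17) {g : H} (hg : g ∈ Subgroup.normalizer (Q : Set H)) : g ^ 544 = 1 := by
  have hc := aut_pow Q (by norm_num : Nat.Prime 17) h17 hg
  have := hS.pow34 (exp_of_card h17) (comm_of_prime_card (by norm_num) h17) hc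
  rw [← pow_mul] at this
  exact this

/-- Structure of a `2`-subgroup of the normaliser of `Q`: it is abelian with at most three
involutions. -/
lemma Setup.two_struct [FaithfulSMul H Ω] {Q : Subgroup H} {ω0 : Ω} (hS : Setup Q ω0)
    [Finite H] (h17 : Nat.card Q = 17) (S : Subgroup H) (hS2 : IsPGroup 2 S)
    (hSN : S ≤ Subgroup.normalizer (Q : Set H)) :
    (∀ a ∈ S, ∀ b ∈ S, a * b = b * a) ∧
      Set.ncard {x : H | x ∈ S ∧ x ^ 2 = 1 ∧ x ≠ 1} ≤ 3 := by
  classical
  have hexp := exp_of_card h17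
  have habQ := comm_of_prime_card (by norm_num : Nat.Prime 17) h17
  have hQfin : Finite Q := Nat.finite_of_card_ne_zero (by rw [h17]; norm_num)
  set ψ : S →* MulAut Q := (Q.normalizerMonoidHom).comp (Subgroup.inclusion hSN) with hψ
  have hker : ∀ s : S, s ∈ ψ.ker ↔ ∀ q ∈ Q, (s : H) * q = q * s := by
    intro s
    rw [MonoidHom.mem_ker, hψ, MonoidHom.comp_apply, ← MonoidHom.mem_ker,
      Subgroup.normalizerMonoidHom_ker, Subgroup.mem_subgroupOf, Subgroup.mem_centralizer_iff]
    constructor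
    · intro h q hq; exact (h q hq).symm
    · intro h q hq; exact (h q hq).symm
  set T : Subgroup H := ψ.ker.map S.subtype with hT
  have hT2 : IsPGroup 2 T := (hS2.to_subgroup ψ.ker).map S.subtype
  have hTC : ∀ t ∈ T, ∀ q ∈ Q, t * q = q * t := by
    rintro t ⟨s, hs, rfl⟩ q hq
    exact (hker s).mp hs q hq
  have huniq := hS.two_sub_unique hexp habQ T hT2 hTC
  have hcardT := hS.two_sub_card hexp habQ T hT2 hTC
  have hcenter : ψ.ker ≤ Subgroup.center S := by
    intro z hz
    rw [Subgroup.mem_center_iff]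
    intro s
    by_cases hz1 : z = 1
    · rw [hz1]; simp
    · have hconj : s * z * s⁻¹ ∈ ψ.ker := (inferInstance : ψ.ker.Normal).conj_mem z hz s
      have h1 : ((s * z * s⁻¹ : S) : H) ∈ T := ⟨_, hconj, rfl⟩
      have h2 : ((z : S) : H) ∈ T := ⟨_, hz, rfl⟩
      have hne1 : ((s * z * s⁻¹ : S) : H) ≠ 1 := by
        intro h
        apply hz1
        have h' : s * z * s⁻¹ = 1 := Subtype.ext h
        have : z = s⁻¹ * (s * z * s⁻¹) * s := by group
        rw [this, h']; group
      have hne2 : (z : H) ≠ 1 := fun h => hz1 (Subtype.ext h)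
      have h3 := huniq _ h1 _ h2 hne1 hne2
      have h4 : s * z * s⁻¹ = z := Subtype.ext h3
      exact mul_inv_eq_iff_eq_mul.mp h4
  have hcycAut : IsCyclic (MulAut Q) := by
    have : Fact (Nat.Prime (Nat.card Q)) := ⟨by rw [h17]; norm_num⟩
    have hc : IsCyclic Q := isCyclic_of_prime_card rfl
    have e := IsCyclic.mulAutMulEquiv Q
    exact isCyclic_of_surjective e.symm e.symm.surjective
  have hmc : IsMulCommutative S := MonoidHom.isMulCommutative_of_isCyclic_of_ker_le_center ψ hcenter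
  have hab : ∀ a b : S, a * b = b * a := fun a b => mul_comm' a b
  refine ⟨fun a ha b hb => by
    have := hab ⟨a, ha⟩ ⟨b, hb⟩
    simpa using congrArg Subtype.val this, ?_⟩
  let E0 : Subgroup S :=
    { carrier := {x | x ^ 2 = 1}
      mul_mem' := by
        intro a b ha hb
        simp only [Set.mem_ofPred_eq] at *
        rw [(show Commute a b from hab a b).mul_pow, ha, hb, one_mul]
      one_mem' := by simp
      inv_mem' := by
        intro a ha
        simp only [Set.mem_ofPred_eq] at *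
        rw [inv_pow, ha, inv_one] }
  have hE0 : ∀ x : S, x ∈ E0 ↔ x ^ 2 = 1 := fun x => Iff.rfl
  set ψ0 : E0 →* MulAut Q := ψ.comp E0.subtype with hψ0
  have hcard : Nat.card E0 = Nat.card ψ0.ker * Nat.card ψ0.range := by
    rw [← Subgroup.index_ker, Subgroup.card_mul_index]
  have hk : Nat.card ψ0.ker ≤ 2 := by
    refine le_trans ?_ hcardT
    have hmem : ∀ x : ψ0.ker, (((x : E0) : S) : H) ∈ T := by
      intro x
      refine ⟨((x : E0) : S), ?_, rfl⟩
      have := x.2
      rw [MonoidHom.mem_ker] at this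
      change ((x : E0) : S) ∈ ψ.ker
      rw [MonoidHom.mem_ker]
      exact this
    apply Nat.card_le_card_of_injective (fun x : ψ0.ker => (⟨_, hmem x⟩ : T))
    intro x y hxy
    have := congrArg Subtype.val hxy
    exact Subtype.ext (Subtype.ext (Subtype.ext this))
  have hAutfin : Finite (MulAut Q) := by
    apply Nat.finite_of_card_ne_zero
    have : Fact (Nat.Prime 17) := ⟨by norm_num⟩
    have hc : IsCyclic Q := isCyclic_of_prime_card (p := 17) h17
    rw [IsCyclic.card_mulAut Q, h17, Nat.totient_prime (by norm_num)]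
    norm_num
  have hr : Nat.card ψ0.range ≤ 2 := by
    let _ : Fintype (MulAut Q) := Fintype.ofFinite _
    have h1 := IsCyclic.card_pow_eq_one_le (α := MulAut Q) (n := 2) (by norm_num)
    refine le_trans ?_ h1
    have hsub : (ψ0.range : Set (MulAut Q)) ⊆
        ((Finset.univ.filter fun a : MulAut Q => a ^ 2 = 1 : Finset (MulAut Q)) : Set (MulAut Q)) := by
      rintro u ⟨x, rfl⟩
      simp only [Finset.coe_filter, Finset.mem_univ, true_and, Set.mem_ofPred_eq]
      rw [← map_pow]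
      have : x ^ 2 = 1 := by
        apply Subtype.ext
        have := (hE0 x).mp x.2
        simpa using this
      rw [this, map_one]
    have := Set.ncard_le_ncard hsub (Finset.finite_toSet _)
    rw [Set.ncard_coe_finset] at this
    exact this
  have hE0card : Nat.card E0 ≤ 4 := by
    rw [hcard]
    calc Nat.card ψ0.ker * Nat.card ψ0.range ≤ 2 * 2 := Nat.mul_le_mul hk hr
      _ = 4 := rfl
  have hsub : {x : H | x ∈ S ∧ x ^ 2 = 1 ∧ x ≠ 1} ⊆
      (fun x : E0 => (((x : E0) : S) : H)) '' ((Set.univ : Set E0) \ {1}) := by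
    rintro x ⟨hxS, hx2, hx1⟩
    have hxE : (⟨x, hxS⟩ : S) ∈ E0 := by
      rw [hE0]; exact Subtype.ext (by simpa using hx2)
    refine ⟨⟨⟨x, hxS⟩, hxE⟩, ⟨Set.mem_univ _, ?_⟩, rfl⟩
    intro h
    apply hx1
    have := congrArg (fun e : E0 => (((e : E0) : S) : H)) h
    simpa using this
  have hfin : ((Set.univ : Set E0) \ {1}).Finite := Set.toFinite _
  have h1 := Set.ncard_le_ncard hsub (hfin.image _)
  have h2 := Set.ncard_image_le (f := fun x : E0 => (((x : E0) : S) : H)) hfin
  have h3 : ((Set.univ : Set E0) \ {1}).ncard = Nat.card E0 - 1 := by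
    rw [Set.ncard_sdiff_singleton_of_mem (Set.mem_univ _) , Set.ncard_univ]
  omega

/-- The normaliser of `Q` fixes `ω0`. -/
lemma Setup.normalizer_fix {Q : Subgroup H} {ω0 : Ω} (hS : Setup Q ω0) {g : H}
    (hg : g ∈ Subgroup.normalizer (Q : Set H)) : g • ω0 = ω0 := by
  apply hS.uniq
  intro q hq
  have h1 : g⁻¹ * q * g ∈ Q := by
    apply (Subgroup.mem_normalizer_iff.mp hg (g⁻¹ * q * g)).mpr
    have : g * (g⁻¹ * q * g) * g⁻¹ = q := by group
    rw [this]; exact hq
  have h2 := hS.fix _ h1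
  calc q • g • ω0 = g • ((g⁻¹ * q * g) • ω0) := by
        rw [← mul_smul, ← mul_smul]; congr 1; group
    _ = g • ω0 := by rw [h2]

open scoped Pointwise in
/-- The action is primitive. -/
lemma Setup.primitive [IsPretransitive H Ω] {Q : Subgroup H} {ω0 : Ω} (hS : Setup Q ω0) :
    IsPreprimitive H Ω := by
  apply IsPreprimitive.of_isTrivialBlock_base ω0
  intro B hω0 hB
  by_cases hex : ∃ ω ∈ B, ω ≠ ω0
  · right
    obtain ⟨ω, hωB, hω⟩ := hex
    have hsub : orbit Q ω ⊆ B := by
      rintro _ ⟨q, rfl⟩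
      have hq : (q : H) ∈ stabilizer H B := by
        apply hB.stabilizer_le hω0
        exact hS.fix q q.2
      have h1 : (q : H) • B = B := hq
      rw [← h1]
      exact Set.smul_mem_smul_set hωB
    have h17 : 17 ≤ B.ncard := by
      rw [← hS.orbit17 hω]
      exact Set.ncard_le_ncard hsub (Set.toFinite _)
    have hdvd : B.ncard ∣ 35 := by
      have := hB.ncard_dvd_card ⟨ω0, hω0⟩
      rwa [Nat.card_eq_fintype_card, hS.card] at this
    have h35 : B.ncard = 35 := by
      have hle : B.ncard ≤ 35 := Nat.le_of_dvd (by norm_num) hdvd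
      interval_cases h : B.ncard <;> first | rfl | (norm_num at hdvd)
    apply Set.eq_of_subset_of_ncard_le (Set.subset_univ _) _ (Set.toFinite _)
    rw [Set.ncard_univ, Nat.card_eq_fintype_card, hS.card, h35]
  · left
    push Not at hex
    intro a ha b hb
    rw [hex a ha, hex b hb]

section case17

variable [Finite H] [FaithfulSMul H Ω] [IsPretransitive H Ω]

/-- The hypotheses in the case where the Sylow `17`-subgroup has order `17`. -/
structure Setup17 (Qs : Sylow 17 H) (ω0 : Ω) : Prop where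
  base : Setup (Qs : Subgroup H) ω0
  card17 : Nat.card (Qs : Subgroup H) = 17
  stab : ∀ h : H, h • ω0 = ω0 → h ∈ Subgroup.normalizer ((Qs : Subgroup H) : Set H)

omit [FaithfulSMul H Ω] in
lemma Setup17.card_eq {Qs : Sylow 17 H} {ω0 : Ω} (hS : Setup17 Qs ω0) :
    Nat.card (Subgroup.normalizer ((Qs : Subgroup H) : Set H)) * 35 = Nat.card H := by
  have h1 : stabilizer H ω0 = Subgroup.normalizer ((Qs : Subgroup H) : Set H) := by
    apply le_antisymm
    · intro h hh; exact hS.stab h hh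
    · intro g hg; exact hS.base.normalizer_fix hg
  have h2 : (stabilizer H ω0).index = Nat.card Ω := index_stabilizer_of_transitive H ω0
  rw [Nat.card_eq_fintype_card, hS.base.card, h1] at h2
  rw [← h2, Subgroup.card_mul_index]

lemma Setup17.prime_dvd {Qs : Sylow 17 H} {ω0 : Ω} (hS : Setup17 Qs ω0) {r : ℕ} (hr : r.Prime)
    (hdvd : r ∣ Nat.card (Subgroup.normalizer ((Qs : Subgroup H) : Set H))) : r = 2 ∨ r = 17 := by
  have : Fact r.Prime := ⟨hr⟩
  obtain ⟨x, hx⟩ := exists_prime_orderOf_dvd_card' r hdvd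
  have h1 := hS.base.pow544 hS.card17 x.2
  have h2 : orderOf (x : H) = r := by rw [Subgroup.orderOf_coe, hx]
  have h3 : r ∣ 544 := by rw [← h2]; exact orderOf_dvd_of_pow_eq_one h1
  have h4 : (544 : ℕ) = 2 ^ 5 * 17 := by norm_num
  rw [h4] at h3
  rcases (Nat.Prime.dvd_mul hr).mp h3 with h | h
  · left
    exact (Nat.prime_dvd_prime_iff_eq hr Nat.prime_two).mp (hr.dvd_of_dvd_pow h)
  · right
    exact (Nat.prime_dvd_prime_iff_eq hr (by norm_num)).mp h

omit [FaithfulSMul H Ω] [IsPretransitive H Ω] in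
lemma Setup17.not_289 {Qs : Sylow 17 H} {ω0 : Ω} (hS : Setup17 Qs ω0) :
    ¬ 289 ∣ Nat.card H := by
  have : Fact (Nat.Prime 17) := ⟨by norm_num⟩
  intro h
  have h1 : 17 ^ 2 ∣ Nat.card (Qs : Subgroup H) :=
    Qs.pow_dvd_card_of_pow_dvd_card (n := 2) (by norm_num; exact h)
  rw [hS.card17] at h1
  norm_num at h1

/-- The order of the normaliser is `2 ^ a * 17`. -/
lemma Setup17.card_normalizer {Qs : Sylow 17 H} {ω0 : Ω} (hS : Setup17 Qs ω0) :
    ∃ a : ℕ, Nat.card (Subgroup.normalizer ((Qs : Subgroup H) : Set H)) = 2 ^ a * 17 := by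
  set n := Nat.card (Subgroup.normalizer ((Qs : Subgroup H) : Set H)) with hn
  have hnpos : n ≠ 0 := Nat.card_pos.ne'
  obtain ⟨a, m, hm, hnm⟩ := Nat.exists_eq_two_pow_mul_odd hnpos
  refine ⟨a, ?_⟩
  have h17 : 17 ∣ n := by
    have := Subgroup.card_dvd_of_le (Subgroup.le_normalizer (H := (Qs : Subgroup H)))
    rw [hS.card17] at this
    exact this
  have h17m : 17 ∣ m := by
    rw [hnm] at h17
    exact (Nat.Coprime.dvd_of_dvd_mul_left (by
      apply Nat.Coprime.pow_right; norm_num) h17)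
  obtain ⟨m', hm'⟩ := h17m
  have hm'1 : m' = 1 := by
    by_contra hne
    obtain ⟨r, hr, hrm⟩ := Nat.exists_prime_and_dvd hne
    have hrn : r ∣ n := by
      rw [hnm, hm']
      exact Dvd.dvd.mul_left (Dvd.dvd.mul_left hrm 17) _
    rcases hS.prime_dvd hr hrn with h2 | h2
    · rw [h2] at hrm
      have : 2 ∣ m := by rw [hm']; exact Dvd.dvd.mul_left hrm 17
      exact (Nat.not_even_iff_odd.mpr hm) (even_iff_two_dvd.mpr this)
    · rw [h2] at hrm
      obtain ⟨m'', hm''⟩ := hrm
      apply hS.not_289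
      rw [← hS.card_eq, ← hn, hnm, hm', hm'']
      exact ⟨2 ^ a * m'' * 35, by ring⟩
  rw [hnm, hm', hm'1]

omit [FaithfulSMul H Ω] in
lemma Setup17.index_eq {Qs : Sylow 17 H} {ω0 : Ω} (hS : Setup17 Qs ω0) :
    (Subgroup.normalizer ((Qs : Subgroup H) : Set H)).index = 35 := by
  have h1 := hS.card_eq
  have h2 := Subgroup.card_mul_index (Subgroup.normalizer ((Qs : Subgroup H) : Set H))
  rw [← h2] at h1
  exact (Nat.eq_of_mul_eq_mul_left Nat.card_pos h1).symm

omit [FaithfulSMul H Ω] in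
/-- A Sylow `2`-subgroup of `H` lies in the normaliser. -/
lemma Setup17.exists_sylow2 {Qs : Sylow 17 H} {ω0 : Ω} (hS : Setup17 Qs ω0) :
    ∃ S : Sylow 2 H, (S : Subgroup H) ≤ Subgroup.normalizer ((Qs : Subgroup H) : Set H) := by
  have : Fact (Nat.Prime 2) := ⟨Nat.prime_two⟩
  set N := Subgroup.normalizer ((Qs : Subgroup H) : Set H) with hN
  obtain ⟨S0⟩ : Nonempty (Sylow 2 N) := inferInstance
  set S1 : Subgroup H := (S0 : Subgroup N).map N.subtype with hS1
  have hp : IsPGroup 2 S1 := S0.isPGroup'.map N.subtype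
  have hidx : ¬ 2 ∣ S1.index := by
    rw [hS1, Subgroup.index_map_subtype, hS.index_eq]
    intro h
    rcases (Nat.Prime.dvd_mul Nat.prime_two).mp h with h | h
    · exact S0.not_dvd_index h
    · norm_num at h
  refine ⟨hp.toSylow hidx, ?_⟩
  rw [IsPGroup.toSylow_coe]
  exact Subgroup.map_subtype_le _

/-- The Sylow `2`-subgroup is central in its normaliser. -/
lemma Setup17.normalizer_le_centralizer {Qs : Sylow 17 H} {ω0 : Ω} (hS : Setup17 Qs ω0)
    (S : Sylow 2 H)
    (hSN : (S : Subgroup H) ≤ Subgroup.normalizer ((Qs : Subgroup H) : Set H)) :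
    Subgroup.normalizer ((S : Subgroup H) : Set H) ≤
      Subgroup.centralizer ((S : Subgroup H) : Set H) := by
  have hp2 : Fact (Nat.Prime 2) := ⟨Nat.prime_two⟩
  obtain ⟨hab, hinv⟩ := hS.base.two_struct hS.card17 S S.isPGroup' hSN
  intro g hg
  have hfin : IsOfFinOrder g := isOfFinOrder_of_finite g
  obtain ⟨e, m, hm, hnm⟩ := Nat.exists_eq_two_pow_mul_odd (orderOf_pos g).ne'
  -- the `2`-part
  have hy2 : g ^ m ∈ Subgroup.centralizer ((S : Subgroup H) : Set H) := by
    have hP : IsPGroup 2 (Subgroup.zpowers (g ^ m)) := by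
      rintro ⟨x, hx⟩
      obtain ⟨k, rfl⟩ := Subgroup.mem_zpowers_iff.mp hx
      refine ⟨e, Subtype.ext ?_⟩
      simp only [Subgroup.coe_pow, Subgroup.coe_one]
      rw [← zpow_natCast, ← zpow_mul, mul_comm, zpow_mul, zpow_natCast, ← pow_mul, mul_comm,
        ← hnm, pow_orderOf_eq_one, one_zpow]
    have h1 := hP.inf_normalizer_sylow S
    have h2 : g ^ m ∈ Subgroup.zpowers (g ^ m) ⊓ Subgroup.normalizer ((S : Subgroup H) : Set H) :=
      ⟨Subgroup.mem_zpowers _, Subgroup.pow_mem _ hg m⟩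
    have h2' : g ^ m ∈ Subgroup.zpowers (g ^ m) ⊓ (S : Subgroup H) := by
      rw [← h1]; exact h2
    have h3 : g ^ m ∈ (S : Subgroup H) := h2'.2
    rw [Subgroup.mem_centralizer_iff]
    intro x hx
    exact hab x hx _ h3
  -- the odd part
  have hy : g ^ 2 ^ e ∈ Subgroup.centralizer ((S : Subgroup H) : Set H) := by
    set y := g ^ 2 ^ e with hydef
    have hyN : y ∈ Subgroup.normalizer ((S : Subgroup H) : Set H) := Subgroup.pow_mem _ hg _
    have hyord : orderOf y = m := by
      rw [hydef, orderOf_pow_of_dvd (by positivity) (by rw [hnm]; exact Dvd.intro _ rfl), hnm,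
        Nat.mul_div_cancel_left _ (by positivity)]
    have hyfin : IsOfFinOrder y := isOfFinOrder_of_finite y
    have hconj : ∀ x ∈ (S : Subgroup H), y * x * y⁻¹ ∈ (S : Subgroup H) := by
      intro x hx
      exact (Subgroup.mem_normalizer_iff.mp hyN x).mp hx
    have h3 : ¬ 3 ∣ m := by
      intro h3
      have h4 : m ∣ Nat.card H := by
        rw [← hyord]; exact orderOf_dvd_natCard y
      obtain ⟨a, ha⟩ := hS.card_normalizer
      rw [← hS.card_eq, ha] at h4
      have h5 := h3.trans h4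
      have h6 : Nat.Coprime 3 (2 ^ a * 17 * 35) := by
        apply Nat.Coprime.mul_right
        · apply Nat.Coprime.mul_right
          · apply Nat.Coprime.pow_right; norm_num
          · norm_num
        · norm_num
      have := Nat.eq_one_of_dvd_coprimes h6 (dvd_refl 3) h5
      norm_num at this
    have hcop : Nat.Coprime (orderOf y) 6 := by
      rw [hyord, show 6 = 2 * 3 from rfl]
      apply Nat.Coprime.mul_right
      · exact Nat.coprime_two_right.mpr hm
      · rw [Nat.coprime_comm]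
        exact (Nat.Prime.coprime_iff_not_dvd (by norm_num)).mpr h3
    have hE : ∀ x ∈ {x : H | x ∈ (S : Subgroup H) ∧ x ^ 2 = 1 ∧ x ≠ 1},
        y * x * y⁻¹ ∈ {x : H | x ∈ (S : Subgroup H) ∧ x ^ 2 = 1 ∧ x ≠ 1} := by
      rintro x ⟨hxS, hx2, hx1⟩
      refine ⟨hconj x hxS, ?_, ?_⟩
      · rw [conj_pow, hx2]; group
      · intro h
        apply hx1
        have : x = y⁻¹ * (y * x * y⁻¹) * y := by group
        rw [this, h]; group
    have hfix := conj_fix_of_small _ (Set.toFinite _) hinv y hE hyfin hcop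
    have h1 : ∀ x ∈ (S : Subgroup H), x ^ 2 = 1 → y * x * y⁻¹ = x := by
      intro x hx hx2
      by_cases hx1 : x = 1
      · rw [hx1]; group
      · exact hfix x ⟨hx, hx2, hx1⟩
    have hall := conj_fix_two_group (S : Subgroup H) hab y hconj (by rw [hyord]; exact hm) h1
    rw [Subgroup.mem_centralizer_iff]
    intro x hx
    obtain ⟨k, hk⟩ := S.isPGroup' ⟨x, hx⟩
    have hk' : x ^ 2 ^ k = 1 := by
      have := congrArg Subtype.val hk
      simpa using this
    have := hall k x hx hk'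
    rw [mul_inv_eq_iff_eq_mul] at this
    exact this.symm
  -- Bezout
  have hcop : IsCoprime ((2 ^ e : ℕ) : ℤ) (m : ℤ) := by
    rw [Nat.isCoprime_iff_coprime]
    apply Nat.Coprime.pow_left
    exact Nat.coprime_two_left.mpr hm
  obtain ⟨u, v, huv⟩ := hcop
  have hg' : g = (g ^ 2 ^ e) ^ u * (g ^ m) ^ v := by
    rw [← zpow_natCast g (2 ^ e), ← zpow_natCast g m, ← zpow_mul, ← zpow_mul, ← zpow_add]
    have : ((2 ^ e : ℕ) : ℤ) * u + (m : ℤ) * v = 1 := by rw [← huv]; ring
    rw [this, zpow_one]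
  rw [hg']
  exact Subgroup.mul_mem _ (Subgroup.zpow_mem _ hy u) (Subgroup.zpow_mem _ hy2 v)

/-- The case of a Sylow `17`-subgroup of order `17` is impossible. -/
theorem Setup17.false {Qs : Sylow 17 H} {ω0 : Ω} (hS : Setup17 Qs ω0) : False := by
  have hp2 : Fact (Nat.Prime 2) := ⟨Nat.prime_two⟩
  have hp17 : Fact (Nat.Prime 17) := ⟨by norm_num⟩
  have hp5 : Fact (Nat.Prime 5) := ⟨by norm_num⟩
  obtain ⟨S, hSN⟩ := hS.exists_sylow2
  have hNC := hS.normalizer_le_centralizer S hSN
  set f := MonoidHom.transferSylow S hNC with hf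
  set K := f.ker with hK
  have hcomp : K.IsComplement' S := MonoidHom.ker_transferSylow_isComplement' S hNC
  have hcard := hcomp.card_mul_card
  obtain ⟨a, ha⟩ := hS.card_normalizer
  have hH : Nat.card H = 2 ^ a * 17 * 35 := by rw [← hS.card_eq, ha]
  have hKodd : ¬ 2 ∣ Nat.card K := MonoidHom.not_dvd_card_ker_transferSylow S hNC
  obtain ⟨b, hb⟩ := IsPGroup.iff_card.mp S.isPGroup'
  have hK595 : Nat.card K = 595 := by
    rw [hb, hH] at hcard
    have hKodd' : Nat.Coprime (2 ^ a) (Nat.card K) := by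
      apply Nat.Coprime.pow_left
      exact (Nat.Prime.coprime_iff_not_dvd Nat.prime_two).mpr hKodd
    have h1 : 2 ^ a ∣ 2 ^ b := by
      apply hKodd'.dvd_of_dvd_mul_left
      rw [hcard]
      exact ⟨17 * 35, by ring⟩
    have h2 : 2 ^ b ∣ 2 ^ a := by
      have hc : Nat.Coprime (2 ^ b) (17 * 35) := by
        apply Nat.Coprime.pow_left; norm_num
      apply hc.dvd_of_dvd_mul_right
      rw [← mul_assoc, ← hcard]
      exact Dvd.intro_left _ rfl
    have h3 : 2 ^ a = 2 ^ b := Nat.dvd_antisymm h1 h2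
    rw [← h3] at hcard
    have h4 : Nat.card K * 2 ^ a = 595 * 2 ^ a := by rw [hcard]; ring
    exact Nat.eq_of_mul_eq_mul_right (by positivity) h4
  have hQK : (Qs : Subgroup H) ≤ K := by
    intro q hq
    rw [hK, MonoidHom.mem_ker]
    have h1 : (f q) ^ 17 = 1 := by rw [← map_pow, exp_of_card hS.card17 q hq, map_one]
    obtain ⟨k, hk⟩ := S.isPGroup' (f q)
    have d1 := orderOf_dvd_of_pow_eq_one h1
    have d2 := orderOf_dvd_of_pow_eq_one hk
    have hc : Nat.Coprime 17 (2 ^ k) := by apply Nat.Coprime.pow_right; norm_num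
    have := Nat.eq_one_of_dvd_coprimes hc d1 d2
    exact orderOf_eq_one_iff.mp this
  obtain ⟨R⟩ : Nonempty (Sylow 5 K) := inferInstance
  have hRcard : Nat.card R = 5 := by
    rw [Sylow.card_eq_multiplicity, hK595, Nat.factorization_def _ (by norm_num : Nat.Prime 5)]
    have : (595 : ℕ) = 5 ^ 1 * 119 := by norm_num
    rw [this, padicValNat.mul (by norm_num) (by norm_num), padicValNat.prime_pow,
      padicValNat.eq_zero_of_not_dvd (by norm_num)]
    norm_num
  have hn5 : Nat.card (Sylow 5 K) = 1 := by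
    have h1 := card_sylow_modEq_one 5 K
    have h2 := Sylow.card_dvd_index R
    have h3 : (R : Subgroup K).index = 119 := by
      have := Subgroup.card_mul_index (R : Subgroup K)
      rw [hRcard, hK595] at this
      omega
    rw [h3] at h2
    have hmem : Nat.card (Sylow 5 K) ∈ Nat.divisors 119 := Nat.mem_divisors.mpr ⟨h2, by norm_num⟩
    have hd : Nat.divisors 119 = {1, 7, 17, 119} := by decide
    rw [hd] at hmem
    simp only [Finset.mem_insert, Finset.mem_singleton] at hmem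
    rcases hmem with h | h | h | h
    · exact h
    · rw [h] at h1; exact absurd h1 (by decide)
    · rw [h] at h1; exact absurd h1 (by decide)
    · rw [h] at h1; exact absurd h1 (by decide)
  have hRnorm : Subgroup.normalizer ((R : Subgroup K) : Set K) = ⊤ := by
    have := Sylow.card_eq_index_normalizer R
    rw [hn5] at this
    exact Subgroup.index_eq_one.mp this.symm
  have hRne : (R : Subgroup K) ≠ ⊥ := by
    intro h
    rw [h, Subgroup.card_bot] at hRcard
    norm_num at hRcard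
  obtain ⟨r0, hr0ne⟩ := (Subgroup.ne_bot_iff_exists_ne_one.mp hRne)
  have hexp := exp_of_card hS.card17
  have hcomm : ∀ q ∈ (Qs : Subgroup H), (((r0 : K) : H)) * q = q * ((r0 : K) : H) := by
    intro q hq
    set k : K := ⟨q, hQK hq⟩ with hkdef
    have hk : k ∈ Subgroup.normalizer ((R : Subgroup K) : Set K) := by rw [hRnorm]; trivial
    have h1 := aut_pow (R : Subgroup K) (by norm_num : Nat.Prime 5) hRcard hk (r0 : K) r0.2
    have h2 : q ^ 4 * ((r0 : K) : H) = ((r0 : K) : H) * q ^ 4 := by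
      have := congrArg Subtype.val h1
      simpa [hkdef] using this
    have h3 : q = (q ^ 4) ^ 13 := by
      rw [← pow_mul]
      have : q ^ (4 * 13) = (q ^ 17) ^ 3 * q := by rw [← pow_mul, ← pow_succ]
      rw [this, hexp q hq, one_pow, one_mul]
    have h4 : Commute (q ^ 4) ((r0 : K) : H) := h2
    have h5 := h4.pow_left 13
    rw [← h3] at h5
    exact h5.eq.symm
  have h34 := hS.base.pow34 hexp (comm_of_prime_card (by norm_num) hS.card17) hcomm
  have h5 : (((r0 : K) : H)) ^ 5 = 1 := by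
    have : (r0 : R) ^ Nat.card R = 1 := pow_card_eq_one'
    rw [hRcard] at this
    have := congrArg (fun z : R => ((z : K) : H)) this
    simpa using this
  have hx1 : ((r0 : K) : H) = 1 := by
    have h35 : (((r0 : K) : H)) ^ 35 = 1 := by
      rw [show 35 = 5 * 7 from rfl, pow_mul, h5, one_pow]
    have : (((r0 : K) : H)) ^ 35 = ((r0 : K) : H) ^ 34 * ((r0 : K) : H) := by rw [← pow_succ]
    rw [h35, h34, one_mul] at this
    exact this.symm
  apply hr0ne
  exact Subtype.ext (Subtype.ext hx1)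

end case17

section case289

variable [Finite H] [FaithfulSMul H Ω] [IsPretransitive H Ω]

/-- In the case `|Q| = 289`, some element of `Q` acts as a `17`-cycle. -/
lemma Setup.exists_cycle [DecidableEq Ω] {Q : Subgroup H} {ω0 : Ω} (hS : Setup Q ω0)
    (h289 : Nat.card Q = 289) :
    ∃ x ∈ Q, (MulAction.toPerm x : Equiv.Perm Ω).IsCycle ∧
      (MulAction.toPerm x : Equiv.Perm Ω).support.card = 17 := by
  have hp : Fact (Nat.Prime 17) := ⟨by norm_num⟩
  have hQfin : Finite Q := Nat.finite_of_card_ne_zero (by rw [h289]; norm_num)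
  have hmc : IsMulCommutative Q :=
    IsPGroup.isMulCommutative_of_card_eq_prime_sq (p := 17) (by rw [h289]; norm_num)
  obtain ⟨ω1, h1⟩ := hS.exists_ne
  set Q1 : Subgroup Q := stabilizer Q ω1 with hQ1
  have hidx : Q1.index = 17 := by
    rw [hQ1, index_stabilizer]; exact hS.orbit17 h1
  have hQ1card : Nat.card Q1 = 17 := by
    have := Subgroup.card_mul_index Q1
    rw [hidx, h289] at this
    omega
  have hne : Q1 ≠ ⊥ := by
    intro h
    rw [h, Subgroup.card_bot] at hQ1card
    norm_num at hQ1card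
  obtain ⟨x, hxne⟩ := Subgroup.ne_bot_iff_exists_ne_one.mp hne
  refine ⟨((x : Q) : H), (x : Q).2, ?_⟩
  set σ : Equiv.Perm Ω := MulAction.toPerm ((x : Q) : H) with hσ
  have hxω1 : ((x : Q) : H) • ω1 = ω1 := x.2
  have hfix0 : σ ω0 = ω0 := hS.fix _ (x : Q).2
  have hfix1 : ∀ ω ∈ orbit Q ω1, σ ω = ω := by
    rintro _ ⟨q, rfl⟩
    change ((x : Q) : H) • ((q : H) • ω1) = (q : H) • ω1
    have hc : ((x : Q) : H) * (q : H) = (q : H) * ((x : Q) : H) := by
      have := mul_comm' (x : Q) q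
      simpa using congrArg Subtype.val this
    rw [← mul_smul, hc, mul_smul, hxω1]
  have hx17 : ((x : Q) : H) ^ 17 = 1 := by
    have : x ^ Nat.card Q1 = 1 := pow_card_eq_one'
    rw [hQ1card] at this
    have := congrArg (fun z : Q1 => ((z : Q) : H)) this
    simpa using this
  have hσ17 : σ ^ 17 = 1 := by
    change (MulAction.toPermHom H Ω ((x : Q) : H)) ^ 17 = 1
    rw [← map_pow, hx17, map_one]
  have hσne : σ ≠ 1 := by
    intro h
    apply hxne
    have h' : MulAction.toPerm ((x : Q) : H) = (MulAction.toPerm (1 : H) : Equiv.Perm Ω) := by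
      rw [← hσ, h]; ext ω; simp
    have := MulAction.toPerm_injective (α := H) (β := Ω) h'
    exact Subtype.ext (Subtype.ext this)
  have hord : orderOf σ = 17 := orderOf_eq_prime hσ17 hσne
  obtain ⟨n, hn⟩ := Equiv.Perm.cycleType_prime_order (σ := σ) (by rw [hord]; norm_num)
  have hsum : σ.support.card = (n + 1) * 17 := by
    rw [← Equiv.Perm.sum_cycleType, hn, hord]; simp; ring
  have hle : σ.support.card ≤ 17 := by
    have hsub : (σ.support : Set Ω) ⊆ (({ω0} : Set Ω) ∪ orbit Q ω1)ᶜ := by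
      intro ω hω
      have hω' : σ ω ≠ ω := Equiv.Perm.mem_support.mp (by simpa using hω)
      rintro (h | h)
      · rw [Set.mem_singleton_iff] at h
        rw [h] at hω'
        exact hω' hfix0
      · exact hω' (hfix1 ω h)
    have hd : Disjoint ({ω0} : Set Ω) (orbit Q ω1) := by
      rw [Set.disjoint_singleton_left]; exact hS.notMem_orbit h1
    have h18 : (({ω0} : Set Ω) ∪ orbit Q ω1).ncard = 18 := by
      rw [Set.ncard_union_eq hd (Set.toFinite _) (Set.toFinite _), Set.ncard_singleton,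
        hS.orbit17 h1]
    have hc := Set.ncard_add_ncard_compl (({ω0} : Set Ω) ∪ orbit Q ω1)
    rw [h18, Nat.card_eq_fintype_card, hS.card] at hc
    have := Set.ncard_le_ncard hsub (Set.toFinite _)
    rw [Set.ncard_coe_finset] at this
    omega
  have hn0 : n = 0 := by
    rw [hsum] at hle
    nlinarith
  constructor
  · rw [← Equiv.Perm.card_cycleType_eq_one, hn, hn0]; simp
  · rw [hsum, hn0]

/-- The case of a Sylow `17`-subgroup of order `289` is impossible. -/
theorem Setup.false289 [DecidableEq Ω] {Q : Subgroup H} {ω0 : Ω} (hS : Setup Q ω0)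
    (h289 : Nat.card Q = 289)
    (hstab : ∀ h : H, h • ω0 = ω0 → h ∈ Subgroup.normalizer (Q : Set H)) : False := by
  obtain ⟨x, hxQ, hcyc, hsupp⟩ := hS.exists_cycle h289
  have hprim : IsPreprimitive H Ω := hS.primitive
  set φ : H →* Equiv.Perm Ω := MulAction.toPermHom H Ω with hφ
  set R : Subgroup (Equiv.Perm Ω) := φ.range with hR
  have hprimR : IsPreprimitive R Ω := by
    let f : Ω →ₑ[⇑φ.rangeRestrict] Ω := { toFun := id, map_smul' := fun h ω => rfl }
    exact IsPreprimitive.of_surjective (f := f) Function.surjective_id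
  have hA : alternatingGroup Ω ≤ R :=
    Cfsg.Agent.S0713.result R hprimR (p := 17) (by norm_num) (by rw [hS.card]; norm_num)
      (by rw [hS.card]; norm_num) hcyc hsupp ⟨x, rfl⟩
  obtain ⟨ω1, h1⟩ := hS.exists_ne
  obtain ⟨z, hz0, hz1⟩ := hS.exists_third h1
  -- a second point in the orbit of `ω1`
  have hex : ∃ q ∈ Q, q • ω1 ≠ ω1 := by
    by_contra hcon
    push Not at hcon
    exact h1 (hS.uniq ω1 hcon)
  obtain ⟨q, hq, hqne⟩ := hex
  set y1 : Ω := q • ω1 with hy1
  have hy1O : y1 ∈ orbit Q ω1 := ⟨⟨q, hq⟩, rfl⟩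
  have hy10 : y1 ≠ ω0 := fun h => hS.notMem_orbit h1 (h ▸ hy1O)
  have hzy : z ≠ y1 := fun h => hz1 (h ▸ hy1O)
  have hzω1 : z ≠ ω1 := fun h => hz1 (by rw [h]; exact mem_orbit_self ω1)
  set c : Equiv.Perm Ω := Equiv.swap ω1 y1 * Equiv.swap y1 z with hc
  have hcA : c ∈ alternatingGroup Ω := by
    rw [Equiv.Perm.mem_alternatingGroup, hc, Equiv.Perm.sign_mul,
      Equiv.Perm.sign_swap (Ne.symm hqne), Equiv.Perm.sign_swap (Ne.symm hzy)]
    decide
  obtain ⟨h, hh⟩ := hA hcA
  have hsmul : ∀ ω : Ω, h • ω = c ω := by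
    intro ω
    rw [← hh]; rfl
  have hc0 : c ω0 = ω0 := by
    rw [hc, Equiv.Perm.mul_apply, Equiv.swap_apply_of_ne_of_ne (Ne.symm hy10) (Ne.symm hz0),
      Equiv.swap_apply_of_ne_of_ne (Ne.symm h1) (Ne.symm hy10)]
  have hc1 : c ω1 = y1 := by
    rw [hc, Equiv.Perm.mul_apply, Equiv.swap_apply_of_ne_of_ne (Ne.symm hqne) (Ne.symm hzω1),
      Equiv.swap_apply_left]
  have hcy : c y1 = z := by
    rw [hc, Equiv.Perm.mul_apply, Equiv.swap_apply_left,
      Equiv.swap_apply_of_ne_of_ne hzω1 hzy]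
  have hN : h ∈ Subgroup.normalizer (Q : Set H) := hstab h (by rw [hsmul, hc0])
  have hq' : h * q * h⁻¹ ∈ Q := (Subgroup.mem_normalizer_iff.mp hN q).mp hq
  apply hz1
  have hz : z = (h * q * h⁻¹) • y1 := by
    rw [← hcy, ← hsmul y1]
    conv_lhs => rw [hy1]
    rw [← hc1, ← hsmul ω1, ← mul_smul, ← mul_smul]
    congr 1
    group
  have hzO : z ∈ orbit Q y1 := ⟨⟨_, hq'⟩, hz.symm⟩
  rw [orbit_eq_iff.mpr hy1O] at hzO
  exact hzO

end case289

/-- The abstract core: no transitive faithful action on `35` points has a Sylow `17`-subgroup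
fixing exactly one point whose stabiliser normalises it. -/
theorem core_false [Finite H] [FaithfulSMul H Ω] [IsPretransitive H Ω] (Qs : Sylow 17 H) (ω0 : Ω)
    (hS : Setup (Qs : Subgroup H) ω0)
    (hstab : ∀ h : H, h • ω0 = ω0 → h ∈ Subgroup.normalizer ((Qs : Subgroup H) : Set H)) :
    False := by
  classical
  have hp : Fact (Nat.Prime 17) := ⟨by norm_num⟩
  obtain ⟨k, hk⟩ := IsPGroup.iff_card.mp Qs.isPGroup'
  have hk1 : k ≠ 0 := by
    intro h0
    rw [h0, pow_zero] at hk
    have hbot : (Qs : Subgroup H) = ⊥ := Subgroup.card_eq_one.mp hk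
    obtain ⟨ω1, h1⟩ := hS.exists_ne
    apply h1
    apply hS.uniq
    intro q hq
    rw [hbot, Subgroup.mem_bot] at hq
    rw [hq, one_smul]
  have hk2 : k ≤ 2 := by
    by_contra hcon
    push Not at hcon
    have hinj : Function.Injective ((MulAction.toPermHom H Ω).comp (Qs : Subgroup H).subtype) := by
      intro a b hab
      have := MulAction.toPerm_injective (α := H) (β := Ω) hab
      exact Subtype.ext this
    have hdvd := Subgroup.card_dvd_of_injective _ hinj
    rw [hk, Nat.card_eq_fintype_card (α := Equiv.Perm Ω), Fintype.card_perm, hS.card] at hdvd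
    have h3 : 17 ^ 3 ∣ Nat.factorial 35 := (pow_dvd_pow 17 (by omega)).trans hdvd
    exact absurd h3 (by decide)
  have hcases : k = 1 ∨ k = 2 := by omega
  rcases hcases with h | h
  · rw [h, pow_one] at hk
    exact Setup17.false (Qs := Qs) (ω0 := ω0) ⟨hS, hk, hstab⟩
  · rw [h] at hk
    exact hS.false289 (by rw [hk]; norm_num) hstab

end core

/-- No finite group has exactly 35 Sylow 17-subgroups. -/
theorem result {G : Type*} [Group G] [Finite G] : Nat.card (Sylow 17 G) ≠ 35 := by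
  classical
  intro h35
  have hp : Fact (Nat.Prime 17) := ⟨by norm_num⟩
  let _ : Fintype (Sylow 17 G) := Fintype.ofFinite _
  have hΩ : Fintype.card (Sylow 17 G) = 35 := by rw [← Nat.card_eq_fintype_card]; exact h35
  set φ : G →* Equiv.Perm (Sylow 17 G) := MulAction.toPermHom G (Sylow 17 G) with hφ
  set Hs : Subgroup (Equiv.Perm (Sylow 17 G)) := φ.range with hHs
  have hfaith : FaithfulSMul Hs (Sylow 17 G) :=
    ⟨fun {a b} h => Subtype.ext (Equiv.ext h)⟩
  have htrans : IsPretransitive Hs (Sylow 17 G) := ⟨fun x y => by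
    obtain ⟨g, hg⟩ := exists_smul_eq G x y
    exact ⟨⟨φ g, g, rfl⟩, hg⟩⟩
  obtain ⟨P0⟩ : Nonempty (Sylow 17 G) := inferInstance
  set Qs : Sylow 17 Hs := P0.mapSurjective (f := φ.rangeRestrict) φ.rangeRestrict_surjective
    with hQsdef
  have hQs : (Qs : Subgroup Hs) = (P0 : Subgroup G).map φ.rangeRestrict :=
    Sylow.coe_mapSurjective _ _
  have hsm : ∀ (g : G) (ω : Sylow 17 G), (φ.rangeRestrict g) • ω = g • ω := fun g ω => rfl
  apply core_false Qs P0
  · refine ⟨hΩ, Qs.isPGroup', ?_, ?_⟩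
    · intro q hq
      rw [hQs] at hq
      obtain ⟨g, hg, rfl⟩ := hq
      rw [hsm]
      exact Sylow.smul_eq_iff_mem_normalizer.mpr (Subgroup.le_normalizer hg)
    · intro ω hω
      have hmem : ω ∈ fixedPoints (P0 : Subgroup G) (Sylow 17 G) := by
        rintro ⟨g, hg⟩
        have := hω (φ.rangeRestrict g) (by rw [hQs]; exact ⟨g, hg, rfl⟩)
        rw [hsm] at this
        exact this
      rw [P0.isPGroup'.sylow_mem_fixedPoints_iff] at hmem
      exact Sylow.ext (P0.is_maximal' ω.isPGroup' hmem)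
  · rintro ⟨_, g, rfl⟩ hh
    have hh' : g • P0 = P0 := hh
    have hgN : g ∈ Subgroup.normalizer ((P0 : Subgroup G) : Set G) :=
      Sylow.smul_eq_iff_mem_normalizer.mp hh'
    have h1 : φ.rangeRestrict g ∈
        (Subgroup.normalizer ((P0 : Subgroup G) : Set G)).map φ.rangeRestrict := ⟨g, hgN, rfl⟩
    have h2 := Subgroup.le_normalizer_map (H := (P0 : Subgroup G)) φ.rangeRestrict h1
    rw [hQs]
    exact h2

end Cfsg.Agent.S4236
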