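import Cfsg.Statements.S4238
import Mathlib
import Cfsg.Agent.S0071
import Cfsg.Agent.S3736
import Cfsg.Agent.S0651
import Cfsg.Agent.H1.CoprimeAction
import Cfsg.Agent.Lib.Lead.Conj
import Cfsg.Agent.Lib.Lead.Subnormal

set_option autoImplicit false
open Cfsg
open scoped commutatorElement

namespace Cfsg.Agent.S4238


theorem frob_section {K : Type*} [Group K] [Finite K] {p q : ℕ} [hp : Fact p.Prime] (hq : q.Prime) (hpq : p ≠ q)
    (V : Subgroup K) [hVn : V.Normal] (hV1 : V ≠ ⊥) (hVp : ∀ v ∈ V, v ^ p = 1)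
    (hVc : ∀ v ∈ V, ∀ w ∈ V, v * w = w * v) (t : K) (ht : t ^ q = 1)
    (hgen : ∀ k : K, ∃ v ∈ V, ∃ j : ℕ, k = v * t ^ j)
    (hfix : ∀ v ∈ V, t * v * t⁻¹ = v → v = 1) :
    Cfsg.pPrimeCore p K = ⊥ ∧ ∀ k : K, orderOf k ≠ Monoid.exponent K := by
  obtain ⟨v₀, hv₀V, hv₀1⟩ : ∃ v ∈ V, v ≠ 1 := by
    by_contra hcon
    push Not at hcon
    exact hV1 ((Subgroup.eq_bot_iff_forall V).2 hcon)
  have hfixj : ∀ j : ℕ, ¬ q ∣ j → ∀ v ∈ V, t ^ j * v * (t ^ j)⁻¹ = v → v = 1 := by
    intro j hj v hv hjv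
    have hcop : Nat.Coprime j q := ((Nat.Prime.coprime_iff_not_dvd hq).2 hj).symm
    obtain ⟨m, -, hm⟩ := Nat.exists_mul_mod_eq_one_of_coprime hcop hq.one_lt
    have htm : (t ^ j) ^ m = t := by
      rw [← pow_mul, pow_eq_pow_mod (j * m) ht, hm, pow_one]
    have hc : Commute (t ^ j) v := mul_inv_eq_iff_eq_mul.1 hjv
    have hc' : Commute t v := by
      rw [← htm]; exact hc.pow_left m
    exact hfix v hv (mul_inv_eq_iff_eq_mul.2 hc'.eq)
  have ht1 : t ≠ 1 := by
    intro h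
    apply hv₀1
    apply hfix v₀ hv₀V
    rw [h]; simp
  have hord : ∀ k : K, k ^ p = 1 ∨ k ^ q = 1 := by
    intro k
    obtain ⟨v, hv, j, rfl⟩ := hgen k
    by_cases hj : q ∣ j
    · left
      obtain ⟨c, rfl⟩ := hj
      rw [pow_mul, ht, one_pow, mul_one]
      exact hVp v hv
    · right
      have hwV : (v * t ^ j) ^ q ∈ V := by
        have h1 : (((v * t ^ j) ^ q : K) : K ⧸ V) = 1 := by
          rw [QuotientGroup.mk_pow, QuotientGroup.mk_mul, (QuotientGroup.eq_one_iff v).2 hv, one_mul,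
            QuotientGroup.mk_pow, ← pow_mul, mul_comm, pow_mul, ← QuotientGroup.mk_pow, ht,
            QuotientGroup.mk_one, one_pow]
        exact (QuotientGroup.eq_one_iff _).1 h1
      have hcomm : Commute (v * t ^ j) ((v * t ^ j) ^ q) := (Commute.refl _).pow_right q
      have h0 : (v * t ^ j) * (v * t ^ j) ^ q * (v * t ^ j)⁻¹ = (v * t ^ j) ^ q :=
        mul_inv_eq_iff_eq_mul.2 hcomm.eq
      have hw'V : t ^ j * (v * t ^ j) ^ q * (t ^ j)⁻¹ ∈ V := hVn.conj_mem _ hwV (t ^ j)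
      have h1 : v * (t ^ j * (v * t ^ j) ^ q * (t ^ j)⁻¹) * v⁻¹ = (v * t ^ j) ^ q := by
        calc v * (t ^ j * (v * t ^ j) ^ q * (t ^ j)⁻¹) * v⁻¹
            = (v * t ^ j) * (v * t ^ j) ^ q * (v * t ^ j)⁻¹ := by group
          _ = (v * t ^ j) ^ q := h0
      have h2 : v * (t ^ j * (v * t ^ j) ^ q * (t ^ j)⁻¹) * v⁻¹ = t ^ j * (v * t ^ j) ^ q * (t ^ j)⁻¹ :=
        mul_inv_eq_iff_eq_mul.2 (hVc v hv _ hw'V)
      have h3 : t ^ j * (v * t ^ j) ^ q * (t ^ j)⁻¹ = (v * t ^ j) ^ q := by rw [← h2]; exact h1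
      exact hfixj j hj _ hwV h3
  have hpe : p ∣ Monoid.exponent K := by
    have h1 : orderOf v₀ ∣ p := orderOf_dvd_of_pow_eq_one (hVp v₀ hv₀V)
    have h2 : orderOf v₀ = p := by
      rcases (Nat.dvd_prime hp.out).1 h1 with h | h
      · exact absurd (orderOf_eq_one_iff.1 h) hv₀1
      · exact h
    rw [← h2]; exact Monoid.order_dvd_exponent v₀
  have hqe : q ∣ Monoid.exponent K := by
    have h1 : orderOf t ∣ q := orderOf_dvd_of_pow_eq_one ht
    have h2 : orderOf t = q := by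
      rcases (Nat.dvd_prime hq).1 h1 with h | h
      · exact absurd (orderOf_eq_one_iff.1 h) ht1
      · exact h
    rw [← h2]; exact Monoid.order_dvd_exponent t
  refine ⟨?_, ?_⟩
  · unfold Cfsg.pPrimeCore
    rw [sSup_eq_bot]
    rintro M ⟨hMn, hMc⟩
    have hVpg : IsPGroup p V := fun v =>
      ⟨1, Subtype.ext (by rw [pow_one, Subgroup.coe_pow, Subgroup.coe_one]; exact hVp v.1 v.2)⟩
    obtain ⟨n, hn⟩ := IsPGroup.iff_card.mp hVpg
    have hMV : M ⊓ V = ⊥ :=
      Subgroup.inf_eq_bot_of_coprime (by rw [hn]; exact Nat.Coprime.pow_right n hMc)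
    have hcent : ∀ m ∈ M, ∀ v ∈ V, m * v * m⁻¹ = v := by
      intro m hm v hv
      have h1 : m * v * m⁻¹ * v⁻¹ ∈ M ⊓ V := by
        refine Subgroup.mem_inf.2 ⟨?_, ?_⟩
        · have : m * v * m⁻¹ * v⁻¹ = m * (v * m⁻¹ * v⁻¹) := by group
          rw [this]; exact mul_mem hm (hMn.conj_mem _ (inv_mem hm) v)
        · exact mul_mem (hVn.conj_mem v hv m) (inv_mem hv)
      rw [hMV, Subgroup.mem_bot] at h1
      exact mul_inv_eq_one.1 h1
    rw [Subgroup.eq_bot_iff_forall]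
    intro m hm
    obtain ⟨v, hv, j, rfl⟩ := hgen m
    by_cases hj : q ∣ j
    · obtain ⟨c, rfl⟩ := hj
      have h1 : v * t ^ (q * c) = v := by rw [pow_mul, ht, one_pow, mul_one]
      rw [h1] at hm ⊢
      have : v ∈ M ⊓ V := ⟨hm, hv⟩
      rw [hMV, Subgroup.mem_bot] at this
      exact this
    · exfalso
      apply hv₀1
      apply hfixj j hj v₀ hv₀V
      have h1 := hcent _ hm v₀ hv₀V
      have hw'V : t ^ j * v₀ * (t ^ j)⁻¹ ∈ V := hVn.conj_mem v₀ hv₀V (t ^ j)
      have h2 : v * (t ^ j * v₀ * (t ^ j)⁻¹) * v⁻¹ = t ^ j * v₀ * (t ^ j)⁻¹ :=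
        mul_inv_eq_iff_eq_mul.2 (hVc v hv _ hw'V)
      calc t ^ j * v₀ * (t ^ j)⁻¹ = v * (t ^ j * v₀ * (t ^ j)⁻¹) * v⁻¹ := h2.symm
        _ = (v * t ^ j) * v₀ * (v * t ^ j)⁻¹ := by group
        _ = v₀ := h1
  · intro k hk
    rcases hord k with h | h
    · have h1 : orderOf k ∣ p := orderOf_dvd_of_pow_eq_one h
      have h2 : q ∣ orderOf k := hk ▸ hqe
      exact hpq ((Nat.prime_dvd_prime_iff_eq hq hp.out).1 (h2.trans h1)).symm
    · have h1 : orderOf k ∣ q := orderOf_dvd_of_pow_eq_one h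
      have h2 : p ∣ orderOf k := hk ▸ hpe
      exact hpq ((Nat.prime_dvd_prime_iff_eq hp.out hq).1 (h2.trans h1))

/-- Let G be a finite group and p a prime. Then G has a normal p-complement if and only if every section K = H/N of G (N a normal subgroup of a subgroup H) whose largest normal subgroup of order prime to p is trivial contains an element whose order equals the exponent of K. -/
theorem result {G : Type*} [Group G] [Finite G] (p : ℕ) [Fact p.Prime] :
    Cfsg.HasNormalPComplement p G ↔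
      ∀ (H : Subgroup G) (N : Subgroup H) [N.Normal], Cfsg.pPrimeCore p (H ⧸ N) = ⊥ →
        ∃ k : H ⧸ N, orderOf k = Monoid.exponent (H ⧸ N) := by
  constructor
  · rintro ⟨P, K, hKn, hKc⟩ H N hN hcore
    haveI := hKn
    have hKp : ¬ p ∣ Nat.card ↥K := by
      have h1 : (P : Subgroup G).index = Nat.card ↥K := hKc.index_eq_card
      rw [← h1]; exact P.not_dvd_index
    have hcK : Nat.card ↥(K.subgroupOf H) ∣ Nat.card ↥K := by
      have : Nat.card ↥(K.subgroupOf H) = Nat.card ↥(K ⊓ H) := by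
        rw [← Subgroup.subgroupOf_map_subtype, Subgroup.card_map_of_injective H.subtype_injective]
      rw [this]; exact Subgroup.card_dvd_of_le inf_le_left
    have hKle : K.subgroupOf H ≤ N := by
      have hM : (K.subgroupOf H).map (QuotientGroup.mk' N) ≤ Cfsg.pPrimeCore p (↥H ⧸ N) := by
        apply le_sSup
        refine ⟨Subgroup.Normal.map inferInstance _ (QuotientGroup.mk'_surjective N), ?_⟩
        have hd := ((K.subgroupOf H).card_map_dvd (QuotientGroup.mk' N)).trans hcK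
        exact ((Nat.Prime.coprime_iff_not_dvd Fact.out).2 (fun h => hKp (h.trans hd))).symm
      rw [hcore, le_bot_iff, Subgroup.map_eq_bot_iff, QuotientGroup.ker_mk'] at hM
      exact hM
    obtain ⟨n, hn⟩ := IsPGroup.iff_card.mp P.2
    have hidx : K.index = p ^ n := by rw [← hn]; exact hKc.symm.index_eq_card
    have hpow : ∀ x : ↥H ⧸ N, x ^ (p ^ n) = 1 := by
      intro x
      obtain ⟨h, rfl⟩ := QuotientGroup.mk_surjective x
      rw [← QuotientGroup.mk_pow, QuotientGroup.eq_one_iff]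
      apply hKle
      rw [Subgroup.mem_subgroupOf, Subgroup.coe_pow, ← hidx]
      exact K.pow_index_mem (h : G)
    obtain ⟨x₀, hx₀⟩ := Finite.exists_max (fun x : ↥H ⧸ N => orderOf x)
    refine ⟨x₀, ?_⟩
    apply Nat.dvd_antisymm (Monoid.order_dvd_exponent x₀)
    apply Monoid.exponent_dvd_of_forall_pow_eq_one
    intro x
    have h1 : orderOf x ∣ p ^ n := orderOf_dvd_of_pow_eq_one (hpow x)
    have h2 : orderOf x₀ ∣ p ^ n := orderOf_dvd_of_pow_eq_one (hpow x₀)
    obtain ⟨a, ha, hxa⟩ := (Nat.dvd_prime_pow Fact.out).1 h1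
    obtain ⟨b, hb, hxb⟩ := (Nat.dvd_prime_pow Fact.out).1 h2
    have hab : a ≤ b := by
      have := hx₀ x
      simp only [hxa, hxb] at this
      exact (Nat.pow_le_pow_iff_right (Fact.out : p.Prime).one_lt).1 this
    have : orderOf x ∣ orderOf x₀ := by rw [hxa, hxb]; exact pow_dvd_pow p hab
    exact orderOf_dvd_iff_pow_eq_one.1 this
  · intro h
    by_contra hno
    obtain ⟨P⟩ : Nonempty (Sylow p G) := inferInstance
    have hF : ¬ ∀ Q : Subgroup G, Q ≤ (P : Subgroup G) → ∀ g ∈ Subgroup.normalizer (Q : Set G),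
        Nat.Coprime (orderOf g) p → g ∈ Subgroup.centralizer (Q : Set G) := by
      intro hall
      obtain ⟨N, hNn, hNc⟩ := (Cfsg.Agent.S0071.result P).2 hall
      exact hno ⟨P, N, hNn, hNc⟩
    push Not at hF
    obtain ⟨Q, hQP, g₀, hg₀N, hg₀c, hg₀C⟩ := hF
    have hex : ∃ n : ℕ, ∃ (U : Subgroup G) (g : G), IsPGroup p ↥U ∧ g ∈ Subgroup.normalizer (U : Set G) ∧
        (orderOf g).Coprime p ∧ g ∉ Subgroup.centralizer (U : Set G) ∧ Nat.card ↥U = n :=
      ⟨_, Q, g₀, P.2.to_le hQP, hg₀N, hg₀c, hg₀C, rfl⟩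
    classical
    obtain ⟨U₁, g₁, hb₁⟩ := Nat.find_spec hex
    have hmin1 : ∀ (U : Subgroup G) (g : G), IsPGroup p ↥U → g ∈ Subgroup.normalizer (U : Set G) →
        (orderOf g).Coprime p → g ∉ Subgroup.centralizer (U : Set G) → Nat.find hex ≤ Nat.card ↥U :=
      fun U g h1 h2 h3 h4 => Nat.find_min' hex ⟨U, g, h1, h2, h3, h4, rfl⟩
    have hex2 : ∃ m : ℕ, ∃ (U : Subgroup G) (g : G), IsPGroup p ↥U ∧ g ∈ Subgroup.normalizer (U : Set G) ∧
        (orderOf g).Coprime p ∧ g ∉ Subgroup.centralizer (U : Set G) ∧ Nat.card ↥U = Nat.find hex ∧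
        orderOf g = m :=
      ⟨_, U₁, g₁, hb₁.1, hb₁.2.1, hb₁.2.2.1, hb₁.2.2.2.1, hb₁.2.2.2.2, rfl⟩
    obtain ⟨U, g, hUp, hgN, hgc, hgC, hUn, hgm⟩ := Nat.find_spec hex2
    have hmin2 : ∀ (U' : Subgroup G) (g' : G), IsPGroup p ↥U' → g' ∈ Subgroup.normalizer (U' : Set G) →
        (orderOf g').Coprime p → g' ∉ Subgroup.centralizer (U' : Set G) → Nat.card ↥U' = Nat.find hex →
        Nat.find hex2 ≤ orderOf g' :=
      fun U' g' h1 h2 h3 h4 h5 => Nat.find_min' hex2 ⟨U', g', h1, h2, h3, h4, h5, rfl⟩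
    have hM1 : ∀ U' : Subgroup G, U' < U → g ∈ Subgroup.normalizer (U' : Set G) →
        g ∈ Subgroup.centralizer (U' : Set G) := by
      intro U' hlt hN'
      by_contra hC'
      have h1 := hmin1 U' g (hUp.to_le hlt.le) hN' hgc hC'
      have h2 := Cfsg.Agent.S0651.card_lt_of_lt hlt
      omega
    have hg1 : orderOf g ≠ 1 := by
      intro h1
      rw [orderOf_eq_one_iff] at h1
      apply hgC; rw [h1]; exact Subgroup.one_mem _
    obtain ⟨q, hqdef⟩ : ∃ q, q = (orderOf g).minFac := ⟨_, rfl⟩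
    have hq : q.Prime := hqdef ▸ Nat.minFac_prime hg1
    have hqd : q ∣ orderOf g := hqdef ▸ Nat.minFac_dvd _
    have hpq : p ≠ q := by
      intro hpq
      have : p ∣ orderOf g := hpq ▸ hqd
      exact (Nat.Prime.coprime_iff_not_dvd Fact.out).1 hgc.symm this
    have hgqC : g ^ q ∈ Subgroup.centralizer (U : Set G) := by
      by_contra hC'
      have ho : orderOf (g ^ q) = orderOf g / q := orderOf_pow_of_dvd hq.ne_zero hqd
      have hcop' : (orderOf (g ^ q)).Coprime p := by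
        rw [ho]; exact Nat.Coprime.coprime_dvd_left (Nat.div_dvd_of_dvd hqd) hgc
      have h1 := hmin2 U (g ^ q) hUp (pow_mem hgN q) hcop' hC' hUn
      rw [ho] at h1
      have h2 : orderOf g ≤ orderOf g / q := le_trans (le_of_eq hgm) h1
      exact absurd h2 (not_le.2 (Nat.div_lt_self (orderOf_pos g) hq.one_lt))
    obtain ⟨A, hA⟩ : ∃ A : Subgroup G, A = Subgroup.zpowers g := ⟨_, rfl⟩
    have hgA : g ∈ A := hA ▸ Subgroup.mem_zpowers g
    have hApow : ∀ a ∈ A, ∃ j : ℕ, g ^ j = a := by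
      intro a ha
      rw [hA] at ha
      exact (Submonoid.mem_powers_iff _ _).1 (mem_powers_iff_mem_zpowers.2 ha)
    have hAle : ∀ S : Subgroup G, g ∈ S → A ≤ S := fun S hS => hA ▸ Subgroup.zpowers_le.2 hS
    have hAN : A ≤ Subgroup.normalizer (U : Set G) := hAle _ hgN
    have hAcard : (Nat.card ↥A).Coprime p := by rw [hA, Nat.card_zpowers]; exact hgc
    have hnt : ⁅U, A⁆ ≠ ⊥ := by
      intro h0
      rw [Subgroup.commutator_eq_bot_iff_le_centralizer] at h0
      apply hgC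
      rw [Subgroup.mem_centralizer_iff]
      intro u hu
      have := h0 hu
      rw [Subgroup.mem_centralizer_iff] at this
      exact (this g hgA).symm
    have hmin : ∀ U' : Subgroup G, U' < U → A ≤ Subgroup.normalizer (U' : Set G) → ⁅U', A⁆ = ⊥ := by
      intro U' hlt hN'
      have hc := hM1 U' hlt (hN' hgA)
      rw [Subgroup.commutator_eq_bot_iff_le_centralizer]
      intro u hu
      rw [Subgroup.mem_centralizer_iff]
      intro a ha
      have haC : a ∈ Subgroup.centralizer (U' : Set G) := hAle _ hc ha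
      rw [Subgroup.mem_centralizer_iff] at haC
      exact (haC u hu).symm
    obtain ⟨hcomm, -, hirr, -⟩ := Cfsg.Agent.S3736.result A A U hUp hAN le_rfl Subgroup.le_normalizer
      hAcard hnt hmin
    obtain ⟨F, hF⟩ : ∃ F : Subgroup G, F = (frattini ↥U).map U.subtype := ⟨_, rfl⟩
    have hFU : F ≤ U := hF ▸ Subgroup.map_subtype_le _
    have hNF : Subgroup.normalizer (U : Set G) ≤ Subgroup.normalizer (F : Set G) :=
      hF ▸ Cfsg.Agent.H1.normalizer_le_normalizer_map_of_characteristic U (frattini ↥U)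
    have hgNF : g ∈ Subgroup.normalizer (F : Set G) := hNF hgN
    have hFne : F ≠ U := by
      intro hFU'
      have htop : frattini ↥U = ⊤ := by
        apply Subgroup.map_injective U.subtype_injective
        rw [← MonoidHom.range_eq_map, Subgroup.range_subtype, ← hF]
        exact hFU'
      have hbot : (⊥ : Subgroup ↥U) = ⊤ := frattini_nongenerating (by rw [htop]; simp)
      apply hgC
      rw [Subgroup.mem_centralizer_iff]
      intro u hu
      have : (⟨u, hu⟩ : ↥U) ∈ (⊥ : Subgroup ↥U) := by rw [hbot]; exact Subgroup.mem_top _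
      rw [Subgroup.mem_bot] at this
      have hu1 : u = 1 := congrArg Subtype.val this
      rw [hu1]; simp
    have hFlt : F < U := lt_of_le_of_ne hFU hFne
    have hgCF : g ∈ Subgroup.centralizer (F : Set G) := hM1 F hFlt hgNF
    have hxp : ∀ x ∈ U, x ^ p ∈ F := by
      intro x hx
      have := Cfsg.Agent.H1.pow_p_mem_frattini hUp (⟨x, hx⟩ : ↥U)
      rw [hF]
      exact ⟨_, this, rfl⟩
    have hxy : ∀ x ∈ U, ∀ y ∈ U, ⁅x, y⁆ ∈ F := by
      intro x hx y hy
      have h1 : ⁅(⟨x, hx⟩ : ↥U), ⟨y, hy⟩⁆ ∈ frattini ↥U :=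
        Cfsg.Agent.H1.commutator_le_frattini hUp
          (Subgroup.commutator_mem_commutator (Subgroup.mem_top _) (Subgroup.mem_top _))
      rw [hF]
      exact ⟨_, h1, rfl⟩
    obtain ⟨Z, hZ⟩ : ∃ Z : Subgroup G, Z = Subgroup.zpowers (g ^ q) := ⟨_, rfl⟩
    have hgZ : ∀ x : G, Commute x (g ^ q) → x ∈ Subgroup.normalizer (Z : Set G) := by
      intro x hx
      apply Cfsg.Agent.Lib.Lead.Conj.mem_normalizer_of_conj_mem
      intro z hz
      rw [hZ] at hz ⊢
      obtain ⟨k, rfl⟩ := Subgroup.mem_zpowers_iff.1 hz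
      have : x * (g ^ q) ^ k * x⁻¹ = (g ^ q) ^ k := mul_inv_eq_iff_eq_mul.2 (hx.zpow_right k).eq
      rw [this]; exact hz
    have hZNF : Z ≤ Subgroup.normalizer (F : Set G) := hZ ▸ Subgroup.zpowers_le.2 (pow_mem hgNF q)
    obtain ⟨N₀, hN₀⟩ : ∃ N₀ : Subgroup G, N₀ = F ⊔ Z := ⟨_, rfl⟩
    have hdecomp : ∀ n ∈ N₀, ∃ f ∈ F, ∃ z ∈ Z, n = f * z := fun n hn =>
      (Cfsg.Agent.H1.mem_sup_of_le_normalizer F Z hZNF).1 (hN₀ ▸ hn)
    have hZU : U ⊓ Z = ⊥ := by
      apply Subgroup.inf_eq_bot_of_coprime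
      obtain ⟨n, hn⟩ := IsPGroup.iff_card.mp hUp
      rw [hn, hZ, Nat.card_zpowers]
      apply Nat.Coprime.pow_left
      exact (Nat.Coprime.coprime_dvd_left (orderOf_pow_dvd q) hgc).symm
    have hUN₀ : ∀ x ∈ U, x ∈ N₀ → x ∈ F := by
      intro x hxU hxN
      obtain ⟨f, hf, z, hz, rfl⟩ := hdecomp x hxN
      have hzU : z ∈ U := by
        have : z = f⁻¹ * (f * z) := by group
        rw [this]; exact mul_mem (inv_mem (hFU hf)) hxU
      have : z ∈ U ⊓ Z := ⟨hzU, hz⟩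
      rw [hZU, Subgroup.mem_bot] at this
      rw [this, mul_one]; exact hf
    have hN₀g : ∀ n ∈ N₀, n * g = g * n := by
      intro n hn
      obtain ⟨f, hf, z, hz, rfl⟩ := hdecomp n hn
      have h1 : f * g = g * f := (Subgroup.mem_centralizer_iff.1 hgCF) f hf
      rw [hZ] at hz
      obtain ⟨k, rfl⟩ := Subgroup.mem_zpowers_iff.1 hz
      have h2 : Commute ((g ^ q) ^ k) g := ((Commute.refl g).pow_left q).zpow_left k
      calc f * (g ^ q) ^ k * g = f * (g * (g ^ q) ^ k) := by rw [mul_assoc, h2.eq]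
        _ = g * (f * (g ^ q) ^ k) := by rw [← mul_assoc, h1, mul_assoc]
    obtain ⟨H, hH⟩ : ∃ H : Subgroup G, H = U ⊔ A := ⟨_, rfl⟩
    have hUH : U ≤ H := hH ▸ le_sup_left
    have hAH : A ≤ H := hH ▸ le_sup_right
    have hgH : g ∈ H := hAH hgA
    have hN₀H : N₀ ≤ H := by
      rw [hN₀]
      refine sup_le (hFU.trans hUH) ?_
      rw [hZ, Subgroup.zpowers_le]
      exact pow_mem hgH q
    have hHNU : H ≤ Subgroup.normalizer (U : Set G) := hH ▸ sup_le Subgroup.le_normalizer hAN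
    have hHN₀ : H ≤ Subgroup.normalizer (N₀ : Set G) := by
      have hx : ∀ x, x ∈ Subgroup.normalizer (F : Set G) → x ∈ Subgroup.normalizer (Z : Set G) →
          x ∈ Subgroup.normalizer (N₀ : Set G) := fun x h1 h2 =>
        hN₀ ▸ Cfsg.Agent.Lib.Lead.Subnormal.normalizer_inf_le_normalizer_sup F Z ⟨h1, h2⟩
      rw [hH]
      apply sup_le
      · intro u hu
        apply hx u (hNF (Subgroup.le_normalizer hu))
        apply hgZ
        exact (Subgroup.mem_centralizer_iff.1 hgqC) u hu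
      · apply hAle
        apply hx g hgNF
        apply hgZ
        exact (Commute.refl g).pow_right q
    haveI hNn : (N₀.subgroupOf H).Normal := (Subgroup.normal_subgroupOf_iff_le_normalizer hN₀H).2 hHN₀
    haveI hUn' : (U.subgroupOf H).Normal := (Subgroup.normal_subgroupOf_iff_le_normalizer hUH).2 hHNU
    -- the subgroup of elements of U acting trivially mod F
    obtain ⟨U', hU'⟩ : ∃ U' : Subgroup G, ∀ x, x ∈ U' ↔ (x ∈ U ∧ ⁅x, g⁆ ∈ F) :=
      ⟨{ carrier := {x | x ∈ U ∧ ⁅x, g⁆ ∈ F}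
         one_mem' := ⟨U.one_mem, by rw [commutatorElement_one_left]; exact F.one_mem⟩
         mul_mem' := by
           rintro x y ⟨hx, hxg⟩ ⟨hy, hyg⟩
           refine ⟨U.mul_mem hx hy, ?_⟩
           have e : ⁅x * y, g⁆ = x * ⁅y, g⁆ * x⁻¹ * ⁅x, g⁆ := by
             simp only [commutatorElement_def]; group
           rw [e]
           exact F.mul_mem ((Subgroup.mem_normalizer_iff.1 (hNF (Subgroup.le_normalizer hx)) _).1 hyg) hxg
         inv_mem' := by
           rintro x ⟨hx, hxg⟩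
           refine ⟨U.inv_mem hx, ?_⟩
           have e : ⁅x⁻¹, g⁆ = x⁻¹ * ⁅x, g⁆⁻¹ * (x⁻¹)⁻¹ := by
             simp only [commutatorElement_def]; group
           rw [e]
           exact (Subgroup.mem_normalizer_iff.1 (hNF (Subgroup.le_normalizer (U.inv_mem hx))) _).1
             (F.inv_mem hxg) }, fun x => Iff.rfl⟩
    have hFU' : F ≤ U' := by
      intro x hx
      rw [hU']
      refine ⟨hFU hx, ?_⟩
      have e : ⁅x, g⁆ = x * (g * x⁻¹ * g⁻¹) := by rw [commutatorElement_def]; group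
      rw [e]
      exact F.mul_mem hx ((Subgroup.mem_normalizer_iff.1 hgNF _).1 (F.inv_mem hx))
    have hU'U : U' ≤ U := fun x hx => ((hU' x).1 hx).1
    have hAU' : A ≤ Subgroup.normalizer (U' : Set G) := by
      apply hAle
      apply Cfsg.Agent.Lib.Lead.Conj.mem_normalizer_of_conj_mem
      intro x hx
      obtain ⟨hxU, hxg⟩ := (hU' x).1 hx
      rw [hU']
      refine ⟨(Subgroup.mem_normalizer_iff.1 hgN x).1 hxU, ?_⟩
      have e : ⁅g * x * g⁻¹, g⁆ = g * ⁅x, g⁆ * g⁻¹ := by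
        simp only [commutatorElement_def]; group
      rw [e]
      exact (Subgroup.mem_normalizer_iff.1 hgNF _).1 hxg
    have hU'ne : U' ≠ U := by
      intro hU'U'
      have hall : ∀ x ∈ U, ⁅x, g⁆ ∈ F := fun x hx => ((hU' x).1 (hU'U' ▸ hx)).2
      have hpow : ∀ k : ℕ, ∀ x ∈ U, ⁅x, g ^ k⁆ ∈ F := by
        intro k
        induction k with
        | zero =>
          intro x hx
          rw [pow_zero, commutatorElement_one_right]; exact F.one_mem
        | succ k ih =>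
          intro x hx
          have e : ⁅x, g ^ (k + 1)⁆ = ⁅x, g ^ k⁆ * (g ^ k * ⁅x, g⁆ * (g ^ k)⁻¹) := by
            rw [pow_succ]; simp only [commutatorElement_def]; group
          rw [e]
          exact F.mul_mem (ih x hx) ((Subgroup.mem_normalizer_iff.1 (pow_mem hgNF k) _).1 (hall x hx))
      have hle : ⁅U, A⁆ ≤ F := by
        rw [Subgroup.commutator_le]
        intro x hx a ha
        obtain ⟨j, rfl⟩ := hApow a ha
        exact hpow j x hx
      rw [hcomm] at hle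
      exact hFne (le_antisymm hFU hle)
    have hU'F : U' = F := by
      rcases hirr U' (hF ▸ hFU') hU'U hAU' with h' | h'
      · rw [h', hF]
      · exact absurd h' hU'ne
    -- the section
    haveI hVn : ((U.subgroupOf H).map (QuotientGroup.mk' (N₀.subgroupOf H))).Normal :=
      Subgroup.Normal.map hUn' _ (QuotientGroup.mk'_surjective _)
    have hV1 : (U.subgroupOf H).map (QuotientGroup.mk' (N₀.subgroupOf H)) ≠ ⊥ := by
      intro h0
      rw [Subgroup.map_eq_bot_iff, QuotientGroup.ker_mk'] at h0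
      apply hgC
      rw [Subgroup.mem_centralizer_iff]
      intro u hu
      have : (⟨u, hUH hu⟩ : ↥H) ∈ N₀.subgroupOf H :=
        h0 (show (⟨u, hUH hu⟩ : ↥H) ∈ U.subgroupOf H from hu)
      exact hN₀g u this
    have hVp : ∀ v ∈ (U.subgroupOf H).map (QuotientGroup.mk' (N₀.subgroupOf H)), v ^ p = 1 := by
      rintro _ ⟨⟨u, huH⟩, hu, rfl⟩
      rw [← map_pow, QuotientGroup.mk'_apply, QuotientGroup.eq_one_iff]
      show u ^ p ∈ N₀
      rw [hN₀]
      exact Subgroup.mem_sup_left (hxp u hu)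
    have hVc : ∀ v ∈ (U.subgroupOf H).map (QuotientGroup.mk' (N₀.subgroupOf H)),
        ∀ w ∈ (U.subgroupOf H).map (QuotientGroup.mk' (N₀.subgroupOf H)), v * w = w * v := by
      rintro _ ⟨⟨a, haH⟩, ha, rfl⟩ _ ⟨⟨b, hbH⟩, hb, rfl⟩
      rw [← map_mul, ← map_mul, QuotientGroup.mk'_apply, QuotientGroup.mk'_apply, QuotientGroup.eq]
      show (a * b)⁻¹ * (b * a) ∈ N₀
      have e : (a * b)⁻¹ * (b * a) = ⁅b⁻¹, a⁻¹⁆ := by rw [commutatorElement_def]; group
      rw [e, hN₀]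
      exact Subgroup.mem_sup_left (hxy _ (inv_mem hb) _ (inv_mem ha))
    have htq : (QuotientGroup.mk' (N₀.subgroupOf H) ⟨g, hgH⟩) ^ q = 1 := by
      rw [← map_pow, QuotientGroup.mk'_apply, QuotientGroup.eq_one_iff]
      show g ^ q ∈ N₀
      rw [hN₀, hZ]
      exact Subgroup.mem_sup_right (Subgroup.mem_zpowers _)
    have hgen : ∀ k : ↥H ⧸ N₀.subgroupOf H,
        ∃ v ∈ (U.subgroupOf H).map (QuotientGroup.mk' (N₀.subgroupOf H)), ∃ j : ℕ,
          k = v * (QuotientGroup.mk' (N₀.subgroupOf H) ⟨g, hgH⟩) ^ j := by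
      intro k
      obtain ⟨⟨h', hh'⟩, rfl⟩ := QuotientGroup.mk_surjective k
      obtain ⟨u, hu, a, ha, rfl⟩ := (Cfsg.Agent.H1.mem_sup_of_le_normalizer U A hAN).1 (hH ▸ hh')
      obtain ⟨j, rfl⟩ := hApow a ha
      refine ⟨QuotientGroup.mk' _ ⟨u, hUH hu⟩, ⟨⟨u, hUH hu⟩, hu, rfl⟩, j, ?_⟩
      rw [← map_pow, ← map_mul]
      rfl
    have hfix : ∀ v ∈ (U.subgroupOf H).map (QuotientGroup.mk' (N₀.subgroupOf H)),
        (QuotientGroup.mk' (N₀.subgroupOf H) ⟨g, hgH⟩) * v *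
          (QuotientGroup.mk' (N₀.subgroupOf H) ⟨g, hgH⟩)⁻¹ = v → v = 1 := by
      rintro _ ⟨⟨u, huH⟩, hu, rfl⟩ hfx
      have huU : u ∈ U := hu
      rw [← map_inv, ← map_mul, ← map_mul, QuotientGroup.mk'_apply, QuotientGroup.mk'_apply,
        QuotientGroup.eq] at hfx
      have h1 : (g * u * g⁻¹)⁻¹ * u ∈ N₀ := hfx
      have h2 : (g * u * g⁻¹)⁻¹ * u ∈ U :=
        mul_mem (inv_mem ((Subgroup.mem_normalizer_iff.1 hgN u).1 huU)) huU
      have h3 : (g * u * g⁻¹)⁻¹ * u ∈ F := hUN₀ _ h2 h1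
      have h4 : ⁅u⁻¹, g⁆ ∈ F := by
        have e : ⁅u⁻¹, g⁆ = ((g * u * g⁻¹)⁻¹ * u)⁻¹ := by rw [commutatorElement_def]; group
        rw [e]; exact inv_mem h3
      have h5 : u⁻¹ ∈ U' := (hU' _).2 ⟨inv_mem huU, h4⟩
      rw [hU'F] at h5
      rw [QuotientGroup.mk'_apply, QuotientGroup.eq_one_iff]
      show u ∈ N₀
      rw [hN₀]
      exact Subgroup.mem_sup_left (by simpa using inv_mem h5)
    obtain ⟨hcore, hno'⟩ := frob_section (p := p) hq hpq
      ((U.subgroupOf H).map (QuotientGroup.mk' (N₀.subgroupOf H))) hV1 hVp hVc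
      (QuotientGroup.mk' (N₀.subgroupOf H) ⟨g, hgH⟩) htq hgen hfix
    obtain ⟨k, hk⟩ := h H (N₀.subgroupOf H) hcore
    exact hno' k hk

end Cfsg.Agent.S4238
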