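import Cfsg.Statements.S4242
import Mathlib
import Cfsg.Prelude.Def_SolvableStructure
import Cfsg.Prelude.Def_Transfer
import Cfsg.Agent.H1.Cores
import Cfsg.Agent.H1.SylowMore
import Cfsg.Agent.H1.MinNonPClosed
import Cfsg.Agent.H1.CoprimeAction
import Cfsg.Agent.Lib.Helper4.Nilpotent
import Cfsg.Agent.S0071
import Cfsg.Agent.S0086
import Cfsg.Agent.H1.MaxNilpotent

set_option autoImplicit false
open Cfsg

namespace Cfsg.Agent.S4242

set_option autoImplicit false
set_option linter.unusedVariables false
set_option linter.unusedSectionVars false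
set_option linter.style.haveILetI false
open H1

/-- Let G be a finite group and p a prime dividing its order. Every maximal subgroup of G of order divisible by p is nilpotent if and only if G is nilpotent, or G is a minimal non-nilpotent group, or G is the internal direct product of a normal subgroup of order p and a normal minimal non-nilpotent subgroup of order prime to p. -/
theorem result {G : Type*} [Group G] [Finite G] (p : ℕ) (hp : p.Prime) (hpG : p ∣ Nat.card G) :
    (∀ M : Subgroup G, IsCoatom M → p ∣ Nat.card M → Group.IsNilpotent M) ↔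
      (Group.IsNilpotent G ∨ Cfsg.IsMinimalNonNilpotent G ∨
        ∃ Z K : Subgroup G, Z.Normal ∧ K.Normal ∧ Z ⊓ K = ⊥ ∧ Z ⊔ K = ⊤ ∧ Nat.card Z = p ∧
          Cfsg.IsMinimalNonNilpotent K ∧ ¬ p ∣ Nat.card K) := by
  constructor
  · intro hH
    by_cases hn : Group.IsNilpotent G
    · exact Or.inl hn
    by_cases hm : Cfsg.IsMinimalNonNilpotent G
    · exact Or.inr (Or.inl hm)
    exact Or.inr (Or.inr (max_nilpotent_structure hp hpG hH hn hm))
  · rintro (hn | hm | ⟨Z, K, hZn, hKn, hdisj, hsup, hZcard, hKm, hKp⟩)
    · intro M _ _
      haveI := hn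
      infer_instance
    · intro M hM _
      exact hm.2 M hM.1
    · intro M hM hpM
      haveI := Fact.mk hp
      haveI := hZn
      haveI := hKn
      -- `Z` commutes with `K`
      have hZK : ∀ z ∈ Z, ∀ k ∈ K, z * k = k * z := by
        intro z hz k hk
        exact (Subgroup.commute_of_normal_of_disjoint Z K hZn hKn (disjoint_iff.2 hdisj) z k hz hk).eq
      -- an element of order `p` of `M` lies in `Z`
      obtain ⟨⟨y, hyM⟩, hy⟩ := exists_prime_orderOf_dvd_card' p hpM
      rw [Subgroup.orderOf_mk] at hy
      have hyZ : y ∈ Z := by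
        have hy' : y ∈ Z ⊔ K := by rw [hsup]; exact Subgroup.mem_top y
        rw [← SetLike.mem_coe, Subgroup.mul_normal] at hy'
        obtain ⟨z, hz, k, hk, rfl⟩ := hy'
        have hk1 : k = 1 := by
          have h1 : (z * k) ^ p = 1 := by rw [← hy, pow_orderOf_eq_one]
          rw [(show Commute z k from hZK z hz k hk).mul_pow] at h1
          have hzp : z ^ p = 1 := by
            have := pow_card_eq_one' (G := Z) (x := ⟨z, hz⟩)
            rw [hZcard] at this
            exact congrArg Subtype.val this
          rw [hzp, one_mul] at h1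
          have h2 : orderOf k ∣ p := orderOf_dvd_of_pow_eq_one h1
          have h3 : orderOf k ∣ Nat.card K := by
            have := orderOf_dvd_natCard (⟨k, hk⟩ : K)
            rwa [Subgroup.orderOf_mk] at this
          rcases (Nat.dvd_prime hp).1 h2 with h | h
          · exact orderOf_eq_one_iff.1 h
          · exact absurd (h ▸ h3) hKp
        subst hk1
        simpa using hz
      have hy1 : y ≠ 1 := by
        intro h
        rw [h, orderOf_one] at hy
        exact hp.one_lt.ne hy
      have hZM : Z ≤ M := by
        have : Subgroup.zpowers y = Z := by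
          apply Subgroup.eq_of_le_of_card_ge
          · rw [Subgroup.zpowers_le]; exact hyZ
          · rw [Nat.card_zpowers, hy, hZcard]
        rw [← this, Subgroup.zpowers_le]
        exact hyM
      have hMeq : M = Z ⊔ M ⊓ K := by
        apply le_antisymm
        · intro m hm
          have hm' : m ∈ Z ⊔ K := by rw [hsup]; exact Subgroup.mem_top m
          rw [← SetLike.mem_coe, Subgroup.mul_normal] at hm'
          obtain ⟨z, hz, k, hk, rfl⟩ := hm'
          have hkM : k ∈ M := by
            have : k = z⁻¹ * (z * k) := by group
            rw [this]; exact M.mul_mem (M.inv_mem (hZM hz)) hm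
          exact Subgroup.mul_mem _ (Subgroup.mem_sup_left hz) (Subgroup.mem_sup_right ⟨hkM, hk⟩)
        · exact sup_le hZM inf_le_left
      have hMK : M ⊓ K ≠ K := by
        intro h
        apply hM.1
        rw [eq_top_iff, ← hsup]
        exact sup_le hZM (h ▸ inf_le_left)
      have hMKnil : Group.IsNilpotent ↥(M ⊓ K) := by
        have h1 : (M ⊓ K).subgroupOf K ≠ ⊤ := by
          intro h
          rw [Subgroup.subgroupOf_eq_top] at h
          exact hMK (le_antisymm inf_le_right h)
        have h2 := hKm.2 _ h1
        haveI := h2
        exact Group.nilpotent_of_mulEquiv (Subgroup.subgroupOfEquivOfLe (inf_le_right : M ⊓ K ≤ K))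
      have hZnil : Group.IsNilpotent Z := isNilpotent_of_forall_commute (by
        intro a ha b hb
        have : Subgroup.zpowers y = Z := by
          apply Subgroup.eq_of_le_of_card_ge
          · rw [Subgroup.zpowers_le]; exact hyZ
          · rw [Nat.card_zpowers, hy, hZcard]
        rw [← this] at ha hb
        obtain ⟨m, rfl⟩ := Subgroup.mem_zpowers_iff.1 ha
        obtain ⟨n, rfl⟩ := Subgroup.mem_zpowers_iff.1 hb
        exact ((Commute.refl y).zpow_zpow m n).eq)
      rw [hMeq]
      exact isNilpotent_sup_of_commute Z (M ⊓ K) hZnil hMKnil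
        (fun z hz k hk => hZK z hz k hk.2)

end Cfsg.Agent.S4242
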