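import Mathlib
import Cfsg.Statements.S4244

set_option autoImplicit false
open Cfsg

namespace Cfsg.Agent.S4244

theorem relIndex_sup_eq_of_normal {G : Type*} [Group G] [Finite G] (M N : Subgroup G) [N.Normal] :
    M.relIndex (M ⊔ N) = M.relIndex N := by
  have h1 : (M ⊓ N).relIndex N * N.relIndex (M ⊔ N) = (M ⊓ N).relIndex (M ⊔ N) :=
    Subgroup.relIndex_mul_relIndex _ _ _ inf_le_right le_sup_right
  have h2 : (M ⊓ N).relIndex M * M.relIndex (M ⊔ N) = (M ⊓ N).relIndex (M ⊔ N) :=
    Subgroup.relIndex_mul_relIndex _ _ _ inf_le_left le_sup_left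
  have h3 : N.relIndex (M ⊔ N) = N.relIndex M := Subgroup.relIndex_sup_right M N
  have h4 : (M ⊓ N).relIndex M = N.relIndex M := Subgroup.inf_relIndex_left M N
  have h5 : (M ⊓ N).relIndex N = M.relIndex N := Subgroup.inf_relIndex_right M N
  rw [h3, h5] at h1
  rw [h4] at h2
  have hpos : 0 < N.relIndex M := by
    unfold Subgroup.relIndex
    exact Nat.pos_of_ne_zero Subgroup.index_ne_zero_of_finite
  have : N.relIndex M * M.relIndex (M ⊔ N) = N.relIndex M * M.relIndex N := by
    rw [h2, mul_comm, h1]
  exact Nat.eq_of_mul_eq_mul_left hpos this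

theorem relIndex_dvd_index_of_normal_right {G : Type*} [Group G] [Finite G] (M N : Subgroup G) [N.Normal] :
    M.relIndex N ∣ M.index := by
  rw [← relIndex_sup_eq_of_normal]
  exact Subgroup.relIndex_dvd_index_of_le le_sup_left

theorem result {G : Type*} [Group G] [Finite G] (H : Subgroup G) (hH : H.IsSubnormal) (K : Subgroup G) :
    (H ⊓ K).relIndex H ∣ K.index := by
  rw [Subgroup.inf_relIndex_left]
  induction hH with
  | top => simp
  | step H L hHL hL hN ih =>
    refine dvd_trans ?_ ih
    have := relIndex_dvd_index_of_normal_right (K.subgroupOf L) (H.subgroupOf L)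
    rw [Subgroup.relIndex_subgroupOf hHL] at this
    exact this

end Cfsg.Agent.S4244
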