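import Cfsg.Statements.S4251
import Mathlib
import Cfsg.Agent.Lib.Lead.TameControl

set_option autoImplicit false
open Cfsg

namespace Cfsg.Agent.S4251

/-- Let P be a Sylow p-subgroup of a finite group G. Call an intersection H = P ∩ Q with a Sylow p-subgroup Q tame when N_P(H) and N_Q(H) are Sylow p-subgroups of N_G(H). If N_G(H)/C_G(H) is a p-group for every nontrivial tame intersection H = P ∩ Q, then G has a normal p-complement. -/
theorem result {G : Type*} [Group G] [Finite G] (p : ℕ) [Fact p.Prime] (P : Sylow p G)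
    (h : ∀ Q : Sylow p G, (P : Subgroup G) ⊓ (Q : Subgroup G) ≠ ⊥ → (¬ p ∣ ((P : Subgroup G) ⊓ Subgroup.normalizer (((P : Subgroup G) ⊓ (Q : Subgroup G) : Subgroup G) : Set G)).relIndex (Subgroup.normalizer (((P : Subgroup G) ⊓ (Q : Subgroup G) : Subgroup G) : Set G)) ∧ ¬ p ∣ ((Q : Subgroup G) ⊓ Subgroup.normalizer (((P : Subgroup G) ⊓ (Q : Subgroup G) : Subgroup G) : Set G)).relIndex (Subgroup.normalizer (((P : Subgroup G) ⊓ (Q : Subgroup G) : Subgroup G) : Set G))) →
      IsPGroup p (Subgroup.normalizer (((P : Subgroup G) ⊓ (Q : Subgroup G) : Subgroup G) : Set G) ⧸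
        (Subgroup.centralizer (((P : Subgroup G) ⊓ (Q : Subgroup G) : Subgroup G) : Set G)).subgroupOf
          (Subgroup.normalizer (((P : Subgroup G) ⊓ (Q : Subgroup G) : Subgroup G) : Set G)))) :
    Cfsg.HasNormalPComplement p G := by
  apply Cfsg.Agent.Lib.Lead.Frobenius.hasNormalPComplement_of_controls P
  apply Cfsg.Agent.Lib.Lead.TameControl.controls_of_tame
  rintro T x ⟨Q, hT, h1, h2, -⟩ hne hx
  subst hT
  have hq := h Q hne ⟨h1, h2⟩
  obtain ⟨y, hy, hy'⟩ := Cfsg.Agent.Lib.Lead.LocalControl.normalizer_decomp P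
    (U := (P : Subgroup G) ⊓ (Q : Subgroup G)) ⟨inf_le_left, h1⟩
    (fun g hg hgp => by
      have hgp' : Nat.Coprime (orderOf (⟨g, hg⟩ : ↥(Subgroup.normalizer
          ((((P : Subgroup G) ⊓ (Q : Subgroup G)) : Subgroup G) : Set G)))) p := by
        rw [← Subgroup.orderOf_coe]; exact hgp
      have := Cfsg.Agent.Lib.Lead.Frobenius.mem_of_coprime_of_isPGroup_quotient _ hq hgp'
      exact Subgroup.mem_subgroupOf.1 this) hx
  exact ⟨y, hy.1, hy'⟩

end Cfsg.Agent.S4251
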