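import Mathlib
import Cfsg.Statements.S4252
import Cfsg.Agent.H2.ConjMap

set_option autoImplicit false
open Cfsg
open scoped Pointwise

namespace Cfsg.Agent.S4252

open Cfsg.Agent.H2

theorem result {G Ω : Type*} [Group G] [Finite G] [Fintype Ω] [MulAction G Ω] (hΩ : 1 < Fintype.card Ω)
    (htrans : ∀ α β : Ω, ∃ g : G, g • α = β) (hnreg : ∃ g : G, g ≠ 1 ∧ ∃ α : Ω, g • α = α)
    (hfix : ∀ g : G, g ≠ 1 → ∀ α β : Ω, g • α = α → g • β = β → α = β) (α : Ω) :
    Cfsg.IsFrobeniusComplement (MulAction.stabilizer G α) ∧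
      Cfsg.frobeniusKernel (MulAction.stabilizer G α) = {g : G | g = 1 ∨ ∀ ω : Ω, g • ω ≠ ω} := by
  have hmem : ∀ g x : G, x ∈ MulAut.conj g • MulAction.stabilizer G α ↔ x • (g • α) = g • α := by
    intro g x
    rw [mem_conj_smul_iff, MulAction.mem_stabilizer_iff, mul_smul, mul_smul, inv_smul_eq_iff]
  refine ⟨⟨?_, ?_, ?_⟩, ?_⟩
  · obtain ⟨g, hg1, β, hgβ⟩ := hnreg
    obtain ⟨u, hu⟩ := htrans β α
    intro hbot
    have : u * g * u⁻¹ ∈ MulAction.stabilizer G α := by
      rw [MulAction.mem_stabilizer_iff, mul_smul, mul_smul, ← hu, inv_smul_smul, hgβ]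
    rw [hbot, Subgroup.mem_bot] at this
    apply hg1
    calc g = u⁻¹ * (u * g * u⁻¹) * u := by group
      _ = 1 := by rw [this]; group
  · intro htop
    obtain ⟨β, hβ⟩ := Fintype.exists_ne_of_one_lt_card hΩ α
    obtain ⟨g, hg⟩ := htrans α β
    have : g ∈ MulAction.stabilizer G α := htop ▸ Subgroup.mem_top g
    rw [MulAction.mem_stabilizer_iff] at this
    exact hβ (hg ▸ this)
  · intro g hg
    rw [eq_bot_iff]
    intro x hx
    rw [Subgroup.mem_bot]
    obtain ⟨hx1, hx2⟩ := Subgroup.mem_inf.1 hx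
    rw [hmem] at hx2
    rw [MulAction.mem_stabilizer_iff] at hx1 hg
    by_contra hne
    exact hg (hfix x hne _ _ hx2 hx1)
  · ext x
    simp only [Cfsg.frobeniusKernel, Set.mem_ofPred_eq]
    constructor
    · rintro (h | h)
      · left; exact h
      · right
        intro ω
        obtain ⟨g, rfl⟩ := htrans α ω
        intro hh
        exact h g ((hmem g x).2 hh)
    · rintro (h | h)
      · left; exact h
      · right
        intro g
        rw [hmem]
        exact h _

end Cfsg.Agent.S4252
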