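import Mathlib
import Cfsg.Statements.S4255
import Cfsg.Agent.H2.ClassProdE

set_option autoImplicit false
open Cfsg

namespace Cfsg.Agent.S4255

/-- Let G be a finite group. Call a prime a vertex if it divides some conjugacy class size of G, and two distinct vertices adjacent if their product divides some class size. Suppose this graph is disconnected: the vertices split into two nonempty parts with no vertex of one part adjacent to a vertex of the other. Then G/Z(G) is a Frobenius group with abelian Frobenius complement and with a Frobenius kernel all of whose elements commute. -/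
theorem result {G : Type*} [Group G] [Finite G] (S : Set ℕ) (hS : ∃ p ∈ S, (p.Prime ∧ ∃ g : G, p ∣ (Subgroup.centralizer ({g} : Set G)).index)) (hS' : ∃ q ∉ S, (q.Prime ∧ ∃ g : G, q ∣ (Subgroup.centralizer ({g} : Set G)).index))
    (hdisc : ∀ p q : ℕ, (p.Prime ∧ ∃ g : G, p ∣ (Subgroup.centralizer ({g} : Set G)).index) → (q.Prime ∧ ∃ g : G, q ∣ (Subgroup.centralizer ({g} : Set G)).index) → p ∈ S → q ∉ S → ¬ (∃ g : G, p * q ∣ (Subgroup.centralizer ({g} : Set G)).index)) :
    ∃ H : Subgroup (G ⧸ Subgroup.center G), Cfsg.IsFrobeniusComplement H ∧ IsMulCommutative H ∧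
      ∀ x ∈ Cfsg.frobeniusKernel H, ∀ y ∈ Cfsg.frobeniusKernel H, x * y = y * x := by
  classical
  have key : ∀ g : G, ∀ r : ℕ, r.Prime → r ∣ (Subgroup.centralizer ({g} : Set G)).index → r ∈ S →
      ∀ r' : ℕ, r'.Prime → r' ∣ (Subgroup.centralizer ({g} : Set G)).index → r' ∈ S := by
    intro g r hr hrg hrS r' hr' hr'g
    by_contra hr'S
    have hne : r ≠ r' := fun e => hr'S (e ▸ hrS)
    have hmul : r * r' ∣ (Subgroup.centralizer ({g} : Set G)).index :=
      Nat.Coprime.mul_dvd_of_dvd_of_dvd ((Nat.coprime_primes hr hr').2 hne) hrg hr'g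
    exact hdisc r r' ⟨hr, g, hrg⟩ ⟨hr', g, hr'g⟩ hrS hr'S ⟨g, hmul⟩
  have hnc : ∀ g : G, ∀ r : ℕ, r.Prime → r ∣ (Subgroup.centralizer ({g} : Set G)).index →
      g ∉ Subgroup.center G := by
    intro g r hr hrg hz
    have : (Subgroup.centralizer ({g} : Set G)).index = 1 :=
      (Cfsg.Agent.H2.ClassProd.cs_eq_one_iff g).2 hz
    rw [this] at hrg
    exact hr.one_lt.ne' (Nat.dvd_one.1 hrg)
  have hprime : ∀ g : G, g ∉ Subgroup.center G →
      ∃ r : ℕ, r.Prime ∧ r ∣ (Subgroup.centralizer ({g} : Set G)).index := by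
    intro g hg
    apply Nat.exists_prime_and_dvd
    intro e
    exact hg ((Cfsg.Agent.H2.ClassProd.cs_eq_one_iff g).1 e)
  set X : Set G := {g | g ∉ Subgroup.center G ∧
    ∀ r : ℕ, r.Prime → r ∣ (Subgroup.centralizer ({g} : Set G)).index → r ∈ S} with hX
  set Y : Set G := {g | g ∉ Subgroup.center G ∧
    ∀ r : ℕ, r.Prime → r ∣ (Subgroup.centralizer ({g} : Set G)).index → r ∉ S} with hY
  have hsplit : Cfsg.Agent.H2.ClassProd.Split X Y := by
    refine ⟨?_, ?_, fun g hg => hg.1, fun g hg => hg.1, ?_⟩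
    · rintro g ⟨hg1, hg2⟩ ⟨-, hg3⟩
      obtain ⟨r, hr, hrg⟩ := hprime g hg1
      exact hg3 r hr hrg (hg2 r hr hrg)
    · intro g hg
      by_cases hex : ∃ r : ℕ, r.Prime ∧ r ∣ (Subgroup.centralizer ({g} : Set G)).index ∧ r ∈ S
      · obtain ⟨r, hr, hrg, hrS⟩ := hex
        exact Or.inl ⟨hg, key g r hr hrg hrS⟩
      · right
        refine ⟨hg, ?_⟩
        intro r hr hrg hrS
        exact hex ⟨r, hr, hrg, hrS⟩
    · rintro x ⟨-, hx⟩ y ⟨-, hy⟩
      apply Nat.coprime_of_dvd
      intro r hr hrx hry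
      exact hy r hr hry (hx r hr hrx)
  have hXne : X.Nonempty := by
    obtain ⟨p, hpS, hp, g, hpg⟩ := hS
    exact ⟨g, hnc g p hp hpg, key g p hp hpg hpS⟩
  have hYne : Y.Nonempty := by
    obtain ⟨q, hqS, hq, g, hqg⟩ := hS'
    refine ⟨g, hnc g q hq hqg, ?_⟩
    intro r hr hrg hrS
    exact hqS (key g r hr hrg hrS q hq hqg)
  exact hsplit.frobenius hXne hYne

end Cfsg.Agent.S4255
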