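import Mathlib
import Cfsg.Statements.S4257
import Cfsg.Agent.H2.ClassFarD

set_option autoImplicit false
open Cfsg

namespace Cfsg.Agent.S4257

/-- Let G be a finite group. Call a prime a vertex if it divides some conjugacy class size of G, and two distinct vertices adjacent if their product divides some class size. If this graph is connected, then its diameter is at most 3: any two distinct vertices p and q are adjacent, or joined through one or two intermediate vertices. -/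
theorem result {G : Type*} [Group G] [Finite G]
    (hconn : ∀ S : Set ℕ, (∃ p ∈ S, (p.Prime ∧ ∃ g : G, p ∣ (Subgroup.centralizer ({g} : Set G)).index)) → (∃ q ∉ S, (q.Prime ∧ ∃ g : G, q ∣ (Subgroup.centralizer ({g} : Set G)).index)) →
      ∃ p q : ℕ, (p.Prime ∧ ∃ g : G, p ∣ (Subgroup.centralizer ({g} : Set G)).index) ∧ (q.Prime ∧ ∃ g : G, q ∣ (Subgroup.centralizer ({g} : Set G)).index) ∧ p ∈ S ∧ q ∉ S ∧ (∃ g : G, p * q ∣ (Subgroup.centralizer ({g} : Set G)).index))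
    (p q : ℕ) (hp : (p.Prime ∧ ∃ g : G, p ∣ (Subgroup.centralizer ({g} : Set G)).index)) (hq : (q.Prime ∧ ∃ g : G, q ∣ (Subgroup.centralizer ({g} : Set G)).index)) (hpq : p ≠ q) :
    (∃ g : G, p * q ∣ (Subgroup.centralizer ({g} : Set G)).index) ∨ (∃ r : ℕ, (r.Prime ∧ ∃ g : G, r ∣ (Subgroup.centralizer ({g} : Set G)).index) ∧ r ≠ p ∧ r ≠ q ∧ (∃ g : G, p * r ∣ (Subgroup.centralizer ({g} : Set G)).index) ∧ (∃ g : G, r * q ∣ (Subgroup.centralizer ({g} : Set G)).index)) ∨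
      (∃ r s : ℕ, (r.Prime ∧ ∃ g : G, r ∣ (Subgroup.centralizer ({g} : Set G)).index) ∧ (s.Prime ∧ ∃ g : G, s ∣ (Subgroup.centralizer ({g} : Set G)).index) ∧ r ≠ p ∧ s ≠ q ∧ r ≠ s ∧ r ≠ q ∧ s ≠ p ∧
        (∃ g : G, p * r ∣ (Subgroup.centralizer ({g} : Set G)).index) ∧ (∃ g : G, r * s ∣ (Subgroup.centralizer ({g} : Set G)).index) ∧ (∃ g : G, s * q ∣ (Subgroup.centralizer ({g} : Set G)).index)) := by
  classical
  by_contra hneg
  have hmd : ∀ (a b n : ℕ), a.Prime → b.Prime → a ≠ b → a ∣ n → b ∣ n → a * b ∣ n :=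
    fun a b n ha hb hab h1 h2 =>
      Nat.Coprime.mul_dvd_of_dvd_of_dvd ((Nat.coprime_primes ha hb).2 hab) h1 h2
  have hN1 : ∀ g : G, ¬ p * q ∣ (Subgroup.centralizer ({g} : Set G)).index :=
    fun g h => hneg (Or.inl ⟨g, h⟩)
  have hN2 : ∀ r : ℕ, r.Prime → r ≠ p → r ≠ q → ∀ g₁ g₂ : G,
      p * r ∣ (Subgroup.centralizer ({g₁} : Set G)).index →
      r * q ∣ (Subgroup.centralizer ({g₂} : Set G)).index → False := by
    intro r hr h1 h2 g₁ g₂ h3 h4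
    exact hneg (Or.inr (Or.inl ⟨r, ⟨hr, g₁, (Dvd.intro_left _ rfl).trans h3⟩, h1, h2,
      ⟨g₁, h3⟩, ⟨g₂, h4⟩⟩))
  have hN3 : ∀ r s : ℕ, r.Prime → s.Prime → r ≠ p → s ≠ q → r ≠ s → r ≠ q → s ≠ p →
      ∀ g₁ g₂ g₃ : G, p * r ∣ (Subgroup.centralizer ({g₁} : Set G)).index →
      r * s ∣ (Subgroup.centralizer ({g₂} : Set G)).index →
      s * q ∣ (Subgroup.centralizer ({g₃} : Set G)).index → False := by
    intro r s hr hs h1 h2 h3 h4 h5 g₁ g₂ g₃ h6 h7 h8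
    exact hneg (Or.inr (Or.inr ⟨r, s, ⟨hr, g₁, (Dvd.intro_left _ rfl).trans h6⟩,
      ⟨hs, g₂, (Dvd.intro_left _ rfl).trans h7⟩, h1, h2, h3, h4, h5, ⟨g₁, h6⟩, ⟨g₂, h7⟩,
      ⟨g₃, h8⟩⟩))
  obtain ⟨hpp, gp, hgp⟩ := hp
  obtain ⟨hqp, gq, hgq⟩ := hq
  set A : Set ℕ := {t | t.Prime ∧ (t = p ∨ ∃ g : G, p * t ∣ (Subgroup.centralizer ({g} : Set G)).index)}
    with hAdef
  set B : Set ℕ := {t | t.Prime ∧ (t = q ∨ ∃ g : G, t * q ∣ (Subgroup.centralizer ({g} : Set G)).index)}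
    with hBdef
  have hsep : ∀ (g : G) (r t : ℕ), r ∈ A → t ∈ B → r ∣ Cfsg.Agent.H2.ClassProd.cs g →
      t ∣ Cfsg.Agent.H2.ClassProd.cs g → False := by
    rintro g r t ⟨hr, hrA⟩ ⟨ht, htB⟩ hrg htg
    by_cases hrq : r = q
    · subst hrq
      rcases hrA with e | ⟨g₁, h1⟩
      · exact hpq e.symm
      · exact hN1 g₁ h1
    by_cases htp : t = p
    · subst htp
      rcases htB with e | ⟨g₃, h3⟩
      · exact hpq e
      · exact hN1 g₃ h3
    by_cases hrp : r = p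
    · subst hrp
      by_cases htq : t = q
      · subst htq
        exact hN1 g (hmd _ _ _ hr ht hpq hrg htg)
      · rcases htB with e | ⟨g₃, h3⟩
        · exact htq e
        · exact hN2 t ht htp htq g g₃ (hmd _ _ _ hr ht (Ne.symm htp) hrg htg) h3
    · rcases hrA with e | ⟨g₁, h1⟩
      · exact hrp e
      by_cases htq : t = q
      · subst htq
        exact hN2 r hr hrp hrq g₁ g h1 (hmd _ _ _ hr ht hrq hrg htg)
      · rcases htB with e | ⟨g₃, h3⟩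
        · exact htq e
        by_cases hrt : r = t
        · subst hrt
          exact hN2 r hr hrp hrq g₁ g₃ h1 h3
        · exact hN3 r t hr ht hrp htq hrt hrq htp g₁ g g₃ h1 (hmd _ _ _ hr ht hrt hrg htg) h3
  have hpA : p ∈ A := ⟨hpp, Or.inl rfl⟩
  have hqB : q ∈ B := ⟨hqp, Or.inl rfl⟩
  have HA : ∀ g : G, p ∣ Cfsg.Agent.H2.ClassProd.cs g → ∀ t : ℕ, t.Prime →
      t ∣ Cfsg.Agent.H2.ClassProd.cs g → t ∈ A := by
    intro g hg t ht htg
    refine ⟨ht, ?_⟩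
    by_cases e : t = p
    · exact Or.inl e
    · exact Or.inr ⟨g, hmd _ _ _ hpp ht (Ne.symm e) hg htg⟩
  have HB : ∀ g : G, q ∣ Cfsg.Agent.H2.ClassProd.cs g → ∀ t : ℕ, t.Prime →
      t ∣ Cfsg.Agent.H2.ClassProd.cs g → t ∈ B := by
    intro g hg t ht htg
    refine ⟨ht, ?_⟩
    by_cases e : t = q
    · exact Or.inl e
    · exact Or.inr ⟨g, hmd _ _ _ ht hqp e htg hg⟩
  have hpB : p ∉ B := fun h => hsep gp p p hpA h hgp hgp
  have hqA : q ∉ A := fun h => hsep gq q q h hqB hgq hgq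
  rcases Cfsg.Agent.H2.ClassFar.core hsep p q hpp hqp hpA hqB HA HB gp gq hgp hgq with h | h
  · obtain ⟨p', q', hp', hq', hp'B, hq'B, g, hg⟩ :=
      hconn B ⟨q, hqB, hqp, gq, hgq⟩ ⟨p, hpB, hpp, gp, hgp⟩
    have h1 : p' ∣ Cfsg.Agent.H2.ClassProd.cs g := (Dvd.intro _ rfl).trans hg
    have h2 : q' ∣ Cfsg.Agent.H2.ClassProd.cs g := (Dvd.intro_left _ rfl).trans hg
    exact hq'B (HB g (h p' hp'.1 hp'B g h1) q' hq'.1 h2)
  · obtain ⟨p', q', hp', hq', hp'A, hq'A, g, hg⟩ :=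
      hconn A ⟨p, hpA, hpp, gp, hgp⟩ ⟨q, hqA, hqp, gq, hgq⟩
    have h1 : p' ∣ Cfsg.Agent.H2.ClassProd.cs g := (Dvd.intro _ rfl).trans hg
    have h2 : q' ∣ Cfsg.Agent.H2.ClassProd.cs g := (Dvd.intro_left _ rfl).trans hg
    exact hq'A (HA g (h p' hp'.1 hp'A g h1) q' hq'.1 h2)

end Cfsg.Agent.S4257
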