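import Mathlib
import Cfsg.Statements.S4260

set_option autoImplicit false
open Cfsg

namespace Cfsg.Agent.S4260

theorem result {G : Type*} [Group G] [Finite G] (H : Subgroup G) (hHall : (Nat.card H).Coprime H.index)
    (hexp : ∀ x : G, x ^ H.index ∈ H) : H.Normal := by
  have key : ∀ x : G, x ∈ H ↔ x ^ Nat.card H = 1 := by
    intro x
    constructor
    · intro hx
      have := pow_card_eq_one' (G := H) (x := ⟨x, hx⟩)
      exact congrArg Subtype.val this
    · intro hx
      -- x = (x^n)^k * (x^m)^l with bezout
      have h1 := hexp x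
      have hord : orderOf x ∣ Nat.card H := orderOf_dvd_of_pow_eq_one hx
      have hcop : (orderOf x).Coprime H.index := Nat.Coprime.coprime_dvd_left hord hHall
      obtain ⟨k, hk⟩ := exists_pow_eq_self_of_coprime hcop.symm
      rw [← hk]
      exact H.pow_mem h1 k
  constructor
  intro x hx g
  rw [key] at hx ⊢
  rw [conj_pow, hx]
  group

end Cfsg.Agent.S4260
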