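import Mathlib
import Cfsg.Statements.S4261
import Cfsg.Agent.S0048

set_option autoImplicit false
open Cfsg

namespace Cfsg.Agent.S4261

/-- Let M be a maximal subgroup of a finite solvable group G such that x^[G : M] lies in M for every x in G. Then M is normal in G. -/
theorem result {G : Type*} [Group G] [Finite G] (hG : Group.IsSolvable G) (M : Subgroup G) (hM : IsCoatom M)
    (hexp : ∀ x : G, x ^ M.index ∈ M) : M.Normal := by
  classical
  -- the index is a prime power
  obtain ⟨p, k, hp, hk, hpk⟩ := Cfsg.Agent.S0048.result M hM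
  have hp' : p.Prime := Nat.prime_iff.2 hp
  have : Fact p.Prime := ⟨hp'⟩
  -- elements of `M` of order prime to `p` lie in the core
  have hcore : ∀ m ∈ M, (orderOf m).Coprime p → m ∈ M.normalCore := by
    intro m _ hcop
    show ∀ x : G, x * m * x⁻¹ ∈ M
    intro x
    have h1 : (x * m * x⁻¹) ^ M.index ∈ M := hexp _
    have h2 : orderOf (x * m * x⁻¹) = orderOf m := (MulAut.conj x).orderOf_eq m
    have h3 : (orderOf (x * m * x⁻¹)).Coprime M.index := by
      rw [h2, ← hpk]
      exact Nat.Coprime.pow_right k hcop
    obtain ⟨s, hs⟩ := exists_pow_eq_self_of_coprime h3.symm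
    rw [← hs]
    exact M.pow_mem h1 s
  -- the quotient by the core is a `p`-group
  have hpg : IsPGroup p (G ⧸ M.normalCore) := by
    intro y
    induction y using QuotientGroup.induction_on with | _ x => ?_
    have hn : orderOf (x ^ M.index) ≠ 0 := (orderOf_pos _).ne'
    refine ⟨k + (orderOf (x ^ M.index)).factorization p, ?_⟩
    rw [← QuotientGroup.mk_pow, QuotientGroup.eq_one_iff, pow_add, pow_mul, hpk]
    apply hcore _ (M.pow_mem (hexp x) _)
    rw [orderOf_pow, Nat.gcd_eq_right (Nat.ordProj_dvd _ _)]
    exact (Nat.coprime_ordCompl hp' hn).symm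
  -- the image of `M` is proper, hence properly contained in its normalizer
  have hnil : Group.IsNilpotent (G ⧸ M.normalCore) := hpg.isNilpotent
  have hnc := Group.normalizerCondition_of_isNilpotent (G := G ⧸ M.normalCore)
  have hcoreM : M.normalCore ≤ M := Subgroup.normalCore_le M
  have hmem : ∀ x : G, (x : G ⧸ M.normalCore) ∈ M.map (QuotientGroup.mk' M.normalCore) → x ∈ M := by
    intro x hx
    obtain ⟨m, hm, hmx⟩ := hx
    have : m⁻¹ * x ∈ M.normalCore := by
      rw [← QuotientGroup.eq]; exact hmx
    have e : x = m * (m⁻¹ * x) := by group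
    rw [e]
    exact M.mul_mem hm (hcoreM this)
  have hlt : M.map (QuotientGroup.mk' M.normalCore) < ⊤ := by
    refine lt_of_le_of_ne le_top ?_
    intro htop
    apply hM.1
    rw [eq_top_iff]
    intro x _
    apply hmem
    rw [htop]; exact Subgroup.mem_top _
  have h1 := hnc _ hlt
  obtain ⟨y, hyN, hyM⟩ := SetLike.exists_of_lt h1
  induction y using QuotientGroup.induction_on with | _ x => ?_
  have hxM : x ∉ M := fun h => hyM ⟨x, h, rfl⟩
  have hxN : x ∈ Subgroup.normalizer (M : Set G) := by
    have key : ∀ z : G, (z : G ⧸ M.normalCore) ∈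
        Subgroup.normalizer ((M.map (QuotientGroup.mk' M.normalCore) : Subgroup _) : Set _) →
        ∀ m ∈ M, z * m * z⁻¹ ∈ M := by
      intro z hz m hm
      apply hmem
      have := (Subgroup.mem_normalizer_iff.1 hz (m : G ⧸ M.normalCore)).1 ⟨m, hm, rfl⟩
      simpa using this
    rw [Subgroup.mem_normalizer_iff]
    intro m
    constructor
    · exact key x hyN m
    · intro hm
      have := key x⁻¹ (by
        have := Subgroup.inv_mem _ hyN
        simpa using this) _ hm
      have e : x⁻¹ * (x * m * x⁻¹) * x⁻¹⁻¹ = m := by group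
      rwa [e] at this
  have htop : Subgroup.normalizer (M : Set G) = ⊤ := by
    apply hM.2
    exact lt_of_le_of_ne Subgroup.le_normalizer (fun h => hxM (h ▸ hxN))
  exact Subgroup.normalizer_eq_top_iff.1 htop

end Cfsg.Agent.S4261
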