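import Mathlib
import Cfsg.Statements.S4269
import Cfsg.Agent.H2.ConjMap

set_option autoImplicit false
open Cfsg
open Cfsg.Agent.H2
open scoped commutatorElement Pointwise

namespace Cfsg.Agent.S4269

/-- Let G be a finite group, V an abelian normal subgroup and H a subgroup with HV = G. Then H is pronormal in G (H and gHg⁻¹ are conjugate inside the subgroup they generate, for every g) if and only if every H-invariant subgroup U of V satisfies U = N_U(H)·[H, U], that is, U is the join of U ∩ N_G(H) and the commutator subgroup [H, U]. -/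
theorem result {G : Type*} [Group G] [Finite G]
    (V : Subgroup G) [V.Normal] (hV : IsMulCommutative ↥V) (H : Subgroup G) (hHV : H ⊔ V = ⊤) :
    Cfsg.IsPronormal H ↔
      ∀ U : Subgroup G, U ≤ V → (∀ h ∈ H, U.map (MulAut.conj h).toMonoidHom = U) →
        U = (U ⊓ Subgroup.normalizer (H : Set G)) ⊔ ⁅H, U⁆ := by
  have hcomm : ∀ a ∈ V, ∀ b ∈ V, a * b = b * a := by
    intro a ha b hb
    have := mul_comm' (⟨a, ha⟩ : V) ⟨b, hb⟩
    exact congrArg Subtype.val this
  -- [H,U] ≤ U for H-invariant U
  have hTU : ∀ U : Subgroup G, (∀ h ∈ H, U.map (MulAut.conj h).toMonoidHom = U) → ⁅H, U⁆ ≤ U := by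
    intro U hUinv
    rw [Subgroup.commutator_le]
    intro h hh u hu
    have h1 : h * u * h⁻¹ ∈ U := (hUinv h hh).le (conj_mem_map_conj U h hu)
    rw [commutatorElement_def]
    exact U.mul_mem h1 (U.inv_mem hu)
  -- H normalizes [H,U]
  have hHT : ∀ U : Subgroup G, (∀ h ∈ H, U.map (MulAut.conj h).toMonoidHom = U) →
      H ≤ Subgroup.normalizer ((⁅H, U⁆ : Subgroup G) : Set G) := by
    intro U hUinv h hh
    rw [← map_conj_eq_self_iff_mem_normalizer, Subgroup.map_commutator, map_conj_eq_of_mem H hh,
      hUinv h hh]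
  constructor
  · intro hpro U hUV hUinv
    apply le_antisymm
    · intro u hu
      obtain ⟨x, hx, hxe⟩ := hpro u
      have hle : H ⊔ H.map (MulAut.conj u).toMonoidHom ≤ ⁅H, U⁆ ⊔ H := by
        refine sup_le le_sup_right ?_
        rintro y ⟨k, hk, rfl⟩
        simp only [MulEquiv.coe_toMonoidHom, MulAut.conj_apply]
        have h1 : u * k * u⁻¹ = ⁅k, u⁆⁻¹ * k := by
          rw [commutatorElement_def]; group
        rw [h1]
        exact Subgroup.mul_mem_sup ((⁅H, U⁆).inv_mem (Subgroup.commutator_mem_commutator hk hu)) hk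
      have hx' : x ∈ ((⁅H, U⁆ ⊔ H : Subgroup G) : Set G) := hle hx
      rw [Subgroup.coe_mul_of_right_le_normalizer_left _ _ (hHT U hUinv)] at hx'
      obtain ⟨t, ht, h, hh, rfl⟩ := Set.mem_mul.mp hx'
      have hxe2 : H.map (MulAut.conj u).toMonoidHom = H.map (MulAut.conj t).toMonoidHom := by
        rw [hxe, map_conj_mul, map_conj_eq_of_mem H hh]
      have hn : t⁻¹ * u ∈ Subgroup.normalizer (H : Set G) := by
        rw [← map_conj_eq_self_iff_mem_normalizer, map_conj_mul, hxe2, ← map_conj_mul,
          inv_mul_cancel, map_conj_one]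
      have htU : t ∈ U := hTU U hUinv ht
      have h2 : t⁻¹ * u ∈ U ⊓ Subgroup.normalizer (H : Set G) :=
        ⟨U.mul_mem (U.inv_mem htU) hu, hn⟩
      have h3 : u = t * (t⁻¹ * u) := by group
      rw [h3, sup_comm]
      exact Subgroup.mul_mem_sup ht h2
    · exact sup_le inf_le_left (hTU U hUinv)
  · intro hcrit g
    have hg : g ∈ V ⊔ H := by rw [sup_comm, hHV]; trivial
    obtain ⟨v, hv, h, hh, rfl⟩ := Subgroup.mem_sup_of_normal_left.mp hg
    have hHg : H.map (MulAut.conj (v * h)).toMonoidHom = H.map (MulAut.conj v).toMonoidHom := by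
      rw [map_conj_mul, map_conj_eq_of_mem H hh]
    rw [hHg]
    -- the H-invariant subgroup generated by v
    let U : Subgroup G := Subgroup.closure {y : G | ∃ k ∈ H, y = k * v * k⁻¹}
    have hUV : U ≤ V := by
      rw [Subgroup.closure_le]
      rintro y ⟨k, -, rfl⟩
      exact ‹V.Normal›.conj_mem v hv k
    have hUinv : ∀ k ∈ H, U.map (MulAut.conj k).toMonoidHom = U := by
      intro k hk
      apply map_conj_eq_of_le
      rw [Subgroup.map_le_iff_le_comap, Subgroup.closure_le]
      rintro y ⟨k', hk', rfl⟩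
      change (MulAut.conj k).toMonoidHom (k' * v * k'⁻¹) ∈ U
      simp only [MulEquiv.coe_toMonoidHom, MulAut.conj_apply]
      apply Subgroup.subset_closure
      exact ⟨k * k', H.mul_mem hk hk', by group⟩
    have hvU : v ∈ U := Subgroup.subset_closure ⟨1, H.one_mem, by group⟩
    have hU := hcrit U hUV hUinv
    -- decompose v
    have hnorm : U ⊓ Subgroup.normalizer (H : Set G) ≤
        Subgroup.normalizer ((⁅H, U⁆ : Subgroup G) : Set G) := by
      intro a ha
      have haV : a ∈ V := hUV ha.1
      rw [Subgroup.mem_normalizer_iff]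
      intro t
      constructor
      · intro ht
        have htV : t ∈ V := hUV (hTU U hUinv ht)
        have : a * t * a⁻¹ = t := by
          rw [hcomm a haV t htV]; group
        rw [this]; exact ht
      · intro ht
        have htV : a * t * a⁻¹ ∈ V := hUV (hTU U hUinv ht)
        have : t = a * t * a⁻¹ := by
          have h1 := hcomm a haV _ htV
          have h2 : a * (a * t * a⁻¹) = a * t := by rw [h1]; group
          exact (mul_left_cancel h2).symm
        rw [this]; exact ht
    have hv' : v ∈ ((⁅H, U⁆ ⊔ (U ⊓ Subgroup.normalizer (H : Set G)) : Subgroup G) : Set G) := by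
      rw [sup_comm, ← hU]; exact hvU
    rw [Subgroup.coe_mul_of_right_le_normalizer_left _ _ hnorm] at hv'
    obtain ⟨t, ht, n, hn, rfl⟩ := Set.mem_mul.mp hv'
    have hHv : H.map (MulAut.conj (t * n)).toMonoidHom = H.map (MulAut.conj t).toMonoidHom := by
      rw [map_conj_mul, (map_conj_eq_self_iff_mem_normalizer H n).mpr hn.2]
    refine ⟨t, ?_, hHv⟩
    -- [H,U] ≤ H ⊔ H^v
    have hW : ⁅H, U⁆ ≤ H ⊔ H.map (MulAut.conj (t * n)).toMonoidHom := by
      rw [Subgroup.commutator_le]
      intro h' hh' u hu
      have key : ∀ u : G, ∀ hu : u ∈ Subgroup.closure {y : G | ∃ k ∈ H, y = k * (t * n) * k⁻¹},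
          ⁅h', u⁆ ∈ H ⊔ H.map (MulAut.conj (t * n)).toMonoidHom := by
        intro u hu
        induction hu using Subgroup.closure_induction with
        | mem y hy =>
          obtain ⟨k, hk, rfl⟩ := hy
          have h1 : ⁅h', k * (t * n) * k⁻¹⁆ =
              k * ((k⁻¹ * h' * k) * ((t * n) * (k⁻¹ * h' * k)⁻¹ * (t * n)⁻¹)) * k⁻¹ := by
            rw [commutatorElement_def]; group
          rw [h1]
          have hk' : k⁻¹ * h' * k ∈ H := H.mul_mem (H.mul_mem (H.inv_mem hk) hh') hk
          have hkW : k ∈ H ⊔ H.map (MulAut.conj (t * n)).toMonoidHom :=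
            (le_sup_left : H ≤ _) hk
          refine Subgroup.mul_mem _ (Subgroup.mul_mem _ hkW ?_) (Subgroup.inv_mem _ hkW)
          exact Subgroup.mul_mem_sup hk' (conj_mem_map_conj H (t * n) (H.inv_mem hk'))
        | one =>
          rw [commutatorElement_one_right]; exact Subgroup.one_mem _
        | mul a b ha hb iha ihb =>
          have haV : a ∈ V := hUV ha
          have hbV : ⁅h', b⁆ ∈ V := by
            rw [commutatorElement_def]
            exact V.mul_mem (‹V.Normal›.conj_mem b (hUV hb) h') (V.inv_mem (hUV hb))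
          have h1 : ⁅h', a * b⁆ = ⁅h', a⁆ * ⁅h', b⁆ := by
            have h2 : ⁅h', a * b⁆ = ⁅h', a⁆ * (a * ⁅h', b⁆ * a⁻¹) := by
              simp only [commutatorElement_def]; group
            rw [h2, hcomm a haV _ hbV]; group
          rw [h1]
          exact Subgroup.mul_mem _ iha ihb
        | inv a ha iha =>
          have haV : a⁻¹ ∈ V := V.inv_mem (hUV ha)
          have hbV : ⁅h', a⁆⁻¹ ∈ V := by
            apply V.inv_mem
            rw [commutatorElement_def]
            exact V.mul_mem (‹V.Normal›.conj_mem a (hUV ha) h') (V.inv_mem (hUV ha))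
          have h1 : ⁅h', a⁻¹⁆ = ⁅h', a⁆⁻¹ := by
            have h2 : ⁅h', a⁻¹⁆ = a⁻¹ * ⁅h', a⁆⁻¹ * a⁻¹⁻¹ := by
              simp only [commutatorElement_def]; group
            rw [h2, hcomm _ haV _ hbV]; group
          rw [h1]
          exact Subgroup.inv_mem _ iha
      exact key u hu
    exact hW ht

end Cfsg.Agent.S4269
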