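import Mathlib
import Cfsg.Statements.S4270
import Cfsg.Agent.H2.PronormalC

set_option autoImplicit false
open Cfsg

namespace Cfsg.Agent.S4270

/-- Let p be a prime and G a finite group with a normal subgroup A such that, both in A and in G/A, every subgroup containing a Sylow p-subgroup of that group is pronormal in that group. Let T be a Sylow p-subgroup of A. Then every subgroup of G containing a Sylow p-subgroup of G is pronormal in G if and only if (i) every subgroup of N_G(T)/T containing a Sylow p-subgroup of N_G(T)/T is pronormal there, and (ii) for every subgroup H of G containing a Sylow p-subgroup of G, the image of N_G(H) in G/A is the full normalizer of the image of H. (Pronormal: H and gHg⁻¹ are conjugate inside the subgroup they generate, for every g.) -/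
theorem result {G : Type*} [Group G] [Finite G] {p : ℕ} [Fact p.Prime]
    (A : Subgroup G) [A.Normal] (hA : (∀ K : Subgroup ↥A, (∃ P : Sylow p ↥A, (P : Subgroup ↥A) ≤ K) → Cfsg.IsPronormal K)) (hQ : (∀ K : Subgroup (G ⧸ A), (∃ P : Sylow p (G ⧸ A), (P : Subgroup (G ⧸ A)) ≤ K) → Cfsg.IsPronormal K))
    (T : Subgroup G) (hT : ∃ P : Sylow p ↥A, (P : Subgroup ↥A).map A.subtype = T) [(T.subgroupOf (Subgroup.normalizer (T : Set G))).Normal] :
    (∀ K : Subgroup G, (∃ P : Sylow p G, (P : Subgroup G) ≤ K) → Cfsg.IsPronormal K) ↔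
      ((∀ K : Subgroup (↥(Subgroup.normalizer (T : Set G)) ⧸ T.subgroupOf (Subgroup.normalizer (T : Set G))), (∃ P : Sylow p (↥(Subgroup.normalizer (T : Set G)) ⧸ T.subgroupOf (Subgroup.normalizer (T : Set G))), (P : Subgroup (↥(Subgroup.normalizer (T : Set G)) ⧸ T.subgroupOf (Subgroup.normalizer (T : Set G)))) ≤ K) → Cfsg.IsPronormal K) ∧
        ∀ K : Subgroup G, (∃ P : Sylow p G, (P : Subgroup G) ≤ K) →
          (Subgroup.normalizer (K : Set G)).map (QuotientGroup.mk' A) = Subgroup.normalizer ((K.map (QuotientGroup.mk' A) : Subgroup (G ⧸ A)) : Set (G ⧸ A))) := by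
  obtain ⟨PA, rfl⟩ := hT
  have hn : ((Cfsg.Agent.H2.Prn.TT A PA).subgroupOf
      (Subgroup.normalizer (Cfsg.Agent.H2.Prn.TT A PA : Set G))).Normal := by assumption
  obtain ⟨S, hTS⟩ := (Cfsg.Agent.H2.Prn.TT_pgroup A PA).exists_le_sylow
  constructor
  · intro hall
    exact ⟨Cfsg.Agent.H2.Prn.hi_of A PA S hTS hall,
      fun K hK => Cfsg.Agent.H2.Prn.normalizer_map_of_pronormal A (hall K hK)⟩
  · rintro ⟨hi, hii⟩ K ⟨P, hPK⟩
    obtain ⟨g, hg⟩ := MulAction.exists_smul_eq G S P
    have hA' := Cfsg.Agent.H2.Prn.hA'_of A PA hA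
    have hQ' := Cfsg.Agent.H2.Prn.hQ'_of A S hQ hii
    have hi' := Cfsg.Agent.H2.Prn.hi'_of A PA S hTS hi
    have hSK : (S : Subgroup G) ≤ Cfsg.Agent.H2.Prn.cj g⁻¹ K := by
      intro s hs
      rw [Cfsg.Agent.H2.Prn.mem_cj, inv_inv]
      apply hPK
      rw [← hg]
      show g * s * g⁻¹ ∈ ((g • S : Sylow p G) : Subgroup G)
      rw [Cfsg.Agent.H2.mem_sylow_smul_iff]
      have e : g⁻¹ * (g * s * g⁻¹) * g = s := by group
      rw [e]
      exact hs
    have h1 := Cfsg.Agent.H2.Prn.main A PA S hTS hA' hQ' hi' _ hSK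
    have h2 := Cfsg.Agent.H2.Prn.pronormal_cj h1 g
    rwa [Cfsg.Agent.H2.Prn.cj_cj_inv] at h2

end Cfsg.Agent.S4270
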