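import Cfsg.Statements.S4274
import Cfsg.Agent.Lib.Helper7.S4274Disp
import Cfsg.Agent.Lib.Helper7.S4274R3
import Cfsg.Agent.Lib.Helper7.O7980
import Cfsg.Agent.Lib.Helper7.O58520
import Cfsg.Agent.Lib.Helper5.O17556
import Cfsg.Agent.Lib.Helper5.O35112
import Cfsg.Agent.Lib.Helper5.O87780
import Cfsg.Agent.Lib.Lead.O15960

set_option autoImplicit false
open Cfsg

namespace Cfsg.Agent.S4274

/-- A finite group of order 175560 = 2³·3·5·7·11·19 is either simple or has a normal Sylow 19-subgroup. -/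
theorem result {G : Type*} [Group G] [Finite G] (hG : Nat.card G = 175560) : IsSimpleGroup G ∨ ∀ P : Sylow 19 G, (P : Subgroup G).Normal := by
  refine Cfsg.Agent.Lib.Helper7.S4274R3.reduction ?_ hG
  intro m hm h1 h2 H _ _ _ hn
  by_cases hs : m ∈ ({420, 840, 924, 1848, 3080, 4620} : Finset ℕ)
  · simp only [Finset.mem_insert, Finset.mem_singleton] at hs
    rcases hs with rfl | rfl | rfl | rfl | rfl | rfl
    · exact Cfsg.Agent.Lib.Helper7.O7980.no_simple_7980 (by rw [hn])
    · exact Cfsg.Agent.Lib.Lead.O15960.no_simple_15960 (by rw [hn])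
    · exact Cfsg.Agent.Lib.Helper5.O17556.no_simple_17556 (by rw [hn])
    · exact Cfsg.Agent.Lib.Helper5.O35112.no_simple_35112 (by rw [hn])
    · exact Cfsg.Agent.Lib.Helper7.O58520.no_simple_58520 (by rw [hn])
    · exact Cfsg.Agent.Lib.Helper5.O87780.no_simple_87780 (by rw [hn])
  · exact Cfsg.Agent.Lib.Helper7.S4274.no_simple_19m m hm h1 h2 hs hn

end Cfsg.Agent.S4274
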