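import Mathlib
import Cfsg.Statements.S4275

set_option autoImplicit false
open Cfsg

namespace Cfsg.Agent.S4275

/-- Let G be a transitive group of permutations of a finite set Ω, let o ∈ Ω, and let α be an automorphism of G. Then α is induced by conjugation by a permutation of Ω normalizing G if and only if the image under α of the stabilizer of o fixes some point of Ω. -/
theorem result {Ω : Type*} [Fintype Ω] (G : Subgroup (Equiv.Perm Ω)) (htr : MulAction.IsPretransitive G Ω) (o : Ω) (α : G ≃* G) : (∃ σ : Equiv.Perm Ω, σ ∈ Subgroup.normalizer (G : Set (Equiv.Perm Ω)) ∧ ∀ g : G, ((α g : G) : Equiv.Perm Ω) = σ * (g : Equiv.Perm Ω) * σ⁻¹) ↔ ∃ ω : Ω, ∀ g ∈ (MulAction.stabilizer G o).map α.toMonoidHom, g • ω = ω := by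
  classical
  constructor
  · rintro ⟨σ, -, hσ⟩
    refine ⟨σ o, ?_⟩
    rintro _ ⟨g, hg, rfl⟩
    show ((α g : G) : Equiv.Perm Ω) (σ o) = σ o
    rw [hσ g]
    show σ ((g : Equiv.Perm Ω) (σ⁻¹ (σ o))) = σ o
    have e : σ⁻¹ (σ o) = o := by
      show (σ⁻¹ * σ) o = o
      rw [inv_mul_cancel]; rfl
    rw [e]
    have : (g : Equiv.Perm Ω) o = o := MulAction.mem_stabilizer_iff.1 hg
    rw [this]
  · rintro ⟨ω, hω⟩
    -- a transversal
    have hex : ∀ x : Ω, ∃ g : G, g • o = x := fun x => htr.exists_smul_eq o x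
    choose t ht using hex
    -- the key well-definedness
    have hwd : ∀ g : G, (α (t (g • o)) : G) • ω = (α g : G) • ω := by
      intro g
      have h1 : (t (g • o))⁻¹ * g ∈ MulAction.stabilizer G o := by
        rw [MulAction.mem_stabilizer_iff, mul_smul, inv_smul_eq_iff]
        exact (ht (g • o)).symm
      have h2 := hω _ ⟨_, h1, rfl⟩
      have h3 : (α ((t (g • o))⁻¹ * g) : G) = (α (t (g • o)))⁻¹ * α g := by
        rw [map_mul, map_inv]
      change (α ((t (g • o))⁻¹ * g) : G) • ω = ω at h2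
      rw [h3, mul_smul, inv_smul_eq_iff] at h2
      exact h2.symm
    let f : Ω → Ω := fun x => (α (t x) : G) • ω
    have hf : ∀ g : G, f (g • o) = (α g : G) • ω := fun g => hwd g
    have hsurj : Function.Surjective f := by
      intro y
      obtain ⟨k, hk⟩ := htr.exists_smul_eq ω y
      refine ⟨(α.symm k) • o, ?_⟩
      rw [hf, MulEquiv.apply_symm_apply, hk]
    have hbij : Function.Bijective f := ⟨Finite.injective_iff_surjective.2 hsurj, hsurj⟩
    -- the equivariance
    have hequiv : ∀ g : G, ∀ x : Ω, f (g • x) = (α g : G) • f x := by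
      intro g x
      rw [← ht x, ← mul_smul, hf, hf, map_mul, mul_smul]
    have hconj : ∀ g : G, ((α g : G) : Equiv.Perm Ω)
        = Equiv.ofBijective f hbij * (g : Equiv.Perm Ω) * (Equiv.ofBijective f hbij)⁻¹ := by
      intro g
      rw [eq_mul_inv_iff_mul_eq]
      ext x
      show ((α g : G) : Equiv.Perm Ω) (f x) = f ((g : Equiv.Perm Ω) x)
      exact (hequiv g x).symm
    refine ⟨Equiv.ofBijective f hbij, ?_, hconj⟩
    rw [Subgroup.mem_normalizer_iff]
    intro h
    constructor
    · intro hh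
      have := hconj ⟨h, hh⟩
      rw [← this]
      exact (α ⟨h, hh⟩).2
    · intro hh
      have h1 := hconj (α.symm ⟨_, hh⟩)
      rw [MulEquiv.apply_symm_apply] at h1
      have h2 : h = ((α.symm ⟨_, hh⟩ : G) : Equiv.Perm Ω) := by
        have h3 : Equiv.ofBijective f hbij * h * (Equiv.ofBijective f hbij)⁻¹ =
            Equiv.ofBijective f hbij * ((α.symm ⟨_, hh⟩ : G) : Equiv.Perm Ω)
              * (Equiv.ofBijective f hbij)⁻¹ := h1
        exact mul_left_cancel (mul_right_cancel h3)
      rw [h2]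
      exact (α.symm ⟨_, hh⟩).2

end Cfsg.Agent.S4275
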