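import Cfsg.Statements.S4277
import Mathlib
import Cfsg.Agent.S0675
import Cfsg.Agent.Lib.Helper5.SchreierPrimeD

set_option autoImplicit false
open Cfsg

namespace Cfsg.Agent.S4277

/-- A case of the Schreier conjecture: if a finite simple group G has a subgroup of prime index, then the outer automorphism group of G is solvable. -/
theorem result {G : Type*} [Group G] [Finite G] [IsSimpleGroup G] (H : Subgroup G) (hH : H.index.Prime) : Group.IsSolvable (Cfsg.Out G) := by
  classical
  have hpp : H.index.Prime := hH
  have : Fact H.index.Prime := ⟨hpp⟩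
  have hfin : H.FiniteIndex := ⟨hpp.ne_zero⟩
  letI : Fintype (G ⧸ H) := Fintype.ofFinite _
  have hcard : Fintype.card (G ⧸ H) = H.index := by
    rw [← Nat.card_eq_fintype_card, Subgroup.index_eq_card]
  let φ : G →* Equiv.Perm (G ⧸ H) := MulAction.toPermHom G (G ⧸ H)
  have hφ : Function.Injective φ := by
    rw [← MonoidHom.ker_eq_bot_iff]
    rcases (MonoidHom.normal_ker φ).eq_bot_or_eq_top with h | h
    · exact h
    · exfalso
      have hH1 : H = ⊤ := by
        rw [eq_top_iff]
        intro g _
        have hg : g ∈ φ.ker := by rw [h]; trivial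
        rw [MonoidHom.mem_ker] at hg
        have h1 := congrArg (fun s : Equiv.Perm (G ⧸ H) => s ((1 : G) : G ⧸ H)) hg
        simp only [Equiv.Perm.one_apply] at h1
        have h2 : φ g ((1 : G) : G ⧸ H) = ((g * 1 : G) : G ⧸ H) := rfl
        rw [h2, mul_one] at h1
        have h3 := QuotientGroup.eq.mp h1
        simpa using h3
      rw [hH1, Subgroup.index_top] at hpp
      exact Nat.not_prime_one hpp
  let e : G ≃* φ.range := MonoidHom.ofInjective hφ
  have hpre : MulAction.IsPretransitive φ.range (G ⧸ H) := by
    constructor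
    intro a b
    obtain ⟨g, hg⟩ := MulAction.exists_smul_eq G a b
    exact ⟨⟨φ g, g, rfl⟩, hg⟩
  have key : Group.IsSolvable (Cfsg.Out φ.range) := by
    rcases Cfsg.Agent.S0675.result (hcard ▸ hpp) φ.range with hsol | h2
    · -- the solvable case: `G` is cyclic
      have hsolG : Group.IsSolvable G := Group.isSolvable_of_isSolvable_injective e.injective
      have hcomm : ∀ a b : G, a * b = b * a := IsSimpleGroup.comm_iff_isSolvable.mpr hsolG
      have hcyc : IsCyclic G := by
        letI : CommGroup G := { ‹Group G› with mul_comm := hcomm }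
        exact IsSimpleGroup.isCyclic
      have hcyc' : IsCyclic φ.range := isCyclic_of_surjective e e.surjective
      have hcommAut : ∀ a b : MulAut φ.range, a * b = b * a := by
        intro a b
        apply (IsCyclic.mulAutMulEquiv φ.range).injective
        rw [map_mul, map_mul, mul_comm]
      have : ∀ a b : Cfsg.Out φ.range, a * b = b * a := by
        intro a b
        obtain ⟨a, rfl⟩ := QuotientGroup.mk_surjective a
        obtain ⟨b, rfl⟩ := QuotientGroup.mk_surjective b
        rw [← QuotientGroup.mk_mul, ← QuotientGroup.mk_mul, hcommAut]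
      exact Group.isSolvable_of_comm this
    · exact Cfsg.Agent.Lib.Helper5.SchreierPrimeD.out_solvable_perm hcard φ.range h2
  -- transfer along `e`
  have hmap : (Cfsg.Inn G).map (MulAut.congr e).toMonoidHom = Cfsg.Inn φ.range := by
    ext a
    constructor
    · rintro ⟨_, ⟨g, rfl⟩, rfl⟩
      refine ⟨e g, ?_⟩
      ext x
      simp [MulAut.congr]
    · rintro ⟨y, rfl⟩
      obtain ⟨g, rfl⟩ := e.surjective y
      refine ⟨MulAut.conj g, ⟨g, rfl⟩, ?_⟩
      ext x
      simp [MulAut.congr]
  let E : Cfsg.Out G ≃* Cfsg.Out φ.range :=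
    QuotientGroup.congr (Cfsg.Inn G) (Cfsg.Inn φ.range) (MulAut.congr e) hmap
  exact Group.isSolvable_of_isSolvable_injective E.injective

end Cfsg.Agent.S4277
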