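import Cfsg.Statements.S4282
import Cfsg.Agent.H1.HHModB

set_option autoImplicit false
open Cfsg

namespace Cfsg.Agent.S4282

open Module Cfsg.Agent.H1.HHMod in
/-- A critical case behind the Hall–Higman theorem. Let p ≠ q be primes and G a finite group generated by a normal q-subgroup Q and a cyclic p-subgroup generated by x, such that the centralizer of every non-identity element of that cyclic subgroup is its product with the centre of G. Let K be an algebraically closed field of characteristic p and ρ a faithful representation of G on a nonzero finite-dimensional K-space whose restriction to Q is irreducible. If s is the least exponent with (ρ(x) − 1)^s = 0, then |⟨x⟩| − 1 ≤ s ≤ |⟨x⟩|; and if s = |⟨x⟩| − 1 then |⟨x⟩| − 1 is a power of q and Q is non-abelian. -/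
theorem result {G : Type*} [Group G] [Finite G] (p q : ℕ) [Fact p.Prime] [Fact q.Prime] (hpq : p ≠ q) (Q : Subgroup G) [Q.Normal] (hQ : IsPGroup q Q) (x : G) (hx : IsPGroup p (Subgroup.zpowers x)) (hgen : Q ⊔ Subgroup.zpowers x = ⊤) (hC : ∀ y ∈ Subgroup.zpowers x, y ≠ 1 → Subgroup.centralizer ({y} : Set G) = Subgroup.zpowers x ⊔ Subgroup.center G) {K : Type*} [Field K] [IsAlgClosed K] [CharP K p] {V : Type*} [AddCommGroup V] [Module K V] [FiniteDimensional K V] [Nontrivial V] (ρ : Representation K G V) (hfaith : Function.Injective ρ) (hirr : ∀ W : Submodule K V, (∀ g ∈ Q, Submodule.map (ρ g) W ≤ W) → W = ⊥ ∨ W = ⊤) (s : ℕ) (hs : (ρ x - 1) ^ s = 0) (hmin : ∀ k < s, (ρ x - 1) ^ k ≠ 0) : Nat.card (Subgroup.zpowers x) - 1 ≤ s ∧ s ≤ Nat.card (Subgroup.zpowers x) ∧ (s = Nat.card (Subgroup.zpowers x) - 1 → (∃ b : ℕ, Nat.card (Subgroup.zpowers x) - 1 = q ^ b) ∧ ¬ IsMulCommutative Q) := by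
  classical
  have hpp : p.Prime := Fact.out
  have hqp : q.Prime := Fact.out
  obtain ⟨n, hn⟩ := IsPGroup.iff_card.mp hx
  have hord : orderOf x = p ^ n := by rw [← Nat.card_zpowers, hn]
  rw [hn]
  have hP1 : 1 ≤ p ^ n := Nat.one_le_pow _ _ hpp.pos
  have hqK : (q : K) ≠ 0 := by
    intro h
    have := (CharP.cast_eq_zero_iff K p q).mp h
    exact hpq ((Nat.prime_dvd_prime_iff_eq hpp hqp).mp this)
  obtain ⟨k, hk⟩ := IsPGroup.iff_card.mp hQ
  have hcard : (Nat.card Q : K) ≠ 0 := by
    rw [hk, Nat.cast_pow]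
    exact pow_ne_zero _ hqK
  haveI : Group.IsSolvable Q := by
    haveI := hQ.isNilpotent
    exact IsNilpotent.to_isSolvable
  have hschur : ∀ T : Module.End K V, (∀ g ∈ Q, ρ g * T = T * ρ g) → ∃ c : K, T = c • 1 :=
    fun T hT => schur_scalar ρ (Q : Set G) hirr T hT
  set Z₀ : Subgroup G := Subgroup.center G ⊓ Q with hZ₀
  have hZ : ∀ z ∈ Z₀, ∃ c : K, ρ z = c • 1 := by
    intro z hz
    apply hschur
    intro g _
    rw [← map_mul, ← map_mul, (Subgroup.mem_center_iff.mp hz.1 g)]
  have hcop : ∀ m : ℕ, Nat.Coprime (p ^ n) (q ^ m) := fun m =>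
    Nat.Coprime.pow _ _ ((Nat.coprime_primes hpp hqp).mpr hpq)
  have hQord : ∀ g ∈ Q, ∃ m : ℕ, orderOf g ∣ q ^ m := by
    intro g hg
    obtain ⟨m, hm⟩ := hQ ⟨g, hg⟩
    refine ⟨m, ?_⟩
    apply orderOf_dvd_of_pow_eq_one
    have := congrArg Subtype.val hm
    simpa using this
  have hxZ : ∀ i : ℕ, x ^ i ∈ Z₀ → x ^ i = 1 := by
    intro i hi
    have h1 : orderOf (x ^ i) ∣ p ^ n := by rw [← hord]; exact orderOf_pow_dvd i
    obtain ⟨m, h2⟩ := hQord _ hi.2
    exact orderOf_eq_one_iff.mp (Nat.eq_one_of_dvd_coprimes (hcop m) h1 h2)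
  have hfpf : ∀ i : ℕ, x ^ i ≠ 1 → ∀ g ∈ Q, g * x ^ i * g⁻¹ * (x ^ i)⁻¹ ∈ Z₀ → g ∈ Z₀ := by
    intro i hi g hg hc
    set y := x ^ i with hy
    have hyx : y ∈ Subgroup.zpowers x := ⟨i, by simp [hy]⟩
    set c := g * y * g⁻¹ * y⁻¹ with hcdef
    have hcc : ∀ h : G, h * c = c * h := fun h => Subgroup.mem_center_iff.mp hc.1 h
    have hcck : ∀ (k : ℕ) (h : G), h * c ^ k = c ^ k * h := by
      intro k h
      exact Subgroup.mem_center_iff.mp (Subgroup.pow_mem _ hc.1 k) h
    have h1 : y * g⁻¹ * y⁻¹ = g⁻¹ * c := by rw [hcdef]; group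
    have h2 : ∀ k : ℕ, y ^ k * g⁻¹ * (y ^ k)⁻¹ = g⁻¹ * c ^ k := by
      intro k
      induction k with
      | zero => simp
      | succ k ih =>
        calc y ^ (k + 1) * g⁻¹ * (y ^ (k + 1))⁻¹ = y * (y ^ k * g⁻¹ * (y ^ k)⁻¹) * y⁻¹ := by
              rw [pow_succ']; group
          _ = y * (g⁻¹ * c ^ k) * y⁻¹ := by rw [ih]
          _ = (y * g⁻¹ * y⁻¹) * c ^ k := by
              rw [mul_assoc y, mul_assoc y, mul_assoc g⁻¹, ← hcck k y⁻¹]
              simp only [mul_assoc]
          _ = g⁻¹ * c ^ (k + 1) := by rw [h1, mul_assoc, ← pow_succ']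
    have h3 : c ^ orderOf y = 1 := by
      have := h2 (orderOf y)
      rw [pow_orderOf_eq_one, one_mul, inv_one, mul_one] at this
      exact (mul_eq_left.mp this.symm)
    have h4 : orderOf c ∣ p ^ n := by
      apply (orderOf_dvd_of_pow_eq_one h3).trans
      rw [← hord]
      exact orderOf_pow_dvd i
    obtain ⟨m, h5⟩ := hQord c hc.2
    have hc1 : c = 1 := orderOf_eq_one_iff.mp (Nat.eq_one_of_dvd_coprimes (hcop m) h4 h5)
    have hgy : y * g = g * y := by
      have : g * y * g⁻¹ * y⁻¹ = 1 := hc1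
      have h6 : g * y = y * g := by
        calc g * y = (g * y * g⁻¹ * y⁻¹) * (y * g) := by group
          _ = y * g := by rw [this, one_mul]
      exact h6.symm
    have hgC : g ∈ Subgroup.centralizer ({y} : Set G) := by
      rw [Subgroup.mem_centralizer_iff]
      intro h hh
      rw [Set.mem_singleton_iff] at hh
      rw [hh]
      exact hgy
    rw [hC y hyx hi] at hgC
    have hgmul : g ∈ ((Subgroup.zpowers x ⊔ Subgroup.center G : Subgroup G) : Set G) := hgC
    rw [Subgroup.mul_normal] at hgmul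
    obtain ⟨h, hh, z, hz, rfl⟩ := Set.mem_mul.mp hgmul
    obtain ⟨m', hm'⟩ := hQord _ hg
    have hzc : Commute h z := Subgroup.mem_center_iff.mp hz h
    have h7 : (h * z) ^ (q ^ m') = 1 := orderOf_dvd_iff_pow_eq_one.mp hm'
    rw [hzc.mul_pow] at h7
    have h8 : h ^ (q ^ m') ∈ Subgroup.center G := by
      have : h ^ (q ^ m') = (z ^ (q ^ m'))⁻¹ := eq_inv_of_mul_eq_one_left h7
      rw [this]
      exact Subgroup.inv_mem _ (Subgroup.pow_mem _ hz _)
    have h9 : orderOf h ∣ p ^ n := by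
      rw [← hord]
      exact orderOf_dvd_of_mem_zpowers hh
    have h10 : (q ^ m').Coprime (orderOf h) := (Nat.Coprime.coprime_dvd_right h9 (hcop m').symm)
    obtain ⟨u, hu⟩ := exists_pow_eq_self_of_coprime h10
    have h11 : h ∈ Subgroup.center G := by
      rw [← hu]
      exact Subgroup.pow_mem _ h8 u
    exact ⟨Subgroup.mul_mem _ h11 hz, hg⟩
  have hpow0 := sub_one_pow_eq_zero p ρ x n hord
  have hmain : ∀ s' : ℕ, (ρ x - 1) ^ s' = 0 → s' + 1 ≤ p ^ n →
      finrank K V ≤ 1 ∨ (finrank K V + 1 = p ^ n ∧ s' + 1 = p ^ n) :=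
    fun s' hs' hsP => crit_main p ρ Q Z₀ hcard hschur hZ x n hord hxZ hfpf s' hs' hsP
  have hd1 : finrank K V ≤ 1 → p ^ n = 1 := by
    intro hd
    have hx1 := eq_one_of_finrank_le_one p ρ hfaith x n hord hd
    rw [← hord, hx1, orderOf_one]
  have hs0 : s ≠ 0 := by
    intro h0
    rw [h0, pow_zero] at hs
    exact one_ne_zero hs
  refine ⟨?_, ?_, ?_⟩
  · by_contra hcon
    push Not at hcon
    rcases hmain s hs (by omega) with h | ⟨_, h⟩
    · have := hd1 h
      omega
    · omega
  · by_contra hcon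
    push Not at hcon
    exact hmin (p ^ n) hcon hpow0
  · intro hsP
    have hsP' : s + 1 = p ^ n := by omega
    have hdim : finrank K V + 1 = p ^ n := by
      rcases hmain s hs (by omega) with h | ⟨h, _⟩
      · have := hd1 h
        omega
      · exact h
    constructor
    · have hirrQ : ∀ W : Submodule K V,
          (∀ g : Q, Submodule.map ((ρ.comp Q.subtype) g) W ≤ W) → W = ⊥ ∨ W = ⊤ := by
        intro W hW
        apply hirr
        intro g hg
        exact hW ⟨g, hg⟩
      obtain ⟨b, hb⟩ := degree_pow (K := K) q (Nat.card Q) Q rfl hQ V (ρ.comp Q.subtype) hirrQ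
      refine ⟨b, ?_⟩
      rw [← hb]
      omega
    · intro hcomm
      have hsc : ∀ g ∈ Q, ∃ c : K, ρ g = c • 1 := by
        intro g hg
        apply hschur
        intro h hh
        rw [← map_mul, ← map_mul]
        have := hcomm.is_comm.comm (⟨h, hh⟩ : Q) ⟨g, hg⟩
        have h2 : h * g = g * h := congrArg Subtype.val this
        rw [h2]
      obtain ⟨v, hv⟩ := exists_ne (0 : V)
      have hW := hirr (K ∙ v) (by
        rintro g hg _ ⟨w, hw, rfl⟩
        obtain ⟨c, hc⟩ := hsc g hg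
        rw [hc, LinearMap.smul_apply, Module.End.one_apply]
        exact Submodule.smul_mem _ c hw)
      have hd : finrank K V ≤ 1 := by
        rcases hW with h | h
        · exfalso
          apply hv
          have : v ∈ K ∙ v := Submodule.mem_span_singleton_self v
          rw [h, Submodule.mem_bot] at this
          exact this
        · rw [← finrank_top K V, ← h, finrank_span_singleton hv]
      have := hd1 hd
      omega

end Cfsg.Agent.S4282
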