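import Cfsg.Statements.S4283
import Mathlib
import Cfsg.Agent.H1.Basic
import Cfsg.Agent.H1.FrobeniusCount

set_option autoImplicit false
open Cfsg
open scoped Pointwise

namespace Cfsg.Agent.S4283

/-- In a Frobenius group, anything commuting with a non-identity element of a conjugate of the
complement lies in that conjugate. -/
theorem mem_conj_of_commute {Q : Type*} [Group Q] (H : Subgroup Q)
    (hH : Cfsg.IsFrobeniusComplement H) (u h g : Q) (hh : h ∈ MulAut.conj u • H) (h1 : h ≠ 1)
    (hc : g * h = h * g) : g ∈ MulAut.conj u • H := by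
  rw [Cfsg.Agent.H1.mem_conj_smul] at hh ⊢
  by_contra hg
  have hbot := hH.2.2 _ hg
  have hmem : u⁻¹ * h * u ∈ H ⊓ (MulAut.conj (u⁻¹ * g * u) • H) := by
    refine Subgroup.mem_inf.mpr ⟨hh, ?_⟩
    rw [Cfsg.Agent.H1.mem_conj_smul]
    have e1 : (u⁻¹ * g * u)⁻¹ * (u⁻¹ * h * u) * (u⁻¹ * g * u) = u⁻¹ * (g⁻¹ * (h * g)) * u := by
      group
    rw [e1, ← hc]
    have e2 : u⁻¹ * (g⁻¹ * (g * h)) * u = u⁻¹ * h * u := by group
    rw [e2]; exact hh
  rw [hbot, Subgroup.mem_bot] at hmem
  apply h1
  have e3 : h = u * (u⁻¹ * h * u) * u⁻¹ := by group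
  rw [e3, hmem]; group

/-- Let G be a finite group with centre Z and let K, H be abelian subgroups of G containing Z such that G/Z is a Frobenius group with complement H/Z and kernel K/Z. Then the conjugacy class sizes of G are exactly 1, [G : K] and [G : H], and these two indices are coprime. (This is the converse half of the characterization of finite groups whose conjugacy class sizes are exactly 1, m and n with m and n coprime.) -/
theorem result {G : Type*} [Group G] [Finite G] (K H : Subgroup G) (hZK : Subgroup.center G ≤ K) (hZH : Subgroup.center G ≤ H) (hK : IsMulCommutative K) (hH : IsMulCommutative H) (hFrob : Cfsg.IsFrobeniusComplement (H.map (QuotientGroup.mk' (Subgroup.center G)))) (hker : Cfsg.frobeniusKernel (H.map (QuotientGroup.mk' (Subgroup.center G))) = (K.map (QuotientGroup.mk' (Subgroup.center G)) : Set (G ⧸ Subgroup.center G))) : Set.range (fun x : G => (Subgroup.centralizer ({x} : Set G)).index) = ({1, K.index, H.index} : Set ℕ) ∧ K.index.Coprime H.index := by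
  classical
  set π := QuotientGroup.mk' (Subgroup.center G) with hπ
  have hπs : Function.Surjective π := QuotientGroup.mk'_surjective _
  have hπker : π.ker = Subgroup.center G := QuotientGroup.ker_mk' _
  have hπ1 : ∀ x : G, π x = 1 ↔ x ∈ Subgroup.center G := by
    intro x; rw [← MonoidHom.mem_ker, hπker]
  -- membership in images
  have hmemmap : ∀ (L : Subgroup G), Subgroup.center G ≤ L → ∀ x : G, π x ∈ L.map π ↔ x ∈ L := by
    intro L hL x
    constructor
    · rintro ⟨l, hl, hlx⟩
      have : l⁻¹ * x ∈ Subgroup.center G := by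
        rw [← hπ1, map_mul, map_inv, hlx, inv_mul_cancel]
      have e : x = l * (l⁻¹ * x) := by group
      rw [e]; exact mul_mem hl (hL this)
    · intro hx; exact ⟨x, hx, rfl⟩
  have hmemconj : ∀ x w : G, π x ∈ MulAut.conj (π w) • H.map π ↔ x ∈ MulAut.conj w • H := by
    intro x w
    rw [Cfsg.Agent.H1.mem_conj_smul, Cfsg.Agent.H1.mem_conj_smul, ← map_inv, ← map_mul, ← map_mul,
      hmemmap H hZH]
  have hkermem : ∀ y : G ⧸ Subgroup.center G, y ∈ K.map π ↔
      (y = 1 ∨ ∀ g : G ⧸ Subgroup.center G, y ∉ MulAut.conj g • H.map π) := by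
    intro y
    have : y ∈ Cfsg.frobeniusKernel (H.map π) ↔ y ∈ (K.map π : Set (G ⧸ Subgroup.center G)) := by
      rw [hker]
    exact this.symm
  -- case A
  have hA : ∀ x ∈ Subgroup.center G, (Subgroup.centralizer ({x} : Set G)).index = 1 := by
    intro x hx
    rw [Subgroup.index_eq_one, Subgroup.centralizer_eq_top_iff_subset]
    intro y hy
    rw [Set.mem_singleton_iff] at hy
    rw [hy]; exact hx
  -- case B
  have hB : ∀ x ∈ K, x ∉ Subgroup.center G →
      (Subgroup.centralizer ({x} : Set G)).index = K.index := by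
    intro x hxK hxZ
    have : Subgroup.centralizer ({x} : Set G) = K := by
      apply le_antisymm
      · intro g hg
        rw [Subgroup.mem_centralizer_singleton_iff] at hg
        rw [← hmemmap K hZK, hkermem]
        by_contra hcon
        push Not at hcon
        obtain ⟨hg1, u, hu⟩ := hcon
        have hxu := mem_conj_of_commute (H.map π) hFrob u (π g) (π x) hu hg1
          (by rw [← map_mul, ← map_mul, hg])
        have hxk : π x ∈ K.map π := ⟨x, hxK, rfl⟩
        rcases (hkermem _).mp hxk with h | h
        · exact hxZ ((hπ1 x).mp h)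
        · exact h u hxu
      · intro k hk
        rw [Subgroup.mem_centralizer_singleton_iff]
        have := hK.is_comm.comm ⟨k, hk⟩ ⟨x, hxK⟩
        exact congrArg Subtype.val this
    rw [this]
  -- case C
  have hC : ∀ x, x ∉ K → (Subgroup.centralizer ({x} : Set G)).index = H.index := by
    intro x hxK
    have hx1 : ¬ π x ∈ K.map π := by rwa [hmemmap K hZK]
    rw [hkermem] at hx1
    push Not at hx1
    obtain ⟨hx1, u, hu⟩ := hx1
    obtain ⟨w, rfl⟩ := hπs u
    have hxw : x ∈ MulAut.conj w • H := (hmemconj x w).mp hu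
    have : Subgroup.centralizer ({x} : Set G) = MulAut.conj w • H := by
      apply le_antisymm
      · intro g hg
        rw [Subgroup.mem_centralizer_singleton_iff] at hg
        rw [← hmemconj]
        exact mem_conj_of_commute (H.map π) hFrob (π w) (π x) (π g) hu hx1
          (by rw [← map_mul, ← map_mul, hg])
      · intro y hy
        rw [Subgroup.mem_centralizer_singleton_iff]
        rw [Cfsg.Agent.H1.mem_conj_smul] at hy hxw
        have := hH.is_comm.comm ⟨_, hy⟩ ⟨_, hxw⟩
        have h2 : (w⁻¹ * y * w) * (w⁻¹ * x * w) = (w⁻¹ * x * w) * (w⁻¹ * y * w) :=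
          congrArg Subtype.val this
        have e1 : y * x = w * ((w⁻¹ * y * w) * (w⁻¹ * x * w)) * w⁻¹ := by group
        have e2 : x * y = w * ((w⁻¹ * x * w) * (w⁻¹ * y * w)) * w⁻¹ := by group
        rw [e1, e2, h2]
    rw [this]
    exact Subgroup.index_map_equiv H (MulAut.conj w)
  -- cardinalities
  have hKi : (K.map π).index = K.index :=
    Subgroup.index_map_eq _ hπs (by rw [hπker]; exact hZK)
  have hHi : (H.map π).index = H.index :=
    Subgroup.index_map_eq _ hπs (by rw [hπker]; exact hZH)
  have hcardK : Nat.card ↥(K.map π) = (H.map π).index := by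
    rw [← Cfsg.Agent.H1.card_frobeniusKernel (H.map π) hFrob, hker]
    rfl
  have hKidx : (K.map π).index = Nat.card ↥(H.map π) := by
    have h1 := Subgroup.card_mul_index (K.map π)
    have h2 := Subgroup.card_mul_index (H.map π)
    rw [hcardK, ← h2, mul_comm] at h1
    have hpos : 0 < (H.map π).index := Nat.pos_of_ne_zero (Subgroup.index_ne_zero_of_finite)
    exact Nat.eq_of_mul_eq_mul_right hpos h1
  have hcop : K.index.Coprime H.index := by
    rw [← hKi, ← hHi, hKidx]
    have h := Cfsg.Agent.H1.index_mod_card_of_frobenius (H.map π) hFrob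
    rw [Nat.Coprime, Nat.gcd_rec, h, ← Nat.gcd_rec, Nat.gcd_one_right]
  refine ⟨?_, hcop⟩
  ext n
  simp only [Set.mem_range, Set.mem_insert_iff, Set.mem_singleton_iff]
  constructor
  · rintro ⟨x, rfl⟩
    by_cases hxZ : x ∈ Subgroup.center G
    · left; exact hA x hxZ
    · by_cases hxK : x ∈ K
      · right; left; exact hB x hxK hxZ
      · right; right; exact hC x hxK
  · rintro (rfl | rfl | rfl)
    · exact ⟨1, hA 1 (one_mem _)⟩
    · -- a non-central element of K
      have hKne : K.map π ≠ ⊥ := by
        intro h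
        have h1 : Nat.card ↥(K.map π) = 1 := by rw [h]; exact Subgroup.card_bot
        rw [hcardK, Subgroup.index_eq_one] at h1
        exact hFrob.2.1 h1
      obtain ⟨⟨y, hy⟩, hy1⟩ := (Subgroup.ne_bot_iff_exists_ne_one).mp hKne
      obtain ⟨k, hk, rfl⟩ := hy
      have hkZ : k ∉ Subgroup.center G := by
        intro h
        apply hy1
        apply Subtype.ext
        exact (hπ1 k).mpr h
      exact ⟨k, hB k hk hkZ⟩
    · obtain ⟨⟨y, hy⟩, hy1⟩ := (Subgroup.ne_bot_iff_exists_ne_one).mp hFrob.1
      obtain ⟨h, hh, rfl⟩ := hy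
      have hy1' : π h ≠ 1 := fun e => hy1 (Subtype.ext e)
      have hhK : h ∉ K := by
        intro hK'
        have : π h ∈ K.map π := ⟨h, hK', rfl⟩
        rcases (hkermem _).mp this with e | e
        · exact hy1' e
        · apply e 1
          rw [Cfsg.Agent.H1.mem_conj_smul]
          simpa using (⟨h, hh, rfl⟩ : π h ∈ H.map π)
      exact ⟨h, hC h hhK⟩

end Cfsg.Agent.S4283
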