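import Cfsg.Statements.S4291
import Cfsg.Agent.Lib.S4291.BNS
import Cfsg.Agent.Lib.S4291.SolvB
import Cfsg.Agent.Lib.S4291.UniqC
import Cfsg.Agent.Lib.Zass.FinalB
import Cfsg.Agent.Lib.Zass.Basic
import Cfsg.Agent.Lib.S3358.T0

set_option autoImplicit false
open Cfsg

namespace Cfsg.Agent.S4291

open Cfsg.Agent.S4291L

/-- A Frobenius complement `G` has a unique normal subgroup `N` with all Sylow subgroups cyclic such that `G/N` is `1`, `V₄`, `A₄`, `S₄`, `A₅` or `S₅`. -/
theorem result {G : Type*} [Group G] [Finite G]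
    (hFC : (∃ (L : Type) (_ : Group L) (_ : Finite L) (H : Subgroup L), Cfsg.IsFrobeniusComplement H ∧ Nonempty (G ≃* H))) :
    ∃! N : Subgroup G, N.Normal ∧ (∀ (p : ℕ) [Fact p.Prime] (P : Sylow p N), IsCyclic P) ∧
      (N = ⊤ ∨
        (∃ f : G →* DihedralGroup 2, Function.Surjective f ∧ f.ker = N) ∨
        (∃ f : G →* alternatingGroup (Fin 4), Function.Surjective f ∧ f.ker = N) ∨
        (∃ f : G →* Equiv.Perm (Fin 4), Function.Surjective f ∧ f.ker = N) ∨
        (∃ f : G →* alternatingGroup (Fin 5), Function.Surjective f ∧ f.ker = N) ∨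
        (∃ f : G →* Equiv.Perm (Fin 5), Function.Surjective f ∧ f.ker = N)) := by
  have hfc : Cfsg.Agent.S4292L.IsFC G := hFC
  have hU := (Cfsg.Agent.S3358L.T0_props hfc).1
  have hfree := Cfsg.Agent.ZassL.exists_free_of_isFC hfc
  have hex : ∃ N : Subgroup G, Valid N := by
    by_cases hs : Group.IsSolvable G
    · exact exists_valid_of_solvable hs hU
    · exact exists_valid_of_not_solvable Cfsg.Agent.ZassL.theoremZ_holds hU hfree hs
  obtain ⟨N, hN⟩ := hex
  exact ⟨N, hN, fun N' hN' => valid_unique hU hN' hN⟩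

end Cfsg.Agent.S4291
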