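import Mathlib
import Cfsg.Statements.S4293
import Cfsg.Agent.H2.FrobeniusLower
import Cfsg.Agent.H2.FrobeniusSemidirect

set_option autoImplicit false
open Cfsg

namespace Cfsg.Agent.S4293

open Cfsg.Agent.H2

/-- choice of the prime -/
theorem exists_good_prime {D : Type*} [DivisionRing D] (H : Subgroup Dˣ) [Finite H] :
    ∃ p : ℕ, p.Prime ∧ (∀ h : H, (orderOf h).Coprime p) ∧
      (∀ k : ℤ, (k : D) = 0 → (p : ℤ) ∣ k) := by
  obtain ⟨q, hq⟩ := CharP.exists D
  rcases CharP.char_is_prime_or_zero D q with hqp | rfl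
  · have : Fact q.Prime := ⟨hqp⟩
    refine ⟨q, hqp, ?_, fun k hk => (CharP.intCast_eq_zero_iff D q k).mp hk⟩
    intro h
    apply Nat.Coprime.symm
    rw [Nat.Prime.coprime_iff_not_dvd hqp]
    intro hd
    have hn0 : orderOf h / q ≠ 0 := by
      have hpos : 0 < orderOf h := orderOf_pos h
      have := Nat.div_pos (Nat.le_of_dvd hpos hd) hqp.pos
      omega
    have hord : orderOf (h ^ (orderOf h / q)) = q := by
      rw [orderOf_pow_of_dvd hn0 (Nat.div_dvd_of_dvd hd), Nat.div_div_self hd (orderOf_pos h).ne']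
    set h' := h ^ (orderOf h / q) with hh'
    have hx : (((h' : H) : Dˣ) : D) ^ q = 1 := by
      have : h' ^ q = 1 := by rw [← hord]; exact pow_orderOf_eq_one h'
      have h2 := congrArg (fun z : H => ((z : Dˣ) : D)) this
      simpa using h2
    have hx1 : (((h' : H) : Dˣ) : D) ≠ 1 := by
      intro h1
      have : h' = 1 := by
        apply Subtype.ext
        apply Units.ext
        simpa using h1
      rw [this, orderOf_one] at hord
      exact hqp.one_lt.ne hord
    have h3 := sub_pow_char_of_commute q (Commute.one_right (((h' : H) : Dˣ) : D))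
    rw [hx, one_pow, sub_self] at h3
    have h4 := pow_eq_zero_iff (hqp.ne_zero) |>.mp h3
    exact hx1 (sub_eq_zero.mp h4)
  · have : CharZero D := CharP.charP_to_charZero D
    obtain ⟨p, hpge, hp⟩ := Nat.exists_infinite_primes (Nat.card H + 1)
    refine ⟨p, hp, ?_, ?_⟩
    · intro h
      apply Nat.Coprime.symm
      rw [Nat.Prime.coprime_iff_not_dvd hp]
      intro hd
      have h1 := Nat.le_of_dvd (orderOf_pos h) hd
      have h2 := Nat.le_of_dvd Nat.card_pos (orderOf_dvd_natCard h)
      omega
    · intro k hk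
      have : k = 0 := by exact_mod_cast hk
      rw [this]
      exact dvd_zero _

/-- A nontrivial finite subgroup of the multiplicative group of a division ring occurs as a Frobenius complement of some finite Frobenius group. -/
theorem result {D : Type*} [DivisionRing D] (H : Subgroup Dˣ) [Finite H] (hH : H ≠ ⊥) :
    ∃ (L : Type) (_ : Group L) (_ : Finite L) (C : Subgroup L), Cfsg.IsFrobeniusComplement C ∧ Nonempty (H ≃* C) := by
  classical
  obtain ⟨p, hp, hcop, hchar⟩ := exists_good_prime H
  have hnt : Nontrivial H := (Subgroup.nontrivial_iff_ne_bot H).mpr hH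
  let ι : H →* D := (Units.coeHom D).comp H.subtype
  have hι : ∀ h : H, ι h = ((h : Dˣ) : D) := fun h => rfl
  have hιinj : Function.Injective ι := by
    intro a b hab
    apply Subtype.ext
    apply Units.ext
    exact hab
  let R : Subalgebra ℤ D := Algebra.adjoin ℤ (Set.range ι)
  let φ₀ : H →* R :=
    { toFun := fun h => ⟨ι h, Algebra.subset_adjoin ⟨h, rfl⟩⟩
      map_one' := Subtype.ext (map_one ι)
      map_mul' := fun a b => Subtype.ext (map_mul ι a b) }
  have hφ₀ : ∀ h : H, ((φ₀ h : R) : D) = ι h := fun h => rfl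
  -- R is a finitely generated ℤ-module
  have hfg : (Subalgebra.toSubmodule R).FG := by
    rw [Algebra.adjoin_eq_span]
    have : (Submonoid.closure (Set.range ι) : Set D) = Set.range ι := by
      rw [← MonoidHom.coe_mrange, Submonoid.closure_eq]
    rw [this]
    exact Submodule.fg_span (Set.finite_range ι)
  have hfin1 : Module.Finite ℤ (Subalgebra.toSubmodule R) := Module.Finite.iff_fg.mpr hfg
  have hfinR : Module.Finite ℤ R := Module.Finite.equiv (Subalgebra.toSubmoduleEquiv R)
  -- the module
  let I : Ideal R := Ideal.span {(p : R)}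
  let inst : DistribMulAction H (R ⧸ I) := DistribMulAction.compHom (R ⧸ I) φ₀
  have hsmul : ∀ (h : H) (m : R ⧸ I), h • m = φ₀ h • m := fun _ _ => rfl
  have hpM : ∀ m : R ⧸ I, p • m = 0 := by
    intro m
    obtain ⟨r, rfl⟩ := Submodule.Quotient.mk_surjective I m
    rw [← Submodule.Quotient.mk_smul, Submodule.Quotient.mk_eq_zero]
    apply Ideal.mem_span_singleton'.mpr
    refine ⟨r, ?_⟩
    rw [nsmul_eq_mul]
    exact ((Nat.cast_commute p r).eq).symm
  -- finiteness
  have hfinM : Finite (R ⧸ I) := by
    have h1 : Module.Finite ℤ (R ⧸ I) :=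
      Module.Finite.of_surjective (I.mkQ.toAddMonoidHom.toIntLinearMap) (Submodule.mkQ_surjective I)
    apply Module.finite_of_fg_torsion
    intro x
    refine ⟨⟨(p : ℤ), mem_nonZeroDivisors_of_ne_zero (by exact_mod_cast hp.ne_zero)⟩, ?_⟩
    rw [Submonoid.smul_def]
    simp only [natCast_zsmul]
    exact hpM x
  -- nontriviality
  have hntM : Nontrivial (R ⧸ I) := by
    rw [Submodule.Quotient.nontrivial_iff, Ideal.ne_top_iff_one]
    intro h1
    obtain ⟨r, hr⟩ := Ideal.mem_span_singleton'.mp h1
    have hin : (⊤ : Submodule ℤ R) ≤ (Ideal.span {(p : ℤ)}) • (⊤ : Submodule ℤ R) := by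
      intro x _
      have hx : x = (p : ℤ) • (r * x) := by
        have h2 : (p : ℤ) • (r * x) = (p : R) * (r * x) := by
          rw [zsmul_eq_mul]; simp
        rw [h2, ← mul_assoc, ((Nat.cast_commute p r).eq), hr, one_mul]
      rw [hx]
      exact Submodule.smul_mem_smul (Ideal.mem_span_singleton_self _) Submodule.mem_top
    obtain ⟨k, hk1, hk2⟩ := Submodule.exists_sub_one_mem_and_smul_eq_zero_of_fg_of_le_smul
      (Ideal.span {(p : ℤ)}) (⊤ : Submodule ℤ R) Module.Finite.fg_top hin
    have h3 := hk2 1 Submodule.mem_top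
    have h4 : (k : D) = 0 := by
      have h5 := congrArg (fun z : R => (z : D)) h3
      simpa using h5
    have h6 := hchar k h4
    have h7 : (p : ℤ) ∣ k - 1 := Ideal.mem_span_singleton.mp hk1
    have h8 : (p : ℤ) ∣ 1 := by
      have := dvd_sub h6 h7
      simpa using this
    have h9 : p ∣ 1 := by exact_mod_cast h8
    exact hp.one_lt.ne' (Nat.dvd_one.mp h9)
  -- fixed-point-freeness
  have hfpf : ∀ u : H, u ≠ 1 → ∀ a : R ⧸ I, u • a = a → a = 0 := by
    intro h hh1 m hm
    rw [hsmul] at hm
    have hS : (∑ i ∈ Finset.range (orderOf h), (φ₀ h) ^ i : R) = 0 := by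
      apply Subtype.ext
      rw [AddSubmonoidClass.coe_finsetSum]
      simp only [SubmonoidClass.coe_pow, hφ₀]
      have h1 := geom_sum_mul (ι h) (orderOf h)
      have h2 : ι h ^ orderOf h = 1 := by rw [← map_pow, pow_orderOf_eq_one, map_one]
      rw [h2, sub_self] at h1
      rcases mul_eq_zero.mp h1 with h3 | h3
      · exact h3
      · exfalso
        apply hh1
        apply hιinj
        rw [map_one]
        exact sub_eq_zero.mp h3
    have hpow : ∀ i : ℕ, (φ₀ h) ^ i • m = m := by
      intro i
      induction i with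
      | zero => rw [pow_zero, one_smul]
      | succ i ih => rw [pow_succ, mul_smul, hm, ih]
    have h1 : (∑ i ∈ Finset.range (orderOf h), (φ₀ h) ^ i : R) • m = orderOf h • m := by
      rw [Finset.sum_smul, Finset.sum_congr rfl (fun i _ => hpow i), Finset.sum_const,
        Finset.card_range]
    rw [hS, zero_smul] at h1
    have h2 : addOrderOf m ∣ orderOf h := addOrderOf_dvd_of_nsmul_eq_zero h1.symm
    have h3 : addOrderOf m ∣ p := addOrderOf_dvd_of_nsmul_eq_zero (hpM m)
    have h4 : addOrderOf m ∣ 1 := by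
      have := Nat.dvd_gcd h2 h3
      rwa [(hcop h)] at this
    exact AddMonoid.addOrderOf_eq_one_iff.mp (Nat.dvd_one.mp h4)
  -- the Frobenius group
  have hF := isFrobeniusComplement_of_distribMulAction H (R ⧸ I) hfpf
  have hfinL : Finite (Multiplicative (R ⧸ I) ⋊[frobAction H (R ⧸ I)] H) :=
    Finite.of_equiv _ SemidirectProduct.equivProd.symm
  obtain ⟨L, instL, finL, C, hC, ⟨e⟩⟩ := Cfsg.Agent.H2.FrobLower.exists_type_zero _ hF
  have e2 : H ≃* (SemidirectProduct.inr :
      H →* Multiplicative (R ⧸ I) ⋊[frobAction H (R ⧸ I)] H).range :=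
    MonoidHom.ofInjective SemidirectProduct.inr_injective
  exact ⟨L, instL, finL, C, hC, ⟨e2.trans e⟩⟩

end Cfsg.Agent.S4293
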