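import Mathlib
import Cfsg.Statements.S4299
import Cfsg.Agent.H2.FrobeniusSemidirect

set_option autoImplicit false
open Cfsg

namespace Cfsg.Agent.S4299

open Cfsg.Agent.H2

theorem exists_unit_orderOf (p : ℕ) [Fact p.Prime] (n : ℕ) (hn0 : n ≠ 0) (hn : n ∣ p - 1) :
    ∃ ζ : (ZMod p)ˣ, orderOf ζ = n := by
  obtain ⟨g, hg⟩ := IsCyclic.exists_generator (α := (ZMod p)ˣ)
  have hord : orderOf g = p - 1 := by
    rw [orderOf_eq_card_of_forall_mem_zpowers hg, Nat.card_eq_fintype_card, ZMod.card_units]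
  obtain ⟨k, hk⟩ := hn
  have hk0 : k ≠ 0 := by
    rintro rfl
    have := (Fact.out : p.Prime).one_lt
    omega
  refine ⟨g ^ k, ?_⟩
  rw [orderOf_pow_of_dvd hk0 (by rw [hord, hk]; exact Dvd.intro_left _ rfl), hord, hk,
    Nat.mul_div_cancel _ (Nat.pos_of_ne_zero hk0)]

theorem result {C : Type*} [Group C] [Finite C] [IsCyclic C] [Nontrivial C] :
    ∃ (L : Type) (_ : Group L) (_ : Finite L) (H : Subgroup L), Cfsg.IsFrobeniusComplement H ∧ Nonempty (C ≃* H) := by
  set n := Nat.card C with hn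
  have hn2 : 2 ≤ n := Finite.one_lt_card
  obtain ⟨p, hp, -, hpn⟩ := Nat.exists_prime_gt_modEq_one (k := n) 0 (by omega)
  haveI : Fact p.Prime := ⟨hp⟩
  have hdvd : n ∣ p - 1 := (Nat.modEq_iff_dvd' hp.one_lt.le).1 hpn.symm
  obtain ⟨ζ, hζ⟩ := exists_unit_orderOf p n (by omega) hdvd
  let U : Subgroup (ZMod p)ˣ := Subgroup.zpowers ζ
  have hUcard : Nat.card U = n := by rw [Nat.card_zpowers, hζ]
  haveI : Nontrivial U := by
    rw [← Finite.one_lt_card_iff_nontrivial, hUcard]; omega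
  let L := Multiplicative (ZMod p) ⋊[frobAction U (ZMod p)] U
  haveI : Finite L := Finite.of_equiv _ SemidirectProduct.equivProd.symm
  refine ⟨L, inferInstance, inferInstance, (SemidirectProduct.inr : U →* L).range, ?_, ?_⟩
  · apply isFrobeniusComplement_of_distribMulAction
    intro u hu a ha
    have h1 : ((u : (ZMod p)ˣ) : ZMod p) * a = a := ha
    have h2 : (((u : (ZMod p)ˣ) : ZMod p) - 1) * a = 0 := by rw [sub_mul, h1, one_mul, sub_self]
    rcases mul_eq_zero.1 h2 with h3 | h3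
    · exfalso
      apply hu
      have : ((u : (ZMod p)ˣ) : ZMod p) = 1 := sub_eq_zero.1 h3
      ext
      simpa using this
    · exact h3
  · have e1 : C ≃* U := mulEquivOfCyclicCardEq (by rw [hUcard])
    have e2 : U ≃* (SemidirectProduct.inr : U →* L).range :=
      MonoidHom.ofInjective SemidirectProduct.inr_injective
    exact ⟨e1.trans e2⟩

end Cfsg.Agent.S4299
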