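import Mathlib
import Cfsg.Statements.S4297
import Cfsg.Agent.S4299

set_option autoImplicit false
open Cfsg

namespace Cfsg.Agent.S4297

open Cfsg.Agent.H2 QuaternionGroup

theorem result (n : ℕ) (hn : 2 ≤ n) :
    ∃ (L : Type) (_ : Group L) (_ : Finite L) (H : Subgroup L), Cfsg.IsFrobeniusComplement H ∧ Nonempty (H ≃* QuaternionGroup n) := by
  haveI : NeZero n := ⟨by omega⟩
  obtain ⟨p, hp, hp2, hpn⟩ := Nat.exists_prime_gt_modEq_one (k := 2 * n) 2 (by omega)
  haveI : Fact p.Prime := ⟨hp⟩
  have hdvd : 2 * n ∣ p - 1 := (Nat.modEq_iff_dvd' hp.one_lt.le).1 hpn.symm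
  obtain ⟨ζ, hζ⟩ := Cfsg.Agent.S4299.exists_unit_orderOf p (2 * n) (by omega) hdvd
  -- the character zz
  let zz : ZMod (2 * n) → ZMod p := fun i => ((ζ ^ i.val : (ZMod p)ˣ) : ZMod p)
  have hzz0 : zz 0 = 1 := by simp [zz]
  have hadd : ∀ i j, zz (i + j) = zz i * zz j := by
    intro i j
    simp only [zz]
    rw [← Units.val_mul, ← pow_add]
    congr 1
    rw [pow_eq_pow_iff_modEq, hζ, ZMod.val_add]
    exact Nat.mod_modEq _ _
  have hne : ∀ i, zz i ≠ 0 := fun i => Units.ne_zero _
  have hneg : ∀ i, zz (-i) = (zz i)⁻¹ := by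
    intro i
    have h1 : zz (-i) * zz i = 1 := by rw [← hadd, neg_add_cancel, hzz0]
    exact eq_inv_of_mul_eq_one_left h1
  have hsub : ∀ i j, zz (i - j) = zz i * (zz j)⁻¹ := by
    intro i j; rw [sub_eq_add_neg, hadd, hneg]
  have hinj : ∀ i, zz i = 1 → i = 0 := by
    intro i hi
    simp only [zz] at hi
    have h1 : ζ ^ i.val = 1 := by
      apply Units.ext; simpa using hi
    have h2 := orderOf_dvd_of_pow_eq_one h1
    rw [hζ] at h2
    have h3 : i.val < 2 * n := ZMod.val_lt i
    have h4 : i.val = 0 := Nat.eq_zero_of_dvd_of_lt h2 h3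
    exact (ZMod.val_eq_zero i).1 h4
  have hzn : zz (n : ZMod (2 * n)) = -1 := by
    have hval : ((n : ZMod (2 * n))).val = n := by
      rw [ZMod.val_natCast]; exact Nat.mod_eq_of_lt (by omega)
    have h1 : zz (n : ZMod (2 * n)) * zz (n : ZMod (2 * n)) = 1 := by
      rw [← hadd]
      have : (n : ZMod (2 * n)) + (n : ZMod (2 * n)) = 0 := by
        rw [← two_mul]; norm_cast; simp
      rw [this, hzz0]
    have h2 : zz (n : ZMod (2 * n)) ≠ 1 := by
      intro h
      have := hinj _ h
      have h3 := congrArg ZMod.val this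
      rw [hval, ZMod.val_zero] at h3
      omega
    rcases mul_self_eq_one_iff.1 h1 with h | h
    · exact absurd h h2
    · exact h
  -- p is odd, so 2 ≠ 0 in ZMod p
  have h2ne : (2 : ZMod p) ≠ 0 := by
    intro h
    have : ((2 : ℕ) : ZMod p) = 0 := by exact_mod_cast h
    rw [ZMod.natCast_eq_zero_iff] at this
    have := Nat.le_of_dvd (by omega) this
    omega
  -- the action
  let act : QuaternionGroup n → ZMod p × ZMod p → ZMod p × ZMod p := fun g v =>
    match g with
    | a i => (zz i * v.1, zz (-i) * v.2)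
    | xa i => (zz (-i) * v.2, -(zz i * v.1))
  letI : DistribMulAction (QuaternionGroup n) (ZMod p × ZMod p) :=
    { smul := act
      one_smul := by
        rintro ⟨v₁, v₂⟩
        have h1 : act 1 (v₁, v₂) = (zz 0 * v₁, zz (-0) * v₂) := rfl
        show act 1 (v₁, v₂) = (v₁, v₂)
        rw [h1, neg_zero, hzz0, one_mul, one_mul]
      mul_smul := by
        rintro (i | i) (j | j) ⟨v₁, v₂⟩
        · show act (a (i + j)) (v₁, v₂) = act (a i) (act (a j) (v₁, v₂))
          simp only [act, hadd, hneg, neg_add]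
          ext <;> simp only <;> have := hne i <;> have := hne j <;> field_simp
        · show act (xa (j - i)) (v₁, v₂) = act (a i) (act (xa j) (v₁, v₂))
          simp only [act, hadd, hneg, hsub, neg_sub]
          ext <;> simp only <;> have := hne i <;> have := hne j <;> field_simp
        · show act (xa (i + j)) (v₁, v₂) = act (xa i) (act (a j) (v₁, v₂))
          simp only [act, hadd, hneg, neg_add]
          ext <;> simp only <;> have := hne i <;> have := hne j <;> field_simp
        · show act (a ((n : ZMod (2 * n)) + j - i)) (v₁, v₂) = act (xa i) (act (xa j) (v₁, v₂))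
          have e1 : zz ((n : ZMod (2 * n)) + j - i) = -(zz j * (zz i)⁻¹) := by
            rw [hsub, hadd, hzn]; ring
          have e2 : zz (-((n : ZMod (2 * n)) + j - i)) = -(zz i * (zz j)⁻¹) := by
            rw [hneg, e1]
            have := hne i; have := hne j
            field_simp
          simp only [act, e1, e2, hneg]
          ext <;> simp only <;> have := hne i <;> have := hne j <;> field_simp
      smul_zero := by
        rintro (i | i)
        · show act (a i) 0 = 0
          simp [act]
        · show act (xa i) 0 = 0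
          simp [act]
      smul_add := by
        rintro (i | i) ⟨v₁, v₂⟩ ⟨w₁, w₂⟩
        · show act (a i) (v₁ + w₁, v₂ + w₂) = act (a i) (v₁, v₂) + act (a i) (w₁, w₂)
          simp only [act, Prod.mk_add_mk]
          ext <;> simp only <;> ring
        · show act (xa i) (v₁ + w₁, v₂ + w₂) = act (xa i) (v₁, v₂) + act (xa i) (w₁, w₂)
          simp only [act, Prod.mk_add_mk]
          ext <;> simp only <;> ring }
  haveI : Nontrivial (QuaternionGroup n) := ⟨⟨xa 0, a 0, by intro h; cases h⟩⟩
  let L := Multiplicative (ZMod p × ZMod p) ⋊[frobAction (QuaternionGroup n) (ZMod p × ZMod p)] (QuaternionGroup n)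
  haveI : Finite L := Finite.of_equiv _ SemidirectProduct.equivProd.symm
  refine ⟨L, inferInstance, inferInstance, (SemidirectProduct.inr : QuaternionGroup n →* L).range, ?_, ?_⟩
  · apply isFrobeniusComplement_of_distribMulAction
    rintro (i | i) hu ⟨v₁, v₂⟩ hv
    · have hi : i ≠ 0 := by
        rintro rfl
        exact hu rfl
      have hv' : act (a i) (v₁, v₂) = (v₁, v₂) := hv
      simp only [act, Prod.mk.injEq] at hv'
      obtain ⟨h1, h2⟩ := hv'
      have hz1 : zz i ≠ 1 := fun h => hi (hinj i h)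
      have hz2 : zz (-i) ≠ 1 := fun h => hi (neg_eq_zero.1 (hinj _ h))
      have e1 : (zz i - 1) * v₁ = 0 := by rw [sub_mul, h1, one_mul, sub_self]
      have e2 : (zz (-i) - 1) * v₂ = 0 := by rw [sub_mul, h2, one_mul, sub_self]
      have hv1 : v₁ = 0 := (mul_eq_zero.1 e1).resolve_left (sub_ne_zero.2 hz1)
      have hv2 : v₂ = 0 := (mul_eq_zero.1 e2).resolve_left (sub_ne_zero.2 hz2)
      rw [hv1, hv2]; rfl
    · have hv' : act (xa i) (v₁, v₂) = (v₁, v₂) := hv
      simp only [act, Prod.mk.injEq] at hv'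
      obtain ⟨h1, h2⟩ := hv'
      -- v₂ = -(zz i * v₁) = -(zz i * zz(-i) * v₂) = -v₂
      have h3 : zz i * zz (-i) = 1 := by rw [← hadd, add_neg_cancel, hzz0]
      have h4 : v₂ = -v₂ := by
        calc v₂ = -(zz i * v₁) := h2.symm
          _ = -(zz i * (zz (-i) * v₂)) := by rw [h1]
          _ = -v₂ := by rw [← mul_assoc, h3, one_mul]
      have h5 : 2 * v₂ = 0 := by
        rw [two_mul]; nth_rewrite 1 [h4]; ring
      have hv2 : v₂ = 0 := (mul_eq_zero.1 h5).resolve_left h2ne
      have hv1 : v₁ = 0 := by rw [← h1, hv2, mul_zero]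
      rw [hv1, hv2]; rfl
  · exact ⟨(MonoidHom.ofInjective SemidirectProduct.inr_injective).symm⟩

end Cfsg.Agent.S4297
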