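import Mathlib
import Cfsg.Statements.S4298
import Cfsg.Agent.Lib.Helper8.AffSL2

set_option autoImplicit false
open Cfsg

namespace Cfsg.Agent.S4298

open Matrix Cfsg.Agent.Lib.Helper8.AffSL2

abbrev SL3 := SpecialLinearGroup (Fin 2) (ZMod 3)
abbrev SL5 := SpecialLinearGroup (Fin 2) (ZMod 5)

/-- an embedding of `SL₂(3)` into `SL₂(5)`, by table -/
def psi0 (g : SL3) : Matrix (Fin 2) (Fin 2) (ZMod 5) :=
  match (g.1 0 0).val, (g.1 0 1).val, (g.1 1 0).val, (g.1 1 1).val with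
  | 0, 1, 2, 0 => !![0, 4; 1, 0]
  | 0, 1, 2, 1 => !![2, 4; 3, 4]
  | 0, 1, 2, 2 => !![3, 2; 1, 1]
  | 0, 2, 1, 0 => !![0, 1; 4, 0]
  | 0, 2, 1, 1 => !![2, 3; 4, 4]
  | 0, 2, 1, 2 => !![3, 1; 2, 1]
  | 1, 0, 0, 1 => !![1, 0; 0, 1]
  | 1, 0, 1, 1 => !![1, 2; 1, 3]
  | 1, 0, 2, 1 => !![3, 3; 4, 1]
  | 1, 1, 0, 1 => !![1, 1; 2, 3]
  | 1, 1, 1, 2 => !![0, 2; 2, 0]
  | 1, 1, 2, 0 => !![4, 2; 1, 2]
  | 1, 2, 0, 1 => !![3, 4; 3, 1]
  | 1, 2, 1, 0 => !![4, 1; 2, 2]
  | 1, 2, 2, 2 => !![3, 0; 0, 2]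
  | 2, 0, 0, 2 => !![4, 0; 0, 4]
  | 2, 0, 1, 2 => !![2, 2; 1, 4]
  | 2, 0, 2, 2 => !![4, 3; 4, 2]
  | 2, 1, 0, 2 => !![2, 1; 2, 4]
  | 2, 1, 1, 1 => !![2, 0; 0, 3]
  | 2, 1, 2, 0 => !![1, 4; 3, 3]
  | 2, 2, 0, 2 => !![4, 4; 3, 2]
  | 2, 2, 1, 0 => !![1, 3; 4, 3]
  | 2, 2, 2, 1 => !![0, 3; 3, 0]
  | _, _, _, _ => 1

theorem psi0_det : ∀ g : SL3, (psi0 g).det = 1 := by decide +kernel

def psi1 (g : SL3) : SL5 := ⟨psi0 g, psi0_det g⟩

theorem psi1_mul : ∀ a b : SL3, psi1 (a * b) = psi1 a * psi1 b := by decide +kernel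

theorem psi1_one : psi1 1 = 1 := by decide +kernel

theorem psi1_inj : ∀ a b : SL3, psi1 a = psi1 b → a = b := by decide +kernel

theorem card_SL3 : Fintype.card SL3 = 24 := by decide +kernel

/-- the embedding as a homomorphism -/
def psi : SL3 →* SL5 where
  toFun := psi1
  map_one' := psi1_one
  map_mul' := psi1_mul

theorem psi_injective : Function.Injective psi := fun a b h => psi1_inj a b h

def negOne5 : SL5 := ⟨!![-1, 0; 0, -1], by decide⟩

theorem negOne5_mem : negOne5 ∈ psi.range := ⟨⟨!![-1, 0; 0, -1], by decide⟩, by decide +kernel⟩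

theorem negOne5_ne : negOne5 ≠ 1 := by decide

/-! ### Fixed-point-freeness -/

theorem pow_five (h : SL5) (v : Fin 2 → ZMod 5) (hv : v ≠ 0)
    (hfix : (h : Matrix (Fin 2) (Fin 2) (ZMod 5)) *ᵥ v = v) : h ^ 5 = 1 := by
  have hp : Fact (Nat.Prime 5) := ⟨by norm_num⟩
  obtain ⟨M, hM⟩ : ∃ M : Matrix (Fin 2) (Fin 2) (ZMod 5),
      M = (h : Matrix (Fin 2) (Fin 2) (ZMod 5)) - 1 := ⟨_, rfl⟩
  have hMv : M *ᵥ v = 0 := by
    rw [hM, Matrix.sub_mulVec, hfix, Matrix.one_mulVec, sub_self]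
  have hdetM : M.det = 0 := Matrix.exists_mulVec_eq_zero_iff.mp ⟨v, hv, hMv⟩
  have hdet := h.2
  rw [det_fin_two] at hdet hdetM
  have m00 : M 0 0 = h.1 0 0 - 1 := by rw [hM]; simp
  have m01 : M 0 1 = h.1 0 1 := by rw [hM]; simp
  have m10 : M 1 0 = h.1 1 0 := by rw [hM]; simp
  have m11 : M 1 1 = h.1 1 1 - 1 := by rw [hM]; simp
  rw [m00, m01, m10, m11] at hdetM
  have htr : h.1 0 0 + h.1 1 1 = 2 := by linear_combination hdet - hdetM
  have hM2 : M * M = 0 := by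
    ext i j
    fin_cases i <;> fin_cases j
    · simp only [Fin.zero_eta, Fin.isValue, Matrix.mul_apply, Fin.sum_univ_two, Matrix.zero_apply, m00, m01, m10]
      linear_combination (h.1 0 0) * htr - hdet
    · simp only [Fin.zero_eta, Fin.isValue, Fin.mk_one, Matrix.mul_apply, Fin.sum_univ_two, Matrix.zero_apply, m00, m01, m11]
      linear_combination (h.1 0 1) * htr
    · simp only [Fin.zero_eta, Fin.isValue, Fin.mk_one, Matrix.mul_apply, Fin.sum_univ_two, Matrix.zero_apply, m00, m10, m11]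
      linear_combination (h.1 1 0) * htr
    · simp only [Fin.isValue, Fin.mk_one, Matrix.mul_apply, Fin.sum_univ_two, Matrix.zero_apply, m01, m10, m11]
      linear_combination (h.1 1 1) * htr - hdet
  have hh : (h : Matrix (Fin 2) (Fin 2) (ZMod 5)) = 1 + M := by rw [hM]; abel
  have hpow : ∀ n : ℕ, (1 + M) ^ n = 1 + n • M := by
    intro n
    induction n with
    | zero => simp
    | succ n ih =>
      rw [pow_succ, ih, mul_add, mul_one, add_mul, one_mul, smul_mul_assoc, hM2, smul_zero,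
        add_zero, succ_nsmul]
      abel
  apply Subtype.ext
  show ((h ^ 5 : SL5) : Matrix (Fin 2) (Fin 2) (ZMod 5)) =
    ((1 : SL5) : Matrix (Fin 2) (Fin 2) (ZMod 5))
  rw [Matrix.SpecialLinearGroup.coe_pow, hh, hpow, Matrix.SpecialLinearGroup.coe_one]
  have : (5 : ℕ) • M = 0 := by
    ext i j
    simp only [Matrix.smul_apply, Matrix.zero_apply, nsmul_eq_mul]
    have : ((5 : ℕ) : ZMod 5) = 0 := CharP.cast_eq_zero (ZMod 5) 5
    rw [this, zero_mul]
  rw [this, add_zero]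

theorem fpf (h : SL5) (hh : h ∈ psi.range)
    (v : Fin 2 → ZMod 5) (hv : v ≠ 0)
    (hfix : (h : Matrix (Fin 2) (Fin 2) (ZMod 5)) *ᵥ v = v) : h = 1 := by
  obtain ⟨p, rfl⟩ := hh
  have h24 : (psi p) ^ 24 = 1 := by
    rw [← map_pow, ← card_SL3, pow_card_eq_one, map_one]
  have h5 := pow_five _ v hv hfix
  have h25 : (psi p) ^ 25 = 1 := by
    have : (25 : ℕ) = 5 * 5 := by norm_num
    rw [this, pow_mul, h5, one_pow]
  have : (psi p) ^ 25 = (psi p) ^ 24 * psi p := pow_succ _ _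
  rw [h25, h24, one_mul] at this
  exact this.symm

/-! ### The Frobenius group -/

/-- The ambient group `F₅² ⋊ SL₂(3)`. -/
def L0 : Subgroup (Aff (ZMod 5) 1) := psi.range.comap proj

/-- The complement, inside the full affine group. -/
def H1 : Subgroup (Aff (ZMod 5) 1) := psi.range.map incl

theorem H1_le : H1 ≤ L0 := by
  rintro _ ⟨A, hA, rfl⟩
  exact hA

theorem mem_H1_iff (t : Aff (ZMod 5) 1) (ht : t ∈ L0) : t ∈ H1 ↔ t.B = 0 := by
  constructor
  · rintro ⟨A, _, rfl⟩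
    rfl
  · intro h
    refine ⟨t.A, ht, ?_⟩
    apply Aff.ext
    · rfl
    · exact h.symm

theorem key (t g : Aff (ZMod 5) 1) (ht : t ∈ L0) (htB : t.B = 0) (hgB : g.B ≠ 0)
    (hc : (g⁻¹ * t * g).B = 0) : t = 1 := by
  have h1 : (g⁻¹ * t * g).B =
      ((g.A⁻¹ : SL5) : Matrix (Fin 2) (Fin 2) (ZMod 5)) *
        ((t.A : Matrix (Fin 2) (Fin 2) (ZMod 5)) * g.B - g.B) := by
    simp only [mul_B, mul_A, inv_A, inv_B, htB, Matrix.mul_zero, zero_add,
      Matrix.SpecialLinearGroup.coe_mul, Matrix.mul_sub, Matrix.mul_assoc]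
    abel
  rw [h1] at hc
  have h2 : (t.A : Matrix (Fin 2) (Fin 2) (ZMod 5)) * g.B - g.B = 0 := by
    have := congrArg (fun X => (g.A : Matrix (Fin 2) (Fin 2) (ZMod 5)) * X) hc
    simp only [Matrix.mul_zero] at this
    rw [← Matrix.mul_assoc, ← Matrix.SpecialLinearGroup.coe_mul, mul_inv_cancel,
      Matrix.SpecialLinearGroup.coe_one, Matrix.one_mul] at this
    exact this
  have h3 : (t.A : Matrix (Fin 2) (Fin 2) (ZMod 5)) * g.B = g.B := sub_eq_zero.mp h2
  obtain ⟨v, hvdef⟩ : ∃ v : Fin 2 → ZMod 5, v = fun i => g.B i 0 := ⟨_, rfl⟩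
  have hv : v ≠ 0 := by
    intro h
    apply hgB
    ext i j
    have hj : j = 0 := Subsingleton.elim _ _
    rw [hj]
    have := congrFun h i
    rw [hvdef] at this
    simpa using this
  have hfix : (t.A : Matrix (Fin 2) (Fin 2) (ZMod 5)) *ᵥ v = v := by
    ext i
    have := congrFun (congrFun h3 i) 0
    rw [Matrix.mul_apply] at this
    rw [hvdef]
    simpa [Matrix.mulVec, dotProduct] using this
  have hA : t.A = 1 := fpf t.A ht v hv hfix
  apply Aff.ext
  · exact hA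
  · exact htB

/-- The group SL(2,3) of order 24 (the binary tetrahedral group) occurs as a Frobenius complement of some finite Frobenius group. -/
theorem result :
    ∃ (L : Type) (_ : Group L) (_ : Finite L) (H : Subgroup L), Cfsg.IsFrobeniusComplement H ∧ Nonempty (H ≃* Matrix.SpecialLinearGroup (Fin 2) (ZMod 3)) := by
  have hfinF : Finite (ZMod 5) := inferInstance
  refine ⟨L0, inferInstance, inferInstance, H1.subgroupOf L0, ?_, ?_⟩
  · have hmem : ∀ t : L0, t ∈ H1.subgroupOf L0 ↔ (t : Aff (ZMod 5) 1).B = 0 := by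
      intro t
      rw [Subgroup.mem_subgroupOf]
      exact mem_H1_iff _ t.2
    refine ⟨?_, ?_, ?_⟩
    · intro h
      have h1 : (⟨incl negOne5, H1_le ⟨negOne5, negOne5_mem, rfl⟩⟩ : L0) ∈ H1.subgroupOf L0 := by
        rw [hmem]; rfl
      rw [h, Subgroup.mem_bot] at h1
      have := congrArg (fun x : L0 => (x : Aff (ZMod 5) 1).A) h1
      exact negOne5_ne this
    · intro h
      have hg : (⟨1, !![1; 0]⟩ : Aff (ZMod 5) 1) ∈ L0 := by
        show (1 : SL5) ∈ psi.range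
        exact one_mem _
      have h1 : (⟨_, hg⟩ : L0) ∈ H1.subgroupOf L0 := by rw [h]; trivial
      rw [hmem] at h1
      have := congrFun (congrFun h1 0) 0
      simp at this
      revert this
      decide
    · intro g hg
      rw [hmem] at hg
      rw [eq_bot_iff]
      intro t ht
      obtain ⟨ht1, ht2⟩ := Subgroup.mem_inf.mp ht
      rw [hmem] at ht1
      rw [Subgroup.mem_pointwise_smul_iff_inv_smul_mem, hmem] at ht2
      have hc : ((g : Aff (ZMod 5) 1)⁻¹ * (t : Aff (ZMod 5) 1) * (g : Aff (ZMod 5) 1)).B = 0 := by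
        have : ((MulAut.conj g)⁻¹ • t : L0) = g⁻¹ * t * g := by
          rw [MulAut.smul_def, ← map_inv, MulAut.conj_apply, inv_inv]
        rw [this] at ht2
        exact ht2
      have := key _ _ t.2 ht1 hg hc
      rw [Subgroup.mem_bot]
      exact Subtype.ext this
  · have e1 : H1.subgroupOf L0 ≃* H1 := Subgroup.subgroupOfEquivOfLe H1_le
    have e2 : psi.range ≃* H1 := Subgroup.equivMapOfInjective psi.range incl incl_injective
    have e3 : SL3 ≃* psi.range := MonoidHom.ofInjective psi_injective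
    exact ⟨e1.trans (e2.symm.trans e3.symm)⟩

end Cfsg.Agent.S4298
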