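import Mathlib
import Cfsg.Statements.S4300

set_option autoImplicit false
open Cfsg

namespace Cfsg.Agent.S4300

/-- Let G act faithfully and primitively on a set X, and suppose the stabilizer of some point is a simple group. Then either G is simple, or G has a normal subgroup, neither trivial nor the whole group, that acts regularly on X (transitively with trivial point stabilizers). -/
theorem result {G : Type*} [Group G] {X : Type*} [MulAction G X] [FaithfulSMul G X]
    (hprim : MulAction.IsPreprimitive G X) (x : X) (hsimple : IsSimpleGroup (MulAction.stabilizer G x)) :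
    IsSimpleGroup G ∨ ∃ N : Subgroup G, N.Normal ∧ N ≠ ⊥ ∧ N ≠ ⊤ ∧
      MulAction.IsPretransitive N X ∧ ∀ y : X, MulAction.stabilizer N y = ⊥ := by
  classical
  by_cases hG : IsSimpleGroup G
  · exact Or.inl hG
  right
  -- `G` is nontrivial
  have : Nontrivial G := by
    have := hsimple.toNontrivial
    obtain ⟨a, b, hab⟩ := this
    exact ⟨⟨a.1, b.1, fun h => hab (Subtype.ext h)⟩⟩
  -- a proper nontrivial normal subgroup
  obtain ⟨N, hN, hN1, hN2⟩ : ∃ N : Subgroup G, N.Normal ∧ N ≠ ⊥ ∧ N ≠ ⊤ := by
    by_contra hcon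
    push Not at hcon
    apply hG
    exact ⟨fun N hN => by
      by_cases h : N = ⊥
      · exact Or.inl h
      · exact Or.inr (hcon N hN h)⟩
  have := hN
  -- `N` is transitive
  have hquasi : MulAction.IsQuasiPreprimitive G X := inferInstance
  have htrans : MulAction.IsPretransitive N X := by
    apply hquasi.isPretransitive_of_normal
    intro hfix
    apply hN1
    rw [eq_bot_iff]
    intro n hn
    rw [Subgroup.mem_bot]
    apply FaithfulSMul.eq_of_smul_eq_smul (α := X)
    intro y
    rw [one_smul]
    have : y ∈ MulAction.fixedPoints N X := by rw [hfix]; exact Set.mem_univ y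
    exact this ⟨n, hn⟩
  refine ⟨N, hN, hN1, hN2, htrans, ?_⟩
  -- `N ⊓ G_x` is a normal subgroup of the simple group `G_x`
  have hnorm : (N.subgroupOf (MulAction.stabilizer G x)).Normal := inferInstance
  have hx : N ⊓ MulAction.stabilizer G x = ⊥ := by
    rcases hsimple.eq_bot_or_eq_top_of_normal _ hnorm with h | h
    · rw [Subgroup.subgroupOf_eq_bot] at h
      exact disjoint_iff.1 h
    · exfalso
      rw [Subgroup.subgroupOf_eq_top] at h
      apply hN2
      rw [eq_top_iff]
      intro g _
      obtain ⟨n, hn⟩ := htrans.exists_smul_eq x (g • x)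
      have h1 : (n : G)⁻¹ * g ∈ MulAction.stabilizer G x := by
        rw [MulAction.mem_stabilizer_iff, mul_smul, ← hn]
        show (n : G)⁻¹ • ((n : G) • x) = x
        rw [inv_smul_smul]
      have h2 : g = n * ((n : G)⁻¹ * g) := by group
      rw [h2]
      exact N.mul_mem n.2 (h h1)
  intro y
  rw [eq_bot_iff]
  intro m hm
  rw [Subgroup.mem_bot]
  obtain ⟨n, hn⟩ := htrans.exists_smul_eq x y
  have h1 : (n : G)⁻¹ * m * n ∈ N ⊓ MulAction.stabilizer G x := by
    refine Subgroup.mem_inf.2 ⟨N.mul_mem (N.mul_mem (N.inv_mem n.2) m.2) n.2, ?_⟩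
    rw [MulAction.mem_stabilizer_iff, mul_smul, mul_smul]
    have e1 : (n : G) • x = y := hn
    have e2 : (m : G) • y = y := MulAction.mem_stabilizer_iff.1 hm
    rw [e1, e2, ← e1, inv_smul_smul]
  rw [hx, Subgroup.mem_bot] at h1
  apply Subtype.ext
  have : (m : G) = n * ((n : G)⁻¹ * m * n) * (n : G)⁻¹ := by group
  rw [this, h1]
  simp

end Cfsg.Agent.S4300
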