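import Mathlib
import Cfsg.Statements.S4303
import Cfsg.Agent.H2.SylowInduction
import Cfsg.Agent.H2.SylowCoprime

set_option autoImplicit false
open Cfsg

universe u

namespace Cfsg.Agent.S4303

open Cfsg.Agent.H2

/-- For a finite group `G` and a prime `p`, the number of Sylow `p`-subgroups of `G` is a product of natural numbers each of which is either a prime power congruent to 1 modulo `p` or the number of Sylow `p`-subgroups of some finite simple group. -/
theorem result {G : Type u} [Group G] [Finite G]
    (p : ℕ) [Fact p.Prime] :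
    ∃ l : List ℕ, l.prod = Nat.card (Sylow p G) ∧
      ∀ m ∈ l, (IsPrimePow m ∧ m % p = 1) ∨
        ∃ (S : Type u) (_ : Group S) (_ : Finite S), IsSimpleGroup S ∧ m = Nat.card (Sylow p S) := by
  have hp : p.Prime := Fact.out
  have key := SylInd.hall_induction.{u} p
    (fun n => ∃ l : List ℕ, l.prod = n ∧
      ∀ m ∈ l, (IsPrimePow m ∧ m % p = 1) ∨
        ∃ (S : Type u) (_ : Group S) (_ : Finite S), IsSimpleGroup S ∧ m = Nat.card (Sylow p S))
    ⟨[], by simp, by simp⟩
    (by
      rintro a b ⟨la, ha, ha'⟩ ⟨lb, hb, hb'⟩
      refine ⟨la ++ lb, by rw [List.prod_append, ha, hb], ?_⟩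
      intro m hm
      rcases List.mem_append.mp hm with h | h
      · exact ha' m h
      · exact hb' m h)
    (fun H _ => True)
    (fun H _ K _ => trivial)
    (fun H _ K _ _ => trivial)
    (fun H _ _ _ hs => ⟨[Nat.card (Sylow p H)], by simp, by
      intro m hm
      rw [List.mem_singleton] at hm
      exact Or.inr ⟨H, inferInstance, inferInstance, hs, hm⟩⟩)
    (fun H _ _ _ K _ P hK hPK => by
      have hm0 : Nat.card (Sylow p H) ≠ 0 := Nat.card_pos.ne'
      obtain ⟨n, hn⟩ : ∃ n, n = Nat.card (Sylow p H) := ⟨_, rfl⟩
      have hq : ∀ q, q.Prime → q ^ n.factorization q ≡ 1 [MOD p] := fun q hq =>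
        hn ▸ SylCop.qpart_card_sylow_modEq_one K P hK hPK q hq
      rw [← hn] at hm0 ⊢
      refine ⟨n.primeFactors.toList.map (fun q => q ^ n.factorization q), ?_, ?_⟩
      · rw [Finset.prod_map_toList]
        have := Nat.prod_factorization_pow_eq_self hm0
        rw [Finsupp.prod, Nat.support_factorization] at this
        exact this
      · intro m hm
        rw [List.mem_map] at hm
        obtain ⟨q, hq1, rfl⟩ := hm
        rw [Finset.mem_toList] at hq1
        have hqp := Nat.prime_of_mem_primeFactors hq1
        left
        refine ⟨?_, ?_⟩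
        · refine IsPrimePow.pow hqp.isPrimePow ?_
          have := (hqp.dvd_iff_one_le_factorization hm0).mp (Nat.dvd_of_mem_primeFactors hq1)
          omega
        · have := hq q hqp
          rw [Nat.ModEq, Nat.mod_eq_of_lt hp.one_lt] at this
          exact this)
  exact key _ G rfl trivial

end Cfsg.Agent.S4303
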