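import Cfsg.Statements.S4321
import Cfsg.Agent.Lib.Helper6.PSingKey

set_option autoImplicit false
open Cfsg

namespace Cfsg.Agent.S4321

/-- Let `G` be a finite group and `p` a prime not dividing the order of the centre of `G`. Consider the primes dividing the size of some conjugacy class of a `p`-singular element (an element of order divisible by `p`), two of them adjacent when their product divides such a class size. Then any two distinct such primes are joined by a path with at most 3 edges (the graph is connected of diameter at most 3). -/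
theorem result {G : Type*} [Group G] [Finite G] (p : ℕ) [Fact p.Prime]
    (hZ : ¬ p ∣ Nat.card ↥(Subgroup.center G)) (r s : ℕ) (hr : (r.Prime ∧ ∃ x : G, p ∣ orderOf x ∧ r ∣ (Subgroup.centralizer ({x} : Set G)).index)) (hs : (s.Prime ∧ ∃ x : G, p ∣ orderOf x ∧ s ∣ (Subgroup.centralizer ({x} : Set G)).index)) (hrs : r ≠ s) :
    (∃ x : G, p ∣ orderOf x ∧ r * s ∣ (Subgroup.centralizer ({x} : Set G)).index) ∨ (∃ t : ℕ, (t.Prime ∧ ∃ x : G, p ∣ orderOf x ∧ t ∣ (Subgroup.centralizer ({x} : Set G)).index) ∧ t ≠ r ∧ t ≠ s ∧ (∃ x : G, p ∣ orderOf x ∧ r * t ∣ (Subgroup.centralizer ({x} : Set G)).index) ∧ (∃ x : G, p ∣ orderOf x ∧ t * s ∣ (Subgroup.centralizer ({x} : Set G)).index)) ∨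
      (∃ t u : ℕ, (t.Prime ∧ ∃ x : G, p ∣ orderOf x ∧ t ∣ (Subgroup.centralizer ({x} : Set G)).index) ∧ (u.Prime ∧ ∃ x : G, p ∣ orderOf x ∧ u ∣ (Subgroup.centralizer ({x} : Set G)).index) ∧ t ≠ r ∧ u ≠ s ∧ t ≠ u ∧ (∃ x : G, p ∣ orderOf x ∧ r * t ∣ (Subgroup.centralizer ({x} : Set G)).index) ∧ (∃ x : G, p ∣ orderOf x ∧ t * u ∣ (Subgroup.centralizer ({x} : Set G)).index) ∧ (∃ x : G, p ∣ orderOf x ∧ u * s ∣ (Subgroup.centralizer ({x} : Set G)).index)) := by
  classical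
  obtain ⟨hrp, x, hxp, hrx⟩ := hr
  obtain ⟨hsp, y, hyp, hsy⟩ := hs
  obtain ⟨a, ha, hax⟩ := Cfsg.Agent.Lib.Helper6.PSing.exists_ppart (p := p) x hxp
  obtain ⟨b, hb, hby⟩ := Cfsg.Agent.Lib.Helper6.PSing.exists_ppart (p := p) y hyp
  obtain ⟨w, hw, t, u, ht, hu, hta, hub, htw, huw⟩ :=
    Cfsg.Agent.Lib.Helper6.PSing.key hZ a b ha hb
  have htx : t ∣ (Subgroup.centralizer ({x} : Set G)).index := hta.trans hax
  have huy : u ∣ (Subgroup.centralizer ({y} : Set G)).index := hub.trans hby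
  have Vt : t.Prime ∧ ∃ x : G, p ∣ orderOf x ∧ t ∣ (Subgroup.centralizer ({x} : Set G)).index :=
    ⟨ht, x, hxp, htx⟩
  have Vu : u.Prime ∧ ∃ x : G, p ∣ orderOf x ∧ u ∣ (Subgroup.centralizer ({x} : Set G)).index :=
    ⟨hu, y, hyp, huy⟩
  have mulp : ∀ {q q' n : ℕ}, q.Prime → q'.Prime → q ≠ q' → q ∣ n → q' ∣ n → q * q' ∣ n :=
    fun hq hq' hne h1 h2 =>
      Nat.Coprime.mul_dvd_of_dvd_of_dvd ((Nat.coprime_primes hq hq').2 hne) h1 h2
  by_cases h1 : t = r
  · subst h1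
    by_cases h2 : u = s
    · subst h2
      left
      exact ⟨w, hw, mulp hrp hsp hrs htw huw⟩
    · by_cases h3 : u = t
      · subst h3
        left
        exact ⟨y, hyp, mulp hrp hsp hrs huy hsy⟩
      · right; left
        exact ⟨u, Vu, h3, h2, ⟨w, hw, mulp hrp hu (Ne.symm h3) htw huw⟩,
          ⟨y, hyp, mulp hu hsp h2 huy hsy⟩⟩
  · by_cases h2 : u = s
    · subst h2
      by_cases h3 : t = u
      · subst h3
        left
        exact ⟨x, hxp, mulp hrp hsp hrs hrx htx⟩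
      · right; left
        exact ⟨t, Vt, h1, h3, ⟨x, hxp, mulp hrp ht (Ne.symm h1) hrx htx⟩,
          ⟨w, hw, mulp ht hsp h3 htw huw⟩⟩
    · by_cases h3 : t = u
      · subst h3
        right; left
        exact ⟨t, Vt, h1, h2, ⟨x, hxp, mulp hrp ht (Ne.symm h1) hrx htx⟩,
          ⟨y, hyp, mulp ht hsp h2 huy hsy⟩⟩
      · right; right
        exact ⟨t, u, Vt, Vu, h1, h2, h3, ⟨x, hxp, mulp hrp ht (Ne.symm h1) hrx htx⟩,
          ⟨w, hw, mulp ht hu h3 htw huw⟩, ⟨y, hyp, mulp hu hsp h2 huy hsy⟩⟩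

end Cfsg.Agent.S4321
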