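import Mathlib
import Cfsg.Statements.S4325

set_option autoImplicit false
open Cfsg

namespace Cfsg.Agent.S4325

open Equiv

/-- the permutations preserving a function -/
def preserving {r : ℕ} (v : Fin r → ℚ) : Subgroup (Perm (Fin r)) where
  carrier := {g | ∀ z, v (g z) = v z}
  one_mem' := fun z => rfl
  mul_mem' := by
    intro g h hg hh z
    show v (g (h z)) = v z
    rw [hg, hh]
  inv_mem' := by
    intro g hg z
    have := hg (g⁻¹ z)
    have e : g (g⁻¹ z) = z := by
      show (g * g⁻¹) z = z
      rw [mul_inv_cancel]; rfl
    rw [e] at this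
    exact this.symm

/-- few transpositions preserve a non-constant function -/
theorem exists_nonconstant (r m : ℕ) (hm : m + 1 < r) (x y : Fin m → Fin r) :
    ∃ v : Fin r → ℚ, (∀ i, v (x i) = v (y i)) ∧ ∃ a b, v a ≠ v b := by
  classical
  let L : (Fin r → ℚ) →ₗ[ℚ] (Fin m → ℚ) :=
    { toFun := fun v i => v (x i) - v (y i)
      map_add' := by intro v w; ext i; simp only [Pi.add_apply]; ring
      map_smul' := by intro c v; ext i; simp only [Pi.smul_apply, smul_eq_mul, RingHom.id_apply]; ring }
  by_contra hcon
  push Not at hcon
  -- every vector of the kernel is constant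
  have hker : LinearMap.ker L ≤ Submodule.span ℚ {(fun _ => (1 : ℚ) : Fin r → ℚ)} := by
    intro v hv
    rw [LinearMap.mem_ker] at hv
    have h1 : ∀ i, v (x i) = v (y i) := by
      intro i
      have := congrFun hv i
      simp only [L, LinearMap.coe_mk, AddHom.coe_mk, Pi.zero_apply] at this
      linarith
    have h2 := hcon v h1
    rw [Submodule.mem_span_singleton]
    have hr : 0 < r := by omega
    refine ⟨v ⟨0, hr⟩, ?_⟩
    ext z
    simp only [Pi.smul_apply, smul_eq_mul, mul_one]
    exact h2 _ _
  have h1 : Module.finrank ℚ (LinearMap.ker L) ≤ 1 :=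
    (Submodule.finrank_mono hker).trans (by
      have := finrank_span_le_card (R := ℚ) ({(fun _ => (1 : ℚ) : Fin r → ℚ)} : Set (Fin r → ℚ))
      simpa using this)
  have h2 := LinearMap.finrank_range_add_finrank_ker L
  have h3 : Module.finrank ℚ (LinearMap.range L) ≤ m := by
    have := Submodule.finrank_le (LinearMap.range L)
    rwa [Module.finrank_fin_fun] at this
  rw [Module.finrank_fin_fun] at h2
  omega

/-- Let r be a prime and m a natural number with m + 1 < r, and let π be a set of primes containing every prime below r but not r itself. Then in the symmetric group of degree r any m transpositions generate a π-subgroup, while O_π of the symmetric group is trivial. (So no bound on the number of conjugates that works for all π exists in the π-radical analogue of the Baer–Suzuki Theorem.) -/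
theorem result (r m : ℕ) (hr : r.Prime)
    (hm : m + 1 < r) (π : Set ℕ) (hπ : ∀ q : ℕ, q.Prime → q < r → q ∈ π) (hrπ : r ∉ π)
    (t : Fin m → Equiv.Perm (Fin r)) (ht : ∀ i, (t i).IsSwap) :
    Cfsg.IsPiSubgroup π (Subgroup.closure (Set.range t)) ∧ Cfsg.piCore π (Equiv.Perm (Fin r)) = ⊥ := by
  classical
  have : Fact r.Prime := ⟨hr⟩
  constructor
  · intro q hq hqdvd
    have hle : q ≤ r := by
      have h1 : Nat.card (Subgroup.closure (Set.range t)) ∣ Nat.card (Perm (Fin r)) :=
        Subgroup.card_subgroup_dvd_card _
      rw [Nat.card_eq_fintype_card (α := Perm (Fin r)), Fintype.card_perm, Fintype.card_fin] at h1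
      exact (hq.dvd_factorial).1 (hqdvd.trans h1)
    rcases lt_or_eq_of_le hle with hlt | heq
    · exact hπ q hq hlt
    · exfalso
      subst heq
      -- an element of order `q`
      obtain ⟨σ, hσ⟩ := exists_prime_orderOf_dvd_card' q hqdvd
      have hσ' : orderOf (σ : Perm (Fin q)) = q := by
        rw [Subgroup.orderOf_coe]; exact hσ
      have hcyc : (σ : Perm (Fin q)).IsCycle := by
        apply Perm.isCycle_of_prime_order'' (by rw [Fintype.card_fin]; exact hq)
        rw [Fintype.card_fin]; exact hσ'
      have hsupp : (σ : Perm (Fin q)).support = Finset.univ := by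
        apply Finset.eq_univ_of_card
        rw [← hcyc.orderOf, hσ', Fintype.card_fin]
      -- the invariant function
      choose x y hxy using ht
      obtain ⟨v, hv, a, b, hab⟩ := exists_nonconstant q m hm x y
      have hH : Subgroup.closure (Set.range t) ≤ preserving v := by
        rw [Subgroup.closure_le]
        rintro _ ⟨i, rfl⟩ z
        rw [(hxy i).2]
        by_cases hz1 : z = x i
        · rw [hz1, swap_apply_left]; exact (hv i).symm
        · by_cases hz2 : z = y i
          · rw [hz2, swap_apply_right]; exact hv i
          · rw [swap_apply_of_ne_of_ne hz1 hz2]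
      have hσv : (σ : Perm (Fin q)) ∈ preserving v := hH σ.2
      have ha : (σ : Perm (Fin q)) a ≠ a := by
        rw [← Perm.mem_support, hsupp]; exact Finset.mem_univ _
      have hb : (σ : Perm (Fin q)) b ≠ b := by
        rw [← Perm.mem_support, hsupp]; exact Finset.mem_univ _
      obtain ⟨k, hk⟩ := hcyc.exists_zpow_eq ha hb
      have := (preserving v).zpow_mem hσv k a
      rw [hk] at this
      exact hab this.symm
  · -- the π-core is trivial
    unfold Cfsg.piCore
    rw [eq_bot_iff]
    apply sSup_le
    rintro N ⟨hN, hNπ⟩
    by_contra hne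
    have hne' : N ≠ ⊥ := fun h => hne (h ▸ le_rfl)
    obtain ⟨g, hg, hg1⟩ := (Subgroup.bot_or_exists_ne_one N).resolve_left hne'
    obtain ⟨a, ha⟩ : ∃ a, g a ≠ a := by
      by_contra h
      push Not at h
      exact hg1 (Perm.ext h)
    -- `N` is transitive
    have htrans : ∀ c : Fin r, ∃ n ∈ N, n a = c := by
      intro c
      by_cases hca : c = a
      · exact ⟨1, N.one_mem, by rw [hca]; rfl⟩
      by_cases hcb : c = g a
      · exact ⟨g, hg, hcb.symm⟩
      · refine ⟨swap (g a) c * g * (swap (g a) c)⁻¹, hN.conj_mem g hg _, ?_⟩
        have h1 : (swap (g a) c)⁻¹ a = a := by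
          rw [swap_inv]
          exact swap_apply_of_ne_of_ne (Ne.symm ha) (Ne.symm hca)
        show swap (g a) c (g ((swap (g a) c)⁻¹ a)) = c
        rw [h1, swap_apply_left]
    -- so `r` divides the order of `N`
    have horb : MulAction.orbit N a = Set.univ := by
      apply Set.eq_univ_of_forall
      intro c
      obtain ⟨n, hn, hnc⟩ := htrans c
      exact ⟨⟨n, hn⟩, hnc⟩
    have h1 := MulAction.card_orbit_mul_card_stabilizer_eq_card_group N a
    have h2 : Nat.card (MulAction.orbit N a) = r := by
      rw [horb, Nat.card_congr (Equiv.Set.univ _), Nat.card_eq_fintype_card, Fintype.card_fin]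
    have h3 : r ∣ Nat.card N := by
      rw [← Nat.card_eq_fintype_card, ← Nat.card_eq_fintype_card, ← Nat.card_eq_fintype_card, h2] at h1
      exact Dvd.intro _ h1
    exact hrπ (hNπ r hr h3)

end Cfsg.Agent.S4325
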