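import Mathlib
import Cfsg.Statements.S4326
import Cfsg.Agent.H2.ConjMap

set_option autoImplicit false
open scoped Pointwise

namespace Cfsg.Agent.S4326

open Cfsg.Agent.H2

section

variable {G : Type*} [Group G] (M : Subgroup G)

/-- automorphisms fixing `M` elementwise -/
def fixer : Subgroup (MulAut G) where
  carrier := {σ | ∀ m ∈ M, σ m = m}
  one_mem' := fun _ _ => rfl
  mul_mem' := by
    intro σ τ hσ hτ m hm
    show σ (τ m) = m
    rw [hτ m hm, hσ m hm]
  inv_mem' := by
    intro σ hσ m hm
    have := hσ m hm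
    calc σ⁻¹ m = σ⁻¹ (σ m) := by rw [this]
      _ = m := by simp

/-- the induced map on cosets -/
def cosetMap (σ : fixer M) : G ⧸ M → G ⧸ M :=
  Quotient.map' (fun g => (σ : MulAut G) g) (by
    intro a b hab
    rw [QuotientGroup.leftRel_apply] at hab ⊢
    have := σ.2 _ hab
    rw [map_mul, map_inv] at this
    rw [this]
    exact hab)

theorem cosetMap_mk (σ : fixer M) (g : G) :
    cosetMap M σ (QuotientGroup.mk g) = QuotientGroup.mk ((σ : MulAut G) g) := rfl

instance cosetAction : MulAction (fixer M) (G ⧸ M) where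
  smul σ q := cosetMap M σ q
  one_smul := by
    intro q
    induction q using QuotientGroup.induction_on with | _ g => rfl
  mul_smul := by
    intro σ τ q
    induction q using QuotientGroup.induction_on with | _ g => rfl

theorem smul_mk (σ : fixer M) (g : G) :
    σ • (QuotientGroup.mk g : G ⧸ M) = QuotientGroup.mk ((σ : MulAut G) g) := rfl

end

/-- Let G be a finite group, p a prime, x an automorphism of G of p-power order and M the subgroup of fixed points of x. Suppose that p divides the index of M and that either M is self-normalizing or M has trivial center. Then some conjugate of M is mapped onto itself by x but is not fixed elementwise by x. -/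
theorem result {G : Type*} [Group G] [Finite G]
    (p : ℕ) [Fact p.Prime] (x : MulAut G) (hx : ∃ k : ℕ, orderOf x = p ^ k) (M : Subgroup G)
    (hM : ∀ g : G, g ∈ M ↔ x g = g) (hp : p ∣ M.index)
    (hself : Subgroup.normalizer (M : Set G) = M ∨ Subgroup.center M = ⊥) :
    ∃ g : G, (∀ y ∈ MulAut.conj g • M, x y ∈ MulAut.conj g • M) ∧ ∃ y ∈ MulAut.conj g • M, x y ≠ y := by
  have hxF : x ∈ fixer M := fun m hm => (hM m).1 hm
  -- the cyclic group generated by x, inside the fixer
  let Z : Subgroup (fixer M) := Subgroup.zpowers ⟨x, hxF⟩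
  have hZp : IsPGroup p Z := by
    obtain ⟨k, hk⟩ := hx
    apply IsPGroup.of_card (n := k)
    rw [Nat.card_zpowers]
    rw [← hk]
    exact (Subgroup.orderOf_mk x hxF)
  have hfix : (QuotientGroup.mk (1 : G) : G ⧸ M) ∈ MulAction.fixedPoints Z (G ⧸ M) := by
    intro σ
    show (σ : fixer M) • (QuotientGroup.mk (1 : G) : G ⧸ M) = _
    rw [smul_mk, map_one]
  have hcard : p ∣ Nat.card (G ⧸ M) := hp
  obtain ⟨b, hb, hne⟩ := hZp.exists_fixed_point_of_prime_dvd_card_of_fixed_point (G ⧸ M) hcard hfix
  induction b using QuotientGroup.induction_on with | _ g => ?_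
  have hgM : g ∉ M := by
    intro hg
    apply hne
    rw [eq_comm, QuotientGroup.eq]
    simpa using hg
  have hxg : g⁻¹ * x g ∈ M := by
    have := hb ⟨⟨x, hxF⟩, Subgroup.mem_zpowers _⟩
    have h2 : (QuotientGroup.mk (x g) : G ⧸ M) = QuotientGroup.mk g := this
    rw [eq_comm, QuotientGroup.eq] at h2
    exact h2
  have hconj : ∀ m ∈ M, x (g * m * g⁻¹) = g * ((g⁻¹ * x g) * m * (g⁻¹ * x g)⁻¹) * g⁻¹ := by
    intro m hm
    rw [map_mul, map_mul, map_inv, (hM m).1 hm]
    group
  refine ⟨g, ?_, ?_⟩
  · intro y hy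
    obtain ⟨m, hm, rfl⟩ := (Subgroup.mem_smul_pointwise_iff_exists _ _ _).1 hy
    rw [MulAut.smul_def, MulAut.conj_apply, hconj m hm]
    exact (Subgroup.mem_smul_pointwise_iff_exists _ _ _).2
      ⟨_, M.mul_mem (M.mul_mem hxg hm) (M.inv_mem hxg), rfl⟩
  · by_contra hcon
    push Not at hcon
    have hall : ∀ m ∈ M, x (g * m * g⁻¹) = g * m * g⁻¹ := by
      intro m hm
      apply hcon
      exact (Subgroup.mem_smul_pointwise_iff_exists _ _ _).2 ⟨m, hm, rfl⟩
    rcases hself with h | h
    · -- g normalizes M
      have hle : M.map (MulAut.conj g).toMonoidHom ≤ M := by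
        rintro _ ⟨m, hm, rfl⟩
        exact (hM _).2 (hall m hm)
      have := (map_conj_eq_self_iff_mem_normalizer M g).1 (map_conj_eq_of_le M g hle)
      rw [h] at this
      exact hgM this
    · -- g⁻¹ x(g) is central in M
      have hcen : (⟨g⁻¹ * x g, hxg⟩ : M) ∈ Subgroup.center M := by
        rw [Subgroup.mem_center_iff]
        intro m
        apply Subtype.ext
        show (m : G) * (g⁻¹ * x g) = (g⁻¹ * x g) * m
        have h1 := hall m m.2
        rw [hconj m m.2] at h1
        have h2 : (g⁻¹ * x g) * m * (g⁻¹ * x g)⁻¹ = m := by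
          have := congrArg (fun z => g⁻¹ * z * g) h1
          simpa [mul_assoc] using this
        calc (m : G) * (g⁻¹ * x g) = ((g⁻¹ * x g) * m * (g⁻¹ * x g)⁻¹) * (g⁻¹ * x g) := by rw [h2]
          _ = _ := by group
      rw [h, Subgroup.mem_bot] at hcen
      have h1 : g⁻¹ * x g = 1 := congrArg Subtype.val hcen
      have h2 : x g = g := by
        calc x g = g * (g⁻¹ * x g) := by group
          _ = g := by rw [h1, mul_one]
      exact hgM ((hM g).2 h2)

end Cfsg.Agent.S4326
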