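import Mathlib
import Cfsg.Statements.S4331
import Cfsg.Agent.Lib.Helper8.F9
import Cfsg.Agent.Lib.Lead.Subnormal2
import Cfsg.Agent.H9.Cores

set_option autoImplicit false
open Cfsg
open Pointwise
open scoped commutatorElement

namespace Cfsg.Agent.S4331

open Cfsg.Agent.Lib.Helper8

/-- a generator of the multiplicative group of `F9` -/
def om : F9 := ⟨1, 1⟩

/-- powers of the generator -/
def pw (k : ZMod 8) : F9 := om ^ k.val

/-- powers of the Frobenius map -/
def fr (i : ZMod 2) (x : F9) : F9 := if i = 0 then x else x ^ 3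

/-- the action of Frobenius on exponents -/
def tw (i : ZMod 2) (k : ZMod 8) : ZMod 8 := if i = 0 then k else 3 * k

/-- the group of semilinear affine maps `x ↦ ω^k σ^i(x) + b` of the field of order nine -/
structure AG : Type where
  k : ZMod 8
  i : ZMod 2
  b : F9
  deriving DecidableEq

namespace AG

/-- the equivalence with triples -/
def equivProd : AG ≃ ZMod 8 × ZMod 2 × F9 where
  toFun x := (x.k, x.i, x.b)
  invFun p := ⟨p.1, p.2.1, p.2.2⟩
  left_inv := fun ⟨_, _, _⟩ => rfl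
  right_inv := fun ⟨_, _, _⟩ => rfl

instance instFintype : Fintype AG := Fintype.ofEquiv _ equivProd.symm

instance instMul : Mul AG :=
  ⟨fun x y => ⟨x.k + tw x.i y.k, x.i + y.i, pw x.k * fr x.i y.b + x.b⟩⟩
instance instOne : One AG := ⟨⟨0, 0, 0⟩⟩
instance instInv : Inv AG :=
  ⟨fun x => ⟨tw x.i (-x.k), x.i, fr x.i (-(x.b * pw (-x.k)))⟩⟩

theorem mul_def (x y : AG) :
    x * y = ⟨x.k + tw x.i y.k, x.i + y.i, pw x.k * fr x.i y.b + x.b⟩ := rfl

theorem pw_add : ∀ k k' : ZMod 8, pw (k + k') = pw k * pw k' := by decide +kernel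
theorem fr_pw : ∀ (i : ZMod 2) (k : ZMod 8), fr i (pw k) = pw (tw i k) := by decide +kernel
theorem fr_add : ∀ (i : ZMod 2) (x y : F9), fr i (x + y) = fr i x + fr i y := by decide +kernel
theorem fr_mul : ∀ (i : ZMod 2) (x y : F9), fr i (x * y) = fr i x * fr i y := by decide +kernel
theorem fr_fr : ∀ (i j : ZMod 2) (x : F9), fr i (fr j x) = fr (i + j) x := by decide +kernel
theorem tw_assoc : ∀ (i j : ZMod 2) (a b c : ZMod 8),
    (a + tw i b) + tw (i + j) c = a + tw i (b + tw j c) := by decide +kernel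

theorem mul_assoc' (x y z : AG) : x * y * z = x * (y * z) := by
  obtain ⟨k, i, b⟩ := x
  obtain ⟨k', i', b'⟩ := y
  obtain ⟨k'', i'', b''⟩ := z
  simp only [mul_def]
  rw [AG.mk.injEq]
  refine ⟨tw_assoc _ _ _ _ _, add_assoc _ _ _, ?_⟩
  rw [fr_add, fr_mul, fr_pw, fr_fr, pw_add]
  ring

theorem one_mul' : ∀ x : AG, 1 * x = x := by decide +kernel

theorem inv_mul_cancel' : ∀ x : AG, x⁻¹ * x = 1 := by decide +kernel

instance instGroup : Group AG := Group.ofLeftAxioms mul_assoc' one_mul' inv_mul_cancel'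

end AG

open AG

/-- the Frobenius map, an involution -/
def t : AG := ⟨0, 1, 0⟩

/-- translation by `i` -/
def tau : AG := ⟨0, 0, F9.I⟩

/-- the subgroup of order two -/
def A : Subgroup AG := Subgroup.zpowers t

/-- the linear part of the group, a complement to the translations (of order 16) -/
def Hc : Subgroup AG where
  carrier := {g | g.b = 0}
  one_mem' := rfl
  mul_mem' := by
    intro x y hx hy
    have key : ∀ x y : AG, x.b = 0 → y.b = 0 → (x * y).b = 0 := by decide +kernel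
    exact key x y hx hy
  inv_mem' := by
    intro x hx
    have key : ∀ x : AG, x.b = 0 → (x⁻¹).b = 0 := by decide +kernel
    exact key x hx

theorem mem_Hc (g : AG) : g ∈ Hc ↔ g.b = 0 := Iff.rfl

theorem pow16 : ∀ g : AG, g.b = 0 → g ^ 16 = 1 := by decide +kernel

theorem Hc_pgroup : IsPGroup 2 Hc := by
  intro g
  refine ⟨4, ?_⟩
  apply Subtype.ext
  have := pow16 g.1 g.2
  simpa using this

instance fact_two : Fact (Nat.Prime 2) := ⟨Nat.prime_two⟩

theorem sub_of_Hc {g : AG} (hg : g.b = 0) :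
    (A.subgroupOf (A ⊔ Subgroup.zpowers g)).IsSubnormal := by
  have hA : A ≤ Hc := by
    unfold A
    rw [Subgroup.zpowers_le]
    rfl
  have hg' : Subgroup.zpowers g ≤ Hc := by
    rw [Subgroup.zpowers_le]
    exact hg
  have : Group.IsNilpotent Hc := Hc_pgroup.isNilpotent
  have h1 : (A.subgroupOf Hc).IsSubnormal :=
    Cfsg.Agent.Lib.Lead.Subnormal.isSubnormal_of_isNilpotent _
  exact Cfsg.Agent.Lib.Lead.Subnormal.isSubnormal_of_le h1 (sup_le hA hg')

theorem sub_of_comm {g : AG} (hg : t * g = g * t) :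
    (A.subgroupOf (A ⊔ Subgroup.zpowers g)).IsSubnormal := by
  set K := A ⊔ Subgroup.zpowers g with hK
  have hKc : K = Subgroup.closure ({t, g} : Set AG) := by
    rw [hK]
    unfold A
    rw [Subgroup.zpowers_eq_closure, Subgroup.zpowers_eq_closure, ← Subgroup.closure_union]
    rfl
  have hKcomm : IsMulCommutative K := by
    rw [hKc]
    apply Subgroup.isMulCommutative_closure
    intro x hx y hy
    rcases hx with rfl | rfl <;> rcases hy with rfl | rfl <;>
      first | rfl | exact hg | exact hg.symm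
  have hn : (A.subgroupOf K).Normal := by
    constructor
    intro n hn k
    rw [Subgroup.mem_subgroupOf] at hn ⊢
    have h1 : (k : AG) * (n : AG) = n * k := setLike_mul_comm k.2 n.2
    show (k : AG) * (n : AG) * (k : AG)⁻¹ ∈ A
    rw [h1, mul_inv_cancel_right]
    exact hn
  exact hn.isSubnormal

theorem classes : ∀ c : AG, ∃ k : AG,
    (t * (k * c * k⁻¹) = (k * c * k⁻¹) * t ∨ (k * c * k⁻¹).b = 0) := by decide +kernel

theorem main1 (c : AG) : ∃ g : AG, IsConj c g ∧
    (A.subgroupOf (A ⊔ Subgroup.zpowers g)).IsSubnormal := by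
  obtain ⟨k, hk⟩ := classes c
  refine ⟨k * c * k⁻¹, isConj_iff.2 ⟨k, rfl⟩, ?_⟩
  rcases hk with h | h
  · exact sub_of_comm h
  · exact sub_of_Hc h

theorem card_A : Nat.card A = 2 := by
  unfold A
  rw [Nat.card_zpowers]
  exact orderOf_eq_prime (by decide +kernel) (by decide +kernel)

/-- the commutator of `t` and the translation `tau`, of order three -/
theorem u_facts : (t * (tau * t⁻¹ * tau⁻¹)) ^ 3 = 1 ∧ t * (tau * t⁻¹ * tau⁻¹) ≠ 1 := by
  decide +kernel

theorem not_le : ¬ A ≤ Cfsg.pCore 2 AG := by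
  intro hle
  have hn := Cfsg.Agent.H9.pCore_normal 2 AG
  have hp := Cfsg.Agent.H9.pCore_isPGroup 2 AG
  have ht : t ∈ Cfsg.pCore 2 AG := hle (Subgroup.mem_zpowers t)
  have ht' : tau * t⁻¹ * tau⁻¹ ∈ Cfsg.pCore 2 AG := hn.conj_mem _ (inv_mem ht) tau
  have hu : t * (tau * t⁻¹ * tau⁻¹) ∈ Cfsg.pCore 2 AG := mul_mem ht ht'
  obtain ⟨n, hn2⟩ := hp ⟨_, hu⟩
  have hn' : (t * (tau * t⁻¹ * tau⁻¹)) ^ 2 ^ n = 1 := congrArg Subtype.val hn2
  have ho : orderOf (t * (tau * t⁻¹ * tau⁻¹)) ∣ Nat.gcd (2 ^ n) 3 :=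
    Nat.dvd_gcd (orderOf_dvd_of_pow_eq_one hn') (orderOf_dvd_of_pow_eq_one u_facts.1)
  have hg : Nat.gcd (2 ^ n) 3 = 1 := by
    apply Nat.Coprime.pow_left
    norm_num
  rw [hg, Nat.dvd_one, orderOf_eq_one_iff] at ho
  exact u_facts.2 ho

/-- the kernel of this map contains the derived group -/
def pi2 : AG →* Multiplicative (ZMod 2 × ZMod 2) where
  toFun g := Multiplicative.ofAdd (g.i, (g.k.val : ZMod 2))
  map_one' := rfl
  map_mul' := by decide +kernel

theorem comm1 : ∀ g h : AG, ⁅g, h⁆ ∈ pi2.ker := by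
  intro g h
  rw [MonoidHom.mem_ker]
  revert g h
  decide +kernel

/-- translations -/
def N2 : Subgroup AG := Subgroup.centralizer {(⟨0, 0, 1⟩ : AG), tau}

theorem mem_N2 (g : AG) : g ∈ N2 ↔ (⟨0, 0, 1⟩ : AG) * g = g * ⟨0, 0, 1⟩ ∧ tau * g = g * tau := by
  unfold N2
  rw [Subgroup.mem_centralizer_iff]
  simp only [Set.mem_insert_iff, Set.mem_singleton_iff, forall_eq_or_imp, forall_eq]

theorem comm2 : ∀ g h : AG, pi2 g = 1 → pi2 h = 1 →
    (⟨0, 0, 1⟩ : AG) * ⁅g, h⁆ = ⁅g, h⁆ * ⟨0, 0, 1⟩ ∧ tau * ⁅g, h⁆ = ⁅g, h⁆ * tau := by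
  decide +kernel

theorem comm3 : ∀ g h : AG, ((⟨0, 0, 1⟩ : AG) * g = g * ⟨0, 0, 1⟩ ∧ tau * g = g * tau) →
    ((⟨0, 0, 1⟩ : AG) * h = h * ⟨0, 0, 1⟩ ∧ tau * h = h * tau) → ⁅g, h⁆ = 1 := by
  decide +kernel

theorem solvable : Group.IsSolvable AG := by
  have h1 : derivedSeries AG 1 ≤ pi2.ker := by
    rw [derivedSeries_succ, derivedSeries_zero, Subgroup.commutator_le]
    intro g _ h _
    exact comm1 g h
  have h2 : derivedSeries AG 2 ≤ N2 := by
    rw [derivedSeries_succ]
    refine (Subgroup.commutator_mono h1 h1).trans ?_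
    rw [Subgroup.commutator_le]
    intro g hg h hh
    rw [mem_N2]
    exact comm2 g h (MonoidHom.mem_ker.1 hg) (MonoidHom.mem_ker.1 hh)
  have h3 : derivedSeries AG 3 ≤ ⊥ := by
    rw [derivedSeries_succ]
    refine (Subgroup.commutator_mono h2 h2).trans ?_
    rw [Subgroup.commutator_le]
    intro g hg h hh
    rw [Subgroup.mem_bot]
    exact comm3 g h ((mem_N2 g).1 hg) ((mem_N2 h).1 hh)
  exact ⟨⟨3, le_bot_iff.1 h3⟩⟩

/-- There is a finite solvable group G with a subgroup A of order 2 such that every conjugacy class of G contains an element g for which A is subnormal in the subgroup generated by A and g, and yet A is not contained in O_2(G). (So the corresponding criteria for odd primes fail at the prime 2, even for solvable groups.) -/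
theorem result :
    ∃ (G : Type) (_ : Group G) (_ : Finite G) (A : Subgroup G), Group.IsSolvable G ∧ Nat.card A = 2 ∧
      (∀ c : G, ∃ g : G, IsConj c g ∧ (A.subgroupOf (A ⊔ Subgroup.zpowers g)).IsSubnormal) ∧
      ¬ A ≤ Cfsg.pCore 2 G :=
  ⟨AG, AG.instGroup, Finite.of_fintype AG, A, solvable, card_A, main1, not_le⟩

end Cfsg.Agent.S4331
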