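import Mathlib
import Cfsg.Statements.S4332

set_option autoImplicit false
open Cfsg
open Pointwise

namespace Cfsg.Agent.S4332

open Equiv

/-- a point with its two neighbours in the cycle graph of `c` -/
def N (c : Perm (Fin 8)) (x : Fin 8) : Finset (Fin 8) := {x, c x, c⁻¹ x}

theorem N_card_le (c : Perm (Fin 8)) (x : Fin 8) : (N c x).card ≤ 3 := Finset.card_le_three

theorem N_subset (c : Perm (Fin 8)) {x : Fin 8} (hx : x ∈ c.support) : N c x ⊆ c.support := by
  intro y hy
  unfold N at hy
  simp only [Finset.mem_insert, Finset.mem_singleton] at hy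
  rcases hy with rfl | rfl | rfl
  · exact hx
  · exact Perm.apply_mem_support.2 hx
  · rw [← Perm.support_inv] 
    exact Perm.apply_mem_support.2 (by rwa [Perm.support_inv])

theorem step (c : Perm (Fin 8)) {x y : Fin 8} (hx : x ∈ c.support) (hy : y ∈ c.support)
    (hyx : y ∉ N c x) :
    (∃ t : Finset (Fin 8), t.card = 3 ∧ Disjoint (t.image c) t) ∨ c.support ⊆ N c x ∪ N c y := by
  by_cases h : (c.support \ (N c x ∪ N c y)).Nonempty
  · left
    obtain ⟨z, hz⟩ := h
    rw [Finset.mem_sdiff, Finset.mem_union, not_or] at hz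
    obtain ⟨hzM, hzx, hzy⟩ := hz
    unfold N at hyx hzx hzy
    simp only [Finset.mem_insert, Finset.mem_singleton, not_or] at hyx hzx hzy
    have hcx : c x ≠ x := Perm.mem_support.1 hx
    have hcy : c y ≠ y := Perm.mem_support.1 hy
    have hcz : c z ≠ z := Perm.mem_support.1 hzM
    have e1 : ∀ u v : Fin 8, c u = v → u = c⁻¹ v := fun u v h => Perm.eq_inv_iff_eq.2 h
    refine ⟨{x, y, z}, ?_, ?_⟩
    · rw [Finset.card_eq_three]
      exact ⟨x, y, z, fun h => hyx.1 h.symm, fun h => hzx.1 h.symm, fun h => hzy.1 h.symm, rfl⟩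
    · rw [Finset.disjoint_left]
      intro v hv hv'
      rw [Finset.mem_image] at hv
      obtain ⟨u, hu, rfl⟩ := hv
      simp only [Finset.mem_insert, Finset.mem_singleton] at hu hv'
      rcases hu with rfl | rfl | rfl <;> rcases hv' with h | h | h
      · exact hcx h
      · exact hyx.2.1 h.symm
      · exact hzx.2.1 h.symm
      · exact hyx.2.2 (e1 _ _ h)
      · exact hcy h
      · exact hzy.2.1 h.symm
      · exact hzx.2.2 (e1 _ _ h)
      · exact hzy.2.2 (e1 _ _ h)
      · exact hcz h
  · right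
    rw [Finset.not_nonempty_iff_eq_empty, Finset.sdiff_eq_empty_iff_subset] at h
    exact h

theorem disj_of_sub (c : Perm (Fin 8)) {x y : Fin 8} (hM : 6 ≤ c.support.card)
    (hsub : c.support ⊆ N c x ∪ N c y) : Disjoint (N c x) (N c y) ∧ (N c x).card = 3 := by
  have h1 := Finset.card_le_card hsub
  have h2 := Finset.card_union_le (N c x) (N c y)
  have h3 := N_card_le c x
  have h4 := N_card_le c y
  constructor
  · rw [← Finset.card_union_eq_card_add_card]
    omega
  · omega

theorem lemmaA (c : Perm (Fin 8)) :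
    ∃ t : Finset (Fin 8), t.card = 3 ∧ (t.image c = t ∨ Disjoint (t.image c) t) := by
  by_cases hf : 3 ≤ (Finset.univ \ c.support).card
  · obtain ⟨t, hts, htc⟩ := Finset.exists_subset_card_eq hf
    have hfix : ∀ a ∈ t, c a = a := by
      intro a ha
      have := hts ha
      rw [Finset.mem_sdiff, Perm.mem_support, not_not] at this
      exact this.2
    refine ⟨t, htc, Or.inl ?_⟩
    ext a
    rw [Finset.mem_image]
    constructor
    · rintro ⟨b, hb, rfl⟩
      rw [hfix b hb]
      exact hb
    · intro ha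
      exact ⟨a, ha, hfix a ha⟩
  · have hM : 6 ≤ c.support.card := by
      have := Finset.card_sdiff_add_card_eq_card (Finset.subset_univ c.support)
      rw [Finset.card_univ, Fintype.card_fin] at this
      omega
    have hne : c.support.Nonempty := Finset.card_pos.1 (by omega)
    obtain ⟨x, hx⟩ := hne
    have hne2 : (c.support \ N c x).Nonempty := by
      rw [← Finset.card_pos]
      have := Finset.le_card_sdiff (N c x) c.support
      have := N_card_le c x
      omega
    obtain ⟨y, hy⟩ := hne2
    rw [Finset.mem_sdiff] at hy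
    rcases step c hx hy.1 hy.2 with ⟨t, h1, h2⟩ | hsub
    · exact ⟨t, h1, Or.inr h2⟩
    · obtain ⟨hdisj, hc3⟩ := disj_of_sub c hM hsub
      have hcx : c x ≠ x := Perm.mem_support.1 hx
      have hccx : c (c x) ∈ c.support := Perm.apply_mem_support.2 (Perm.apply_mem_support.2 hx)
      have hmem := hsub hccx
      rw [Finset.mem_union] at hmem
      rcases hmem with hmem | hmem
      · unfold N at hmem
        simp only [Finset.mem_insert, Finset.mem_singleton] at hmem
        rcases hmem with h | h | h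
        · exfalso
          have h5 : c x = c⁻¹ x := Perm.eq_inv_iff_eq.2 h
          have : (N c x).card ≤ 2 := by
            unfold N
            rw [← h5]
            simp only [Finset.mem_singleton, Finset.insert_eq_of_mem]
            exact Finset.card_le_two
          omega
        · exact absurd (c.injective h) hcx
        · refine ⟨N c x, hc3, Or.inl ?_⟩
          unfold N
          have h6 : c (c⁻¹ x) = x := by simp
          rw [Finset.image_insert, Finset.image_insert, Finset.image_singleton, h, h6]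
          ext a
          simp only [Finset.mem_insert, Finset.mem_singleton]
          tauto
      · have hy' : c (c x) ∉ N c x := Finset.disjoint_right.1 hdisj hmem
        rcases step c hx hccx hy' with ⟨t, h1, h2⟩ | hsub'
        · exact ⟨t, h1, Or.inr h2⟩
        · exfalso
          obtain ⟨hdisj', -⟩ := disj_of_sub c hM hsub'
          have m1 : c x ∈ N c x := by unfold N; simp
          have m2 : c x ∈ N c (c (c x)) := by unfold N; simp
          exact Finset.disjoint_left.1 hdisj' m1 m2

theorem conj_smul_zpowers (g σ : Perm (Fin 8)) :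
    MulAut.conj g • Subgroup.zpowers σ = Subgroup.zpowers (g * σ * g⁻¹) := by
  rw [Subgroup.pointwise_smul_def]
  exact MonoidHom.map_zpowers (MulAut.conj g).toMonoidHom σ

/-- permutations supported in `s` -/
def Hs (s : Finset (Fin 8)) : Subgroup (Perm (Fin 8)) :=
  (Perm.ofSubtype : Perm {x // x ∈ s} →* Perm (Fin 8)).range

theorem mem_Hs {s : Finset (Fin 8)} {f : Perm (Fin 8)} (h : f.support ⊆ s) : f ∈ Hs s := by
  unfold Hs
  rw [Perm.mem_range_ofSubtype_iff]
  intro x hx
  exact h hx

theorem card_Hs {s : Finset (Fin 8)} (hs : s.card = 3) : Nat.card (Hs s) = 6 := by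
  unfold Hs
  rw [← Nat.card_congr (MonoidHom.ofInjective Perm.ofSubtype_injective).toEquiv,
    Nat.card_eq_fintype_card, Fintype.card_perm, Fintype.card_coe, hs]
  rfl

theorem zpowers_le_Hs {s : Finset (Fin 8)} {f : Perm (Fin 8)} (h : f.support ⊆ s) :
    Subgroup.zpowers f ≤ Hs s := Subgroup.zpowers_le.2 (mem_Hs h)

theorem main1 (σ : Perm (Fin 8)) (hσ : σ.IsThreeCycle) (c : Perm (Fin 8)) :
    ∃ g : Perm (Fin 8), IsConj c g ∧
      ((Subgroup.zpowers σ).subgroupOf
        (Subgroup.zpowers σ ⊔ MulAut.conj g • Subgroup.zpowers σ)).IsSubnormal := by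
  classical
  obtain ⟨t, ht3, ht⟩ := lemmaA c
  set s := σ.support with hs
  have hs3 : s.card = 3 := hσ.card_support
  have hcard : Fintype.card {x // x ∈ t} = Fintype.card {x // x ∈ s} := by
    rw [Fintype.card_coe, Fintype.card_coe, ht3, hs3]
  let e : {x // x ∈ t} ≃ {x // x ∈ s} := Fintype.equivOfCardEq hcard
  let τ : Perm (Fin 8) := e.extendSubtype
  have hτ : ∀ x, τ x ∈ s ↔ x ∈ t := fun x =>
    ⟨fun h => by_contra fun hx => e.extendSubtype_not_mem x hx h, fun h => e.extendSubtype_mem x h⟩
  have hτ' : ∀ y, τ⁻¹ y ∈ t ↔ y ∈ s := fun y => by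
    rw [← hτ]
    simp
  refine ⟨τ * c * τ⁻¹, isConj_iff.2 ⟨τ, rfl⟩, ?_⟩
  rw [conj_smul_zpowers]
  set g := τ * c * τ⁻¹ with hg
  set σ' := g * σ * g⁻¹ with hσ'
  have hsupp' : σ'.support = s.map g.toEmbedding := Perm.support_conj
  have hgy : ∀ y, g y = τ (c (τ⁻¹ y)) := fun y => rfl
  have hA3 : Nat.card (Subgroup.zpowers σ) = 3 := by rw [Nat.card_zpowers, hσ.orderOf]
  rcases ht with hinv | hdisj
  · have hgs : ∀ y, y ∈ s → g y ∈ s := by
      intro y hy
      rw [hgy, hτ, ← hinv]
      exact Finset.mem_image_of_mem c ((hτ' y).2 hy)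
    have hsub' : σ'.support ⊆ s := by
      rw [hsupp']
      intro y hy
      obtain ⟨x, hx, rfl⟩ := Finset.mem_map.1 hy
      exact hgs x hx
    set K := Subgroup.zpowers σ ⊔ Subgroup.zpowers σ' with hK
    have hKH : K ≤ Hs s := sup_le (zpowers_le_Hs (le_refl _)) (zpowers_le_Hs hsub')
    have hAK : Subgroup.zpowers σ ≤ K := le_sup_left
    have h6 : Nat.card K ∣ 6 := (card_Hs hs3) ▸ Subgroup.card_dvd_of_le hKH
    have hcA : Nat.card ((Subgroup.zpowers σ).subgroupOf K) = 3 := by
      rw [Nat.card_congr (Subgroup.subgroupOfEquivOfLe hAK).toEquiv, hA3]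
    have hidx := Subgroup.card_mul_index ((Subgroup.zpowers σ).subgroupOf K)
    rw [hcA] at hidx
    have hi : ((Subgroup.zpowers σ).subgroupOf K).index = 1 ∨
        ((Subgroup.zpowers σ).subgroupOf K).index = 2 := by
      have h2 : ((Subgroup.zpowers σ).subgroupOf K).index ∣ 2 := by
        have : 3 * ((Subgroup.zpowers σ).subgroupOf K).index ∣ 3 * 2 := hidx ▸ h6
        exact (Nat.mul_dvd_mul_iff_left (by norm_num)).1 this
      exact (Nat.dvd_prime Nat.prime_two).1 h2
    rcases hi with hi | hi
    · rw [Subgroup.index_eq_one] at hi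
      rw [hi]
      exact Subgroup.IsSubnormal.top
    · exact (Subgroup.normal_of_index_eq_two hi).isSubnormal
  · have hd : Disjoint σ.support σ'.support := by
      rw [hsupp', Finset.disjoint_right]
      intro y hy
      obtain ⟨x, hx, rfl⟩ := Finset.mem_map.1 hy
      show ¬ g x ∈ s
      rw [hgy, hτ]
      have h1 : c (τ⁻¹ x) ∈ t.image c := Finset.mem_image_of_mem c ((hτ' x).2 hx)
      exact Finset.disjoint_left.1 hdisj h1
    have hcomm : σ * σ' = σ' * σ := (Perm.disjoint_iff_disjoint_support.2 hd).commute.eq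
    set K := Subgroup.zpowers σ ⊔ Subgroup.zpowers σ' with hK
    have hKc : K = Subgroup.closure ({σ, σ'} : Set (Perm (Fin 8))) := by
      rw [hK, Subgroup.zpowers_eq_closure, Subgroup.zpowers_eq_closure, ← Subgroup.closure_union]
      rfl
    have hKcomm : IsMulCommutative K := by
      rw [hKc]
      apply Subgroup.isMulCommutative_closure
      intro x hx y hy
      rcases hx with rfl | rfl <;> rcases hy with rfl | rfl <;>
        first | rfl | exact hcomm | exact hcomm.symm
    have hn : ((Subgroup.zpowers σ).subgroupOf K).Normal := by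
      constructor
      intro n hn k
      rw [Subgroup.mem_subgroupOf] at hn ⊢
      have h1 : (k : Perm (Fin 8)) * (n : Perm (Fin 8)) = n * k := setLike_mul_comm k.2 n.2
      show (k : Perm (Fin 8)) * (n : Perm (Fin 8)) * (k : Perm (Fin 8))⁻¹ ∈ Subgroup.zpowers σ
      rw [h1, mul_inv_cancel_right]
      exact hn
    exact hn.isSubnormal

theorem pcore_bot : Cfsg.pCore 3 (Perm (Fin 8)) = ⊥ := by
  unfold Cfsg.pCore
  rw [sSup_eq_bot]
  rintro N ⟨hN, hp⟩
  by_contra hne
  have hnt : Nontrivial N := (Subgroup.nontrivial_iff_ne_bot N).2 hne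
  have hA := Equiv.Perm.alternatingGroup_le_of_normal (α := Fin 8) (by simp) hnt
  have hmem : (swap (0 : Fin 8) 1 * swap 2 3) ∈ alternatingGroup (Fin 8) := by
    rw [Perm.mem_alternatingGroup]
    decide
  obtain ⟨k, hk⟩ := hp ⟨_, hA hmem⟩
  have hk' : (swap (0 : Fin 8) 1 * swap 2 3) ^ 3 ^ k = 1 := congrArg Subtype.val hk
  have h2 : (swap (0 : Fin 8) 1 * swap 2 3) ^ 2 = 1 := by decide
  have hne1 : (swap (0 : Fin 8) 1 * swap 2 3) ≠ 1 := by decide
  have ho : orderOf (swap (0 : Fin 8) 1 * swap 2 3) ∣ Nat.gcd (3 ^ k) 2 :=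
    Nat.dvd_gcd (orderOf_dvd_of_pow_eq_one hk') (orderOf_dvd_of_pow_eq_one h2)
  have hg : Nat.gcd (3 ^ k) 2 = 1 := by
    apply Nat.Coprime.pow_left
    norm_num
  rw [hg, Nat.dvd_one, orderOf_eq_one_iff] at ho
  exact hne1 ho

/-- In the symmetric group of degree 8, let A be the subgroup generated by a 3-cycle. Then every conjugacy class contains an element g for which A is subnormal in the subgroup generated by A and its conjugate by g, although O_3 of the symmetric group of degree 8 is trivial. -/
theorem result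
    (σ : Equiv.Perm (Fin 8)) (hσ : σ.IsThreeCycle) :
    (∀ c : Equiv.Perm (Fin 8), ∃ g : Equiv.Perm (Fin 8), IsConj c g ∧
      ((Subgroup.zpowers σ).subgroupOf (Subgroup.zpowers σ ⊔ MulAut.conj g • Subgroup.zpowers σ)).IsSubnormal) ∧
    Cfsg.pCore 3 (Equiv.Perm (Fin 8)) = ⊥ :=
  ⟨fun c => main1 σ hσ c, pcore_bot⟩

end Cfsg.Agent.S4332
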