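import Mathlib
import Cfsg.Statements.S4334
import Cfsg.Agent.S0071
import Cfsg.Agent.H1.WielandtHall

set_option autoImplicit false
open Cfsg

namespace Cfsg.Agent.S4334


section Part0

open scoped Pointwise

variable {G : Type*} [Group G]

theorem mem_conj_smul {g x : G} {T : Subgroup G} :
    x ∈ MulAut.conj g • T ↔ g⁻¹ * x * g ∈ T := by
  rw [Subgroup.mem_pointwise_smul_iff_inv_smul_mem]
  simp [MulAut.smul_def, MulAut.conj_inv_apply]

theorem mem_conj_smul_of_mem {g x : G} {T : Subgroup G} (hx : x ∈ T) :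
    g * x * g⁻¹ ∈ MulAut.conj g • T := by
  rw [mem_conj_smul]
  have : g⁻¹ * (g * x * g⁻¹) * g = x := by group
  rw [this]
  exact hx

theorem conj_smul_eq_map (g : G) (T : Subgroup G) :
    MulAut.conj g • T = T.map (MulAut.conj g).toMonoidHom := rfl

/-- two elementwise commuting subgroups: the order of the join divides the product -/
theorem card_sup_dvd [Finite G] (A B : Subgroup G) (hcomm : ∀ a ∈ A, ∀ b ∈ B, a * b = b * a) :
    Nat.card ↥(A ⊔ B) ∣ Nat.card A * Nat.card B := by
  have hc : ∀ (a : A) (b : B), Commute (A.subtype a) (B.subtype b) :=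
    fun a b => hcomm a a.2 b b.2
  have h := Subgroup.card_range_dvd (A.subtype.noncommCoprod B.subtype hc)
  rw [MonoidHom.noncommCoprod_range, Subgroup.range_subtype, Subgroup.range_subtype,
    Nat.card_prod] at h
  exact h

theorem card_sup_eq [Finite G] (A B : Subgroup G) (hcomm : ∀ a ∈ A, ∀ b ∈ B, a * b = b * a)
    (hcop : (Nat.card A).Coprime (Nat.card B)) :
    Nat.card ↥(A ⊔ B) = Nat.card A * Nat.card B := by
  apply Nat.dvd_antisymm (card_sup_dvd A B hcomm)
  exact hcop.mul_dvd_of_dvd_of_dvd (Subgroup.card_dvd_of_le le_sup_left)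
    (Subgroup.card_dvd_of_le le_sup_right)

/-- an element whose order is coprime to `n` and whose `n`-th power lies in `C` lies in `C` -/
theorem mem_of_pow_mem_of_coprime {C : Subgroup G} {x : G} {n : ℕ} (hx : x ^ n ∈ C)
    (hcop : (orderOf x).Coprime n) : x ∈ C := by
  have h1 : x ^ (n * (Nat.gcdB (orderOf x) n)) ∈ C := by
    rw [zpow_mul]
    exact C.zpow_mem (by exact_mod_cast hx) _
  have h2 : (x : G) ^ ((orderOf x : ℤ) * Nat.gcdA (orderOf x) n) = 1 := by
    rw [zpow_mul]
    simp [pow_orderOf_eq_one]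
  have h3 := Nat.gcd_eq_gcd_ab (orderOf x) n
  rw [hcop.gcd_eq_one] at h3
  have h4 : x = x ^ ((orderOf x : ℤ) * Nat.gcdA (orderOf x) n + n * Nat.gcdB (orderOf x) n) := by
    rw [← h3]
    simp
  rw [h4, zpow_add, h2, one_mul]
  exact h1

/-- the automizer of `Q` is coprime to the primes of a Hall subgroup centralizing `Q` -/
theorem mem_centralizer_of_hall [Finite G] (T : Subgroup G)
    (hT : (Nat.card T).Coprime T.index) (Q : Subgroup G)
    (hTQ : T ≤ Subgroup.centralizer (Q : Set G)) {x : G}
    (hxN : x ∈ Subgroup.normalizer (Q : Set G))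
    (hx : ∀ q : ℕ, q.Prime → q ∣ orderOf x → q ∣ Nat.card T) :
    x ∈ Subgroup.centralizer (Q : Set G) := by
  set N := Subgroup.normalizer (Q : Set G) with hN
  set C := Subgroup.centralizer (Q : Set G) with hC
  have hCN : C ≤ N := Subgroup.centralizer_le_normalizer _
  have : (C.subgroupOf N).Normal := Cfsg.Agent.H1.centralizer_subgroupOf_normalizer_normal Q
  have h1 := Subgroup.pow_index_mem (C.subgroupOf N) (⟨x, hxN⟩ : N)
  rw [Subgroup.mem_subgroupOf] at h1
  have h1' : x ^ (C.relIndex N) ∈ C := by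
    have : ((⟨x, hxN⟩ : N) ^ (C.subgroupOf N).index : N) = (⟨x ^ (C.subgroupOf N).index,
      N.pow_mem hxN _⟩ : N) := rfl
    rw [this] at h1
    exact h1
  apply mem_of_pow_mem_of_coprime h1'
  have hdvd : C.relIndex N ∣ T.index := by
    have e1 := Subgroup.relIndex_mul_relIndex T C N hTQ hCN
    have e2 := Subgroup.relIndex_mul_index (hTQ.trans hCN)
    rw [← e2, ← e1]
    exact Dvd.dvd.mul_right (Dvd.intro_left _ rfl) _
  apply Nat.coprime_of_dvd
  intro q hq hq1 hq2
  have h3 : q ∣ Nat.card T := hx q hq hq1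
  have h4 : q ∣ T.index := hq2.trans hdvd
  have := Nat.eq_one_of_dvd_coprimes hT h3 h4
  exact hq.one_lt.ne' this

end Part0

section Part1

open scoped Pointwise

variable {G : Type*} [Group G]

theorem card_conj_smul (g : G) (T : Subgroup G) :
    Nat.card ↥(MulAut.conj g • T) = Nat.card T :=
  (Nat.card_congr (Subgroup.equivSMul (MulAut.conj g) T).toEquiv).symm

theorem index_conj_smul [Finite G] (g : G) (T : Subgroup G) :
    (MulAut.conj g • T).index = T.index := by
  have h1 := Subgroup.card_mul_index (MulAut.conj g • T)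
  have h2 := Subgroup.card_mul_index T
  rw [card_conj_smul, ← h2] at h1
  exact Nat.eq_of_mul_eq_mul_left Nat.card_pos h1

theorem isPGroup_conj_smul {p : ℕ} (g : G) {P : Subgroup G} (hP : IsPGroup p P) :
    IsPGroup p ↥(MulAut.conj g • P) :=
  hP.of_equiv (Subgroup.equivSMul (MulAut.conj g) P)

theorem exists_conj_le_of_pgroup [Finite G] {p : ℕ} [Fact p.Prime] (M Q P₁ : Subgroup G)
    (hQM : Q ≤ M) (hPM : P₁ ≤ M) (hQ : IsPGroup p Q) (hP : IsPGroup p P₁)
    (hidx : ¬ p ∣ P₁.index) : ∃ c ∈ M, Q ≤ MulAut.conj c • P₁ := by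
  have hQ' : IsPGroup p (Q.subgroupOf M) := hQ.comap_subtype
  have hP' : IsPGroup p (P₁.subgroupOf M) := hP.comap_subtype
  have hidx' : ¬ p ∣ (P₁.subgroupOf M).index := by
    intro h
    apply hidx
    exact h.trans (Subgroup.relIndex_dvd_index_of_le hPM)
  obtain ⟨R, hR⟩ := hQ'.exists_le_sylow
  obtain ⟨m, hm⟩ := MulAction.exists_smul_eq M (hP'.toSylow hidx') R
  refine ⟨m, m.2, ?_⟩
  intro x hx
  have h1 : (⟨x, hQM hx⟩ : M) ∈ (R : Subgroup M) :=
    hR (by rw [Subgroup.mem_subgroupOf]; exact hx)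
  rw [← hm, Sylow.coe_subgroup_smul, mem_conj_smul, IsPGroup.toSylow_coe,
    Subgroup.mem_subgroupOf] at h1
  rw [mem_conj_smul]
  simpa using h1

/-- the one prime step -/
theorem one_prime_step [Finite G] {p : ℕ} [Fact p.Prime] (T P : Subgroup G)
    (hT : (Nat.card T).Coprime T.index)
    (hDom : ∀ K : Subgroup G, (∀ q : ℕ, q.Prime → q ∣ Nat.card K → q ∣ Nat.card T) →
      ∃ g : G, K ≤ MulAut.conj g • T)
    (hP : IsPGroup p P) (hPidx : ¬ p ∣ P.index)
    (hcomm : ∀ a ∈ P, ∀ b ∈ T, a * b = b * a)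
    (K : Subgroup G) (hK : ∀ q : ℕ, q.Prime → q ∣ Nat.card K → q = p ∨ q ∣ Nat.card T) :
    ∃ g : G, K ≤ MulAut.conj g • (P ⊔ T) := by
  have hpP : ∀ {x : G}, p ∣ orderOf x → p ∣ Nat.card P := by
    intro x hx
    have h1 : p ∣ Nat.card G := hx.trans (orderOf_dvd_natCard x)
    rw [← Subgroup.card_mul_index P] at h1
    rcases (Nat.Prime.dvd_mul Fact.out).1 h1 with h | h
    · exact h
    · exact absurd h hPidx
  -- a Sylow p-subgroup of K
  obtain QK : Sylow p K := default
  -- Frobenius' criterion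
  have hfrob : ∀ Q' : Subgroup K, Q' ≤ (QK : Subgroup K) →
      ∀ g ∈ Subgroup.normalizer (Q' : Set K), Nat.Coprime (orderOf g) p →
        g ∈ Subgroup.centralizer (Q' : Set K) := by
    intro Q' hQ' g hg hgp
    set R := Q'.map K.subtype with hR
    have hRp : IsPGroup p R := by
      have : IsPGroup p Q' := QK.isPGroup'.to_le hQ'
      exact this.map K.subtype
    obtain ⟨a, -, ha⟩ := exists_conj_le_of_pgroup (⊤ : Subgroup G) R P le_top le_top hRp hP hPidx
    -- T₁ = T^a centralizes R
    have hT₁ : (Nat.card ↥(MulAut.conj a • T)).Coprime (MulAut.conj a • T).index := by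
      rw [card_conj_smul, index_conj_smul]; exact hT
    have hcen : MulAut.conj a • T ≤ Subgroup.centralizer (R : Set G) := by
      intro t ht
      rw [mem_conj_smul] at ht
      rw [Subgroup.mem_centralizer_iff]
      intro r hr
      have hr' := ha hr
      rw [mem_conj_smul] at hr'
      have := hcomm _ hr' _ ht
      have e : r * t = a * ((a⁻¹ * r * a) * (a⁻¹ * t * a)) * a⁻¹ := by group
      rw [e, this]
      group
    have hxN : (g : G) ∈ Subgroup.normalizer (R : Set G) := by
      rw [Subgroup.mem_normalizer_iff]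
      intro r
      rw [Subgroup.mem_normalizer_iff] at hg
      constructor
      · rintro ⟨r', hr', rfl⟩
        exact ⟨g * r' * g⁻¹, (hg r').1 hr', rfl⟩
      · rintro ⟨r', hr', hr''⟩
        have hrK : r ∈ K := by
          have h1 : (g : G) * r * (g : G)⁻¹ ∈ K := by rw [← hr'']; exact r'.2
          have := K.mul_mem (K.mul_mem (K.inv_mem g.2) h1) g.2
          have e : (g : G)⁻¹ * ((g : G) * r * (g : G)⁻¹) * (g : G) = r := by group
          rwa [e] at this
        refine ⟨⟨r, hrK⟩, (hg ⟨r, hrK⟩).2 ?_, rfl⟩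
        have : g * ⟨r, hrK⟩ * g⁻¹ = r' := by
          apply Subtype.ext
          exact hr''.symm
        rw [this]
        exact hr'
    have hx : ∀ q : ℕ, q.Prime → q ∣ orderOf (g : G) → q ∣ Nat.card ↥(MulAut.conj a • T) := by
      intro q hq hqd
      rw [card_conj_smul]
      rw [Subgroup.orderOf_coe] at hqd
      have h1 : q ∣ Nat.card K := hqd.trans (orderOf_dvd_natCard g)
      rcases hK q hq h1 with h | h
      · exfalso
        rw [h] at hqd
        have := Nat.eq_one_of_dvd_coprimes hgp hqd dvd_rfl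
        exact (Fact.out : p.Prime).one_lt.ne' this
      · exact h
    have := mem_centralizer_of_hall _ hT₁ R hcen hxN hx
    rw [Subgroup.mem_centralizer_iff] at this ⊢
    intro y hy
    apply Subtype.ext
    exact this (y : G) ⟨y, hy, rfl⟩
  obtain ⟨N, hNn, hNc⟩ := (Cfsg.Agent.S0071.result QK).2 hfrob
  set NK := N.map K.subtype with hNK
  set Q := (QK : Subgroup K).map K.subtype with hQ
  have hQp : IsPGroup p Q := QK.isPGroup'.map K.subtype
  -- N is a p'-group
  have hNp : ¬ p ∣ Nat.card N := by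
    rw [← hNc.index_eq_card]
    exact QK.not_dvd_index
  have hNKcard : Nat.card NK = Nat.card N :=
    (Nat.card_congr (N.equivMapOfInjective K.subtype K.subtype_injective).toEquiv).symm
  have hNKprimes : ∀ q : ℕ, q.Prime → q ∣ Nat.card NK → q ∣ Nat.card T := by
    intro q hq hqd
    rw [hNKcard] at hqd
    have h1 : q ∣ Nat.card K := hqd.trans (Subgroup.card_subgroup_dvd_card N)
    rcases hK q hq h1 with h | h
    · rw [h] at hqd; exact absurd hqd hNp
    · exact h
  obtain ⟨g, hg⟩ := hDom NK hNKprimes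
  -- P₁ = P^g centralizes NK
  have hP₁cen : MulAut.conj g • P ≤ Subgroup.centralizer (NK : Set G) := by
    intro x hx
    rw [mem_conj_smul] at hx
    rw [Subgroup.mem_centralizer_iff]
    intro n hn
    have hn' := hg hn
    rw [mem_conj_smul] at hn'
    have := hcomm _ hx _ hn'
    have e : n * x = g * ((g⁻¹ * n * g) * (g⁻¹ * x * g)) * g⁻¹ := by group
    rw [e, ← this]
    group
  have hP₁p : IsPGroup p ↥(MulAut.conj g • P) := isPGroup_conj_smul g hP
  have hP₁idx : ¬ p ∣ (MulAut.conj g • P).index := by rw [index_conj_smul]; exact hPidx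
  have hP₁hall : (Nat.card ↥(MulAut.conj g • P)).Coprime (MulAut.conj g • P).index := by
    obtain ⟨k, hk⟩ := hP₁p.exists_card_eq
    rw [hk]
    exact Nat.Coprime.pow_left _ ((Nat.Prime.coprime_iff_not_dvd Fact.out).2 hP₁idx)
  -- Q centralizes NK
  have hKnorm : K ≤ Subgroup.normalizer (NK : Set G) := by
    intro k hk
    rw [Subgroup.mem_normalizer_iff]
    intro n
    constructor
    · rintro ⟨n', hn', rfl⟩
      exact ⟨⟨k, hk⟩ * n' * ⟨k, hk⟩⁻¹, hNn.conj_mem n' hn' ⟨k, hk⟩, rfl⟩
    · rintro ⟨n', hn', hn''⟩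
      have hnK : n ∈ K := by
        have h1 : k * n * k⁻¹ ∈ K := by rw [← hn'']; exact n'.2
        have := K.mul_mem (K.mul_mem (K.inv_mem hk) h1) hk
        have e : k⁻¹ * (k * n * k⁻¹) * k = n := by group
        rwa [e] at this
      refine ⟨⟨n, hnK⟩, ?_, rfl⟩
      have h2 := hNn.conj_mem n' hn' ⟨k, hk⟩⁻¹
      have e : (⟨k, hk⟩ : K)⁻¹ * n' * (⟨k, hk⟩ : K)⁻¹⁻¹ = ⟨n, hnK⟩ := by
        apply Subtype.ext
        simp only [Subgroup.coe_mul, Subgroup.coe_inv, inv_inv]
        have hn3 : (n' : G) = k * n * k⁻¹ := hn''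
        rw [hn3]
        group
      rwa [e] at h2
  have hQK : Q ≤ K := by
    rintro _ ⟨y, _, rfl⟩
    exact y.2
  have hQcen : Q ≤ Subgroup.centralizer (NK : Set G) := by
    intro x hx
    apply mem_centralizer_of_hall _ hP₁hall NK hP₁cen (hKnorm (hQK hx))
    intro q hq hqd
    obtain ⟨j, hj⟩ := (IsPGroup.iff_orderOf.1 hQp) ⟨x, hx⟩
    rw [Subgroup.orderOf_mk] at hj
    have hqp : q = p := by
      rw [hj] at hqd
      exact (Nat.prime_dvd_prime_iff_eq hq Fact.out).1 (hq.dvd_of_dvd_pow hqd)
    rw [card_conj_smul, hqp]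
    rw [hqp] at hqd
    exact hpP hqd
  obtain ⟨c, hc, hQc⟩ := exists_conj_le_of_pgroup (Subgroup.centralizer (NK : Set G)) Q
    (MulAut.conj g • P) hQcen hP₁cen hQp hP₁p hP₁idx
  refine ⟨c * g, ?_⟩
  have hKeq : K = NK ⊔ Q := by
    rw [hNK, hQ, ← Subgroup.map_sup, hNc.sup_eq_top, ← MonoidHom.range_eq_map,
      Subgroup.range_subtype]
  rw [hKeq]
  apply sup_le
  · intro n hn
    rw [mem_conj_smul]
    have h1 := hg hn
    rw [mem_conj_smul] at h1
    rw [Subgroup.mem_centralizer_iff] at hc
    have h2 := hc n hn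
    have e : (c * g)⁻¹ * n * (c * g) = g⁻¹ * (c⁻¹ * (n * c)) * g := by group
    rw [e, h2]
    have e2 : g⁻¹ * (c⁻¹ * (c * n)) * g = g⁻¹ * n * g := by group
    rw [e2]
    exact Subgroup.mem_sup_right h1
  · intro x hx
    rw [mem_conj_smul]
    have h1 := hQc hx
    rw [mem_conj_smul, mem_conj_smul] at h1
    have e : (c * g)⁻¹ * x * (c * g) = g⁻¹ * (c⁻¹ * x * c) * g := by group
    rw [e]
    exact Subgroup.mem_sup_left h1

end Part1

section Part2

open scoped Pointwise

variable {G : Type*} [Group G]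

theorem nilpotent_of_le {A A' : Subgroup G} (hA : Group.IsNilpotent A) (h : A' ≤ A) :
    Group.IsNilpotent A' := by
  apply isNilpotent_of_ker_le_center (Subgroup.inclusion h)
  rw [(Subgroup.inclusion h).ker_eq_bot_iff.mpr (Subgroup.inclusion_injective h)]
  exact bot_le

theorem dom_sup [Finite G] : ∀ (n : ℕ) (A B : Subgroup G), Nat.card A = n → Group.IsNilpotent A →
    (Nat.card A).Coprime (Nat.card B) → (∀ a ∈ A, ∀ b ∈ B, a * b = b * a) →
    (Nat.card ↥(A ⊔ B)).Coprime (A ⊔ B).index →
    (∀ K : Subgroup G, (∀ q : ℕ, q.Prime → q ∣ Nat.card K → q ∣ Nat.card B) →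
      ∃ g : G, K ≤ MulAut.conj g • B) →
    ∀ K : Subgroup G, (∀ q : ℕ, q.Prime → q ∣ Nat.card K → q ∣ Nat.card A ∨ q ∣ Nat.card B) →
      ∃ g : G, K ≤ MulAut.conj g • (A ⊔ B) := by
  intro n
  induction n using Nat.strong_induction_on with
  | _ n ih =>
    intro A B hAn hAnil hcop hcomm hHall hDom K hK
    by_cases hA1 : Nat.card A = 1
    · have hAbot : A = ⊥ := Subgroup.card_eq_one.1 hA1
      rw [hAbot, bot_sup_eq]
      apply hDom K
      intro q hq hqd
      rcases hK q hq hqd with h | h
      · rw [hA1] at h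
        exact absurd (Nat.dvd_one.1 h) hq.one_lt.ne'
      · exact h
    · obtain ⟨p, hp, hpA⟩ := Nat.exists_prime_and_dvd hA1
      haveI : Fact p.Prime := ⟨hp⟩
      haveI : Group.IsNilpotent A := hAnil
      obtain S : Sylow p A := default
      obtain ⟨T', hcard, hcopT', hcommT'⟩ := Cfsg.Agent.H1.nilpotent_sylow_complement p S
      set P := (S : Subgroup A).map A.subtype with hP
      set A' := T'.map A.subtype with hA'
      have hPcard : Nat.card P = Nat.card (S : Subgroup A) :=
        (Nat.card_congr ((S : Subgroup A).equivMapOfInjective A.subtype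
          A.subtype_injective).toEquiv).symm
      have hA'card : Nat.card A' = Nat.card T' :=
        (Nat.card_congr (T'.equivMapOfInjective A.subtype A.subtype_injective).toEquiv).symm
      have hmul : Nat.card P * Nat.card A' = Nat.card A := by rw [hPcard, hA'card, hcard]
      have hPp : IsPGroup p P := S.isPGroup'.map A.subtype
      obtain ⟨k, hk⟩ := hPp.exists_card_eq
      have hPA : P ≤ A := by
        rintro _ ⟨y, _, rfl⟩
        exact y.2
      have hA'A : A' ≤ A := by
        rintro _ ⟨y, _, rfl⟩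
        exact y.2
      have hcopPA' : (Nat.card P).Coprime (Nat.card A') := by
        rw [hk, hA'card]
        exact Nat.Coprime.pow_left _ hcopT'.symm
      have hPA'sup : P ⊔ A' = A := by
        have hc : (S : Subgroup A).IsComplement' T' :=
          Subgroup.isComplement'_of_coprime hcard (by rw [← hPcard, ← hA'card]; exact hcopPA')
        rw [hP, hA', ← Subgroup.map_sup, hc.sup_eq_top, ← MonoidHom.range_eq_map,
          Subgroup.range_subtype]
      have hcommPA' : ∀ a ∈ P, ∀ b ∈ A', a * b = b * a := by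
        rintro _ ⟨s, hs, rfl⟩ _ ⟨t, ht, rfl⟩
        have := hcommT' t ht s hs
        have h2 := congrArg A.subtype this
        simp only [map_mul] at h2
        exact h2.symm
      have hpP : p ∣ Nat.card P := by
        rw [hPcard]
        exact S.dvd_card_of_dvd_card hpA
      have hA'lt : Nat.card A' < n := by
        rw [← hAn, ← hmul]
        have h1 : 2 ≤ Nat.card P := (Nat.le_of_dvd Nat.card_pos hpP).trans' hp.two_le
        have h2 : 0 < Nat.card A' := Nat.card_pos
        nlinarith
      have hcopA'B : (Nat.card A').Coprime (Nat.card B) :=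
        Nat.Coprime.coprime_dvd_left (Dvd.intro_left _ hmul) hcop
      have hcopPB : (Nat.card P).Coprime (Nat.card B) :=
        Nat.Coprime.coprime_dvd_left (Dvd.intro _ hmul) hcop
      have hcommA'B : ∀ a ∈ A', ∀ b ∈ B, a * b = b * a := fun a ha b hb => hcomm a (hA'A ha) b hb
      -- cardinalities
      have hcAB : Nat.card ↥(A ⊔ B) = Nat.card A * Nat.card B := card_sup_eq A B hcomm hcop
      have hcA'B : Nat.card ↥(A' ⊔ B) = Nat.card A' * Nat.card B :=
        card_sup_eq A' B hcommA'B hcopA'B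
      have hidx : (A' ⊔ B).index = Nat.card P * (A ⊔ B).index := by
        have h1 := Subgroup.card_mul_index (A' ⊔ B)
        have h2 := Subgroup.card_mul_index (A ⊔ B)
        rw [hcA'B] at h1
        rw [hcAB, ← hmul] at h2
        have h3 : Nat.card A' * Nat.card B * (A' ⊔ B).index
            = Nat.card A' * Nat.card B * (Nat.card P * (A ⊔ B).index) := by
          rw [h1, ← h2]; ring
        exact Nat.eq_of_mul_eq_mul_left (Nat.mul_pos Nat.card_pos Nat.card_pos) h3
      have hHall' : (Nat.card ↥(A' ⊔ B)).Coprime (A' ⊔ B).index := by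
        rw [hcA'B, hidx]
        apply Nat.Coprime.mul_right
        · exact Nat.Coprime.mul_left hcopPA'.symm hcopPB.symm
        · apply Nat.Coprime.coprime_dvd_left _ hHall
          rw [hcAB, ← hmul]
          exact ⟨Nat.card P, by ring⟩
      -- the inductive hypothesis
      have hDom' : ∀ K : Subgroup G,
          (∀ q : ℕ, q.Prime → q ∣ Nat.card K → q ∣ Nat.card ↥(A' ⊔ B)) →
          ∃ g : G, K ≤ MulAut.conj g • (A' ⊔ B) := by
        intro K' hK'
        apply ih (Nat.card A') hA'lt A' B rfl (nilpotent_of_le hAnil hA'A) hcopA'B hcommA'B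
          hHall' hDom K'
        intro q hq hqd
        have := hK' q hq hqd
        rw [hcA'B] at this
        exact (Nat.Prime.dvd_mul hq).1 this
      -- index of P
      have hPidx : ¬ p ∣ P.index := by
        have h1 := Subgroup.card_mul_index P
        have h2 := Subgroup.card_mul_index (A ⊔ B)
        rw [hcAB, ← hmul] at h2
        have h3 : P.index = Nat.card A' * Nat.card B * (A ⊔ B).index := by
          have : Nat.card P * P.index
              = Nat.card P * (Nat.card A' * Nat.card B * (A ⊔ B).index) := by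
            rw [h1, ← h2]; ring
          exact Nat.eq_of_mul_eq_mul_left Nat.card_pos this
        rw [h3]
        intro hdvd
        have hpcop : ∀ m : ℕ, (Nat.card P).Coprime m → ¬ p ∣ m := by
          intro m hm hpm
          have := Nat.eq_one_of_dvd_coprimes hm hpP hpm
          exact hp.one_lt.ne' this
        rcases (Nat.Prime.dvd_mul hp).1 hdvd with h | h
        · rcases (Nat.Prime.dvd_mul hp).1 h with h | h
          · exact hpcop _ hcopPA' h
          · exact hpcop _ hcopPB h
        · apply hpcop _ _ h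
          apply Nat.Coprime.coprime_dvd_left _ hHall
          rw [hcAB, ← hmul]
          exact ⟨Nat.card A' * Nat.card B, by ring⟩
      -- P commutes with A' ⊔ B
      have hcommP : ∀ a ∈ P, ∀ b ∈ A' ⊔ B, a * b = b * a := by
        have hle : A' ⊔ B ≤ Subgroup.centralizer (P : Set G) := by
          apply sup_le
          · intro b hb
            rw [Subgroup.mem_centralizer_iff]
            intro a ha
            exact hcommPA' a ha b hb
          · intro b hb
            rw [Subgroup.mem_centralizer_iff]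
            intro a ha
            exact hcomm a (hPA ha) b hb
        intro a ha b hb
        exact (Subgroup.mem_centralizer_iff.1 (hle hb)) a ha
      have hfin := one_prime_step (A' ⊔ B) P hHall' hDom' hPp hPidx hcommP K (by
        intro q hq hqd
        rcases hK q hq hqd with h | h
        · rw [← hmul] at h
          rcases (Nat.Prime.dvd_mul hq).1 h with h | h
          · left
            rw [hk] at h
            exact (Nat.prime_dvd_prime_iff_eq hq hp).1 (hq.dvd_of_dvd_pow h)
          · right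
            rw [hcA'B]
            exact Dvd.dvd.mul_right h _
        · right
          rw [hcA'B]
          exact Dvd.dvd.mul_left h _)
      rw [← sup_assoc, hPA'sup] at hfin
      exact hfin

end Part2

section Part3

open scoped Pointwise

theorem result {G : Type*} [Group G] [Finite G]
    (σ τ π : Set ℕ) (hπ : π = σ ∪ τ) (hd : Disjoint σ τ) (H Hs Ht : Subgroup G) (hH : Cfsg.IsPiHall π H)
    (hs : Cfsg.IsPiSubgroup σ Hs) (ht : Cfsg.IsPiSubgroup τ Ht) (hsn : Group.IsNilpotent Hs)
    (hjoin : Hs ⊔ Ht = H) (hcomm : ∀ a ∈ Hs, ∀ b ∈ Ht, a * b = b * a) (hD : Cfsg.IsDPiGroup τ G) :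
    Cfsg.IsDPiGroup π G := by
  have hcop : (Nat.card Hs).Coprime (Nat.card Ht) := by
    apply Nat.coprime_of_dvd
    intro q hq h1 h2
    exact Set.disjoint_left.1 hd (hs q hq h1) (ht q hq h2)
  have hHall : (Nat.card ↥(Hs ⊔ Ht)).Coprime (Hs ⊔ Ht).index := by
    rw [hjoin]
    apply Nat.coprime_of_dvd
    intro q hq h1 h2
    exact hH.2 q hq (hH.1 q hq h1) h2
  have hcardH : Nat.card H = Nat.card Hs * Nat.card Ht := by
    rw [← hjoin]
    exact card_sup_eq Hs Ht hcomm hcop
  -- `Ht` is a maximal τ-subgroup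
  have hHtidx : ∀ q : ℕ, q.Prime → q ∈ τ → ¬ q ∣ Ht.index := by
    intro q hq hqτ hdvd
    have h1 := Subgroup.card_mul_index Ht
    have h2 := Subgroup.card_mul_index H
    rw [hcardH] at h2
    have h3 : Ht.index = Nat.card Hs * H.index := by
      have : Nat.card Ht * Ht.index = Nat.card Ht * (Nat.card Hs * H.index) := by
        rw [h1, ← h2]; ring
      exact Nat.eq_of_mul_eq_mul_left Nat.card_pos this
    rw [h3] at hdvd
    rcases (Nat.Prime.dvd_mul hq).1 hdvd with h | h
    · exact Set.disjoint_left.1 hd (hs q hq h) hqτ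
    · exact hH.2 q hq (by rw [hπ]; exact Or.inr hqτ) h
  have hHtmax : Maximal (Cfsg.IsPiSubgroup τ) Ht := by
    refine ⟨ht, ?_⟩
    intro M hM hle
    rw [← Subgroup.relIndex_eq_one]
    by_contra hne
    obtain ⟨q, hq, hqd⟩ := Nat.exists_prime_and_dvd hne
    have h1 : q ∣ Nat.card M := hqd.trans (Subgroup.relIndex_dvd_card Ht M)
    have h2 : q ∣ Ht.index := hqd.trans (Subgroup.relIndex_dvd_index_of_le hle)
    exact hHtidx q hq (hM q hq h1) h2
  -- every τ-subgroup lies in a conjugate of `Ht`
  have hDomT : ∀ K : Subgroup G, (∀ q : ℕ, q.Prime → q ∣ Nat.card K → q ∣ Nat.card Ht) →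
      ∃ g : G, K ≤ MulAut.conj g • Ht := by
    intro K hK
    have hKτ : Cfsg.IsPiSubgroup τ K := fun q hq hqd => ht q hq (hK q hq hqd)
    obtain ⟨M, hKM, hMmax⟩ := Finite.exists_le_maximal (p := Cfsg.IsPiSubgroup τ) hKτ
    obtain ⟨g, hg⟩ := hD Ht M hHtmax hMmax
    exact ⟨g, by rw [conj_smul_eq_map, ← hg]; exact hKM⟩
  -- every π-subgroup lies in a conjugate of `H`
  have hDomH : ∀ K : Subgroup G, Cfsg.IsPiSubgroup π K → ∃ g : G, K ≤ MulAut.conj g • H := by
    intro K hK
    have := dom_sup (Nat.card Hs) Hs Ht rfl hsn hcop hcomm hHall hDomT K (by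
      intro q hq hqd
      have h1 : q ∈ π := hK q hq hqd
      have h2 : q ∣ Nat.card G := hqd.trans (Subgroup.card_subgroup_dvd_card K)
      rw [← Subgroup.card_mul_index H] at h2
      rcases (Nat.Prime.dvd_mul hq).1 h2 with h | h
      · rw [hcardH] at h
        exact (Nat.Prime.dvd_mul hq).1 h
      · exact absurd h (hH.2 q hq h1))
    rwa [hjoin] at this
  -- conjugates of `H` are π-subgroups
  have hconjπ : ∀ g : G, Cfsg.IsPiSubgroup π (MulAut.conj g • H) := by
    intro g q hq hqd
    rw [card_conj_smul] at hqd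
    exact hH.1 q hq hqd
  have hmaxeq : ∀ M : Subgroup G, Maximal (Cfsg.IsPiSubgroup π) M →
      ∃ g : G, M = MulAut.conj g • H := by
    intro M hM
    obtain ⟨g, hg⟩ := hDomH M hM.1
    exact ⟨g, le_antisymm hg (hM.2 (hconjπ g) hg)⟩
  intro H₁ K₁ hH₁ hK₁
  obtain ⟨a, ha⟩ := hmaxeq H₁ hH₁
  obtain ⟨b, hb⟩ := hmaxeq K₁ hK₁
  refine ⟨b * a⁻¹, ?_⟩
  rw [← conj_smul_eq_map, ha, hb, smul_smul, ← map_mul]
  congr 2
  group

end Part3

end Cfsg.Agent.S4334
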