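import Mathlib
import Cfsg.Statements.S4342
import Cfsg.Agent.H2.Transfer

set_option autoImplicit false
open Cfsg

namespace Cfsg.Agent.S4342

open Cfsg.Agent.H2

/-- Sylow subgroups of `G` correspond to Sylow subgroups of a normal subgroup of index prime to `p`. -/
theorem card_sylow_eq_of_not_dvd_index {G : Type*} [Group G] [Finite G]
    (p : ℕ) [Fact p.Prime] (H : Subgroup G) [H.Normal] (hp : ¬ p ∣ H.index) :
    Nat.card (Sylow p G) = Nat.card (Sylow p H) := by
  have hle : ∀ Q : Sylow p G, (Q : Subgroup G) ≤ H := fun Q =>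
    sylow_le_of_normal_of_not_dvd_index Q H hp
  apply Nat.card_eq_of_bijective (fun Q : Sylow p G => Q.subtype (hle Q))
  constructor
  · intro Q₁ Q₂ h
    exact Sylow.subtype_injective h
  · intro R
    have hRp : IsPGroup p ((R : Subgroup H).map H.subtype) := R.2.map _
    obtain ⟨Q, hQ⟩ := hRp.exists_le_sylow
    refine ⟨Q, ?_⟩
    have h1 : (R : Subgroup H) ≤ (Q.subtype (hle Q) : Subgroup H) := by
      intro x hx
      rw [Sylow.coe_subtype, Subgroup.mem_subgroupOf]
      exact hQ ⟨x, hx, rfl⟩
    have := R.is_maximal' (Q.subtype (hle Q)).2 h1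
    exact Sylow.ext this

/-- The number of Sylow subgroups is unchanged by passing to the quotient by a central subgroup. -/
theorem card_sylow_quotient_central {H : Type*} [Group H] [Finite H]
    (p : ℕ) [Fact p.Prime] (Z : Subgroup H) [Z.Normal] (hZ : Z ≤ Subgroup.center H) :
    Nat.card (Sylow p (H ⧸ Z)) = Nat.card (Sylow p H) := by
  symm
  have hf := QuotientGroup.mk'_surjective Z
  apply Nat.card_eq_of_bijective (Sylow.mapSurjective hf : Sylow p H → Sylow p (H ⧸ Z))
  refine ⟨?_, Sylow.mapSurjective_surjective hf p⟩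
  intro P Q h
  have h' : (P : Subgroup H).map (QuotientGroup.mk' Z) = (Q : Subgroup H).map (QuotientGroup.mk' Z) := by
    have := congrArg (fun S : Sylow p (H ⧸ Z) => (S : Subgroup (H ⧸ Z))) h
    simpa using this
  -- Q ≤ P ⊔ Z
  have hQle : (Q : Subgroup H) ≤ (P : Subgroup H) ⊔ Z := by
    have h1 : (Q : Subgroup H) ≤ ((Q : Subgroup H).map (QuotientGroup.mk' Z)).comap (QuotientGroup.mk' Z) :=
      Subgroup.le_comap_map _ _
    rw [← h', Subgroup.comap_map_eq, QuotientGroup.ker_mk'] at h1
    exact h1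
  have hN : (P : Subgroup H) ⊔ Z ≤ Subgroup.normalizer ((P : Subgroup H) : Set H) := by
    apply sup_le Subgroup.le_normalizer
    intro z hz
    rw [Subgroup.mem_normalizer_iff]
    intro x
    have hzc := Subgroup.mem_center_iff.1 (hZ hz)
    have : z * x * z⁻¹ = x := by rw [← hzc x, mul_assoc, mul_inv_cancel, mul_one]
    rw [this]
  have hsup : IsPGroup p ((Q : Subgroup H) ⊔ (P : Subgroup H) : Subgroup H) :=
    IsPGroup.to_sup_of_normal_right' Q.2 P.2 (hQle.trans hN)
  have h2 := P.is_maximal' hsup le_sup_right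
  have h3 : (Q : Subgroup H) ≤ P := by rw [← h2]; exact le_sup_left
  have h4 := Q.is_maximal' P.2 h3
  exact Sylow.ext h4

theorem result {G : Type*} [Group G] [Finite G]
    (p : ℕ) [Fact p.Prime] (H : Subgroup G) [H.Normal] (hp : ¬ p ∣ H.index) :
    Nat.card (Sylow p (H ⧸ Subgroup.center H)) = Nat.card (Sylow p G) := by
  rw [card_sylow_eq_of_not_dvd_index p H hp, card_sylow_quotient_central p _ le_rfl]

end Cfsg.Agent.S4342
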