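import Mathlib
import Cfsg.Statements.S4344
import Cfsg.Agent.H2.ConjMap

set_option autoImplicit false
open Cfsg

namespace Cfsg.Agent.S4344

open Cfsg.Agent.H2

theorem result {S : Type*} [Group S] [Finite S]
    [IsSimpleGroup S] (hS : ¬ IsMulCommutative S) (p : ℕ) [Fact p.Prime] (hp : p ∣ Nat.card S)
    (M : Subgroup S) (hM : IsCoatom M) (C : Subgroup S) (hCM : C ≤ M) (hCn : (C.subgroupOf M).Normal)
    (hC : IsCyclic C) (P : Sylow p S) (hP : (P : Subgroup S) ≤ C) :
    Nat.card (Sylow p S) = M.index := by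
  -- elements of C commute
  have hCcomm : ∀ a ∈ C, ∀ b ∈ C, a * b = b * a := by
    intro a ha b hb
    obtain ⟨g, hg⟩ := hC.exists_generator
    obtain ⟨i, hi⟩ := Subgroup.mem_zpowers_iff.1 (hg ⟨a, ha⟩)
    obtain ⟨j, hj⟩ := Subgroup.mem_zpowers_iff.1 (hg ⟨b, hb⟩)
    have : (⟨a, ha⟩ : C) * ⟨b, hb⟩ = ⟨b, hb⟩ * ⟨a, ha⟩ := by
      rw [← hi, ← hj, ← zpow_add, ← zpow_add, add_comm]
    exact congrArg Subtype.val this
  -- M ≤ N(P)
  have hMN : M ≤ Subgroup.normalizer ((P : Subgroup S) : Set S) := by
    intro m hm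
    rw [← map_conj_eq_self_iff_mem_normalizer]
    apply map_conj_eq_of_le
    set Q := (P : Subgroup S).map (MulAut.conj m).toMonoidHom with hQ
    have hQC : Q ≤ C := by
      intro y hy
      rw [hQ, mem_map_conj_iff] at hy
      have h1 : m⁻¹ * y * m ∈ C := hP hy
      have h2 := hCn.conj_mem ⟨m⁻¹ * y * m, hCM h1⟩ (by rw [Subgroup.mem_subgroupOf]; exact h1) ⟨m, hm⟩
      rw [Subgroup.mem_subgroupOf] at h2
      have : m * (m⁻¹ * y * m) * m⁻¹ = y := by group
      simpa [this] using h2
    have hQN : Q ≤ Subgroup.normalizer ((P : Subgroup S) : Set S) := by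
      intro y hy
      rw [Subgroup.mem_normalizer_iff]
      intro x
      have hyC := hQC hy
      constructor
      · intro hx
        have := hCcomm y hyC x (hP hx)
        rw [this, mul_assoc, mul_inv_cancel, mul_one]; exact hx
      · intro hx
        have h1 := hCcomm y⁻¹ (C.inv_mem hyC) _ (hP hx)
        have : x = y⁻¹ * (y * x * y⁻¹) * y := by group
        rw [this, h1]
        simpa [mul_assoc] using hx
    have hsup : IsPGroup p (Q ⊔ (P : Subgroup S) : Subgroup S) :=
      IsPGroup.to_sup_of_normal_right' (P.2.map _) P.2 hQN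
    have h2 := P.is_maximal' hsup le_sup_right
    rw [← h2]; exact le_sup_left
  -- N(P) ≠ ⊤
  have hNtop : Subgroup.normalizer ((P : Subgroup S) : Set S) ≠ ⊤ := by
    intro htop
    have hnorm : (P : Subgroup S).Normal := Subgroup.normalizer_eq_top_iff.1 htop
    rcases hnorm.eq_bot_or_eq_top with h | h
    · have h1 := P.card_eq_multiplicity
      rw [h, Subgroup.card_bot] at h1
      have hfac : (Nat.card S).factorization p ≠ 0 := by
        rw [← Nat.pos_iff_ne_zero]
        exact (Fact.out : p.Prime).factorization_pos_of_dvd Nat.card_pos.ne' hp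
      have : 1 < p ^ (Nat.card S).factorization p := Nat.one_lt_pow hfac (Fact.out : p.Prime).one_lt
      omega
    · apply hS
      rw [isMulCommutative_iff]
      intro a b
      have ha : a ∈ C := hP (h ▸ Subgroup.mem_top a)
      have hb : b ∈ C := hP (h ▸ Subgroup.mem_top b)
      exact hCcomm a ha b hb
  have hNM : Subgroup.normalizer ((P : Subgroup S) : Set S) = M := by
    by_contra hne
    have hlt : M < Subgroup.normalizer ((P : Subgroup S) : Set S) := lt_of_le_of_ne hMN (Ne.symm hne)
    exact hNtop (hM.2 _ hlt)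
  rw [Sylow.card_eq_index_normalizer P]
  exact congrArg Subgroup.index hNM

end Cfsg.Agent.S4344
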