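import Mathlib
import Cfsg.Statements.S4345
import Cfsg.Agent.H2.SylowInduction
import Cfsg.Agent.H2.SylowCoprime

set_option autoImplicit false
open Cfsg

namespace Cfsg.Agent.S4345

open Cfsg.Agent.H2

/-- Let G be a finite solvable group and p, ℓ primes. Then the largest power of ℓ dividing the number of Sylow p-subgroups of G is congruent to 1 modulo p. -/
theorem result {G : Type*} [Group G] [Finite G]
    (hG : Group.IsSolvable G) (p ℓ : ℕ) [Fact p.Prime] (hℓ : ℓ.Prime) :
    ℓ ^ (Nat.card (Sylow p G)).factorization ℓ ≡ 1 [MOD p] := by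
  have key := SylInd.hall_induction p
    (fun m => m ≠ 0 ∧ ℓ ^ m.factorization ℓ ≡ 1 [MOD p])
    ⟨one_ne_zero, by simp [Nat.ModEq]⟩
    (by
      rintro a b ⟨ha, ha'⟩ ⟨hb, hb'⟩
      refine ⟨mul_ne_zero ha hb, ?_⟩
      rw [Nat.factorization_mul ha hb, Finsupp.add_apply, pow_add]
      simpa using ha'.mul hb')
    (fun H _ => Group.IsSolvable H)
    (fun H _ K hH => by
      have := hH
      infer_instance)
    (fun H _ K _ hH => by
      have := hH
      infer_instance)
    (fun H _ _ hH hs => by
      have hcomm := (IsSimpleGroup.comm_iff_isSolvable (G := H)).mpr hH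
      have : Nat.card (Sylow p H) = 1 := by
        let P : Sylow p H := default
        have h0 : Nat.card (Sylow p H) =
            (Subgroup.normalizer ((P : Subgroup H) : Set H)).index :=
          Sylow.card_eq_index_normalizer P
        rw [h0, Subgroup.index_eq_one, eq_top_iff]
        intro x _
        rw [Subgroup.mem_normalizer_iff]
        intro h
        rw [hcomm x h, mul_inv_cancel_right]
      rw [this]
      exact ⟨one_ne_zero, by simp [Nat.ModEq]⟩)
    (fun H _ _ hH K _ P hK hPK =>
      ⟨Nat.card_pos.ne', SylCop.qpart_card_sylow_modEq_one K P hK hPK ℓ hℓ⟩)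
  exact (key _ G rfl hG).2

end Cfsg.Agent.S4345
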