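import Mathlib
import Cfsg.Statements.S4347
import Cfsg.Agent.H2.ConjMap

set_option autoImplicit false
open Cfsg

namespace Cfsg.Agent.S4347

open Cfsg.Agent.H2

theorem result {G : Type*} [Group G] [Finite G]
    (p : ℕ) [Fact p.Prime] :
    (¬ ∃ Q : Sylow p G, ∀ x : G, (∃ k : ℕ, orderOf x = p ^ k) → ∃ P : Sylow p G, P ≠ Q ∧ x ∈ P) ↔
      ∃ x : G, (∃ k : ℕ, orderOf x = p ^ k) ∧ ∃! P : Sylow p G, x ∈ P := by
  constructor
  · intro h
    by_contra hcon
    push Not at hcon
    apply h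
    obtain ⟨Q⟩ : Nonempty (Sylow p G) := inferInstance
    refine ⟨Q, ?_⟩
    intro x hx
    have hnu := hcon x hx
    by_cases hxQ : x ∈ Q
    · by_contra hno
      push Not at hno
      apply hnu
      refine ⟨Q, hxQ, ?_⟩
      intro P hP
      by_contra hPQ
      exact hno P hPQ hP
    · obtain ⟨k, hk⟩ := hx
      have hZ : IsPGroup p (Subgroup.zpowers x) := by
        apply IsPGroup.of_card (n := k)
        rw [Nat.card_zpowers, hk]
      obtain ⟨R, hR⟩ := hZ.exists_le_sylow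
      have hxR : x ∈ R := hR (Subgroup.mem_zpowers x)
      refine ⟨R, ?_, hxR⟩
      intro h
      rw [h] at hxR
      exact hxQ hxR
  · rintro ⟨x, ⟨k, hk⟩, P₀, hxP₀, huniq⟩ ⟨Q, hQ⟩
    obtain ⟨u, rfl⟩ := MulAction.exists_smul_eq G P₀ Q
    have hy : ∃ k : ℕ, orderOf (u * x * u⁻¹) = p ^ k := by
      refine ⟨k, ?_⟩
      have := orderOf_injective (MulAut.conj u).toMonoidHom (MulAut.conj u).injective x
      rw [← hk, ← this]
      simp [MulAut.conj_apply]
    obtain ⟨P, hPne, hyP⟩ := hQ _ hy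
    have hx' : x ∈ (u⁻¹ • P : Sylow p G) := by
      show x ∈ ((u⁻¹ • P : Sylow p G) : Subgroup G)
      rw [mem_sylow_smul_iff, inv_inv]
      exact hyP
    have := huniq _ hx'
    apply hPne
    rw [← this, smul_inv_smul]

end Cfsg.Agent.S4347
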