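import Mathlib
import Cfsg.Statements.S4348

set_option autoImplicit false
open Cfsg

namespace Cfsg.Agent.S4348

theorem pCore_le_sylow {G : Type*} [Group G] {p : ℕ} [Fact p.Prime] (Q : Sylow p G) :
    Cfsg.pCore p G ≤ Q := by
  unfold Cfsg.pCore
  apply sSup_le
  rintro N ⟨hN, hNp⟩
  haveI := hN
  exact hNp.le_sylow_of_normal Q

theorem result {G : Type*} [Group G] [Finite G]
    (p : ℕ) [Fact p.Prime] (P : Sylow p G)
    [hn : ((Cfsg.pCore p G).subgroupOf (P : Subgroup G)).Normal]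
    (hc : IsCyclic ((P : Subgroup G) ⧸ (Cfsg.pCore p G).subgroupOf (P : Subgroup G))) :
    ∃ x : G, (∃ k : ℕ, orderOf x = p ^ k) ∧ ∃! Q : Sylow p G, x ∈ Q := by
  obtain ⟨gbar, hgen⟩ := hc.exists_generator
  obtain ⟨x, rfl⟩ := QuotientGroup.mk_surjective gbar
  refine ⟨(x : G), ?_, P, x.2, ?_⟩
  · obtain ⟨k, hk⟩ := (IsPGroup.iff_orderOf.1 P.2) x
    exact ⟨k, by rw [← hk, Subgroup.orderOf_coe]⟩
  · intro Q hxQ
    have hle : (P : Subgroup G) ≤ Q := by
      intro y hy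
      obtain ⟨k, hk⟩ := Subgroup.mem_zpowers_iff.1 (hgen (QuotientGroup.mk ⟨y, hy⟩))
      rw [← QuotientGroup.mk_zpow, QuotientGroup.eq] at hk
      rw [Subgroup.mem_subgroupOf] at hk
      have h1 : (((x ^ k)⁻¹ * ⟨y, hy⟩ : (P : Subgroup G)) : G) ∈ (Q : Subgroup G) := pCore_le_sylow Q hk
      have h2 : ((x ^ k : (P : Subgroup G)) : G) ∈ (Q : Subgroup G) := by
        rw [Subgroup.coe_zpow]
        exact Subgroup.zpow_mem _ hxQ k
      have := Subgroup.mul_mem _ h2 h1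
      simpa using this
    have := P.is_maximal' Q.2 hle
    exact Sylow.ext this

end Cfsg.Agent.S4348
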