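import Cfsg.Statements.S4349
import Cfsg.Agent.H9.UniqSylB
import Cfsg.Agent.Lib.Helper4.UniqSylA

set_option autoImplicit false
open Cfsg

namespace Cfsg.Agent.S4349

/-- Let n ≥ 2 and let x be an element of 2-power order of the symmetric group of degree n. Then x lies in exactly one Sylow 2-subgroup if and only if x has at most two fixed points and the nontrivial cycles of x have pairwise different lengths. -/
theorem result (n : ℕ) (hn : 2 ≤ n)
    (x : Equiv.Perm (Fin n)) (hx : ∃ k : ℕ, orderOf x = 2 ^ k) :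
    (∃! P : Sylow 2 (Equiv.Perm (Fin n)), x ∈ P) ↔ (n ≤ x.support.card + 2 ∧ x.cycleType.Nodup) := by
  constructor
  · intro h
    have := Cfsg.Agent.Lib.Helper4.UniqSyl.forward x hx h
    rwa [Fintype.card_fin] at this
  · rintro ⟨h1, h2⟩
    have hgood : Cfsg.Agent.H9.UniqSyl.Good x := ⟨hx, by rwa [Fintype.card_fin], h2⟩
    have hP : IsPGroup 2 (Subgroup.zpowers x) := by
      obtain ⟨k, hk⟩ := hx
      apply IsPGroup.of_card (n := k)
      rw [Nat.card_zpowers, hk]
    obtain ⟨P, hP'⟩ := hP.exists_le_sylow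
    have hxP : x ∈ P := hP' (Subgroup.mem_zpowers x)
    refine ⟨P, hxP, ?_⟩
    intro Q hxQ
    exact Cfsg.Agent.H9.UniqSyl.uniq_of_good n (Fin n) (Fintype.card_fin n) x hgood Q P hxQ hxP

end Cfsg.Agent.S4349
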