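import Cfsg.Statements.S4355
import Cfsg.Agent.H1.CaminaHerzogC

set_option autoImplicit false
open Cfsg

namespace Cfsg.Agent.S4355

set_option autoImplicit false
open Cfsg

/-- If every element of 2-power order of a finite group has a conjugacy class of odd size, then the Sylow 2-subgroups of the group are abelian. -/
theorem result {G : Type*} [Group G] [Finite G]
    (h : ∀ x : G, (∃ k : ℕ, orderOf x = 2 ^ k) → ¬ 2 ∣ (Subgroup.centralizer ({x} : Set G)).index) (P : Sylow 2 G) :
    IsMulCommutative P := by
  have hP : H1.CaminaHerzog.CH G := by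
    intro x hx
    obtain ⟨R⟩ : Nonempty (Sylow 2 (Subgroup.centralizer ({x} : Set G))) := inferInstance
    have h1 : IsPGroup 2 ((R : Subgroup _).map (Subgroup.centralizer ({x} : Set G)).subtype) :=
      R.2.map _
    have h2 : ¬ 2 ∣ ((R : Subgroup _).map (Subgroup.centralizer ({x} : Set G)).subtype).index := by
      rw [Subgroup.index_map_subtype]
      intro hd
      rcases (Nat.Prime.dvd_mul Nat.prime_two).mp hd with hd | hd
      · exact R.not_dvd_index hd
      · exact h x hx hd
    refine ⟨h1.toSylow h2, ?_⟩
    rw [IsPGroup.toSylow_coe]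
    exact Subgroup.map_subtype_le _
  exact ⟨⟨fun a b => Subtype.ext (H1.CaminaHerzog.main hP P a.1 a.2 b.1 b.2)⟩⟩

end Cfsg.Agent.S4355
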