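import Cfsg.Statements.S4357
import Cfsg.Agent.H9.RedundantSL2

set_option autoImplicit false
open Cfsg

namespace Cfsg.Agent.S4357

open Cfsg.Agent.H9.RedundantSylow Cfsg.Agent.H9.RedundantSL2

/-- Let F be a finite field with q elements, p a prime and G = SL(2, F). Say a Sylow p-subgroup Q of G is redundant when every element of p-power order lies in some Sylow p-subgroup other than Q. Then G has a redundant Sylow p-subgroup if and only if p = 2 and q is not of any of the forms 2ᵏ - 1, 2ᵏ, 2ᵏ + 1. -/
theorem result {F : Type*} [Field F] [Fintype F] (p : ℕ) [Fact p.Prime] :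
    (∃ Q : Sylow p (Matrix.SpecialLinearGroup (Fin 2) F), ∀ x : Matrix.SpecialLinearGroup (Fin 2) F,
        (∃ k : ℕ, orderOf x = p ^ k) → ∃ P : Sylow p (Matrix.SpecialLinearGroup (Fin 2) F), P ≠ Q ∧ x ∈ P) ↔
      (p = 2 ∧ (¬ ∃ k : ℕ, Fintype.card F + 1 = 2 ^ k) ∧ (¬ ∃ k : ℕ, Fintype.card F = 2 ^ k) ∧
        ¬ ∃ k : ℕ, Fintype.card F = 2 ^ k + 1) := by
  classical
  by_cases hTI : p ≠ 2 ∨ (2 : F) = 0
  · constructor
    · intro h
      exact absurd h (not_redundant_TI p hTI)
    · rintro ⟨hp2, -, hq2, -⟩
      exfalso
      rcases hTI with h | h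
      · exact h hp2
      · apply hq2
        haveI : CharP F 2 := CharTwo.of_one_ne_zero_of_two_eq_zero one_ne_zero h
        obtain ⟨n, -, hn⟩ := FiniteField.card F 2
        exact ⟨n, hn⟩
  · push Not at hTI
    obtain ⟨hp2, h2⟩ := hTI
    subst hp2
    have hodd : Odd (Fintype.card F) := by
      rw [Nat.odd_iff]
      apply FiniteField.odd_card_of_char_ne_two
      intro h'
      apply h2
      have := CharP.cast_eq_zero F (ringChar F)
      rw [h'] at this
      exact_mod_cast this
    have hq := Cfsg.Agent.S2430.three_le hodd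
    obtain ⟨A, N, hset, hcard⟩ := exists_setup_card hodd
    have hqodd : Fintype.card F % 2 = 1 := Nat.odd_iff.1 hodd
    by_cases hpow : ∃ k : ℕ, Nat.card A = 2 ^ k
    · obtain ⟨k, hk⟩ := hpow
      obtain ⟨Q0, x0, hx0, huniq⟩ := unique_of_pow hset k hk
      constructor
      · intro h
        exact absurd h (not_redundant_of_unique Q0 x0 hx0 huniq)
      · rintro ⟨-, hq1, -, hq3⟩
        exfalso
        rcases hcard with ⟨hmod, hc⟩ | ⟨hmod, hc⟩
        · apply hq3
          refine ⟨k, ?_⟩
          rw [← hk, hc]
          omega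
        · apply hq1
          exact ⟨k, by rw [← hk, hc]⟩
    · push Not at hpow
      constructor
      · intro _
        refine ⟨rfl, ?_, ?_, ?_⟩
        · rintro ⟨k, hk⟩
          rcases hcard with ⟨hmod, hc⟩ | ⟨hmod, hc⟩
          · rcases k with _ | _ | j
            · simp at hk
            · simp at hk
              omega
            · rw [pow_succ, pow_succ] at hk
              omega
          · exact hpow k (by rw [hc, hk])
        · rintro ⟨k, hk⟩
          rcases k with _ | j
          · simp at hk
            omega
          · rw [pow_succ] at hk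
            omega
        · rintro ⟨k, hk⟩
          rcases hcard with ⟨hmod, hc⟩ | ⟨hmod, hc⟩
          · exact hpow k (by rw [hc, hk]; simp)
          · rcases k with _ | _ | j
            · simp at hk
              omega
            · apply hpow 2
              rw [hc, hk]
              norm_num
            · rw [pow_succ, pow_succ] at hk
              omega
      · intro _
        obtain ⟨Q⟩ := (Sylow.nonempty : Nonempty (Sylow 2 (Matrix.SpecialLinearGroup (Fin 2) F)))
        refine ⟨Q, fun x hx => ?_⟩
        refine redundant' hset hpow ?_ Q x hx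
        intro w hw
        obtain ⟨t, htA, htt⟩ := exists_sq_eq_z hset
        obtain ⟨c, hc⟩ := isConj_iff.1 (isConj_of_sq hodd w t hw htt)
        refine ⟨c⁻¹, ?_⟩
        rw [inv_inv, hc]
        exact htA

end Cfsg.Agent.S4357
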