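import Cfsg.Statements.S4364
import Cfsg.Agent.Lib.Lead.Kazarin2
import Cfsg.Agent.Lib.Lead.ExpSix
import Cfsg.Agent.Lib.Helper4.Rank2Fit
import Cfsg.Agent.H1.Cores
import Cfsg.Agent.S1264

set_option autoImplicit false
open Cfsg

namespace Cfsg.Agent.S4364

open Cfsg.Agent.Lib.Lead.Kazarin

/-- a normal `s`-subgroup lies in every subgroup of index prime to `s` -/
theorem le_of_coprime_index {Q : Type*} [Group Q] [Finite Q] {s : ℕ} [Fact s.Prime]
    (T C : Subgroup Q) [T.Normal] (hT : IsPGroup s T) (hC : (C.index).Coprime s) : T ≤ C := by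
  rw [← Subgroup.relIndex_eq_one]
  have h1 : C.relIndex T ∣ C.index := relIndex_dvd_index_of_normal' C T
  have h2 : C.relIndex T ∣ Nat.card T := Subgroup.index_dvd_card _
  obtain ⟨m, hm⟩ := IsPGroup.iff_card.mp hT
  rw [hm] at h2
  have h3 : (C.relIndex T).Coprime (C.relIndex T) :=
    Nat.Coprime.coprime_dvd_left h1 (Nat.Coprime.coprime_dvd_right h2 (Nat.Coprime.pow_right m hC))
  exact (Nat.coprime_self _).mp h3

/-- the core: in a group with `O_p = 1`, conjugates of an element with `p`-power class commute -/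
theorem commute_conj {Q : Type*} [Group Q] [Finite Q] (p : ℕ) [hp : Fact p.Prime]
    (hO : Cfsg.pCore p Q = ⊥) (x : Q) (j : ℕ)
    (hclass : (Subgroup.centralizer ({x} : Set Q)).index = p ^ j) (g h : Q) :
    (g * x * g⁻¹) * (h * x * h⁻¹) = (h * x * h⁻¹) * (g * x * g⁻¹) := by
  obtain ⟨K, hKn, hKs, hxK⟩ := kazarin hp.out x j hclass
  haveI := hKn
  set F := Cfsg.fittingSubgroup Q with hF
  set C := Subgroup.centralizer ({x} : Set Q) with hC
  -- `x` centralizes the Fitting subgroup
  have hFC : F ≤ C := by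
    intro f hf
    apply mem_of_prime_pow_mem C (orderOf f) (orderOf_pos f) f rfl
    intro z hz s e hs hze
    haveI := Fact.mk hs
    have hzF : z ∈ F := (Subgroup.zpowers_le.mpr hf) hz
    have hzs : z ∈ Cfsg.pCore s Q :=
      Cfsg.Agent.Lib.Helper4.Rank2Fit.mem_pCore_of_mem_fitting hs hzF (k := e)
        (by rw [← hze]; exact pow_orderOf_eq_one z)
    by_cases hsp : s = p
    · subst hsp
      rw [hO, Subgroup.mem_bot] at hzs
      rw [hzs]
      exact C.one_mem
    · have hcop : (C.index).Coprime s := by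
        rw [hclass]
        exact Nat.Coprime.pow_left j ((Nat.coprime_primes hp.out hs).mpr (Ne.symm hsp))
      exact le_of_coprime_index (Cfsg.pCore s Q) C (Cfsg.Agent.H1.pCore_isPGroup s) hcop hzs
  have hxF : x ∈ Subgroup.centralizer (F : Set Q) := by
    rw [Subgroup.mem_centralizer_iff]
    intro f hf
    have := hFC hf
    rw [hC, Subgroup.mem_centralizer_iff] at this
    exact (this x rfl).symm
  set N := Subgroup.normalClosure ({x} : Set Q) with hN
  have hNK : N ≤ K := Subgroup.normalClosure_le_normal (Set.singleton_subset_iff.mpr hxK)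
  have hNs : Group.IsSolvable N :=
    Group.isSolvable_of_isSolvable_injective (f := Subgroup.inclusion hNK)
      (Subgroup.inclusion_injective hNK)
  haveI hFn : F.Normal := by
    rw [hF]
    unfold Cfsg.fittingSubgroup
    exact Subgroup.sSup_normal _ (fun _ h => h.1)
  have hNC : N ≤ Subgroup.centralizer (F : Set Q) :=
    Subgroup.normalClosure_le_normal (Set.singleton_subset_iff.mpr hxF)
  have hnorm : Subgroup.centralizer (F : Set Q) ≤ Subgroup.normalizer (N : Set Q) := by
    rw [Subgroup.normalizer_eq_top]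
    exact le_top
  have hZ := Cfsg.Agent.S1264.result N hNC hnorm hNs
  have hgN : g * x * g⁻¹ ∈ N :=
    (inferInstance : N.Normal).conj_mem x (Subgroup.subset_normalClosure rfl) g
  have hhN : h * x * h⁻¹ ∈ N :=
    (inferInstance : N.Normal).conj_mem x (Subgroup.subset_normalClosure rfl) h
  obtain ⟨a, ha, hag⟩ := hZ hgN
  obtain ⟨b, hb, hbh⟩ := hZ hhN
  rw [← hag, ← hbh]
  have : a * b = b * a := (Subgroup.mem_center_iff.mp ha b).symm
  have h2 := congrArg (Cfsg.fittingSubgroup Q).subtype this
  simpa using h2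

/-- Let G be a finite group, p a prime and x an element whose conjugacy class has p-power size. Then for any two conjugates y and z of x, the commutator y z y⁻¹ z⁻¹ lies in O_p(G), the largest normal p-subgroup of G. -/
theorem result {G : Type*} [Group G] [Finite G] (p : ℕ) [Fact p.Prime]
    (x : G) (hx : ∃ a : ℕ, (Subgroup.centralizer ({x} : Set G)).index = p ^ a) (g h : G) :
    (g * x * g⁻¹) * (h * x * h⁻¹) * (g * x * g⁻¹)⁻¹ * (h * x * h⁻¹)⁻¹ ∈ Cfsg.pCore p G := by
  obtain ⟨a, ha⟩ := hx
  haveI hOn : (Cfsg.pCore p G).Normal := Cfsg.Agent.H1.pCore_normal p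
  set O := Cfsg.pCore p G with hOdef
  have hO : Cfsg.pCore p (G ⧸ O) = ⊥ :=
    Cfsg.Agent.Lead.ExpSix.pCore_quotient_self_eq_bot O hOdef
  set π := QuotientGroup.mk' O with hπ
  have hle : Subgroup.centralizer ({x} : Set G)
      ≤ (Subgroup.centralizer ({π x} : Set (G ⧸ O))).comap π := by
    intro c hc
    rw [Subgroup.mem_comap, Subgroup.mem_centralizer_iff]
    intro w hw
    rw [Set.mem_singleton_iff] at hw
    subst hw
    rw [Subgroup.mem_centralizer_iff] at hc
    rw [← map_mul, ← map_mul, hc x rfl]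
  have hdvd : (Subgroup.centralizer ({π x} : Set (G ⧸ O))).index ∣ p ^ a := by
    rw [← ha, ← Subgroup.index_comap_of_surjective _ (QuotientGroup.mk'_surjective O)]
    exact Subgroup.index_dvd_of_le hle
  obtain ⟨j, -, hj⟩ := (Nat.dvd_prime_pow (Fact.out : p.Prime)).mp hdvd
  have hcomm := commute_conj p hO (π x) j hj (π g) (π h)
  rw [← QuotientGroup.ker_mk' O, MonoidHom.mem_ker]
  have h1 : π (g * x * g⁻¹) = π g * π x * (π g)⁻¹ := by simp
  have h2 : π (h * x * h⁻¹) = π h * π x * (π h)⁻¹ := by simp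
  rw [map_mul, map_mul, map_mul, map_inv, map_inv, h1, h2, hcomm]
  group

end Cfsg.Agent.S4364
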