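import Mathlib
import Cfsg.Statements.S4377

set_option autoImplicit false
open Cfsg

namespace Cfsg.Agent.S4377

open Finset

/-- number of elements of order `n` -/
noncomputable def a (G : Type*) [Group G] (n : ℕ) : ℕ := Nat.card {g : G // orderOf g = n}
/-- number of solutions of `g^n = 1` -/
noncomputable def b (G : Type*) [Group G] (n : ℕ) : ℕ := Nat.card {g : G // g ^ n = 1}

theorem b_eq_sum (G : Type*) [Group G] [Finite G] {n : ℕ} (hn : n ≠ 0) :
    b G n = ∑ m ∈ Nat.divisors n, a G m := by
  classical
  haveI := Fintype.ofFinite G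
  have := sum_card_orderOf_eq_card_pow_eq_one (G := G) hn
  unfold a b
  rw [Nat.card_eq_fintype_card, Fintype.card_subtype, ← this]
  apply Finset.sum_congr rfl
  intro m _
  rw [Nat.card_eq_fintype_card, Fintype.card_subtype]

theorem a_zero (G : Type*) [Group G] [Finite G] : a G 0 = 0 := by
  unfold a
  haveI : IsEmpty {g : G // orderOf g = 0} := ⟨fun ⟨g, hg⟩ => (orderOf_pos g).ne' hg⟩
  exact Nat.card_of_isEmpty

theorem a_eq (G : Type*) [Group G] [Finite G] {n : ℕ} (hn : n ≠ 0) :
    a G n = b G n - ∑ m ∈ Nat.properDivisors n, a G m := by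
  rw [b_eq_sum G hn, ← Nat.cons_self_properDivisors hn, Finset.sum_cons]
  omega

theorem b_card (G : Type*) [Group G] [Finite G] {n : ℕ} (h : Nat.card G ∣ n) : b G n = Nat.card G := by
  unfold b
  have : ∀ g : G, g ^ n = 1 := by
    intro g
    obtain ⟨k, rfl⟩ := h
    rw [pow_mul, pow_card_eq_one', one_pow]
  rw [Nat.card_congr (Equiv.subtypeUnivEquiv this)]

theorem result {G H : Type*} [Group G] [Finite G] [Group H] [Finite H] :
    (∀ n : ℕ, Nat.card {g : G // orderOf g = n} = Nat.card {h : H // orderOf h = n}) ↔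
      ∀ n : ℕ, Nat.card {g : G // g ^ n = 1} = Nat.card {h : H // h ^ n = 1} := by
  show (∀ n, a G n = a H n) ↔ (∀ n, b G n = b H n)
  constructor
  · intro h
    have hpos : ∀ n, n ≠ 0 → b G n = b H n := by
      intro n hn
      rw [b_eq_sum G hn, b_eq_sum H hn]
      exact Finset.sum_congr rfl (fun m _ => h m)
    intro n
    by_cases hn : n = 0
    · subst hn
      have hne : Nat.card G * Nat.card H ≠ 0 := (Nat.mul_pos Nat.card_pos Nat.card_pos).ne'
      have h1 := hpos _ hne
      rw [b_card G (Dvd.intro _ rfl), b_card H (Dvd.intro_left _ rfl)] at h1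
      rw [b_card G (dvd_zero _), b_card H (dvd_zero _), h1]
    · exact hpos n hn
  · intro h n
    induction n using Nat.strong_induction_on with
    | _ n ih =>
      by_cases hn : n = 0
      · subst hn; rw [a_zero, a_zero]
      · rw [a_eq G hn, a_eq H hn, h n]
        congr 1
        apply Finset.sum_congr rfl
        intro m hm
        exact ih m (Nat.mem_properDivisors.1 hm).2

end Cfsg.Agent.S4377
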