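import Cfsg.Statements.S4378
import Mathlib
import Cfsg.Prelude.Def_Solvable
import Cfsg.Agent.Lib.Lead.PiCore
import Cfsg.Agent.Lib.Helper7.Core
import Cfsg.Agent.H1.Cores
import Cfsg.Agent.H1.GruenbergKegel
import Cfsg.Agent.H1.TwoLength

set_option autoImplicit false
open Cfsg

namespace Cfsg.Agent.S4378

set_option maxHeartbeats 800000
open H1

/-- Let G be a finite solvable group in which every maximal subgroup either has a normal 2-complement or has prime index. Then G has a chain of normal subgroups 1 ≤ A ≤ B ≤ C ≤ G in which A and C/B have odd order and B/A and G/C are 2-groups (so the 2-length of G is at most 2). -/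
theorem result {G : Type*} [Group G] [Finite G]
    (hG : Group.IsSolvable G)
    (hmax : ∀ M : Subgroup G, IsCoatom M → (∃ K : Subgroup ↥M, K.Normal ∧ ¬ 2 ∣ Nat.card K ∧ ∃ k : ℕ, K.index = 2 ^ k) ∨ (M.index).Prime) :
    ∃ A B C : Subgroup G, A.Normal ∧ B.Normal ∧ C.Normal ∧ A ≤ B ∧ B ≤ C ∧ Odd (Nat.card A) ∧
      (∃ k : ℕ, A.relIndex B = 2 ^ k) ∧ Odd (B.relIndex C) ∧ ∃ k : ℕ, C.index = 2 ^ k := by
  apply TwoLen.chain_of_hyp _ G rfl hG
  intro M hM
  rcases hmax M hM with ⟨K, hKn, hK2, k, hk⟩ | hp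
  · left
    refine ⟨K.map M.subtype, Subgroup.map_subtype_le K, ?_, ?_, k, ?_⟩
    · intro m hm x hx
      obtain ⟨y, hy, rfl⟩ := Subgroup.mem_map.mp hx
      exact Subgroup.mem_map.mpr ⟨⟨m, hm⟩ * y * ⟨m, hm⟩⁻¹, hKn.conj_mem y hy ⟨m, hm⟩, rfl⟩
    · rw [Subgroup.card_map_of_injective M.subtype_injective]
      exact Nat.odd_iff.mpr (Nat.two_dvd_ne_zero.mp hK2)
    · rw [← hk, Subgroup.relIndex, Subgroup.subgroupOf,
        Subgroup.comap_map_eq_self_of_injective M.subtype_injective]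
  · exact Or.inr hp

end Cfsg.Agent.S4378
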