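import Cfsg.Statements.S4379
import Mathlib
import Cfsg.Prelude.Def_Solvable
import Cfsg.Prelude.Def_Local
import Cfsg.Agent.Lib.Lead.PiCore
import Cfsg.Agent.Lib.Lead.PSolvable
import Cfsg.Agent.Lib.Helper7.Core
import Cfsg.Agent.H1.Cores
import Cfsg.Agent.H1.SZ
import Cfsg.Agent.H1.SZConj
import Cfsg.Agent.H1.FrobeniusCount
import Cfsg.Agent.H1.RankTwoExpP
import Cfsg.Agent.H1.TwoLength
import Cfsg.Agent.H1.PLengthTwo

set_option autoImplicit false
open Cfsg

namespace Cfsg.Agent.S4379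

set_option maxHeartbeats 1600000
open H1

/-- Let p be an odd prime and G a finite p-solvable group in which every maximal subgroup either has a normal p-complement or has prime index. Then G has a chain of normal subgroups 1 ≤ A ≤ B ≤ C ≤ D ≤ G in which A, C/B and G/D have order prime to p and B/A and D/C are p-groups (so the p-length of G is at most 2). -/
theorem result {G : Type*} [Group G] [Finite G]
    (p : ℕ) [Fact p.Prime] (hp : p ≠ 2) (hG : Cfsg.IsPSolvable p G)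
    (hmax : ∀ M : Subgroup G, IsCoatom M → (∃ K : Subgroup ↥M, K.Normal ∧ ¬ p ∣ Nat.card K ∧ ∃ k : ℕ, K.index = p ^ k) ∨ (M.index).Prime) :
    ∃ A B C D : Subgroup G, A.Normal ∧ B.Normal ∧ C.Normal ∧ D.Normal ∧ A ≤ B ∧ B ≤ C ∧ C ≤ D ∧ ¬ p ∣ Nat.card A ∧
      (∃ k : ℕ, A.relIndex B = p ^ k) ∧ ¬ p ∣ B.relIndex C ∧ (∃ k : ℕ, C.relIndex D = p ^ k) ∧ ¬ p ∣ D.index := by
  apply PLen.chain_of_hyp p _ G rfl hG
  intro M hM
  rcases hmax M hM with ⟨K, hKn, hK2, k, hk⟩ | hp
  · left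
    refine ⟨K.map M.subtype, Subgroup.map_subtype_le K, ?_, ?_, k, ?_⟩
    · intro m hm x hx
      obtain ⟨y, hy, rfl⟩ := Subgroup.mem_map.mp hx
      exact Subgroup.mem_map.mpr ⟨⟨m, hm⟩ * y * ⟨m, hm⟩⁻¹, hKn.conj_mem y hy ⟨m, hm⟩, rfl⟩
    · rw [Subgroup.card_map_of_injective M.subtype_injective]
      exact hK2
    · rw [← hk, Subgroup.relIndex, Subgroup.subgroupOf,
        Subgroup.comap_map_eq_self_of_injective M.subtype_injective]
  · exact Or.inr hp

end Cfsg.Agent.S4379
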