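import Mathlib
import Cfsg.Statements.S4387
import Cfsg.Agent.H2.ConjUnion

set_option autoImplicit false
open Cfsg
open scoped Pointwise

namespace Cfsg.Agent.S4387

open Cfsg.Agent.H2

theorem result {G : Type*} [Group G] [Finite G] [Nontrivial G]
    (h : ∀ M N : Subgroup G, IsCoatom M → IsCoatom N → ∃ g : G, N = MulAut.conj g • M) :
    IsCyclic G ∧ IsPrimePow (Nat.card G) := by
  -- a coatom exists
  have hbt : (⊥ : Subgroup G) ≠ ⊤ := bot_ne_top
  obtain ⟨M, hM, -⟩ := (eq_top_or_exists_le_coatom (⊥ : Subgroup G)).resolve_left hbt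
  obtain ⟨g₀, hg₀⟩ := exists_not_mem_conj_smul_of_ne_top M hM.1
  have hgen : Subgroup.zpowers g₀ = ⊤ := by
    by_contra hne
    obtain ⟨N, hN, hle⟩ := (eq_top_or_exists_le_coatom (Subgroup.zpowers g₀)).resolve_left hne
    obtain ⟨g, rfl⟩ := h M N hM hN
    exact hg₀ g (hle (Subgroup.mem_zpowers g₀))
  have hgen' : ∀ x : G, x ∈ Subgroup.zpowers g₀ := fun x => hgen ▸ Subgroup.mem_top x
  have hcyc : IsCyclic G := ⟨⟨g₀, hgen'⟩⟩
  refine ⟨hcyc, ?_⟩
  -- commutativity
  have hcomm : ∀ a b : G, a * b = b * a := by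
    intro a b
    obtain ⟨i, rfl⟩ := Subgroup.mem_zpowers_iff.1 (hgen' a)
    obtain ⟨j, rfl⟩ := Subgroup.mem_zpowers_iff.1 (hgen' b)
    rw [← zpow_add, ← zpow_add, add_comm]
  have huniq : ∀ N : Subgroup G, IsCoatom N → N = M := by
    intro N hN
    obtain ⟨g, rfl⟩ := h M N hM hN
    ext x
    rw [mem_conj_smul_iff]
    have : g⁻¹ * x * g = x := by rw [hcomm g⁻¹ x, mul_assoc, inv_mul_cancel, mul_one]
    rw [this]
  have hord : orderOf g₀ = Nat.card G := orderOf_eq_card_of_forall_mem_zpowers hgen'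
  -- every prime divisor p of n has g₀^p ∈ M
  have hpM : ∀ p : ℕ, p.Prime → p ∣ Nat.card G → g₀ ^ p ∈ M := by
    intro p hp hpn
    have hne : Subgroup.zpowers (g₀ ^ p) ≠ ⊤ := by
      intro htop
      have h1 : Nat.card (Subgroup.zpowers (g₀ ^ p)) = Nat.card G := by
        rw [htop]; exact Subgroup.card_top
      rw [Nat.card_zpowers, orderOf_pow_of_dvd hp.ne_zero (hord ▸ hpn), hord] at h1
      have hpos : 0 < Nat.card G := Nat.card_pos
      have := Nat.div_lt_self hpos hp.one_lt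
      omega
    obtain ⟨N, hN, hle⟩ := (eq_top_or_exists_le_coatom (Subgroup.zpowers (g₀ ^ p))).resolve_left hne
    rw [huniq N hN] at hle
    exact hle (Subgroup.mem_zpowers _)
  have hn1 : Nat.card G ≠ 1 := by
    have := Finite.one_lt_card (α := G)
    omega
  set p := (Nat.card G).minFac with hp
  have hpp : p.Prime := Nat.minFac_prime hn1
  have hall : ∀ {d : ℕ}, d.Prime → d ∣ Nat.card G → d = p := by
    intro d hd hdn
    by_contra hdp
    have h1 := hpM d hd hdn
    have h2 := hpM p hpp (Nat.minFac_dvd _)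
    have hcop : Nat.Coprime d p := (Nat.coprime_primes hd hpp).2 hdp
    -- g₀ = g₀^(d*a + p*b)
    have h3 : g₀ ∈ M := by
      have hb := Nat.gcd_eq_gcd_ab d p
      rw [hcop.gcd_eq_one] at hb
      have : g₀ = (g₀ ^ d) ^ (Nat.gcdA d p) * (g₀ ^ p) ^ (Nat.gcdB d p) := by
        rw [← zpow_natCast g₀ d, ← zpow_natCast g₀ p, ← zpow_mul, ← zpow_mul, ← zpow_add, ← hb]
        simp
      rw [this]
      exact M.mul_mem (M.zpow_mem h1 _) (M.zpow_mem h2 _)
    apply hM.1
    rw [eq_top_iff, ← hgen, Subgroup.zpowers_le]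
    exact h3
  have := Nat.eq_prime_pow_of_unique_prime_dvd Nat.card_pos.ne' hall
  rw [isPrimePow_nat_iff]
  refine ⟨p, _, hpp, ?_, this.symm⟩
  by_contra h0
  have h0' : (Nat.card G).primeFactorsList.length = 0 := by omega
  rw [h0', pow_zero] at this
  exact hn1 this

end Cfsg.Agent.S4387
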