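import Cfsg.Statements.S4395
import Cfsg.Agent.Lib.Helper7.SuJ
import Cfsg.Agent.Lib.Helper8.SchmidtData

set_option autoImplicit false
universe u
open Cfsg

namespace Cfsg.Agent.S4395

/-- Let p ≠ q be primes, r ≥ 1, a the multiplicative order of p modulo q, and a₀ = a when a is odd, a₀ = 3a/2 when a is even. Call a finite group minimal non-p-nilpotent when it has no normal p-complement but every proper subgroup has one. Then there is a minimal non-p-nilpotent group G₀ of order p^a₀ · q^r such that every minimal non-p-nilpotent group of order p^t · q^r (any t) is a quotient of G₀ by a central subgroup. -/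
theorem result (p q r : ℕ) [Fact p.Prime] [Fact q.Prime] (hpq : p ≠ q) (hr : 1 ≤ r) (a a₀ : ℕ)
    (ha : a = orderOf (p : ZMod q)) (ha₀ : a₀ = if a % 2 = 1 then a else 3 * a / 2) :
    ∃ (G₀ : Type u) (_ : Group G₀) (_ : Finite G₀),
      (¬ Cfsg.HasNormalPComplement p G₀ ∧ ∀ K : Subgroup G₀, K ≠ ⊤ → Cfsg.HasNormalPComplement p ↥K) ∧ Nat.card G₀ = p ^ a₀ * q ^ r ∧
      ∀ (X : Type u) [Group X] [Finite X], (¬ Cfsg.HasNormalPComplement p X ∧ ∀ K : Subgroup X, K ≠ ⊤ → Cfsg.HasNormalPComplement p ↥K) →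
        (∃ t : ℕ, Nat.card X = p ^ t * q ^ r) → ∃ φ : G₀ →* X, Function.Surjective φ ∧ φ.ker ≤ Subgroup.center G₀ := by
  classical
  have hp : p.Prime := Fact.out
  have hq : q.Prime := Fact.out
  have ha' : orderOf (p : ZMod q) = a := ha.symm
  have ha0 : a ≠ 0 := by
    rw [ha]
    exact (Cfsg.Agent.Lib.Helper8.SchmidtForm.orderOf_zmod_pos hp hq hpq).ne'
  have hcard : Nat.card (ULift.{u} (GaloisField p a)) = p ^ a := by
    rw [Nat.card_congr Equiv.ulift]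
    exact GaloisField.card p a ha0
  obtain ⟨ω, hω⟩ := Cfsg.Agent.Lib.Helper8.SchmidtForm.exists_orderOf_eq
    (F := ULift.{u} (GaloisField p a)) hq hcard ha'
  obtain ⟨P₀, hP₀g, hP₀f, τ₀, ψ₀, h₀, hcomm, hcardP₀⟩ :=
    Cfsg.Agent.Lib.Helper8.SchmidtData.exists_sd hp hq hpq hcard hω ha'
  haveI : NeZero (q ^ r) := ⟨pow_ne_zero r hq.ne_zero⟩
  have hτ : τ₀ ^ (q ^ r) = 1 := by
    obtain ⟨r', rfl⟩ : ∃ r', r = r' + 1 := ⟨r - 1, by omega⟩
    rw [pow_succ', pow_mul, h₀.pow, one_pow]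
  have hω1 : ω ≠ 1 := Cfsg.Agent.Lib.Helper7.SchU.omega_ne_one hq hω
  have hcop : Nat.Coprime (q ^ r) p :=
    Nat.Coprime.pow_left r ((Nat.coprime_primes hq hp).2 hpq.symm)
  refine ⟨P₀ ⋊[Cfsg.Agent.Lib.Helper7.SchU.zhom τ₀ hτ] Multiplicative (ZMod (q ^ r)),
    inferInstance, inferInstance, ⟨?_, ?_⟩, ?_, ?_⟩
  · exact Cfsg.Agent.Lib.Helper7.SchU.not_pnilp h₀ hω1 hτ hcardP₀ hcop
  · intro K hK
    haveI := Cfsg.Agent.Lib.Helper7.SchU.proper_nilpotent hq hcard hω ha' h₀ hcomm hτ hcardP₀ K hK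
    exact Cfsg.Agent.H1.hasNormalPComplement_of_isNilpotent p
  · rw [SemidirectProduct.card, hcardP₀, Cfsg.Agent.Lib.Helper7.SchU.card_mult_zmod, ha₀]
  · intro X _ _ hX ht
    obtain ⟨t, ht⟩ := ht
    obtain ⟨P, hPn, y, ψ, hordy, hsup, hsd, hirr⟩ :=
      Cfsg.Agent.Lib.Helper7.SchU.xside hq hpq hX.1 hX.2 ht hcard ha' hω
    exact Cfsg.Agent.Lib.Helper7.SchU.exists_hom_of_xside hq hpq hcard ha' hω h₀ hcomm hcardP₀ hτ
      P hPn y ψ hordy hsup hsd hirr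

end Cfsg.Agent.S4395
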