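import Mathlib
import Cfsg.Statements.S4398
import Cfsg.Agent.H2.SectionalTwo

set_option autoImplicit false
open Cfsg

namespace Cfsg.Agent.S4398

/-- Let S be a finite 2-group of sectional 2-rank at most 2 that contains a subgroup isomorphic to the dihedral group of order 8 or to the quaternion group of order 8. Then S is dihedral of order at least 8, semidihedral of order at least 16 (order 2^(k+4) with an element a of order 2^(k+3) and an involution b with b a b⁻¹ = a^(2^(k+2)−1)), or generalized quaternion of order at least 8. -/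
theorem result {S : Type*} [Group S] [Finite S] (h2 : IsPGroup 2 S) (hr : Cfsg.SectionalPRankLE 2 2 S)
    (hsub : ∃ H : Subgroup S, Nonempty (↥H ≃* DihedralGroup 4) ∨ Nonempty (↥H ≃* QuaternionGroup 2)) :
    ((∃ k : ℕ, Nonempty (S ≃* DihedralGroup (2 ^ (k + 2)))) ∨
      (∃ k : ℕ, Nat.card S = 2 ^ (k + 4) ∧ ∃ a b : S, orderOf a = 2 ^ (k + 3) ∧ orderOf b = 2 ∧ b * a * b⁻¹ = a ^ (2 ^ (k + 2) - 1)) ∨
      (∃ k : ℕ, Nonempty (S ≃* QuaternionGroup (2 ^ (k + 1))))) := by
  have hB : ∃ B : Subgroup S, Nat.card B = 8 ∧ ∃ x ∈ B, ∃ y ∈ B, x * y ≠ y * x := by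
    obtain ⟨H, hH⟩ := hsub
    rcases hH with ⟨⟨e⟩⟩ | ⟨⟨e⟩⟩
    · refine ⟨H, ?_, (e.symm (DihedralGroup.r 1) : S), (e.symm (DihedralGroup.r 1)).2,
        (e.symm (DihedralGroup.sr 0) : S), (e.symm (DihedralGroup.sr 0)).2, ?_⟩
      · rw [Nat.card_congr e.toEquiv, DihedralGroup.nat_card]
      · intro h
        have h1 : e.symm (DihedralGroup.r 1) * e.symm (DihedralGroup.sr 0) =
            e.symm (DihedralGroup.sr 0) * e.symm (DihedralGroup.r 1) := Subtype.ext h
        rw [← map_mul, ← map_mul] at h1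
        have h2 := e.symm.injective h1
        revert h2
        decide
    · refine ⟨H, ?_, (e.symm (QuaternionGroup.a 1) : S), (e.symm (QuaternionGroup.a 1)).2,
        (e.symm (QuaternionGroup.xa 0) : S), (e.symm (QuaternionGroup.xa 0)).2, ?_⟩
      · rw [Nat.card_congr e.toEquiv, Nat.card_eq_fintype_card, QuaternionGroup.card]
      · intro h
        have h1 : e.symm (QuaternionGroup.a 1) * e.symm (QuaternionGroup.xa 0) =
            e.symm (QuaternionGroup.xa 0) * e.symm (QuaternionGroup.a 1) := Subtype.ext h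
        rw [← map_mul, ← map_mul] at h1
        have h2 := e.symm.injective h1
        revert h2
        decide
  obtain ⟨B, hB8, hna⟩ := hB
  obtain ⟨n, hn, hcard, hidx⟩ := Cfsg.Agent.H2.SecTwo.main h2 hr B hB8 hna
  rcases Cfsg.Agent.H2.MaxClassTwo.classify n hn hcard hidx with h | ⟨hn4, a, b, ha, hb, hab⟩ | h
  · left
    obtain ⟨k, rfl⟩ : ∃ k, n = k + 3 := ⟨n - 3, by omega⟩
    exact ⟨k, h⟩
  · right; left
    obtain ⟨k, rfl⟩ : ∃ k, n = k + 4 := ⟨n - 4, by omega⟩
    exact ⟨k, hcard, a, b, ha, hb, hab⟩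
  · right; right
    obtain ⟨k, rfl⟩ : ∃ k, n = k + 3 := ⟨n - 3, by omega⟩
    exact ⟨k, h⟩

end Cfsg.Agent.S4398
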