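import Mathlib
import Cfsg.Statements.S4405
import Cfsg.Agent.S0144
import Cfsg.Agent.S1264
import Cfsg.Agent.H1.Cores
import Cfsg.Agent.Lib.Lead.ES2Perp

set_option autoImplicit false
set_option maxHeartbeats 1000000
open Cfsg
open scoped commutatorElement

namespace Cfsg.Agent.S4405

open Cfsg.Agent.S2880 (Ctx)
open Cfsg.Agent.Lead.ES2 Cfsg.Agent.Lead.ES2Perp

/-- Let G be a finite group of order 320 = 64·5 whose largest normal 2-subgroup H = O₂(G) equals the Fitting subgroup F(G) and is extraspecial of order 32 containing no elementary abelian subgroup of order 8 (so H is the central product of a quaternion group and a dihedral group of order 8). If T is an involution of G outside H whose centralizer in H contains an elementary abelian subgroup of order 4, then C_H(T) itself is elementary abelian of order 4. -/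
theorem result {G : Type*} [Group G] [Finite G]
    (hG : Nat.card G = 320) (hHF : Cfsg.pCore 2 G = Cfsg.fittingSubgroup G)
    (hex : Cfsg.IsExtraspecial 2 ↥(Cfsg.pCore 2 G)) (h32 : Nat.card ↥(Cfsg.pCore 2 G) = 32)
    (hminus : ∀ A : Subgroup G, A ≤ Cfsg.pCore 2 G → Cfsg.IsElementaryAbelian 2 A → Nat.card ↥A ≤ 4)
    (T : G) (hT : orderOf T = 2) (hTH : T ∉ Cfsg.pCore 2 G)
    (V : Subgroup G) (hV : V ≤ Cfsg.pCore 2 G ⊓ Subgroup.centralizer ({T} : Set G)) (hV4 : Nat.card ↥V = 4) (hVe : Cfsg.IsElementaryAbelian 2 V) :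
    Nat.card ↥(Cfsg.pCore 2 G ⊓ Subgroup.centralizer ({T} : Set G)) = 4 ∧
      Cfsg.IsElementaryAbelian 2 (Cfsg.pCore 2 G ⊓ Subgroup.centralizer ({T} : Set G)) := by
  classical
  haveI : Fact (Nat.Prime 5) := ⟨by norm_num⟩
  haveI : Fact (Nat.Prime 2) := ⟨Nat.prime_two⟩
  set H := Cfsg.pCore 2 G with hH
  haveI hHn : H.Normal := Cfsg.Agent.H1.pCore_normal 2
  have hH2 : IsPGroup 2 H := Cfsg.Agent.H1.pCore_isPGroup 2
  have hE32 : Nat.card ↥H = 32 := h32
  haveI hsolv : Group.IsSolvable G :=
    Cfsg.Agent.S0144.result 2 5 6 1 Nat.prime_two (by norm_num) (by rw [hG]; norm_num)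
  have hCH : Subgroup.centralizer (H : Set G) ≤ H := by
    have h := Cfsg.Agent.S1264.result (Subgroup.centralizer (Cfsg.fittingSubgroup G : Set G))
      le_rfl Subgroup.le_normalizer inferInstance
    rw [hHF]
    intro x hx
    obtain ⟨y, -, rfl⟩ := h hx
    exact y.2
  -- extraspecial structure
  obtain ⟨z₀, hes, -⟩ := es_of_extraspecial hex
  have C : Ctx z₀ := hes.ctx
  set z : G := (z₀ : G) with hzdef
  have hz1 : z ≠ 1 := fun h => C.ne (Subtype.ext h)
  have hzz : z * z = 1 := congrArg Subtype.val C.sq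
  -- conjugation homomorphisms
  let cj : G → (↥H →* ↥H) := fun g => (MulAut.conjNormal g : MulAut ↥H).toMonoidHom
  have hcj : ∀ (g : G) (x : ↥H), ((cj g x : ↥H) : G) = g * x * g⁻¹ := by
    intro g x
    exact MulAut.conjNormal_apply g x
  -- z central in G
  have hzc : ∀ g : G, g * z = z * g := by
    intro g
    have hw : ∀ x : ↥H, x * cj g z₀ = cj g z₀ * x := by
      intro x
      have h1 : cj g (cj g⁻¹ x) = x := by apply Subtype.ext; rw [hcj, hcj]; group
      have h2 := congrArg (cj g) (C.cen (cj g⁻¹ x))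
      rw [map_mul, map_mul, h1] at h2
      exact h2
    rcases hes.cent _ hw with h | h
    · exfalso
      have h3 : g * z * g⁻¹ = 1 := by
        have := congrArg Subtype.val h
        rw [hcj] at this
        exact this
      apply hz1
      calc z = g⁻¹ * (g * z * g⁻¹) * g := by group
        _ = 1 := by rw [h3]; group
    · have h3 : g * z * g⁻¹ = z := by
        have := congrArg Subtype.val h
        rw [hcj] at this
        exact this
      calc g * z = (g * z * g⁻¹) * g := by group
        _ = z * g := by rw [h3]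
  have hcjz : ∀ g : G, cj g z₀ = z₀ := by
    intro g; apply Subtype.ext; rw [hcj]
    show g * z * g⁻¹ = z
    rw [hzc g, mul_inv_cancel_right]
  -- facts for an involution outside H
  have key : ∀ t : G, orderOf t = 2 → t ∉ H →
      (∀ x, cj t (cj t x) = x) ∧
      Subgroup.closure (Set.range fun q => cj t q * q⁻¹) ≤ fixMod C (cj t) ∧
      Subgroup.closure (Set.range fun q => cj t q * q⁻¹) ≤
        Subgroup.centralizer (fixMod C (cj t) : Set ↥H) ∧
      Nat.card (Subgroup.closure (Set.range fun q => cj t q * q⁻¹)) *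
        Nat.card (fixMod C (cj t)) = 64 ∧
      8 ≤ Nat.card (fixMod C (cj t)) := by
    intro t ht htH
    have htt : t * t = 1 := by rw [← pow_two, ← ht]; exact pow_orderOf_eq_one t
    have htinv : t⁻¹ = t := inv_eq_of_mul_eq_one_right htt
    have h2 : ∀ x, cj t (cj t x) = x := by
      intro x
      apply Subtype.ext
      rw [hcj, hcj, htinv]
      calc t * (t * (x : G) * t) * t = (t * t) * x * (t * t) := by group
        _ = x := by rw [htt, one_mul, mul_one]
    have hne : ∃ q, cj t q ≠ q := by
      by_contra hcon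
      push_neg at hcon
      apply htH
      apply hCH
      rw [Subgroup.mem_centralizer_iff]
      intro h hh
      have e := hcj t ⟨h, hh⟩
      rw [hcon ⟨h, hh⟩] at e
      have e' : h = t * h * t⁻¹ := e
      calc h * t = (t * h * t⁻¹) * t := by rw [← e']
        _ = t * h := by group
    obtain ⟨a, b, c, -⟩ := core_parts hes (cj t) h2 (hcjz t) hne (fixMod C (cj t))
      (mem_fixMod C (cj t))
    have c' : Nat.card (Subgroup.closure (Set.range fun q => cj t q * q⁻¹)) *
        Nat.card (fixMod C (cj t)) = 64 := by rw [c, hE32]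
    refine ⟨h2, a, b, c', ?_⟩
    have hle := Subgroup.card_le_of_le a
    by_contra hlt
    push_neg at hlt
    have : Nat.card (Subgroup.closure (Set.range fun q => cj t q * q⁻¹)) *
        Nat.card (fixMod C (cj t)) < 64 :=
      calc _ ≤ 7 * 7 := Nat.mul_le_mul (by omega) (by omega)
        _ < 64 := by norm_num
    omega
  obtain ⟨hT2, hRQ, hRC, e1, hQ8⟩ := key T hT hTH
  -- a conjugate of T outside H⟨T⟩
  set M := H ⊔ Subgroup.zpowers T with hM
  have hHM : H ≤ M := le_sup_left
  have hTM : T ∈ M := (le_sup_right : Subgroup.zpowers T ≤ M) (Subgroup.mem_zpowers T)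
  have hM2 : IsPGroup 2 M := by
    apply IsPGroup.to_sup_of_normal_left hH2
    apply IsPGroup.of_card (n := 1)
    rw [Nat.card_zpowers, hT, pow_one]
  obtain ⟨g, hg⟩ : ∃ g : G, g * T * g⁻¹ ∉ M := by
    by_contra hcon
    push_neg at hcon
    have hMn : M.Normal := by
      constructor
      intro n hn a
      have hle : M.map (MulAut.conj a).toMonoidHom ≤ M := by
        have hmap : M.map (MulAut.conj a).toMonoidHom =
            H.map (MulAut.conj a).toMonoidHom ⊔
              (Subgroup.zpowers T).map (MulAut.conj a).toMonoidHom := Subgroup.map_sup _ _ _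
        rw [hmap, sup_le_iff]
        constructor
        · rintro _ ⟨h, hh, rfl⟩
          show a * h * a⁻¹ ∈ M
          exact hHM (hHn.conj_mem h hh a)
        · rw [MonoidHom.map_zpowers, Subgroup.zpowers_le]
          show a * T * a⁻¹ ∈ M
          exact hcon a
      have := hle (Subgroup.mem_map_of_mem _ hn)
      exact this
    exact hTH (Cfsg.Agent.H1.le_pCore hMn hM2 hTM)
  set T' := g * T * g⁻¹ with hT'
  have hT'2 : orderOf T' = 2 := by
    have : orderOf (MulAut.conj g T) = orderOf T := MulEquiv.orderOf_eq _ _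
    rw [MulAut.conj_apply] at this
    rw [hT', this, hT]
  have hT'H : T' ∉ H := fun h => hg (hHM h)
  obtain ⟨hT'2', hRQ', hRC', e1', hQ8'⟩ := key T' hT'2 hT'H
  -- H, T, T' generate G
  have hD : M ⊔ Subgroup.zpowers T' = ⊤ := by
    set D := M ⊔ Subgroup.zpowers T' with hDdef
    have hMD : M ≤ D := le_sup_left
    have hT'D : T' ∈ D := (le_sup_right : Subgroup.zpowers T' ≤ D) (Subgroup.mem_zpowers T')
    have h1 : Nat.card H ∣ Nat.card M := Subgroup.card_dvd_of_le hHM
    have h2 : Nat.card M ∣ Nat.card D := Subgroup.card_dvd_of_le hMD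
    have h3 : Nat.card D ∣ Nat.card G := Subgroup.card_subgroup_dvd_card D
    have h4 : Nat.card H ≠ Nat.card M := by
      intro h
      have := Subgroup.eq_of_le_of_card_ge hHM (le_of_eq h.symm)
      exact hTH (this ▸ hTM)
    have h5 : Nat.card M ≠ Nat.card D := by
      intro h
      have := Subgroup.eq_of_le_of_card_ge hMD (le_of_eq h.symm)
      exact hg (this ▸ hT'D)
    rw [hE32] at h1 h4
    rw [hG] at h3
    obtain ⟨a, ha⟩ := h1
    obtain ⟨b, hb⟩ := h2
    have hcardD : Nat.card D = 320 := by
      rw [hb, ha] at h3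
      rw [hb, ha] at h5 ⊢
      rw [ha] at h4
      have hab : a * b ∣ 10 := by
        apply Nat.dvd_of_mul_dvd_mul_left (k := 32) (by norm_num)
        have : 32 * (a * b) = 32 * a * b := by ring
        rw [this]; exact h3
      obtain ⟨c, hc⟩ := hab
      have ha0 : a ≠ 0 := by rintro rfl; simp at hc
      have hb0 : b ≠ 0 := by rintro rfl; simp at hc
      have hc0 : c ≠ 0 := by rintro rfl; simp at hc
      have ha1 : a ≠ 1 := by rintro rfl; exact h4 (by ring)
      have hb1 : b ≠ 1 := by rintro rfl; exact h5 (by ring)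
      have ha10 : a ≤ 10 := by
        have : a * 1 ≤ a * (b * c) := Nat.mul_le_mul_left a (by
          have : 0 < b * c := Nat.mul_pos (Nat.pos_of_ne_zero hb0) (Nat.pos_of_ne_zero hc0)
          omega)
        rw [← mul_assoc, ← hc] at this; omega
      have hb10 : b ≤ 10 := by
        have : b * 1 ≤ b * (a * c) := Nat.mul_le_mul_left b (by
          have : 0 < a * c := Nat.mul_pos (Nat.pos_of_ne_zero ha0) (Nat.pos_of_ne_zero hc0)
          omega)
        have e : b * (a * c) = a * b * c := by ring
        rw [e, ← hc] at this; omega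
      interval_cases a <;> interval_cases b <;> omega
    exact Subgroup.eq_top_of_card_eq D (by rw [hcardD, hG])
  -- an element of order five
  obtain ⟨f, hf⟩ := exists_prime_orderOf_dvd_card' (G := G) 5 (by rw [hG]; norm_num)
  have hf5 : f ^ 5 = 1 := by rw [← hf]; exact pow_orderOf_eq_one f
  have hfH : f ∉ H := by
    intro h
    have := orderOf_dvd_natCard (⟨f, h⟩ : ↥H)
    rw [Subgroup.orderOf_mk, hf, hE32] at this
    norm_num at this
  -- C_H(f) = {1, z}
  let Cf : Subgroup ↥H := MonoidHom.eqLocus (cj f) (MonoidHom.id ↥H)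
  have hCf : ∀ x : ↥H, x ∈ Cf ↔ cj f x = x := fun x => Iff.rfl
  have hCfcard : Nat.card Cf = 2 := by
    have hZ : IsPGroup 5 (Subgroup.zpowers f) := by
      apply IsPGroup.of_card (n := 1); rw [Nat.card_zpowers, hf, pow_one]
    letI act : MulAction (Subgroup.zpowers f) ↥H :=
      { smul := fun a x => cj (a : G) x
        one_smul := by
          intro x
          apply Subtype.ext
          show ((cj ((1 : Subgroup.zpowers f) : G) x : ↥H) : G) = x
          rw [hcj]; simp
        mul_smul := by
          intro a b x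
          apply Subtype.ext
          show ((cj ((a * b : Subgroup.zpowers f) : G) x : ↥H) : G) =
            ((cj (a : G) (cj (b : G) x) : ↥H) : G)
          rw [hcj, hcj, hcj]; simp [mul_assoc] }
    have hmod := hZ.card_modEq_card_fixedPoints ↥H
    have hfix : Nat.card (MulAction.fixedPoints (Subgroup.zpowers f) ↥H) = Nat.card Cf := by
      apply Nat.card_congr
      refine Equiv.subtypeEquivRight (fun x => ?_)
      rw [MulAction.mem_fixedPoints]
      constructor
      · intro h; exact h ⟨f, Subgroup.mem_zpowers f⟩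
      · rintro h ⟨a, k, rfl⟩
        show cj (f ^ k) x = x
        have hfx : f * (x : G) = x * f := by
          have := congrArg Subtype.val h
          have e : ((cj f x : ↥H) : G) = x := this
          rw [hcj] at e
          calc f * (x : G) = (f * x * f⁻¹) * f := by group
            _ = x * f := by rw [e]
        have hc : Commute f (x : G) := hfx
        have := (hc.zpow_left k).eq
        apply Subtype.ext
        rw [hcj, this]; group
    rw [hfix, hE32] at hmod
    have hdvd : Nat.card Cf ∣ 32 := by
      have := Subgroup.card_subgroup_dvd_card Cf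
      rwa [hE32] at this
    obtain ⟨k, hk, hk2⟩ := (Nat.dvd_prime_pow Nat.prime_two).1 (show Nat.card Cf ∣ 2 ^ 5 from hdvd)
    rw [hk2] at hmod
    interval_cases k
    · exfalso; revert hmod; decide
    · rw [hk2]; norm_num
    · exfalso; revert hmod; decide
    · exfalso; revert hmod; decide
    · exfalso; revert hmod; decide
    · exfalso
      have htop : Cf = ⊤ := Subgroup.eq_top_of_card_eq Cf (by rw [hk2, hE32]; norm_num)
      apply hfH
      apply hCH
      rw [Subgroup.mem_centralizer_iff]
      intro h hh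
      have hmem : (⟨h, hh⟩ : ↥H) ∈ Cf := htop ▸ Subgroup.mem_top _
      have e := congrArg Subtype.val ((hCf _).mp hmem)
      rw [hcj] at e
      have e' : f * h * f⁻¹ = h := e
      calc h * f = (f * h * f⁻¹) * f := by rw [e']
        _ = f * h := by group
  have hCf12 : ∀ x ∈ Cf, x = 1 ∨ x = z₀ := by
    obtain ⟨y, hy1, huniq⟩ := (Nat.card_eq_two_iff' (1 : Cf)).mp hCfcard
    have hz₀Cf : z₀ ∈ Cf := hcjz f
    have hyz : (⟨z₀, hz₀Cf⟩ : Cf) = y :=
      huniq ⟨z₀, hz₀Cf⟩ (fun h => C.ne (congrArg Subtype.val h))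
    intro x hx
    by_cases h1 : x = 1
    · left; exact h1
    · right
      have := huniq ⟨x, hx⟩ (fun h => h1 (congrArg Subtype.val h))
      rw [← hyz] at this
      exact congrArg Subtype.val this
  -- the two fixed-mod-centre subgroups meet in the centre
  set Q₀ := fixMod C (cj T) with hQ₀def
  set Q₀' := fixMod C (cj T') with hQ₀'def
  have hgen : ∀ (t : G) (x : ↥H), x ∈ fixMod C (cj t) →
      t * x * t⁻¹ * (x : G)⁻¹ = 1 ∨ t * x * t⁻¹ * (x : G)⁻¹ = z := by
    intro t x hx
    rcases hx with e | e
    · left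
      have := congrArg Subtype.val e
      rw [Subgroup.coe_mul, hcj, Subgroup.coe_inv] at this
      exact this
    · right
      have := congrArg Subtype.val e
      rw [Subgroup.coe_mul, hcj, Subgroup.coe_inv] at this
      exact this
  have hinter : ∀ x : ↥H, x ∈ Q₀ → x ∈ Q₀' → x = 1 ∨ x = z₀ := by
    intro x hx hx'
    apply hCf12
    have hcz : ∀ w : G, (w = 1 ∨ w = z) → ∀ a : G, a * w * a⁻¹ = w := by
      intro w hw a
      rcases hw with rfl | rfl
      · simp
      · rw [hzc a, mul_inv_cancel_right]
    let S : Subgroup G :=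
      { carrier := {a | a * x * a⁻¹ * (x : G)⁻¹ = 1 ∨ a * x * a⁻¹ * (x : G)⁻¹ = z}
        mul_mem' := by
          intro a b ha hb
          have e : (a * b) * x * (a * b)⁻¹ * (x : G)⁻¹ =
              (a * (b * x * b⁻¹ * (x : G)⁻¹) * a⁻¹) * (a * x * a⁻¹ * (x : G)⁻¹) := by group
          show (a * b) * x * (a * b)⁻¹ * (x : G)⁻¹ = 1 ∨ (a * b) * x * (a * b)⁻¹ * (x : G)⁻¹ = z
          rw [e, hcz _ hb a]
          rcases ha with h1 | h1 <;> rcases hb with h2 | h2 <;> rw [h1, h2]
          · left; simp
          · right; simp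
          · right; simp
          · left; exact hzz
        one_mem' := by left; simp
        inv_mem' := by
          intro a ha
          have e : a⁻¹ * x * a⁻¹⁻¹ * (x : G)⁻¹ =
              a⁻¹ * (a * x * a⁻¹ * (x : G)⁻¹)⁻¹ * a⁻¹⁻¹ := by group
          show a⁻¹ * x * a⁻¹⁻¹ * (x : G)⁻¹ = 1 ∨ a⁻¹ * x * a⁻¹⁻¹ * (x : G)⁻¹ = z
          have hinv : (a * x * a⁻¹ * (x : G)⁻¹)⁻¹ = 1 ∨ (a * x * a⁻¹ * (x : G)⁻¹)⁻¹ = z := by
            rcases ha with h | h <;> rw [h]
            · left; simp
            · right; exact inv_eq_of_mul_eq_one_right hzz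
          rw [e, hcz _ hinv a⁻¹]
          exact hinv }
    have hHS : H ≤ S := by
      intro h hh
      rcases C.comm ⟨h, hh⟩ x with e | e
      · left
        have := congrArg Subtype.val e
        rw [commutatorElement_def] at this
        exact this
      · right
        have := congrArg Subtype.val e
        rw [commutatorElement_def] at this
        exact this
    have hTS : T ∈ S := hgen T x hx
    have hT'S : T' ∈ S := hgen T' x hx'
    have hS : S = ⊤ := by
      rw [eq_top_iff, ← hD]
      exact sup_le (sup_le hHS (Subgroup.zpowers_le.2 hTS)) (Subgroup.zpowers_le.2 hT'S)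
    have hfS : f ∈ S := hS ▸ Subgroup.mem_top f
    show cj f x = x
    apply Subtype.ext
    rw [hcj]
    rcases hfS with e | e
    · calc f * x * f⁻¹ = (f * x * f⁻¹ * (x : G)⁻¹) * x := by group
        _ = x := by rw [e, one_mul]
    · have e1 : f * x * f⁻¹ = z * x := by
        calc f * x * f⁻¹ = (f * x * f⁻¹ * (x : G)⁻¹) * x := by group
          _ = z * x := by rw [e]
      have e0 : f * (x : G) = z * x * f := by
        calc f * (x : G) = (f * x * f⁻¹) * f := by group
          _ = z * x * f := by rw [e1]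
      have e2 : (f ^ 2) * (x : G) = x * f ^ 2 := by
        calc f ^ 2 * (x : G) = f * (f * x) := by rw [pow_two, mul_assoc]
          _ = f * (z * x * f) := by rw [e0]
          _ = (f * z) * x * f := by group
          _ = (z * f) * x * f := by rw [hzc f]
          _ = z * (f * x) * f := by group
          _ = z * (z * x * f) * f := by rw [e0]
          _ = (z * z) * x * (f * f) := by group
          _ = x * f ^ 2 := by rw [hzz, one_mul, pow_two]
      have e3 : (f ^ 2) ^ 3 = f := by
        rw [← pow_mul]
        calc f ^ (2 * 3) = f ^ 5 * f := by rw [← pow_succ]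
          _ = f := by rw [hf5, one_mul]
      have e4 : f * (x : G) = x * f := by
        have hc : Commute (f ^ 2) (x : G) := e2
        have := (hc.pow_left 3).eq
        rwa [e3] at this
      calc f * x * f⁻¹ = x * f * f⁻¹ := by rw [e4]
        _ = x := by group
  have hinf : Nat.card ↥(Q₀ ⊓ Q₀') ≤ 2 := by
    have hle : (Q₀ ⊓ Q₀') ≤ Subgroup.zpowers z₀ := by
      intro x hx
      rcases hinter x hx.1 hx.2 with h | h
      · rw [h]; exact Subgroup.one_mem _
      · rw [h]; exact Subgroup.mem_zpowers _
    calc Nat.card ↥(Q₀ ⊓ Q₀') ≤ Nat.card (Subgroup.zpowers z₀) := Subgroup.card_le_of_le hle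
      _ = 2 := by rw [Nat.card_zpowers]; exact orderOf_z C
  have hQ₀8 : Nat.card Q₀ = 8 := by
    have hidx := Subgroup.index_inf_le (H := Q₀) (K := Q₀')
    have i1 := Subgroup.card_mul_index Q₀
    have i2 := Subgroup.card_mul_index Q₀'
    have i3 := Subgroup.card_mul_index (Q₀ ⊓ Q₀')
    rw [hE32] at i1 i2 i3
    generalize Nat.card ↥Q₀ = a at *
    generalize Nat.card ↥Q₀' = a' at *
    generalize Nat.card ↥(Q₀ ⊓ Q₀') = m at *
    generalize Q₀.index = i at *
    generalize Q₀'.index = i' at *
    generalize (Q₀ ⊓ Q₀').index = j at *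
    have hi : i ≤ 4 := by
      by_contra h; push_neg at h
      have : 8 * 5 ≤ a * i := Nat.mul_le_mul hQ8 h
      omega
    have hi' : i' ≤ 4 := by
      by_contra h; push_neg at h
      have : 8 * 5 ≤ a' * i' := Nat.mul_le_mul hQ8' h
      omega
    have hj : 16 ≤ j := by
      by_contra h; push_neg at h
      have : m * j ≤ 2 * 15 := Nat.mul_le_mul hinf (by omega)
      omega
    interval_cases i <;> interval_cases i' <;> omega
  -- R = Q₀
  rw [hQ₀8] at e1
  have hR8 : Nat.card (Subgroup.closure (Set.range fun q => cj T q * q⁻¹)) = 8 := by omega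
  have hReq : Subgroup.closure (Set.range fun q => cj T q * q⁻¹) = Q₀ :=
    Subgroup.eq_of_le_of_card_ge hRQ (by rw [hR8, hQ₀8])
  -- the centralizer of T in H
  set W : Subgroup ↥H := (H ⊓ Subgroup.centralizer ({T} : Set G)).subgroupOf H with hW
  have hWcard : Nat.card W = Nat.card ↥(H ⊓ Subgroup.centralizer ({T} : Set G)) :=
    Nat.card_congr (Subgroup.subgroupOfEquivOfLe inf_le_left).toEquiv
  have hTT : T * T = 1 := by rw [← pow_two, ← hT]; exact pow_orderOf_eq_one T
  have hTinv : T⁻¹ = T := inv_eq_of_mul_eq_one_right hTT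
  have hWmem : ∀ x : ↥H, x ∈ W ↔ cj T x = x := by
    intro x
    rw [hW, Subgroup.mem_subgroupOf]
    constructor
    · intro hx
      have hxT : (x : G) ∈ Subgroup.centralizer ({T} : Set G) := hx.2
      rw [Subgroup.mem_centralizer_singleton_iff] at hxT
      apply Subtype.ext
      rw [hcj]
      calc T * x * T⁻¹ = (x * T) * T⁻¹ := by rw [hxT]
        _ = x := by group
    · intro hx
      refine ⟨x.2, ?_⟩
      show (x : G) ∈ Subgroup.centralizer ({T} : Set G)
      rw [Subgroup.mem_centralizer_singleton_iff]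
      have e := congrArg Subtype.val hx
      rw [hcj] at e
      calc (x : G) * T = (T * x * T⁻¹) * T := by rw [e]
        _ = T * x := by group
  have hWQ : W ≤ Q₀ := by
    intro x hx
    left
    rw [(hWmem x).mp hx, mul_inv_cancel]
  have hW4 : 4 ≤ Nat.card W := by
    rw [hWcard, ← hV4]
    exact Subgroup.card_le_of_le hV
  have hWdvd : Nat.card W ∣ 8 := by
    rw [← hQ₀8]; exact Subgroup.card_dvd_of_le hWQ
  have hWne8 : Nat.card W ≠ 8 := by
    intro h8
    have hWQeq : W = Q₀ := Subgroup.eq_of_le_of_card_ge hWQ (by rw [h8, hQ₀8])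
    -- generators of R are involutions
    have hgen2 : ∀ q : ↥H, (cj T q * q⁻¹) * (cj T q * q⁻¹) = 1 := by
      intro q
      have hmem : cj T q * q⁻¹ ∈ W := by
        rw [hWQeq, ← hReq]; exact Subgroup.subset_closure ⟨q, rfl⟩
      have h1 := (hWmem _).mp hmem
      rw [map_comm_inv (cj T) hT2 q] at h1
      calc (cj T q * q⁻¹) * (cj T q * q⁻¹) = (cj T q * q⁻¹)⁻¹ * (cj T q * q⁻¹) := by rw [h1]
        _ = 1 := inv_mul_cancel _
    have hRcomm : ∀ a ∈ Q₀, ∀ b ∈ Q₀, a * b = b * a := by
      intro a ha b hb
      have hb' : b ∈ Subgroup.centralizer (Q₀ : Set ↥H) := by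
        apply hRC; rw [hReq]; exact hb
      rw [Subgroup.mem_centralizer_iff] at hb'
      exact hb' a ha
    have hRsq : ∀ r ∈ Q₀, r * r = 1 := by
      intro r hr
      rw [← hReq] at hr
      induction hr using Subgroup.closure_induction with
      | mem x hx =>
        obtain ⟨q, rfl⟩ := hx
        exact hgen2 q
      | one => simp
      | mul x y hx hy ihx ihy =>
        have hxQ : x ∈ Q₀ := by rw [← hReq]; exact hx
        have hyQ : y ∈ Q₀ := by rw [← hReq]; exact hy
        calc x * y * (x * y) = x * (y * x) * y := by group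
          _ = x * (x * y) * y := by rw [hRcomm y hyQ x hxQ]
          _ = (x * x) * (y * y) := by group
          _ = 1 := by rw [ihx, ihy, one_mul]
      | inv x hx ihx =>
        calc x⁻¹ * x⁻¹ = (x * x)⁻¹ := by group
          _ = 1 := by rw [ihx, inv_one]
    have hA := hminus (Q₀.map H.subtype) (by
      rintro _ ⟨x, -, rfl⟩; exact x.2) ⟨⟨⟨by
        rintro ⟨_, ⟨a, ha, rfl⟩⟩ ⟨_, ⟨b, hb, rfl⟩⟩
        apply Subtype.ext
        show (a : G) * b = b * a
        exact congrArg Subtype.val (hRcomm a ha b hb)⟩⟩, by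
        rintro _ ⟨a, ha, rfl⟩
        rw [pow_two]
        exact congrArg Subtype.val (hRsq a ha)⟩
    rw [Subgroup.card_map_of_injective H.subtype_injective, hQ₀8] at hA
    omega
  have hWc4 : Nat.card W = 4 := by
    have hle : Nat.card W ≤ 8 := Nat.le_of_dvd (by norm_num) hWdvd
    interval_cases hh : Nat.card W <;> first | omega | (exfalso; revert hWdvd; decide)
  have hfin : Nat.card ↥(H ⊓ Subgroup.centralizer ({T} : Set G)) = 4 := by rw [← hWcard, hWc4]
  refine ⟨hfin, ?_⟩
  have hVeq : V = H ⊓ Subgroup.centralizer ({T} : Set G) :=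
    Subgroup.eq_of_le_of_card_ge hV (by rw [hfin, hV4])
  rw [← hVeq]
  exact hVe

end Cfsg.Agent.S4405
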