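import Mathlib
import Cfsg.Statements.S4406
import Cfsg.Agent.Lib.Lead.Subnormal

set_option autoImplicit false
open Cfsg

namespace Cfsg.Agent.S4406

open Cfsg.Agent.Lib.Lead.Subnormal

local notation "A4" => Subtype (fun x => x ∈ alternatingGroup (Fin 4))
local notation "GG" => Prod (Subtype (fun x => x ∈ alternatingGroup (Fin 4)))
  (Subtype (fun x => x ∈ alternatingGroup (Fin 4)))

theorem pow4 : ∀ z : GG, z ^ 4 = 1 → z ^ 2 = 1 := by decide +kernel

theorem pow9 : ∀ a : A4, a ^ 9 = 1 → a ^ 3 = 1 := by decide +kernel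

/-- conjugation by `r` maps `x` and `y` into `{x, y, x * y}` -/
def PP (r x y : GG) : Prop :=
  (r * x * r⁻¹ = x ∨ r * x * r⁻¹ = y ∨ r * x * r⁻¹ = x * y) ∧
    (r * y * r⁻¹ = x ∨ r * y * r⁻¹ = y ∨ r * y * r⁻¹ = x * y)

instance decPP (r x y : GG) : Decidable (PP r x y) := by
  unfold PP
  exact instDecidableAnd

/-- nontrivial elements of order three -/
def goodA (a : A4) : Prop := a ≠ 1 ∧ a ^ 3 = 1

instance decGoodA (a : A4) : Decidable (goodA a) := by
  unfold goodA
  exact instDecidableAnd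

/-- involutions with both coordinates nontrivial -/
def goodX (x : GG) : Prop := x ^ 2 = 1 ∧ x.1 ≠ 1 ∧ x.2 ≠ 1

instance decGoodX (x : GG) : Decidable (goodX x) := by
  unfold goodX
  exact instDecidableAnd

/-- the final conclusion for a pair -/
def concl (a b : A4) (x y : GG) : Prop :=
  (x.1 ≠ y.1 ∧ x.2 ≠ y.2) → (PP (a, b) x y ∨ PP (a, b⁻¹) x y)

instance decConcl (a b : A4) (x y : GG) : Decidable (concl a b x y) := by
  unfold concl
  infer_instance

theorem key : ∀ a : A4, goodA a → ∀ b : A4, goodA b →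
    ∀ x : GG, goodX x → ∀ y : GG, goodX y → concl a b x y := by decide +kernel

theorem fact144 : (144 : ℕ).factorization 3 = 2 := by
  have : (144 : ℕ) = 3 ^ 2 * 16 := by norm_num
  rw [this, Nat.factorization_mul (by norm_num) (by norm_num),
    Nat.Prime.factorization_pow Nat.prime_three]
  simp [Nat.factorization_eq_zero_of_not_dvd (show ¬ 3 ∣ 16 by norm_num)]

theorem card_GG : Nat.card GG = 144 := by
  rw [Nat.card_eq_fintype_card]
  decide +kernel

theorem card_A4 : Nat.card A4 = 12 := by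
  rw [Nat.card_eq_fintype_card]
  decide +kernel

instance fact3 : Fact (Nat.Prime 3) := ⟨Nat.prime_three⟩

/-- In the direct product P = A₄ × A₄, let X be the Sylow 2-subgroup, X₁ and X₂ its intersections with the two direct factors, Q a Sylow 3-subgroup and Q₁, Q₂ its intersections with the two factors. Then every subgroup B of X of order 4 either meets X₁ or X₂ nontrivially, or is normalized by one of the two subgroups of Q of order 3 other than Q₁ and Q₂. -/
theorem result
    (X : Sylow 2 (↥(alternatingGroup (Fin 4)) × ↥(alternatingGroup (Fin 4))))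
    (Q : Sylow 3 (↥(alternatingGroup (Fin 4)) × ↥(alternatingGroup (Fin 4))))
    (B : Subgroup (↥(alternatingGroup (Fin 4)) × ↥(alternatingGroup (Fin 4)))) (hBX : B ≤ (X : Subgroup _)) (hB4 : Nat.card ↥B = 4) :
    B ⊓ ((X : Subgroup _) ⊓ Subgroup.prod ⊤ ⊥) ≠ ⊥ ∨ B ⊓ ((X : Subgroup _) ⊓ Subgroup.prod ⊥ ⊤) ≠ ⊥ ∨
      ∃ R : Subgroup (↥(alternatingGroup (Fin 4)) × ↥(alternatingGroup (Fin 4))), R ≤ (Q : Subgroup _) ∧ Nat.card ↥R = 3 ∧
        R ≠ (Q : Subgroup _) ⊓ Subgroup.prod ⊤ ⊥ ∧ R ≠ (Q : Subgroup _) ⊓ Subgroup.prod ⊥ ⊤ ∧ R ≤ Subgroup.normalizer (B : Set _) := by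
  classical
  by_cases h1 : B ⊓ ((X : Subgroup _) ⊓ Subgroup.prod ⊤ ⊥) ≠ ⊥
  · exact Or.inl h1
  by_cases h2 : B ⊓ ((X : Subgroup _) ⊓ Subgroup.prod ⊥ ⊤) ≠ ⊥
  · exact Or.inr (Or.inl h2)
  right; right
  rw [not_not] at h1 h2
  have F1 : ∀ z ∈ B, z.2 = 1 → z = 1 := by
    intro z hz hz2
    have hp : z ∈ Subgroup.prod (⊤ : Subgroup A4) (⊥ : Subgroup A4) :=
      Subgroup.mem_prod.2 ⟨Subgroup.mem_top _, Subgroup.mem_bot.2 hz2⟩
    have hm : z ∈ B ⊓ ((X : Subgroup _) ⊓ Subgroup.prod ⊤ ⊥) :=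
      Subgroup.mem_inf.2 ⟨hz, Subgroup.mem_inf.2 ⟨hBX hz, hp⟩⟩
    rw [h1, Subgroup.mem_bot] at hm
    exact hm
  have F2 : ∀ z ∈ B, z.1 = 1 → z = 1 := by
    intro z hz hz2
    have hp : z ∈ Subgroup.prod (⊥ : Subgroup A4) (⊤ : Subgroup A4) :=
      Subgroup.mem_prod.2 ⟨Subgroup.mem_bot.2 hz2, Subgroup.mem_top _⟩
    have hm : z ∈ B ⊓ ((X : Subgroup _) ⊓ Subgroup.prod ⊥ ⊤) :=
      Subgroup.mem_inf.2 ⟨hz, Subgroup.mem_inf.2 ⟨hBX hz, hp⟩⟩
    rw [h2, Subgroup.mem_bot] at hm
    exact hm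
  have F3 : ∀ z ∈ B, z ^ 2 = 1 := by
    intro z hz
    apply pow4
    have h := pow_card_eq_one' (G := ↥B) (x := ⟨z, hz⟩)
    rw [hB4] at h
    exact congrArg Subtype.val h
  -- two generators of B
  have hBne : B ≠ ⊥ := by
    intro h
    rw [h, Subgroup.card_bot] at hB4
    omega
  obtain ⟨x, hxB, hx1⟩ := (Subgroup.bot_or_exists_ne_one B).resolve_left hBne
  have hox : orderOf x = 2 := orderOf_eq_prime (F3 x hxB) hx1
  have hy : ∃ y ∈ B, y ∉ Subgroup.zpowers x := by
    by_contra h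
    have hall : ∀ y ∈ B, y ∈ Subgroup.zpowers x := fun y hy => by_contra fun hn => h ⟨y, hy, hn⟩
    have hle : Subgroup.zpowers x ≤ B := Subgroup.zpowers_le.2 hxB
    have heq : B = Subgroup.zpowers x := le_antisymm hall hle
    rw [heq, Nat.card_zpowers, hox] at hB4
    omega
  obtain ⟨y, hyB, hyx⟩ := hy
  have hy1 : y ≠ 1 := fun h => hyx (h ▸ Subgroup.one_mem _)
  have hyx' : y ≠ x := fun h => hyx (h ▸ Subgroup.mem_zpowers x)
  have gx : goodX x := ⟨F3 x hxB, fun h => hx1 (F2 x hxB h), fun h => hx1 (F1 x hxB h)⟩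
  have gy : goodX y := ⟨F3 y hyB, fun h => hy1 (F2 y hyB h), fun h => hy1 (F1 y hyB h)⟩
  have hxy1 : x.1 ≠ y.1 := by
    intro h
    apply hyx'
    have hz : x⁻¹ * y ∈ B := B.mul_mem (B.inv_mem hxB) hyB
    have := F2 _ hz (by rw [Prod.fst_mul, Prod.fst_inv, h, inv_mul_cancel])
    exact (inv_mul_eq_one.1 this).symm
  have hxy2 : x.2 ≠ y.2 := by
    intro h
    apply hyx'
    have hz : x⁻¹ * y ∈ B := B.mul_mem (B.inv_mem hxB) hyB
    have := F1 _ hz (by rw [Prod.snd_mul, Prod.snd_inv, h, inv_mul_cancel])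
    exact (inv_mul_eq_one.1 this).symm
  -- the elements of B
  have hxinv : x⁻¹ = x := by
    rw [inv_eq_iff_mul_eq_one, ← sq]
    exact F3 x hxB
  have hBel : ∀ n ∈ B, n = 1 ∨ n = x ∨ n = y ∨ n = x * y := by
    have hS : ({1, x, y, x * y} : Finset GG).card = 4 := by
      rw [Finset.card_insert_of_notMem, Finset.card_insert_of_notMem,
        Finset.card_insert_of_notMem, Finset.card_singleton]
      · rw [Finset.mem_singleton]
        intro h
        apply hx1
        exact (mul_eq_right (b := y)).1 h.symm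
      · rw [Finset.mem_insert, Finset.mem_singleton]
        rintro (h | h)
        · exact hyx' h.symm
        · apply hy1
          exact (mul_eq_left (a := x)).1 h.symm
      · rw [Finset.mem_insert, Finset.mem_insert, Finset.mem_singleton]
        rintro (h | h | h)
        · exact hx1 h.symm
        · exact hy1 h.symm
        · apply hyx'
          have : y = x⁻¹ := (eq_inv_of_mul_eq_one_right h.symm)
          rw [this, hxinv]
    have hsub : ((({1, x, y, x * y} : Finset GG)) : Set GG) ⊆ (B : Set GG) := by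
      intro n hn
      rw [Finset.mem_coe, Finset.mem_insert, Finset.mem_insert, Finset.mem_insert,
        Finset.mem_singleton] at hn
      rcases hn with rfl | rfl | rfl | rfl
      · exact B.one_mem
      · exact hxB
      · exact hyB
      · exact B.mul_mem hxB hyB
    have hcard : (B : Set GG).ncard ≤ ((({1, x, y, x * y} : Finset GG)) : Set GG).ncard := by
      rw [Set.ncard_coe_finset, hS, ← Nat.card_coe_set_eq]
      exact le_of_eq hB4
    have heq := Set.eq_of_subset_of_ncard_le hsub hcard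
    intro n hn
    have : n ∈ ((({1, x, y, x * y} : Finset GG)) : Set GG) := by
      rw [heq]
      exact hn
    rw [Finset.mem_coe, Finset.mem_insert, Finset.mem_insert, Finset.mem_insert,
      Finset.mem_singleton] at this
    exact this
  -- the Sylow 3-subgroup
  have hQ9 : Nat.card (Q : Subgroup GG) = 9 := by
    rw [Sylow.card_eq_multiplicity, card_GG, fact144]
    norm_num
  have hQpow : ∀ z ∈ (Q : Subgroup GG), z ^ 9 = 1 := by
    intro z hz
    have h := pow_card_eq_one' (G := ↥(Q : Subgroup GG)) (x := ⟨z, hz⟩)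
    rw [hQ9] at h
    exact congrArg Subtype.val h
  have hA : ∃ z ∈ (Q : Subgroup GG), z ≠ 1 ∧ z.2 = 1 := by
    by_contra hno
    have inj : Function.Injective
        ((MonoidHom.snd A4 A4).comp (Q : Subgroup GG).subtype) := by
      rw [injective_iff_map_eq_one]
      intro z hz
      by_contra hz1
      exact hno ⟨z.1, z.2, fun h => hz1 (Subtype.ext h), hz⟩
    have hd := Subgroup.card_dvd_of_injective _ inj
    rw [hQ9, card_A4] at hd
    omega
  have hB' : ∃ z ∈ (Q : Subgroup GG), z ≠ 1 ∧ z.1 = 1 := by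
    by_contra hno
    have inj : Function.Injective
        ((MonoidHom.fst A4 A4).comp (Q : Subgroup GG).subtype) := by
      rw [injective_iff_map_eq_one]
      intro z hz
      by_contra hz1
      exact hno ⟨z.1, z.2, fun h => hz1 (Subtype.ext h), hz⟩
    have hd := Subgroup.card_dvd_of_injective _ inj
    rw [hQ9, card_A4] at hd
    omega
  obtain ⟨za, hzaQ, hza1, hza2⟩ := hA
  obtain ⟨zb, hzbQ, hzb1, hzb2⟩ := hB'
  have ga : goodA za.1 := by
    refine ⟨fun h => hza1 (Prod.ext h hza2), pow9 _ ?_⟩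
    have := hQpow za hzaQ
    exact congrArg Prod.fst this
  have gb : goodA zb.2 := by
    refine ⟨fun h => hzb1 (Prod.ext hzb2 h), pow9 _ ?_⟩
    have := hQpow zb hzbQ
    exact congrArg Prod.snd this
  have finish : ∀ r : GG, r ∈ (Q : Subgroup GG) → r ^ 3 = 1 → r.1 ≠ 1 → r.2 ≠ 1 → PP r x y →
      ∃ R : Subgroup GG, R ≤ (Q : Subgroup GG) ∧ Nat.card ↥R = 3 ∧
        R ≠ (Q : Subgroup GG) ⊓ Subgroup.prod ⊤ ⊥ ∧ R ≠ (Q : Subgroup GG) ⊓ Subgroup.prod ⊥ ⊤ ∧
        R ≤ Subgroup.normalizer (B : Set GG) := by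
    intro r hrQ hr3 hr1 hr2 hP
    have hrne : r ≠ 1 := fun h => hr1 (by rw [h]; rfl)
    refine ⟨Subgroup.zpowers r, Subgroup.zpowers_le.2 hrQ, ?_, ?_, ?_, ?_⟩
    · rw [Nat.card_zpowers]
      exact orderOf_eq_prime hr3 hrne
    · intro h
      have hm : r ∈ (Q : Subgroup GG) ⊓ Subgroup.prod ⊤ ⊥ := h ▸ Subgroup.mem_zpowers r
      have := Subgroup.mem_prod.1 (Subgroup.mem_inf.1 hm).2
      exact hr2 (Subgroup.mem_bot.1 this.2)
    · intro h
      have hm : r ∈ (Q : Subgroup GG) ⊓ Subgroup.prod ⊥ ⊤ := h ▸ Subgroup.mem_zpowers r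
      have := Subgroup.mem_prod.1 (Subgroup.mem_inf.1 hm).2
      exact hr1 (Subgroup.mem_bot.1 this.1)
    · rw [Subgroup.zpowers_le]
      apply mem_normalizer_of_conj_smul_le
      intro z hz
      rw [mem_conj_smul] at hz
      have hz' : z = r * (r⁻¹ * z * r) * r⁻¹ := by group
      rw [hz']
      have hxm : r * x * r⁻¹ ∈ B := by
        rcases hP.1 with h | h | h <;> rw [h]
        · exact hxB
        · exact hyB
        · exact B.mul_mem hxB hyB
      have hym : r * y * r⁻¹ ∈ B := by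
        rcases hP.2 with h | h | h <;> rw [h]
        · exact hxB
        · exact hyB
        · exact B.mul_mem hxB hyB
      rcases hBel _ hz with h | h | h | h <;> rw [h]
      · rw [mul_one, mul_inv_cancel]
        exact B.one_mem
      · exact hxm
      · exact hym
      · have : r * (x * y) * r⁻¹ = (r * x * r⁻¹) * (r * y * r⁻¹) := by group
        rw [this]
        exact B.mul_mem hxm hym
  have hc := key za.1 ga zb.2 gb x gx y gy ⟨hxy1, hxy2⟩
  have hza_eq : za = (za.1, 1) := Prod.ext rfl hza2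
  have hzb_eq : zb = (1, zb.2) := Prod.ext hzb2 rfl
  rcases hc with hP | hP
  · apply finish (za.1, zb.2) _ _ ga.1 gb.1 hP
    · have : ((za.1, zb.2) : GG) = za * zb := by
        rw [hza_eq, hzb_eq]
        simp
      rw [this]
      exact Subgroup.mul_mem _ hzaQ hzbQ
    · apply Prod.ext
      · exact ga.2
      · exact gb.2
  · apply finish (za.1, zb.2⁻¹) _ _ ga.1 (inv_ne_one.2 gb.1) hP
    · have : ((za.1, zb.2⁻¹) : GG) = za * zb⁻¹ := by
        rw [hza_eq, hzb_eq]
        simp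
      rw [this]
      exact Subgroup.mul_mem _ hzaQ (Subgroup.inv_mem _ hzbQ)
    · apply Prod.ext
      · exact ga.2
      · show (zb.2⁻¹) ^ 3 = 1
        rw [inv_pow, gb.2, inv_one]

end Cfsg.Agent.S4406
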