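import Mathlib
import Cfsg.Statements.S4408
import Cfsg.Agent.H2.DihedralLemma
import Cfsg.Agent.S0044
import Cfsg.Agent.H1.Cores

set_option autoImplicit false
open Cfsg

namespace Cfsg.Agent.S4408

/-- Let S be a finite solvable group whose Fitting subgroup F(S) has odd order, and let I be an elementary abelian 2-subgroup of S of order 2ⁿ with n ≥ 1. Then F(S) contains subgroups A₁, …, Aₙ of prime order, each normalized by I, pairwise commuting and generating a subgroup A of order |A₁|⋯|Aₙ| (their internal direct product), such that no non-identity element of I centralizes A. -/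
theorem result {S : Type*} [Group S] [Finite S]
    [Group.IsSolvable S] (hF : Odd (Nat.card ↥(Cfsg.fittingSubgroup S)))
    (I : Subgroup S) (hI : Cfsg.IsElementaryAbelian 2 I) (n : ℕ) (hn : 1 ≤ n) (hIn : Nat.card ↥I = 2 ^ n) :
    ∃ f : Fin n → Subgroup S, (∀ i, (Nat.card ↥(f i)).Prime) ∧ (∀ i, f i ≤ Cfsg.fittingSubgroup S) ∧
      (∀ i, I ≤ Subgroup.normalizer ((f i) : Set S)) ∧ (∀ i j, i ≠ j → ∀ a ∈ f i, ∀ b ∈ f j, a * b = b * a) ∧
      Nat.card ↥(⨆ i, f i) = ∏ i, Nat.card ↥(f i) ∧ I ⊓ Subgroup.centralizer ((⨆ i, f i : Subgroup S) : Set S) = ⊥ := by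
  classical
  obtain ⟨F, hFdef⟩ : ∃ F : Subgroup S, F = Cfsg.fittingSubgroup S := ⟨_, rfl⟩
  rw [← hFdef] at hF ⊢
  have hFnorm : F.Normal := by rw [hFdef]; exact Cfsg.Agent.H1.fittingSubgroup_normal
  have hFn : Group.IsNilpotent ↥F := by rw [hFdef]; exact Cfsg.Agent.H1.fittingSubgroup_nilpotent
  have hIF : I ≤ Subgroup.normalizer (F : Set S) := by
    rw [Subgroup.normalizer_eq_top]; exact le_top
  have h2F : ¬ 2 ∣ Nat.card ↥F := by
    rw [← even_iff_two_dvd, Nat.not_even_iff_odd]; exact hF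
  have hfaith : I ⊓ Subgroup.centralizer (F : Set S) = ⊥ := by
    rw [eq_bot_iff]
    intro b hb
    rw [Subgroup.mem_bot]
    have hbF : b ∈ F := by
      rw [hFdef]
      apply Cfsg.Agent.S0044.result
      rw [← hFdef]; exact hb.2
    have h1 : orderOf b ∣ 2 := orderOf_dvd_of_pow_eq_one (hI.2 b hb.1)
    have h2 : orderOf b ∣ Nat.card ↥F := by
      have := orderOf_dvd_natCard (⟨b, hbF⟩ : ↥F)
      rwa [Subgroup.orderOf_mk] at this
    have h3 : orderOf b = 1 := by
      rcases (Nat.dvd_prime Nat.prime_two).1 h1 with h | h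
      · exact h
      · rw [h] at h2; exact absurd h2 h2F
    exact orderOf_eq_one_iff.1 h3
  obtain ⟨a, x, h1, h2, h3, h4, h5, h6, h7, h8⟩ :=
    Cfsg.Agent.H2.DihedralLemma.core n I F hFn hF hI hIn hIF hfaith
  have hord : ∀ i, orderOf (a i) = 2 ∧ orderOf (x i) ≠ 2 := fun i =>
    Cfsg.Agent.H2.DihedralLemma.orderOf_a_eq_two hF hI (h1 i) (h2 i) (h3 i) (h4 i)
  have haa : ∀ i, a i * a i = 1 := fun i =>
    Cfsg.Agent.H2.DihedralLemma.mul_self_of_elementaryAbelian hI (h1 i)
  have hpair : Pairwise fun i j : Fin n => ∀ u v : S, u ∈ Subgroup.zpowers (x i) →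
      v ∈ Subgroup.zpowers (x j) → Commute u v := by
    intro i j hij u v hu hv
    obtain ⟨k, rfl⟩ := Subgroup.mem_zpowers_iff.1 hu
    obtain ⟨l, rfl⟩ := Subgroup.mem_zpowers_iff.1 hv
    have : Commute (x i) (x j) := h6 i j hij
    exact this.zpow_zpow k l
  have hind : iSupIndep fun i : Fin n => Subgroup.zpowers (x i) := by
    intro i
    rw [Subgroup.disjoint_def]
    intro y hy1 hy2
    have hcent : (⨆ j, ⨆ (_ : j ≠ i), Subgroup.zpowers (x j)) ≤
        Subgroup.centralizer ((Subgroup.zpowers (a i) : Subgroup S) : Set S) := by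
      apply iSup₂_le
      intro j hj
      rw [Subgroup.zpowers_le, Cfsg.Agent.H2.DihedralLemma.mem_centralizer_zpowers]
      exact h5 j i hj
    have hc := Cfsg.Agent.H2.DihedralLemma.mem_centralizer_zpowers.1 (hcent hy2)
    obtain ⟨k, rfl⟩ := Subgroup.mem_zpowers_iff.1 hy1
    have hinv : a i * x i ^ k * (a i)⁻¹ = (x i ^ k)⁻¹ := by
      rw [← conj_zpow, h4 i, inv_zpow]
    rw [hc, mul_inv_cancel_right] at hinv
    have hsq : (x i ^ k) ^ 2 = 1 := by
      rw [pow_two]
      nth_rewrite 2 [hinv]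
      exact mul_inv_cancel _
    have hd2 : orderOf (x i ^ k) ∣ 2 := orderOf_dvd_of_pow_eq_one hsq
    have hdx : orderOf (x i ^ k) ∣ orderOf (x i) := orderOf_dvd_of_pow_eq_one (by
      rw [← zpow_natCast, ← zpow_mul, mul_comm, zpow_mul, zpow_natCast, pow_orderOf_eq_one, one_zpow])
    have h31 : orderOf (x i ^ k) = 1 := by
      rcases (Nat.dvd_prime Nat.prime_two).1 hd2 with h | h
      · exact h
      · rw [h] at hdx
        exact absurd ((Nat.prime_dvd_prime_iff_eq Nat.prime_two (h3 i)).1 hdx).symm (hord i).2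
    exact orderOf_eq_one_iff.1 h31
  refine ⟨fun i => Subgroup.zpowers (x i), ?_, ?_, ?_, ?_, ?_, ?_⟩
  · intro i
    show (Nat.card ↥(Subgroup.zpowers (x i))).Prime
    rw [Nat.card_zpowers]; exact h3 i
  · intro i
    show Subgroup.zpowers (x i) ≤ F
    rw [Subgroup.zpowers_le]; exact h2 i
  · intro i
    show I ≤ Subgroup.normalizer ((Subgroup.zpowers (x i) : Subgroup S) : Set S)
    rw [← h7, Subgroup.closure_le]
    rintro _ ⟨j, rfl⟩
    apply Cfsg.Agent.H2.DihedralLemma.mem_normalizer_zpowers (haa j)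
    by_cases hij : i = j
    · subst hij
      rw [h4 i]; exact Subgroup.inv_mem _ (Subgroup.mem_zpowers _)
    · rw [h5 i j hij, mul_inv_cancel_right]; exact Subgroup.mem_zpowers _
  · intro i j hij u hu v hv
    exact (hpair hij u v hu hv).eq
  · show Nat.card ↥(⨆ i, Subgroup.zpowers (x i)) = ∏ i, Nat.card ↥(Subgroup.zpowers (x i))
    rw [← Subgroup.noncommPiCoprod_range (hcomm := hpair),
      ← Nat.card_congr (MonoidHom.ofInjective
        (Subgroup.injective_noncommPiCoprod_of_iSupIndep (hcomm := hpair) hind)).toEquiv,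
      Nat.card_pi]
  · show I ⊓ Subgroup.centralizer ((⨆ i, Subgroup.zpowers (x i) : Subgroup S) : Set S) = ⊥
    rw [eq_bot_iff]
    intro b hb
    rw [Subgroup.mem_bot]
    apply h8 b hb.1
    intro i
    have hxi : x i ∈ ⨆ i, Subgroup.zpowers (x i) :=
      (le_iSup (fun i => Subgroup.zpowers (x i)) i) (Subgroup.mem_zpowers _)
    exact (Subgroup.mem_centralizer_iff.1 hb.2 _ hxi).symm

end Cfsg.Agent.S4408
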