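import Mathlib
import Cfsg.Statements.S4410
import Cfsg.Agent.H2.Transv
import Cfsg.Agent.H2.BG37a
import Cfsg.Agent.H2.EqualOrderSylow

set_option autoImplicit false
open Cfsg
open Cfsg.Agent.H2
set_option linter.style.haveILetI false
set_option linter.unusedSimpArgs false

namespace Cfsg.Agent.S4410

/-- Let V be a finite-dimensional vector space over the field with two elements and S a solvable group of linear automorphisms of V with O₂(S) = 1. If P ∈ S has order 4 and (P − 1)³ = 0 on V, then the image of (P − 1)² has at least 4 elements; equivalently, in the decomposition of V into indecomposable modules for the cyclic group generated by P, at least two summands have dimension 3. -/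
theorem result
    {V : Type*} [AddCommGroup V] [Module (ZMod 2) V] [Finite V]
    (S : Subgroup (V ≃ₗ[ZMod 2] V)) (hS : Group.IsSolvable ↥S) (hO2 : Cfsg.pCore 2 ↥S = ⊥)
    (P : V ≃ₗ[ZMod 2] V) (hPS : P ∈ S) (hP4 : orderOf P = 4)
    (hcub : ((P : V →ₗ[ZMod 2] V) - LinearMap.id) ^ 3 = 0) :
    4 ≤ Nat.card ↥(LinearMap.range (((P : V →ₗ[ZMod 2] V) - LinearMap.id) ^ 2)) := by
  classical
  by_contra hlt
  push Not at hlt
  haveI : Finite (V ≃ₗ[ZMod 2] V) := Finite.of_injective (fun f => (f : V → V)) DFunLike.coe_injective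
  set t : V ≃ₗ[ZMod 2] V := P * P with htdef
  have ht1 : t ≠ 1 := by
    intro h
    have h2 : P ^ 2 = 1 := by rw [pow_two]; exact h
    have h3 := orderOf_dvd_of_pow_eq_one h2
    rw [hP4] at h3
    have := Nat.le_of_dvd (by norm_num) h3
    omega
  have htt : t * t = 1 := by
    have h4 : P ^ 4 = 1 := by rw [← hP4]; exact pow_orderOf_eq_one P
    rw [htdef]
    calc P * P * (P * P) = P ^ 2 * P ^ 2 := by rw [pow_two]
      _ = P ^ 4 := by rw [← pow_add]
      _ = 1 := h4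
  have hR : ∀ v, t v + v ∈ LinearMap.range (((P : V →ₗ[ZMod 2] V) - LinearMap.id) ^ 2) := by
    intro v
    refine ⟨v, ?_⟩
    rw [pow_two, Module.End.mul_apply, LinearMap.sub_apply, LinearMap.sub_apply,
      LinearMap.id_apply, LinearMap.id_apply, LinearEquiv.coe_coe, map_sub, htdef,
      LinearEquiv.mul_apply, ZModModule.sub_eq_add, ZModModule.sub_eq_add, ZModModule.sub_eq_add]
    simp only [add_assoc, add_left_comm, add_comm, Transv.c2, Transv.c2', add_zero, zero_add]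
  have huniq : ∀ u₁ u₂ : V, u₁ ∈ LinearMap.range (((P : V →ₗ[ZMod 2] V) - LinearMap.id) ^ 2) →
      u₂ ∈ LinearMap.range (((P : V →ₗ[ZMod 2] V) - LinearMap.id) ^ 2) → u₁ ≠ 0 → u₂ ≠ 0 →
      u₁ = u₂ := by
    intro u₁ u₂ h1 h2 h10 h20
    by_contra hne
    have := Transv.four_le_card_of_two h1 h2 h10 h20 hne
    omega
  obtain ⟨v₀, hv₀⟩ : ∃ v₀, t v₀ ≠ v₀ := by
    by_contra hcon
    push Not at hcon
    apply ht1
    ext v
    exact hcon v
  set a : V := t v₀ + v₀ with hadef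
  have ha0 : a ≠ 0 := fun h => hv₀ (Transv.eq_of_add_eq_zero h)
  have hyp : Transv.Hyp t a := by
    refine ⟨ha0, htt, ?_⟩
    intro v
    by_cases hv : t v = v
    · left; exact hv
    · right
      have hne : t v + v ≠ 0 := fun h => hv (Transv.eq_of_add_eq_zero h)
      have := huniq _ _ (hR v) (hR v₀) hne ha0
      rw [← hadef] at this
      rw [← this]
      simp only [add_assoc, add_left_comm, add_comm, Transv.c2, Transv.c2', add_zero, zero_add]
  -- the Fitting subgroup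
  haveI : Group.IsSolvable ↥S := hS
  set F : Subgroup ↥S := Cfsg.fittingSubgroup ↥S with hFdef
  haveI hFn : F.Normal := Cfsg.Agent.H1.fittingSubgroup_normal
  have hFnil : Group.IsNilpotent ↥F := Cfsg.Agent.H1.fittingSubgroup_nilpotent
  set K : Subgroup (V ≃ₗ[ZMod 2] V) := F.map S.subtype with hKdef
  have hKnil : Group.IsNilpotent ↥K := by
    haveI := hFnil
    exact Group.nilpotent_of_mulEquiv (F.equivMapOfInjective S.subtype S.subtype_injective)
  have hFodd : ∀ k₀ ∈ F, ∃ m : ℕ, k₀ ^ (2 * m + 1) = 1 := by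
    intro k₀ hk₀
    have hn0 : orderOf k₀ ≠ 0 := (orderOf_pos k₀).ne'
    obtain ⟨e, m, hm, hnm⟩ := Nat.exists_eq_two_pow_mul_odd hn0
    haveI : Fact (Nat.Prime 2) := ⟨Nat.prime_two⟩
    have h1 : (k₀ ^ m) ^ 2 ^ e = 1 := by
      rw [← pow_mul, mul_comm, ← hnm]; exact pow_orderOf_eq_one k₀
    have h2 := Cfsg.Agent.H2.EqOrdSyl.mem_pCore_of_mem_nilpotent_normal F hFnil 2 (k₀ ^ m)
      (F.pow_mem hk₀ m) e h1
    rw [hO2, Subgroup.mem_bot] at h2
    obtain ⟨m', hm'⟩ := hm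
    exact ⟨m', by rw [← hm']; exact h2⟩
  have hKodd : ∀ k ∈ K, Transv.OddOrd k := by
    intro k hk
    obtain ⟨k₀, hk₀, rfl⟩ := Subgroup.mem_map.1 hk
    obtain ⟨m, hm⟩ := hFodd k₀ hk₀
    refine ⟨m, ?_⟩
    have := congrArg S.subtype hm
    simpa using this
  have hPK : ∀ k ∈ K, P * k * P⁻¹ ∈ K := by
    intro k hk
    obtain ⟨k₀, hk₀, rfl⟩ := Subgroup.mem_map.1 hk
    have h1 : (⟨P, hPS⟩ : ↥S) * k₀ * (⟨P, hPS⟩ : ↥S)⁻¹ ∈ F := hFn.conj_mem k₀ hk₀ _
    have h2 := Subgroup.mem_map_of_mem S.subtype h1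
    have h3 : S.subtype ((⟨P, hPS⟩ : ↥S) * k₀ * (⟨P, hPS⟩ : ↥S)⁻¹) = P * S.subtype k₀ * P⁻¹ := rfl
    rw [h3] at h2
    exact h2
  have hcomm := Transv.core hyp htdef K hKnil hKodd hPK
  have htS : t ∈ S := S.mul_mem hPS hPS
  have hcen : (⟨t, htS⟩ : ↥S) ∈ Subgroup.centralizer (F : Set ↥S) := by
    rw [Subgroup.mem_centralizer_iff]
    intro h hh
    apply Subtype.ext
    have := hcomm (h : V ≃ₗ[ZMod 2] V) (Subgroup.mem_map.2 ⟨h, hh, rfl⟩)
    exact this.symm
  have htF : (⟨t, htS⟩ : ↥S) ∈ F := Cfsg.Agent.H2.BG37.centralizer_fitting_le hcen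
  have htK : t ∈ K := Subgroup.mem_map.2 ⟨⟨t, htS⟩, htF, rfl⟩
  exact ht1 (Transv.odd_pow_of_sq (hKodd t htK) htt)

end Cfsg.Agent.S4410
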