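import Cfsg.Statements.S4412
import Cfsg.Agent.Lib.Helper7.E8ActD

set_option autoImplicit false
open Cfsg

namespace Cfsg.Agent.S4412

/-- Let p be an odd prime, P a finite p-group and I an elementary abelian subgroup of order 8 of Aut(P). Call T ∈ I, T ≠ 1, broad when its fixed-point subgroup C_P(T) is not cyclic. Suppose I has a proper subgroup I₀ containing no broad element such that the product of any two broad elements lies in I₀. Then P is abelian of rank exactly 3 (generated by three elements but not by two), there are exactly three broad elements and they generate I, and I₀ is exactly the set of products of two broad elements. -/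
theorem result
    {P : Type*} [Group P] [Finite P] (p : ℕ) (hp : p.Prime) (hp2 : p ≠ 2) (hP : IsPGroup p P)
    (I : Subgroup (MulAut P)) (hI : Cfsg.IsElementaryAbelian 2 I) (hI8 : Nat.card ↥I = 8)
    (I₀ : Subgroup (MulAut P)) (hI₀ : I₀ < I)
    (hdisj : ∀ T ∈ I₀, T ≠ 1 → ∃ g : P, ∀ x : P, (T x = x ↔ x ∈ Subgroup.zpowers g))
    (hprod : ∀ T ∈ I, ∀ T' ∈ I, T ≠ 1 → T' ≠ 1 → (¬ ∃ g : P, ∀ x : P, (T x = x ↔ x ∈ Subgroup.zpowers g)) →
      (¬ ∃ g : P, ∀ x : P, (T' x = x ↔ x ∈ Subgroup.zpowers g)) → T * T' ∈ I₀) :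
    IsMulCommutative P ∧ (∃ a b c : P, Subgroup.closure {a, b, c} = ⊤) ∧ (¬ ∃ a b : P, Subgroup.closure {a, b} = ⊤) ∧
      Nat.card {T : MulAut P // T ∈ I ∧ T ≠ 1 ∧ ¬ ∃ g : P, ∀ x : P, (T x = x ↔ x ∈ Subgroup.zpowers g)} = 3 ∧
      Subgroup.closure {T : MulAut P | T ∈ I ∧ T ≠ 1 ∧ ¬ ∃ g : P, ∀ x : P, (T x = x ↔ x ∈ Subgroup.zpowers g)} = I ∧
      (I₀ : Set (MulAut P)) = {S : MulAut P | ∃ T T' : MulAut P, T ∈ I ∧ T' ∈ I ∧ T ≠ 1 ∧ T' ≠ 1 ∧
        (¬ ∃ g : P, ∀ x : P, (T x = x ↔ x ∈ Subgroup.zpowers g)) ∧ (¬ ∃ g : P, ∀ x : P, (T' x = x ↔ x ∈ Subgroup.zpowers g)) ∧ S = T * T'} := by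
  have : Fact p.Prime := ⟨hp⟩
  obtain ⟨hIcomm, hIexp⟩ := hI
  have hexp : ∀ a : ↥I, a * a = 1 := by
    intro a
    apply Subtype.ext
    have := hIexp a a.2
    rw [pow_two] at this
    exact this
  have hfaith : ∀ a : ↥I, (∀ x : P, a • x = x) → a = 1 := by
    intro a ha
    apply Subtype.ext
    apply MulEquiv.ext
    intro x
    exact ha x
  have hI₀le : I₀ ≤ I := hI₀.le
  -- the non-broad predicate on `↥I` agrees with the statement's
  have hNB : ∀ a : ↥I, Cfsg.Agent.Lib.Helper7.E8Act.NB P a ↔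
      ∃ g : P, ∀ x : P, ((a : MulAut P) x = x ↔ x ∈ Subgroup.zpowers g) := fun a => Iff.rfl
  have hdisj' : ∀ a ∈ I₀.subgroupOf I, a ≠ 1 → Cfsg.Agent.Lib.Helper7.E8Act.NB P a := by
    intro a ha ha1
    rw [hNB]
    exact hdisj (a : MulAut P) (Subgroup.mem_subgroupOf.mp ha) (fun e => ha1 (Subtype.ext e))
  have hprod' : ∀ a b : ↥I, a ≠ 1 → b ≠ 1 → ¬ Cfsg.Agent.Lib.Helper7.E8Act.NB P a →
      ¬ Cfsg.Agent.Lib.Helper7.E8Act.NB P b → a * b ∈ I₀.subgroupOf I := by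
    intro a b ha hb hna hnb
    rw [Subgroup.mem_subgroupOf]
    exact hprod a a.2 b b.2 (fun e => ha (Subtype.ext e)) (fun e => hb (Subtype.ext e))
      (fun h => hna ((hNB a).mpr h)) (fun h => hnb ((hNB b).mpr h))
  obtain ⟨hcomm, h3gen, hn2gen, t₁, t₂, t₃, h12, h13, h23, hbroad, hclos, hA₀⟩ :=
    Cfsg.Agent.Lib.Helper7.E8Act.main_generic (A := ↥I) (P := P) hp2 hP hexp hI8 hfaith
      (I₀.subgroupOf I) hdisj' hprod'
  -- the set of broad elements
  have hset : {T : MulAut P | T ∈ I ∧ T ≠ 1 ∧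
      ¬ ∃ g : P, ∀ x : P, (T x = x ↔ x ∈ Subgroup.zpowers g)} =
      {(t₁ : MulAut P), (t₂ : MulAut P), (t₃ : MulAut P)} := by
    ext T
    simp only [Set.mem_setOf_eq, Set.mem_insert_iff, Set.mem_singleton_iff]
    constructor
    · rintro ⟨hTI, hT1, hTb⟩
      have := (hbroad ⟨T, hTI⟩).mp ⟨fun e => hT1 (congrArg Subtype.val e),
        fun h => hTb ((hNB ⟨T, hTI⟩).mp h)⟩
      rcases this with e | e | e
      · left; exact congrArg Subtype.val e
      · right; left; exact congrArg Subtype.val e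
      · right; right; exact congrArg Subtype.val e
    · intro hT
      have key : ∀ t : ↥I, (t = t₁ ∨ t = t₂ ∨ t = t₃) → (t : MulAut P) ∈ I ∧ (t : MulAut P) ≠ 1 ∧
          ¬ ∃ g : P, ∀ x : P, ((t : MulAut P) x = x ↔ x ∈ Subgroup.zpowers g) := by
        intro t ht
        obtain ⟨ht1, htb⟩ := (hbroad t).mpr ht
        exact ⟨t.2, fun e => ht1 (Subtype.ext e), fun h => htb ((hNB t).mpr h)⟩
      rcases hT with rfl | rfl | rfl
      · exact key t₁ (Or.inl rfl)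
      · exact key t₂ (Or.inr (Or.inl rfl))
      · exact key t₃ (Or.inr (Or.inr rfl))
  have hbr : ∀ t : ↥I, (t = t₁ ∨ t = t₂ ∨ t = t₃) → (t : MulAut P) ≠ 1 ∧
      ¬ ∃ g : P, ∀ x : P, ((t : MulAut P) x = x ↔ x ∈ Subgroup.zpowers g) := by
    intro t ht
    obtain ⟨ht1, htb⟩ := (hbroad t).mpr ht
    exact ⟨fun e => ht1 (Subtype.ext e), fun h => htb ((hNB t).mpr h)⟩
  refine ⟨⟨⟨hcomm⟩⟩, h3gen, hn2gen, ?_, ?_, ?_⟩
  · -- cardinality three
    change Nat.card ↥{T : MulAut P | T ∈ I ∧ T ≠ 1 ∧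
      ¬ ∃ g : P, ∀ x : P, (T x = x ↔ x ∈ Subgroup.zpowers g)} = 3
    rw [hset, Nat.card_coe_set_eq, Set.ncard_eq_three]
    exact ⟨_, _, _, fun e => h12 (Subtype.ext e), fun e => h13 (Subtype.ext e),
      fun e => h23 (Subtype.ext e), rfl⟩
  · -- generation
    rw [hset]
    have h1 : ({(t₁ : MulAut P), (t₂ : MulAut P), (t₃ : MulAut P)} : Set (MulAut P)) =
        I.subtype '' ({t₁, t₂, t₃} : Set ↥I) := by
      ext T
      simp only [Set.mem_insert_iff, Set.mem_singleton_iff, Set.mem_image, Subgroup.coe_subtype]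
      constructor
      · rintro (rfl | rfl | rfl)
        · exact ⟨t₁, Or.inl rfl, rfl⟩
        · exact ⟨t₂, Or.inr (Or.inl rfl), rfl⟩
        · exact ⟨t₃, Or.inr (Or.inr rfl), rfl⟩
      · rintro ⟨t, (rfl | rfl | rfl), rfl⟩
        · left; rfl
        · right; left; rfl
        · right; right; rfl
    rw [h1, ← MonoidHom.map_closure, hclos, ← MonoidHom.range_eq_map, Subgroup.range_subtype]
  · -- description of `I₀`
    ext S
    simp only [SetLike.mem_coe, Set.mem_setOf_eq]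
    constructor
    · intro hS
      have hSI : S ∈ I := hI₀le hS
      have := (hA₀ ⟨S, hSI⟩).mp (Subgroup.mem_subgroupOf.mpr hS)
      rcases this with e | e | e | e
      · refine ⟨t₁, t₁, t₁.2, t₁.2, (hbr t₁ (Or.inl rfl)).1, (hbr t₁ (Or.inl rfl)).1,
          (hbr t₁ (Or.inl rfl)).2, (hbr t₁ (Or.inl rfl)).2, ?_⟩
        have h1 := congrArg Subtype.val e
        have h2 := congrArg Subtype.val (hexp t₁)
        exact h1.trans h2.symm
      · exact ⟨t₁, t₂, t₁.2, t₂.2, (hbr t₁ (Or.inl rfl)).1, (hbr t₂ (Or.inr (Or.inl rfl))).1,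
          (hbr t₁ (Or.inl rfl)).2, (hbr t₂ (Or.inr (Or.inl rfl))).2, congrArg Subtype.val e⟩
      · exact ⟨t₁, t₃, t₁.2, t₃.2, (hbr t₁ (Or.inl rfl)).1, (hbr t₃ (Or.inr (Or.inr rfl))).1,
          (hbr t₁ (Or.inl rfl)).2, (hbr t₃ (Or.inr (Or.inr rfl))).2, congrArg Subtype.val e⟩
      · exact ⟨t₂, t₃, t₂.2, t₃.2, (hbr t₂ (Or.inr (Or.inl rfl))).1,
          (hbr t₃ (Or.inr (Or.inr rfl))).1,
          (hbr t₂ (Or.inr (Or.inl rfl))).2, (hbr t₃ (Or.inr (Or.inr rfl))).2,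
          congrArg Subtype.val e⟩
    · rintro ⟨T, T', hT, hT', hT1, hT'1, hTb, hT'b, rfl⟩
      exact hprod T hT T' hT' hT1 hT'1 hTb hT'b

end Cfsg.Agent.S4412
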