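import Cfsg.Statements.S4413
import Cfsg.Agent.Lib.Helper5.ESOut.Count
import Cfsg.Agent.S0824

set_option autoImplicit false
open Cfsg

namespace Cfsg.Agent.S4413

/-- Let P be an extraspecial 2-group of order 32 with no elementary abelian subgroup of order 8 (the central product of a dihedral and a quaternion group of order 8). Then the inner automorphism group of P has order 16 and the outer automorphism group Aut(P)/Inn(P) is isomorphic to the symmetric group of degree 5; in particular Aut(P) has order 1920. -/
theorem result {P : Type*} [Group P] [Finite P]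
    (hex : Cfsg.IsExtraspecial 2 P) (h32 : Nat.card P = 32)
    (hminus : ∀ A : Subgroup P, Cfsg.IsElementaryAbelian 2 A → Nat.card ↥A ≤ 4)
    [(MulAut.conj : P →* MulAut P).range.Normal] :
    Nat.card ↥(MulAut.conj : P →* MulAut P).range = 16 ∧ Nat.card (MulAut P) = 1920 ∧
      Nonempty ((MulAut P ⧸ (MulAut.conj : P →* MulAut P).range) ≃* Equiv.Perm (Fin 5)) := by
  classical
  have hno : ¬ ∃ A : Subgroup P, Cfsg.IsElementaryAbelian 2 A ∧ Nat.card ↥A = 2 ^ (2 + 1) := by
    rintro ⟨A, hA, hAc⟩
    have := hminus A hA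
    rw [hAc] at this
    norm_num at this
  obtain ⟨e⟩ := Cfsg.Agent.Lib.Helper5.ESOut.out_minus hex 2 (by norm_num)
    (by rw [h32]; norm_num) hno
  obtain ⟨e5⟩ := Cfsg.Agent.S0824.result (F := ZMod 2) (ZMod.card 2)
  have eOut : Cfsg.Out P ≃* Equiv.Perm (Fin 5) := e.trans e5
  have hker : (MulAut.conj : P →* MulAut P).ker = Subgroup.center P := by
    ext g
    rw [MonoidHom.mem_ker, Subgroup.mem_center_iff]
    constructor
    · intro h x
      have := congrArg (fun φ : MulAut P => φ x) h
      simp only [MulAut.conj_apply, MulAut.one_apply] at this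
      exact (mul_inv_eq_iff_eq_mul.mp this).symm
    · intro h
      apply MulEquiv.ext
      intro x
      rw [MulAut.conj_apply, MulAut.one_apply, ← h x, mul_inv_cancel_right]
  have hInn : Nat.card ↥(MulAut.conj : P →* MulAut P).range = 16 := by
    have h1 := Subgroup.card_eq_card_quotient_mul_card_subgroup (MulAut.conj : P →* MulAut P).ker
    have h2 : Nat.card (P ⧸ (MulAut.conj : P →* MulAut P).ker) =
        Nat.card ↥(MulAut.conj : P →* MulAut P).range :=
      Nat.card_congr (QuotientGroup.quotientKerEquivRange _).toEquiv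
    rw [h2, hker, hex.2, h32] at h1
    omega
  have hOut : Nat.card (Cfsg.Out P) = 120 := by
    rw [Nat.card_congr eOut.toEquiv, Nat.card_perm, Nat.card_eq_fintype_card, Fintype.card_fin]
    rfl
  refine ⟨hInn, ?_, ⟨eOut⟩⟩
  have h3 := Subgroup.card_eq_card_quotient_mul_card_subgroup (Cfsg.Inn P)
  rw [hOut] at h3
  have h4 : Nat.card ↥(Cfsg.Inn P) = 16 := hInn
  rw [h4] at h3
  exact h3

end Cfsg.Agent.S4413
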