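import Cfsg.Statements.S4416
import Cfsg.Agent.Lib.Lead.Extraspecial2

set_option autoImplicit false
open Cfsg

namespace Cfsg.Agent.S4416

open Cfsg.Agent.Lead.ES2

theorem result (E : Type*) [Group E] [Finite E] (hE : Cfsg.IsExtraspecial 2 E) :
    (∃ m : ℕ, 1 ≤ m ∧ Nat.card E = 2 ^ (2 * m + 1) ∧
      (Nat.card {x : E // x ^ 2 = 1} = 2 ^ (2 * m) + 2 ^ m ∨ Nat.card {x : E // x ^ 2 = 1} = 2 ^ (2 * m) - 2 ^ m)) ∧
    ∀ (E' : Type*) [Group E'] [Finite E'], Cfsg.IsExtraspecial 2 E' → Nat.card E' = Nat.card E →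
      Nat.card {x : E' // x ^ 2 = 1} = Nat.card {x : E // x ^ 2 = 1} → Nonempty (E ≃* E') := by
  constructor
  · obtain ⟨m, hm1, hm, hN⟩ := type_of hE
    refine ⟨m, hm1, hm, ?_⟩
    rw [← NN_eq_card_sq]
    rcases hN with h | h
    · exact Or.inl h
    · right; omega
  · intro E' _ _ hE' hc hN
    exact iso_of_NN hE hE' hc.symm (by rw [NN_eq_card_sq, NN_eq_card_sq, hN])

end Cfsg.Agent.S4416
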