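import Mathlib
import Cfsg.Statements.S4420

set_option autoImplicit false

namespace Cfsg.Agent.S4420

section
variable {H : Type*} [Group H]

theorem sq_one_inv {x : H} (h : x ^ 2 = 1) : x⁻¹ = x := by
  have : x * x = 1 := by rw [← pow_two]; exact h
  exact inv_eq_of_mul_eq_one_left this

/-- elements outside `C` invert `C` -/
theorem invert (C : Subgroup H) (hC : ∀ x : H, x ∉ C → x ^ 2 = 1) {x : H} (hx : x ∉ C)
    {c : H} (hc : c ∈ C) : x * c * x⁻¹ = c⁻¹ := by
  have hxc : x * c ∉ C := fun h => hx ((Subgroup.mul_mem_cancel_right C hc).1 h)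
  have h1 := hC _ hxc
  have h2 := sq_one_inv (hC x hx)
  rw [h2]
  rw [pow_two] at h1
  -- x c x c = 1
  have : x * c * x = c⁻¹ := by
    apply eq_inv_of_mul_eq_one_left
    rw [← h1]; group
  exact this

theorem comm_of_invert (C : Subgroup H) {x : H} (hx : ∀ c ∈ C, x * c * x⁻¹ = c⁻¹)
    {a b : H} (ha : a ∈ C) (hb : b ∈ C) : a * b = b * a := by
  have h1 := hx _ (C.mul_mem ha hb)
  have h2 := hx a ha
  have h3 := hx b hb
  have h4 : x * (a * b) * x⁻¹ = (x * a * x⁻¹) * (x * b * x⁻¹) := by group
  rw [h4, h2, h3, ← mul_inv_rev] at h1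
  exact (inv_injective h1).symm

theorem sq_one_of_centralize_invert {x c : H} (h1 : x * c * x⁻¹ = c⁻¹) (h2 : x * c = c * x) :
    c ^ 2 = 1 := by
  have : c = c⁻¹ := by
    rw [← h1, h2]; group
  rw [pow_two]
  nth_rewrite 1 [this]
  exact inv_mul_cancel c

theorem comm_of_sq_one (h : ∀ x : H, x ^ 2 = 1) (a b : H) : a * b = b * a := by
  have ha := sq_one_inv (h a)
  have hb := sq_one_inv (h b)
  have hab := sq_one_inv (h (a * b))
  rw [mul_inv_rev, ha, hb] at hab
  exact hab.symm

end

/-- Structure of groups in which every element outside some proper subgroup has square 1. Let H be a finite group with a proper subgroup A such that every element outside A has square 1. Then H has an abelian normal subgroup B of index 2 such that every element outside B is an involution inverting every element of B; and if H is not an elementary abelian 2-group, B is the only abelian normal subgroup of index 2 with this property. -/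
theorem result {H : Type*} [Group H] [Finite H] (A : Subgroup H) (hA : A ≠ ⊤) (hD : ∀ x : H, x ∉ A → x ^ 2 = 1) :
    ∃ B : Subgroup H, B.Normal ∧ IsMulCommutative ↥B ∧ B.index = 2 ∧
      (∀ x : H, x ∉ B → x ^ 2 = 1 ∧ ∀ b ∈ B, x * b * x⁻¹ = b⁻¹) ∧
      (¬ (IsMulCommutative H ∧ ∀ x : H, x ^ 2 = 1) →
        ∀ B' : Subgroup H, B'.Normal → IsMulCommutative ↥B' → B'.index = 2 →
          (∀ x : H, x ∉ B' → x ^ 2 = 1 ∧ ∀ b ∈ B', x * b * x⁻¹ = b⁻¹) → B' = B) := by
  obtain h | ⟨B, hB, hAB⟩ := eq_top_or_exists_le_coatom A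
  · exact absurd h hA
  have hBD : ∀ x : H, x ∉ B → x ^ 2 = 1 := fun x hx => hD x (fun h => hx (hAB h))
  obtain ⟨x₀, hx₀⟩ : ∃ x : H, x ∉ B := by
    by_contra hcon
    push Not at hcon
    exact hB.1 (eq_top_iff.2 fun x _ => hcon x)
  have hinv : ∀ x : H, x ∉ B → ∀ b ∈ B, x * b * x⁻¹ = b⁻¹ := fun x hx b hb => invert B hBD hx hb
  have hcomm : ∀ a ∈ B, ∀ b ∈ B, a * b = b * a := fun a ha b hb =>
    comm_of_invert B (hinv x₀ hx₀) ha hb
  have hnorm : B.Normal := by
    constructor
    intro b hb g
    by_cases hg : g ∈ B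
    · exact B.mul_mem (B.mul_mem hg hb) (B.inv_mem hg)
    · rw [hinv g hg b hb]; exact B.inv_mem hb
  have hidx : B.index = 2 := by
    rw [Subgroup.index_eq_two_iff_exists_notMem_and]
    refine ⟨x₀, hx₀, ?_⟩
    intro b
    by_contra hcon
    push Not at hcon
    obtain ⟨hbx, hb⟩ := hcon
    -- B has exponent 2
    have hB2 : ∀ c ∈ B, c ^ 2 = 1 := by
      intro c hc
      apply sq_one_of_centralize_invert (hinv _ hbx c hc)
      have h1 := hinv b hb c hc
      have h2 := hinv x₀ hx₀ c hc
      have h3 := hinv b hb c⁻¹ (B.inv_mem hc)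
      rw [inv_inv] at h3
      have : b * x₀ * c * (b * x₀)⁻¹ = c := by
        calc b * x₀ * c * (b * x₀)⁻¹ = b * (x₀ * c * x₀⁻¹) * b⁻¹ := by group
          _ = c := by rw [h2, h3]
      calc b * x₀ * c = (b * x₀ * c * (b * x₀)⁻¹) * (b * x₀) := by group
        _ = c * (b * x₀) := by rw [this]
    have hH2 : ∀ h : H, h ^ 2 = 1 := by
      intro h
      by_cases hh : h ∈ B
      · exact hB2 h hh
      · exact hBD h hh
    have hHc := comm_of_sq_one hH2
    -- the subgroup B ∪ B x₀
    let C : Subgroup H :=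
      { carrier := {h | h ∈ B ∨ h * x₀ ∈ B}
        one_mem' := Or.inl B.one_mem
        mul_mem' := by
          intro u v hu hv
          rcases hu with hu | hu <;> rcases hv with hv | hv
          · exact Or.inl (B.mul_mem hu hv)
          · right
            have : u * v * x₀ = u * (v * x₀) := by group
            rw [this]; exact B.mul_mem hu hv
          · right
            have : u * v * x₀ = (u * x₀) * v := by
              rw [mul_assoc, hHc v x₀, ← mul_assoc]
            rw [this]; exact B.mul_mem hu hv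
          · left
            have hx2 : x₀ * x₀ = 1 := by rw [← pow_two]; exact hH2 x₀
            have : u * v = (u * x₀) * (v * x₀) := by
              rw [mul_assoc, ← mul_assoc x₀ v x₀, hHc x₀ v, mul_assoc v, hx2, mul_one]
            rw [this]; exact B.mul_mem hu hv
        inv_mem' := by
          intro u hu
          rw [sq_one_inv (hH2 u)]
          exact hu }
    have hBC : B < C := by
      refine lt_of_le_of_ne (fun u hu => Or.inl hu) ?_
      intro h
      apply hx₀
      rw [h]
      right
      rw [← pow_two, hH2 x₀]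
      exact B.one_mem
    have hCtop : C = ⊤ := hB.2 C hBC
    have hbC : b ∈ C := by rw [hCtop]; trivial
    rcases hbC with h | h
    · exact hb h
    · exact hbx h
  refine ⟨B, hnorm, ⟨⟨fun a b => Subtype.ext (hcomm a a.2 b b.2)⟩⟩, hidx,
    fun x hx => ⟨hBD x hx, hinv x hx⟩, ?_⟩
  intro hne B' _ hB'c hB'i hB'
  by_contra hBB
  apply hne
  -- there is y ∈ B' \ B
  have hy : ∃ y ∈ B', y ∉ B := by
    by_contra hcon
    push Not at hcon
    have hle : B' ≤ B := hcon
    apply hBB
    apply Subgroup.eq_of_le_of_card_ge hle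
    have h1 := Subgroup.card_mul_index B
    have h2 := Subgroup.card_mul_index B'
    rw [hidx] at h1
    rw [hB'i] at h2
    omega
  obtain ⟨y, hyB', hyB⟩ := hy
  have hH2 : ∀ h : H, h ^ 2 = 1 := by
    intro h
    by_cases hh : h ∈ B
    · by_cases hh' : h ∈ B'
      · apply sq_one_of_centralize_invert (hinv y hyB h hh)
        have := hB'c.is_comm.comm ⟨y, hyB'⟩ ⟨h, hh'⟩
        exact congrArg Subtype.val this
      · exact (hB' h hh').1
    · exact hBD h hh
  exact ⟨⟨⟨comm_of_sq_one hH2⟩⟩, hH2⟩

end Cfsg.Agent.S4420
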