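import Mathlib
import Cfsg.Statements.S4421
import Cfsg.Agent.H2.ConjMap

set_option autoImplicit false
open Cfsg

namespace Cfsg.Agent.S4421

open Cfsg.Agent.H2

theorem result {G : Type*} [Group G] [Finite G] (A S H : Subgroup G)
    (hAS : A ≤ S) (hSH : S ≤ H)
    (h1 : ∀ g : G, A.map (MulAut.conj g).toMonoidHom ≤ S → ∃ s ∈ S, A.map (MulAut.conj g).toMonoidHom = A.map (MulAut.conj s).toMonoidHom)
    (h2 : ∀ g : G, S.map (MulAut.conj g).toMonoidHom ≤ H → ∃ y ∈ H, S.map (MulAut.conj g).toMonoidHom = S.map (MulAut.conj y).toMonoidHom)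
    (h3 : ∀ x ∈ Subgroup.normalizer (A : Set G), S.map (MulAut.conj x).toMonoidHom ≤ H) :
    ∀ x ∈ Subgroup.normalizer (A : Set G), ∃ y ∈ H ⊓ Subgroup.normalizer (A : Set G),
      ∃ z ∈ Subgroup.normalizer (S : Set G) ⊓ Subgroup.normalizer (A : Set G), x = y * z := by
  intro x hx
  obtain ⟨y₁, hy₁H, hy₁⟩ := h2 x (h3 x hx)
  -- n = y₁⁻¹ x normalizes S
  have hn : y₁⁻¹ * x ∈ Subgroup.normalizer (S : Set G) := by
    rw [← map_conj_eq_self_iff_mem_normalizer, map_conj_mul, hy₁, ← map_conj_mul, inv_mul_cancel,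
      map_conj_one]
  have hAn : A.map (MulAut.conj (y₁⁻¹ * x)).toMonoidHom ≤ S := by
    calc A.map (MulAut.conj (y₁⁻¹ * x)).toMonoidHom ≤ S.map (MulAut.conj (y₁⁻¹ * x)).toMonoidHom :=
          map_conj_mono hAS _
      _ = S := (map_conj_eq_self_iff_mem_normalizer S _).2 hn
  obtain ⟨s, hsS, hs⟩ := h1 _ hAn
  have hzA : s⁻¹ * (y₁⁻¹ * x) ∈ Subgroup.normalizer (A : Set G) := by
    rw [← map_conj_eq_self_iff_mem_normalizer, map_conj_mul, hs, ← map_conj_mul, inv_mul_cancel,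
      map_conj_one]
  have hzS : s⁻¹ * (y₁⁻¹ * x) ∈ Subgroup.normalizer (S : Set G) :=
    Subgroup.mul_mem _ (Subgroup.inv_mem _ (Subgroup.le_normalizer hsS)) hn
  refine ⟨y₁ * s, ⟨H.mul_mem hy₁H (hSH hsS), ?_⟩, s⁻¹ * (y₁⁻¹ * x), ⟨hzS, hzA⟩, by group⟩
  have : y₁ * s = x * (s⁻¹ * (y₁⁻¹ * x))⁻¹ := by group
  rw [SetLike.mem_coe, this]
  exact Subgroup.mul_mem _ hx (Subgroup.inv_mem _ hzA)

end Cfsg.Agent.S4421
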