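import Mathlib
import Cfsg.Statements.S4422

set_option autoImplicit false
open Cfsg

namespace Cfsg.Agent.S4422

theorem modEq_one_of_primes (e : ℕ) : ∀ m : ℕ, m ≠ 0 → (∀ p : ℕ, p.Prime → p ∣ m → p ≡ 1 [MOD e]) → m ≡ 1 [MOD e] := by
  intro m
  induction m using Nat.strong_induction_on with
  | _ m ih =>
    intro hm0 hp
    by_cases hm1 : m = 1
    · subst hm1; rfl
    · have hpr := Nat.minFac_prime hm1
      have hdvd := Nat.minFac_dvd m
      obtain ⟨k, hk⟩ := hdvd
      have hk0 : k ≠ 0 := by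
        rintro rfl
        rw [mul_zero] at hk
        exact hm0 hk
      have hklt : k < m := by
        have h2 := hpr.two_le
        have : 0 < k := Nat.pos_of_ne_zero hk0
        nlinarith
      have h1 := ih k hklt hk0 (fun p hpp hpk => hp p hpp (by rw [hk]; exact Dvd.dvd.mul_left hpk _))
      have h2 := hp _ hpr (Nat.minFac_dvd m)
      have := h2.mul h1
      rw [← hk, mul_one] at this
      exact this

theorem result (q e m : ℕ) (hq : 2 ≤ q) (he : 1 ≤ e)
    (hm : m ∣ q ^ e - 1) (hcop : ∀ i : ℕ, 1 ≤ i → i < e → Nat.Coprime m (q ^ i - 1)) :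
    m % e = 1 % e := by
  show m ≡ 1 [MOD e]
  have hqe : 1 < q ^ e := Nat.one_lt_pow (by omega) (by omega)
  have hm0 : m ≠ 0 := by
    rintro rfl
    rw [zero_dvd_iff] at hm
    omega
  apply modEq_one_of_primes e m hm0
  intro p hp hpm
  haveI : Fact p.Prime := ⟨hp⟩
  have hpq : p ∣ q ^ e - 1 := hpm.trans hm
  have h1 : ((q : ZMod p)) ^ e = 1 := by
    have : ((q ^ e - 1 : ℕ) : ZMod p) = 0 := (ZMod.natCast_eq_zero_iff _ _).2 hpq
    rw [Nat.cast_sub hqe.le, Nat.cast_pow, Nat.cast_one, sub_eq_zero] at this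
    exact this
  have hq0 : (q : ZMod p) ≠ 0 := by
    intro h
    rw [h, zero_pow (by omega)] at h1
    exact zero_ne_one h1
  have hd := orderOf_dvd_of_pow_eq_one h1
  have hdpos : 0 < orderOf (q : ZMod p) := by
    rw [orderOf_pos_iff]
    exact isOfFinOrder_iff_pow_eq_one.2 ⟨e, by omega, h1⟩
  have hde : orderOf (q : ZMod p) = e := by
    by_contra hne
    have hlt : orderOf (q : ZMod p) < e :=
      lt_of_le_of_ne (Nat.le_of_dvd (by omega) hd) hne
    have hc := hcop _ hdpos hlt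
    have h2 : (q : ZMod p) ^ orderOf (q : ZMod p) = 1 := pow_orderOf_eq_one _
    have hqd : 1 ≤ q ^ orderOf (q : ZMod p) := Nat.one_le_pow _ _ (by omega)
    have h3 : p ∣ q ^ orderOf (q : ZMod p) - 1 := by
      rw [← ZMod.natCast_eq_zero_iff, Nat.cast_sub hqd, Nat.cast_pow, Nat.cast_one, h2, sub_self]
    have h4 : p ∣ Nat.gcd m (q ^ orderOf (q : ZMod p) - 1) := Nat.dvd_gcd hpm h3
    rw [hc] at h4
    exact hp.one_lt.ne' (Nat.dvd_one.1 h4)
  have h5 := ZMod.orderOf_dvd_card_sub_one hq0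
  rw [hde] at h5
  -- e ∣ p - 1
  have : p = (p - 1) + 1 := by have := hp.one_lt; omega
  rw [this]
  have h6 : p - 1 ≡ 0 [MOD e] := (Nat.modEq_zero_iff_dvd).2 h5
  simpa using h6.add_right 1

end Cfsg.Agent.S4422
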