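import Mathlib
import Cfsg.Statements.S4423
import Cfsg.Agent.H2.ZsigBig

set_option autoImplicit false
open Cfsg

namespace Cfsg.Agent.S4423

open Cfsg.Agent.H2.ZsigBig Cfsg.Agent.H9.Zsigmondy

set_option maxRecDepth 100000

theorem wit (a n m : ℕ) (h1 : m ∣ a ^ n - 1)
    (h2 : ∀ i < n, 1 ≤ i → Nat.Coprime m (a ^ i - 1)) (h3 : 3 * n + 1 ≤ m) :
    ∃ m : ℕ, m ∣ a ^ n - 1 ∧ (∀ i : ℕ, 1 ≤ i → i < n → Nat.Coprime m (a ^ i - 1)) ∧
      3 * n + 1 ≤ m :=
  ⟨m, h1, fun i hi1 hin => h2 i hin hi1, h3⟩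

theorem exc_bound (a n B : ℕ) (L : List (ℕ × ℕ)) (hB : 0 < B)
    (hfac : a ^ n - 1 = B * (L.map Prod.snd).prod)
    (hL : ∀ x ∈ L, 1 ≤ x.1 ∧ x.1 < n ∧ x.2 ∣ a ^ x.1 - 1) (m : ℕ) (hm : m ∣ a ^ n - 1)
    (hc : ∀ i : ℕ, 1 ≤ i → i < n → Nat.Coprime m (a ^ i - 1)) : m ≤ B := by
  have h1 : Nat.Coprime m (L.map Prod.snd).prod := by
    rw [Nat.coprime_list_prod_right_iff]
    intro d hd
    rw [List.mem_map] at hd
    obtain ⟨x, hx, rfl⟩ := hd
    obtain ⟨h1, h2, h3⟩ := hL x hx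
    exact Nat.Coprime.coprime_dvd_right h3 (hc x.1 h1 h2)
  rw [hfac] at hm
  exact Nat.le_of_dvd hB (h1.dvd_of_dvd_mul_right hm)

theorem result (q e : ℕ) (hq : IsPrimePow q) (he : 3 ≤ e) :
    ((q, e) ∉ [(2, 6), (2, 4), (2, 10), (2, 12), (2, 18), (3, 4), (3, 6), (5, 6), (2, 3), (2, 8), (2, 20), (4, 3), (4, 6)] →
      ∃ m : ℕ, m ∣ q ^ e - 1 ∧ (∀ i : ℕ, 1 ≤ i → i < e → Nat.Coprime m (q ^ i - 1)) ∧ 3 * e + 1 ≤ m) ∧
    ((q, e) ∈ [(2, 6), (2, 4), (2, 10), (2, 12), (2, 18), (3, 4), (3, 6), (5, 6), (2, 3), (2, 8), (2, 20), (4, 3), (4, 6)] →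
      ∀ m : ℕ, m ∣ q ^ e - 1 → (∀ i : ℕ, 1 ≤ i → i < e → Nat.Coprime m (q ^ i - 1)) → m ≤ 2 * e + 1) := by
  have hq2 : 2 ≤ q := hq.two_le
  constructor
  · intro hne
    obtain ⟨P, hP, hPe, hmax⟩ := exists_max_prime e (by omega)
    rcases big_general q e P hq2 he hP hPe hmax with hlt | hbox
    · exact hering_general q e P hq2 he hP hPe hmax hlt
    · simp only [Box, List.mem_cons, Prod.mk.injEq, List.mem_nil_iff, or_false] at hbox
      rcases hbox with ⟨rfl, rfl, -⟩ | ⟨rfl, rfl, -⟩ | ⟨rfl, rfl, -⟩ | ⟨rfl, rfl, -⟩ | ⟨rfl, rfl, -⟩ | ⟨rfl, rfl, -⟩ | ⟨rfl, rfl, -⟩ | ⟨rfl, rfl, -⟩ | ⟨rfl, rfl, -⟩ | ⟨rfl, rfl, -⟩ | ⟨rfl, rfl, -⟩ | ⟨rfl, rfl, -⟩ | ⟨rfl, rfl, -⟩ | ⟨rfl, rfl, -⟩ | ⟨rfl, rfl, -⟩ | ⟨rfl, rfl, -⟩ | ⟨rfl, rfl, -⟩ | ⟨rfl, rfl, -⟩ | ⟨rfl, rfl, -⟩ | ⟨rfl, rfl, -⟩ | ⟨rfl, rfl, -⟩ | ⟨rfl, rfl, -⟩ | ⟨rfl, rfl, -⟩ | ⟨rfl, rfl, -⟩ | ⟨rfl, rfl, -⟩ | ⟨rfl, rfl, -⟩ | ⟨rfl, rfl, -⟩ | ⟨rfl, rfl, -⟩ | ⟨rfl, rfl, -⟩ |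 ⟨rfl, rfl, -⟩ | ⟨rfl, rfl, -⟩ | ⟨rfl, rfl, -⟩ | ⟨rfl, rfl, -⟩ | ⟨rfl, rfl, -⟩ | ⟨rfl, rfl, -⟩ | ⟨rfl, rfl, -⟩ | ⟨rfl, rfl, -⟩
      · exact (hne (by decide)).elim
      · exact wit 3 3 13 (by decide) (by decide) (by norm_num)
      · exact (hne (by decide)).elim
      · exact wit 5 3 31 (by decide) (by decide) (by norm_num)
      · exact (hne (by decide)).elim
      · exact (hne (by decide)).elim
      · exact (hne (by decide)).elim
      · exact (hne (by decide)).elim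
      · exact wit 6 6 31 (by decide) (by decide) (by norm_num)
      · exact wit 7 6 43 (by decide) (by decide) (by norm_num)
      · exact (hne (by decide)).elim
      · exact wit 3 12 73 (by decide) (by decide) (by norm_num)
      · exact wit 2 15 151 (by decide) (by decide) (by norm_num)
      · exact wit 2 21 337 (by decide) (by decide) (by norm_num)
      · exact wit 2 24 241 (by decide) (by decide) (by norm_num)
      · exact wit 2 30 331 (by decide) (by decide) (by norm_num)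
      · exact wit 2 42 5419 (by decide) (by decide) (by norm_num)
      · exact wit 2 48 673 (by decide) (by decide) (by norm_num)
      · exact wit 2 60 1321 (by decide) (by decide) (by norm_num)
      · exact wit 2 9 73 (by decide) (by decide) (by norm_num)
      · exact (hne (by decide)).elim
      · exact wit 3 18 703 (by decide) (by decide) (by norm_num)
      · exact wit 2 36 109 (by decide) (by decide) (by norm_num)
      · exact wit 2 5 31 (by decide) (by decide) (by norm_num)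
      · exact wit 3 5 121 (by decide) (by decide) (by norm_num)
      · exact (hne (by decide)).elim
      · exact wit 3 10 61 (by decide) (by decide) (by norm_num)
      · exact wit 4 10 41 (by decide) (by decide) (by norm_num)
      · exact wit 2 15 151 (by decide) (by decide) (by norm_num)
      · exact (hne (by decide)).elim
      · exact wit 2 30 331 (by decide) (by decide) (by norm_num)
      · exact wit 2 7 127 (by decide) (by decide) (by norm_num)
      · exact wit 2 14 43 (by decide) (by decide) (by norm_num)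
      · exact (hne (by decide)).elim
      · exact (hne (by decide)).elim
      · exact wit 4 4 17 (by decide) (by decide) (by norm_num)
      · exact (hne (by decide)).elim
  · intro hmem m hm hc
    simp only [List.mem_cons, Prod.mk.injEq, List.mem_nil_iff, or_false] at hmem
    rcases hmem with ⟨rfl, rfl⟩ | ⟨rfl, rfl⟩ | ⟨rfl, rfl⟩ | ⟨rfl, rfl⟩ | ⟨rfl, rfl⟩ | ⟨rfl, rfl⟩ | ⟨rfl, rfl⟩ | ⟨rfl, rfl⟩ | ⟨rfl, rfl⟩ | ⟨rfl, rfl⟩ | ⟨rfl, rfl⟩ | ⟨rfl, rfl⟩ | ⟨rfl, rfl⟩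
    · exact le_trans (exc_bound 2 6 1 [(2, 3), (2, 3), (3, 7)] (by norm_num) (by decide) (by decide) m hm hc) (by norm_num)
    · exact le_trans (exc_bound 2 4 5 [(2, 3)] (by norm_num) (by decide) (by decide) m hm hc) (by norm_num)
    · exact le_trans (exc_bound 2 10 11 [(2, 3), (5, 31)] (by norm_num) (by decide) (by decide) m hm hc) (by norm_num)
    · exact le_trans (exc_bound 2 12 13 [(2, 3), (2, 3), (4, 5), (3, 7)] (by norm_num) (by decide) (by decide) m hm hc) (by norm_num)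
    · exact le_trans (exc_bound 2 18 19 [(2, 3), (2, 3), (2, 3), (3, 7), (9, 73)] (by norm_num) (by decide) (by decide) m hm hc) (by norm_num)
    · exact le_trans (exc_bound 3 4 5 [(1, 2), (1, 2), (1, 2), (1, 2)] (by norm_num) (by decide) (by decide) m hm hc) (by norm_num)
    · exact le_trans (exc_bound 3 6 7 [(1, 2), (1, 2), (1, 2), (3, 13)] (by norm_num) (by decide) (by decide) m hm hc) (by norm_num)
    · exact le_trans (exc_bound 5 6 7 [(1, 2), (1, 2), (1, 2), (2, 3), (2, 3), (3, 31)] (by norm_num) (by decide) (by decide) m hm hc) (by norm_num)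
    · exact le_trans (exc_bound 2 3 7 [] (by norm_num) (by decide) (by decide) m hm hc) (by norm_num)
    · exact le_trans (exc_bound 2 8 17 [(2, 3), (4, 5)] (by norm_num) (by decide) (by decide) m hm hc) (by norm_num)
    · exact le_trans (exc_bound 2 20 41 [(2, 3), (4, 5), (4, 5), (10, 11), (5, 31)] (by norm_num) (by decide) (by decide) m hm hc) (by norm_num)
    · exact le_trans (exc_bound 4 3 7 [(1, 3), (1, 3)] (by norm_num) (by decide) (by decide) m hm hc) (by norm_num)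
    · exact le_trans (exc_bound 4 6 13 [(1, 3), (1, 3), (2, 5), (3, 7)] (by norm_num) (by decide) (by decide) m hm hc) (by norm_num)

end Cfsg.Agent.S4423
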