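import Mathlib
import Cfsg.Statements.S4424
import Cfsg.Agent.Lib.helper3.ProjVanish7
import Cfsg.Agent.Lib.helper3.BlockBasic
import Cfsg.Agent.Lib.helper3.PRegular
import Cfsg.Agent.Lib.helper3.NormTwo
import Cfsg.Agent.Lib.helper3.Irr5

set_option autoImplicit false
open Cfsg

namespace Cfsg.Agent.S4424

open Cfsg.Agent.Lib.helper3.Block Cfsg.Agent.Lib.helper3.LocalM Cfsg.Agent.Lib.helper3.Central
open Cfsg.Agent.Lib.helper3.Irr Cfsg.Agent.Lib.helper3.CharBasic Cfsg.Agent.Lib.helper3.IndFun
open Cfsg.Agent.Lib.helper3.BrauerInd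
set_option linter.style.haveILetI false

/-- Let χ be an irreducible character of the finite group G lying in the p-block B (relative to a maximal ideal M of the algebraic integers containing p), and let p^a be the p-part of the order of G. Then the class function that equals p^a · χ on the p-regular elements and vanishes on the p-singular elements is an integer combination of the irreducible characters in B: there are integers a_ψ, zero for ψ outside B, with that function equal to Σ a_ψ ψ. -/
theorem result {G : Type*} [Group G] [Finite G] (p : ℕ) [Fact p.Prime] (M : Ideal Cfsg.AlgInt) (hM : Cfsg.IsPModular p M) (B : Set (Cfsg.IrrCharacter G)) (hB : Cfsg.IsPBlock M B) (χ : Cfsg.IrrCharacter G) (hχ : χ ∈ B) : ∃ a : Cfsg.IrrCharacter G → ℤ, (∀ ψ, ψ ∉ B → a ψ = 0) ∧ (fun x : G => if p ∣ orderOf x then (0 : ℂ) else ((p ^ (Nat.card G).factorization p : ℕ) : ℂ) * (χ : G → ℂ) x) = fun x => ∑ᶠ ψ : Cfsg.IrrCharacter G, (a ψ : ℂ) * (ψ : G → ℂ) x := by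
  classical
  letI : Fintype G := Fintype.ofFinite G
  haveI hMp := isPrime_of_isPModular hM
  have hp : p.Prime := hM.1
  obtain ⟨χ₀, rfl⟩ := hB
  have ha : ∀ j : ℕ, p ^ j ∣ Nat.card G → j ≤ (Nat.card G).factorization p := by
    intro j hj
    exact (Nat.Prime.pow_dvd_iff_le_factorization hp Nat.card_pos.ne').mp hj
  have hgen := pregular_part_generalized p (χ : G → ℂ) (isCharacter_of_isIrrCharacter χ.2)
    ((Nat.card G).factorization p) ha
  obtain ⟨z, hz⟩ := exists_int_decomposition hgen
  refine ⟨z, ?_, ?_⟩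
  · intro ψ hψ
    have hne : ¬ Cfsg.SameBlock M (χ : G → ℂ) (ψ : G → ℂ) := by
      intro h
      exact hψ (sameBlock_trans hχ h)
    have h1 := classInner_decomposition_left (fun φ => (z φ : ℂ)) ψ
    rw [← hz, classInner_apply] at h1
    have h2 := regular_orthogonality hM χ ψ hne
    have h3 : ∑ g : G, (if p ∣ orderOf g then (0 : ℂ)
        else ((p ^ (Nat.card G).factorization p : ℕ) : ℂ) * (χ : G → ℂ) g)
          * (starRingEnd ℂ) ((ψ : G → ℂ) g) = 0 := by
      have h4 : ∀ g : G, (if p ∣ orderOf g then (0 : ℂ)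
          else ((p ^ (Nat.card G).factorization p : ℕ) : ℂ) * (χ : G → ℂ) g)
            * (starRingEnd ℂ) ((ψ : G → ℂ) g)
          = ((p ^ (Nat.card G).factorization p : ℕ) : ℂ) * ((if p ∣ orderOf g then (0 : ℂ) else 1)
            * ((χ : G → ℂ) g * (starRingEnd ℂ) ((ψ : G → ℂ) g))) := by
        intro g
        split_ifs
        · ring
        · ring
      rw [Finset.sum_congr rfl (fun g _ => h4 g), ← Finset.mul_sum, h2, mul_zero]
    rw [h3, mul_zero] at h1
    exact_mod_cast h1.symm
  · rw [hz]
    funext x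
    rw [finsum_eq_sum_of_fintype, Finset.sum_apply]
    apply Finset.sum_congr rfl
    intro ψ _
    rw [Pi.smul_apply, smul_eq_mul]

end Cfsg.Agent.S4424
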