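import Mathlib
import Cfsg.Statements.S4425
import Cfsg.Agent.Lib.helper3.BlockBasic
import Cfsg.Agent.Lib.helper3.BlockIdem2
import Cfsg.Agent.Lib.helper3.Degrees
import Cfsg.Agent.Lib.helper3.PRegular
import Cfsg.Agent.Lib.helper3.NormTwo
import Cfsg.Agent.Lib.helper3.Irr5
import Cfsg.Agent.Lib.helper3.Irr11
import Cfsg.Agent.Lib.helper3.Irr13
import Cfsg.Agent.Lib.helper3.AlgInt
import Cfsg.Agent.Lib.helper3.BrauerChar
import Cfsg.Agent.Lib.helper3.Lin

set_option autoImplicit false
open Cfsg

namespace Cfsg.Agent.S4425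

open Cfsg.Agent.Lib.helper3.Block Cfsg.Agent.Lib.helper3.LocalM Cfsg.Agent.Lib.helper3.Central
open Cfsg.Agent.Lib.helper3.Irr Cfsg.Agent.Lib.helper3.CharBasic Cfsg.Agent.Lib.helper3.IndFun
open Cfsg.Agent.Lib.helper3.BrauerInd Cfsg.Agent.Lib.helper3.AlgInt Cfsg.Agent.Lib.helper3.Lin
open Cfsg.Agent.Lib.helper3.HallNilp
set_option linter.style.haveILetI false

/-- Let χ be an irreducible character of the finite group G, p a prime, p^a the p-part of the order of G and p^b the p-part of the degree χ(1). Let χ̃ be the class function equal to p^a · χ on p-regular elements and zero on p-singular elements. Then p^(−b) · χ̃ is a generalized character of G, while p^(−(b+1)) · χ̃ is not. -/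
theorem result {G : Type*} [Group G] [Finite G] (p : ℕ) [Fact p.Prime] (χ : Cfsg.IrrCharacter G) : Cfsg.IsGeneralizedCharacter G (fun x : G => if p ∣ orderOf x then (0 : ℂ) else ((p ^ ((Nat.card G).factorization p - (Cfsg.charDegree (χ : G → ℂ)).factorization p) : ℕ) : ℂ) * (χ : G → ℂ) x) ∧ ¬ Cfsg.IsGeneralizedCharacter G (fun x : G => if p ∣ orderOf x then (0 : ℂ) else ((p ^ (Nat.card G).factorization p : ℕ) : ℂ) / ((p ^ ((Cfsg.charDegree (χ : G → ℂ)).factorization p + 1) : ℕ) : ℂ) * (χ : G → ℂ) x) := by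
  classical
  letI : Fintype G := Fintype.ofFinite G
  have hp : p.Prime := Fact.out
  have hχc := isCharacter_of_isIrrCharacter χ.2
  obtain ⟨d, hd, hdvd, hpos⟩ := irr_degree_dvd_card χ.2
  have hcd : Cfsg.charDegree (χ : G → ℂ) = d := by
    unfold Cfsg.charDegree
    rw [hd, Complex.natCast_re, Nat.floor_natCast]
  rw [hcd]
  obtain ⟨a, ha⟩ : ∃ a, a = (Nat.card G).factorization p := ⟨_, rfl⟩
  obtain ⟨b, hb⟩ : ∃ b, b = d.factorization p := ⟨_, rfl⟩
  rw [← ha, ← hb]
  have hG0 : (Nat.card G : ℂ) ≠ 0 := by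
    have : Nat.card G ≠ 0 := Nat.card_pos.ne'
    exact_mod_cast this
  have hd0 : (d : ℂ) ≠ 0 := by
    have : d ≠ 0 := hpos.ne'
    exact_mod_cast this
  have hp0 : (p : ℂ) ≠ 0 := by
    have : p ≠ 0 := hp.ne_zero
    exact_mod_cast this
  have hba : b ≤ a := by
    rw [ha, hb]
    exact (Nat.factorization_le_iff_dvd hpos.ne' Nat.card_pos.ne').mpr hdvd p
  have hpb : p ^ b ∣ d := hb ▸ Nat.ordProj_dvd d p
  have hpb1 : ¬ p ^ (b + 1) ∣ d := hb ▸ Nat.pow_succ_factorization_not_dvd hpos.ne' hp
  constructor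
  · have hale : ∀ j : ℕ, p ^ j ∣ Nat.card G → j ≤ a := by
      intro j hj
      rw [ha]
      exact (Nat.Prime.pow_dvd_iff_le_factorization hp Nat.card_pos.ne').mp hj
    have hgen := pregular_part_generalized p (χ : G → ℂ) hχc a hale
    obtain ⟨z, hz⟩ := exists_int_decomposition hgen
    obtain ⟨m, hm⟩ : p ^ a ∣ Nat.card G := ha ▸ Nat.ordProj_dvd _ _
    have hmp : ¬ p ∣ m := by
      intro h
      have h1 : p ^ (a + 1) ∣ Nat.card G := by
        rw [hm, pow_succ]
        exact mul_dvd_mul_left _ h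
      rw [ha] at h1
      exact Nat.pow_succ_factorization_not_dvd Nat.card_pos.ne' hp h1
    have hzdvd : ∀ ψ : Cfsg.IrrCharacter G, ((p ^ b : ℕ) : ℤ) ∣ z ψ := by
      intro ψ
      have h1 := classInner_decomposition_left (fun φ => (z φ : ℂ)) ψ
      rw [← hz, classInner_apply] at h1
      obtain ⟨F, hFdef⟩ : ∃ F : G → ℂ, F = fun g => if p ∣ orderOf g then (0 : ℂ)
          else (χ : G → ℂ) g / (χ : G → ℂ) 1 * (starRingEnd ℂ) ((ψ : G → ℂ) g) := ⟨_, rfl⟩
      have hFcl : ∀ g h : G, F (h * g * h⁻¹) = F g := by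
        intro g h
        rw [hFdef]
        beta_reduce
        rw [orderOf_conj', isClassFunction_of_isCharacter hχc g h,
          isClassFunction_of_isCharacter (isCharacter_of_isIrrCharacter ψ.2) g h]
      have hI : IsIntegral ℤ (∑ g : G, F g) := by
        rw [sum_class_fun F hFcl]
        apply IsIntegral.sum
        intro C _
        rw [hFdef]
        beta_reduce
        split_ifs
        · rw [mul_zero]
          exact isIntegral_zero
        · have h2 := isIntegral_centralChar χ.2 (Quotient.out C)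
          have h3 : IsIntegral ℤ ((starRingEnd ℂ) ((ψ : G → ℂ) (Quotient.out C))) := by
            rw [← isCharacter_apply_inv (isCharacter_of_isIrrCharacter ψ.2)]
            exact isIntegral_of_isCharacter (isCharacter_of_isIrrCharacter ψ.2) _
          have h4 := h2.mul h3
          unfold Cfsg.centralChar at h4
          convert h4 using 1
          ring
      have hm0 : (m : ℂ) ≠ 0 := by
        have : m ≠ 0 := by
          intro h
          rw [h, mul_zero] at hm
          exact Nat.card_pos.ne' hm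
        exact_mod_cast this
      have hrel : (z ψ : ℂ) * (m : ℂ) = (d : ℂ) * ∑ g : G, F g := by
        rw [← h1, hFdef, Finset.mul_sum, Finset.mul_sum, Finset.sum_mul]
        apply Finset.sum_congr rfl
        intro g _
        beta_reduce
        split_ifs
        · ring
        · rw [hd, hm]
          push_cast
          field_simp
      obtain ⟨k, hk⟩ := exists_int_of_isIntegral_ratCast (q := ((z ψ : ℚ) * (m : ℚ)) / (d : ℚ)) (by
        have h5 : ((((z ψ : ℚ) * (m : ℚ)) / (d : ℚ) : ℚ) : ℂ) = ∑ g : G, F g := by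
          push_cast
          rw [hrel]
          field_simp
        rw [h5]
        exact hI)
      have hd0' : (d : ℚ) ≠ 0 := by
        have : d ≠ 0 := hpos.ne'
        exact_mod_cast this
      have h6 : (k : ℤ) * (d : ℤ) = z ψ * (m : ℤ) := by
        have : (k : ℚ) * (d : ℚ) = (z ψ : ℚ) * (m : ℚ) := by
          rw [hk]
          field_simp
        exact_mod_cast this
      have h7 : ((p ^ b : ℕ) : ℤ) ∣ z ψ * (m : ℤ) := by
        rw [← h6]
        exact Dvd.dvd.mul_left (Int.natCast_dvd_natCast.mpr hpb) k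
      have h8 : IsCoprime ((p ^ b : ℕ) : ℤ) (m : ℤ) := by
        rw [Nat.isCoprime_iff_coprime]
        exact Nat.Coprime.pow_left _ ((Nat.Prime.coprime_iff_not_dvd hp).mpr hmp)
      exact h8.dvd_of_dvd_mul_right h7
    choose w hw using hzdvd
    have hfun : (fun x : G => if p ∣ orderOf x then (0 : ℂ)
        else ((p ^ (a - b) : ℕ) : ℂ) * (χ : G → ℂ) x)
        = ∑ ψ : Cfsg.IrrCharacter G, (w ψ : ℂ) • (ψ : G → ℂ) := by
      funext x
      have h1 := congrFun hz x
      rw [Finset.sum_apply] at h1 ⊢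
      have hpb0 : ((p ^ b : ℕ) : ℂ) ≠ 0 := by
        push_cast
        exact pow_ne_zero _ hp0
      apply mul_left_cancel₀ hpb0
      rw [Finset.mul_sum]
      have h2 : ∀ ψ : Cfsg.IrrCharacter G, ((p ^ b : ℕ) : ℂ) * ((w ψ : ℂ) • (ψ : G → ℂ)) x
          = ((z ψ : ℂ) • (ψ : G → ℂ)) x := by
        intro ψ
        rw [Pi.smul_apply, Pi.smul_apply, smul_eq_mul, smul_eq_mul, hw ψ]
        push_cast
        ring
      rw [Finset.sum_congr rfl (fun ψ _ => h2 ψ), ← h1]
      split_ifs
      · rw [mul_zero]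
      · rw [← mul_assoc]
        congr 1
        rw [← Nat.cast_mul, ← pow_add, Nat.add_sub_cancel' hba]
    rw [hfun]
    rw [← mem_genChars]
    apply AddSubgroup.sum_mem
    intro ψ _
    have h3 : ((w ψ : ℂ) • (ψ : G → ℂ)) = (w ψ) • (ψ : G → ℂ) := by
      funext x
      simp
    rw [h3]
    apply AddSubgroup.zsmul_mem
    rw [mem_genChars]
    exact ⟨ψ, 0, isCharacter_of_isIrrCharacter ψ.2, isCharacter_zero, (sub_zero _).symm⟩
  · rintro ⟨χ₁, χ₂, ⟨n₁, ρ₁, rfl⟩, ⟨n₂, ρ₂, rfl⟩, heq⟩
    obtain ⟨P⟩ : Nonempty (Sylow p G) := inferInstance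
    letI : Fintype (P : Subgroup G) := Fintype.ofFinite _
    have e1 := classInner_restrict_one ρ₁ (P : Subgroup G)
    have e2 := classInner_restrict_one ρ₂ (P : Subgroup G)
    rw [classInner_apply] at e1 e2
    have hP0 : (Nat.card (P : Subgroup G) : ℂ) ≠ 0 := by
      have : Nat.card (P : Subgroup G) ≠ 0 := Nat.card_pos.ne'
      exact_mod_cast this
    have hPcard : Nat.card (P : Subgroup G) = p ^ a := by
      rw [ha]
      exact Sylow.card_eq_multiplicity P
    have h3 : ∑ g : (P : Subgroup G), (ρ₁.character (g : G) - ρ₂.character (g : G))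
        = ((p ^ a : ℕ) : ℂ) / ((p ^ (b + 1) : ℕ) : ℂ) * (d : ℂ) := by
      rw [Finset.sum_eq_single (1 : (P : Subgroup G))]
      · have := congrFun heq 1
        simp only [Pi.sub_apply] at this
        rw [Subgroup.coe_one, ← this, if_neg, hd]
        rw [orderOf_one]
        exact hp.one_lt.ne' ∘ Nat.dvd_one.mp
      · intro h _ hne
        have hy : p ∣ orderOf (h : G) := by
          obtain ⟨k, hk⟩ := (P.2 h)
          have hk' : (h : G) ^ p ^ k = 1 := by
            have := congrArg Subtype.val hk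
            simpa using this
          obtain ⟨j, hj, hj'⟩ := (Nat.dvd_prime_pow hp).mp (orderOf_dvd_of_pow_eq_one hk')
          rw [hj']
          rcases Nat.eq_zero_or_pos j with h0 | h0
          · exfalso
            rw [h0, pow_zero, orderOf_eq_one_iff] at hj'
            exact hne (Subtype.ext hj')
          · exact dvd_pow_self p h0.ne'
        have := congrFun heq (h : G)
        simp only [Pi.sub_apply] at this
        rw [← this, if_pos hy]
      · intro h
        exact absurd (Finset.mem_univ _) h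
    have h4 : (d : ℂ) = ((p ^ (b + 1) : ℕ) : ℂ)
        * (((Module.finrank ℂ (Representation.invariants (ρ₁.comp (P : Subgroup G).subtype)) : ℤ)
          - (Module.finrank ℂ (Representation.invariants (ρ₂.comp (P : Subgroup G).subtype)) : ℤ)
            : ℤ) : ℂ) := by
      push_cast
      rw [← e1, ← e2, ← mul_sub, ← Finset.sum_sub_distrib]
      have h5 : ∀ g : (P : Subgroup G), ρ₁.character (g : G) * (starRingEnd ℂ) 1
          - ρ₂.character (g : G) * (starRingEnd ℂ) 1
          = ρ₁.character (g : G) - ρ₂.character (g : G) := by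
        intro g
        rw [map_one, mul_one, mul_one]
      rw [Finset.sum_congr rfl (fun g _ => h5 g), h3, hPcard]
      push_cast
      have hpa0 : (p : ℂ) ^ a ≠ 0 := pow_ne_zero _ hp0
      have hpb0 : (p : ℂ) ^ (b + 1) ≠ 0 := pow_ne_zero _ hp0
      field_simp
    have h6 : ((d : ℕ) : ℤ) = ((p ^ (b + 1) : ℕ) : ℤ)
        * ((Module.finrank ℂ (Representation.invariants (ρ₁.comp (P : Subgroup G).subtype)) : ℤ)
          - (Module.finrank ℂ (Representation.invariants (ρ₂.comp (P : Subgroup G).subtype)) : ℤ))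
        := by
      exact_mod_cast h4
    apply hpb1
    rw [← Int.natCast_dvd_natCast]
    exact Dvd.intro _ h6.symm

end Cfsg.Agent.S4425
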