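import Mathlib
import Cfsg.Statements.S4426
import Cfsg.Agent.Lib.helper3.HeightZero4

set_option autoImplicit false
open Cfsg

namespace Cfsg.Agent.S4426

open Cfsg.Agent.Lib.helper3.Block Cfsg.Agent.Lib.helper3.LocalM Cfsg.Agent.Lib.helper3.Irr Cfsg.Agent.Lib.helper3.Central

set_option linter.style.haveILetI false

/-- Let χ be an irreducible character in the p-block B of the finite group G (relative to a maximal ideal M of the algebraic integers containing p), let p^a be the p-part of the order of G, and let χ̃ be the class function equal to p^a · χ on p-regular elements and zero elsewhere. For ξ ∈ B the inner product [χ̃, ξ] is an integer. The following are equivalent: (a) χ has height zero in B; (b) for some ξ ∈ B the integer [χ̃, ξ] is nonzero and the exact power of p dividing it equals the exact power of p dividing ξ(1); (c) the same holds for every ξ ∈ B. -/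
theorem result {G : Type*} [Group G] [Fintype G] (p : ℕ) [Fact p.Prime] (M : Ideal Cfsg.AlgInt) (hM : Cfsg.IsPModular p M) (B : Set (Cfsg.IrrCharacter G)) (hB : Cfsg.IsPBlock M B) (χ : Cfsg.IrrCharacter G) (hχ : χ ∈ B) : (Cfsg.blockHeight p B (χ : G → ℂ) = 0 ↔ ∃ ξ ∈ B, ∃ n : ℤ, Cfsg.classInner (fun x : G => if p ∣ orderOf x then (0 : ℂ) else ((p ^ (Nat.card G).factorization p : ℕ) : ℂ) * (χ : G → ℂ) x) (ξ : G → ℂ) = (n : ℂ) ∧ n ≠ 0 ∧ padicValInt p n = (Cfsg.charDegree (ξ : G → ℂ)).factorization p) ∧ (Cfsg.blockHeight p B (χ : G → ℂ) = 0 ↔ ∀ ξ ∈ B, ∃ n : ℤ, Cfsg.classInner (fun x : G => if p ∣ orderOf x then (0 : ℂ) else ((p ^ (Nat.card G).factorization p : ℕ) : ℂ) * (χ : G → ℂ) x) (ξ : G → ℂ) = (n : ℂ) ∧ n ≠ 0 ∧ padicValInt p n = (Cfsg.charDegree (ξ : G → ℂ)).factorization p) := by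
  classical
  have hp : p.Prime := Fact.out
  obtain ⟨z, hz1, hz2, hz3⟩ := exists_regZ p χ
  obtain ⟨n', hn'⟩ : ∃ n' : ℕ, n' = ordCompl[p] (Nat.card G) := ⟨_, rfl⟩
  rw [← hn'] at hz2
  have hpn' : ¬ p ∣ n' := by
    rw [hn']
    exact Nat.not_dvd_ordCompl hp Nat.card_pos.ne'
  have hht_iff : Cfsg.blockHeight p B (χ : G → ℂ) = 0
      ↔ (Cfsg.charDegree (χ : G → ℂ)).factorization p = minExp p B := by
    rw [blockHeight_eq]
    have := minExp_le (p := p) hχ
    omega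
  -- (a) ⇒ (c)
  have hac : Cfsg.blockHeight p B (χ : G → ℂ) = 0 → ∀ ξ ∈ B, ∃ n : ℤ,
      Cfsg.classInner (fun x : G => if p ∣ orderOf x then (0 : ℂ)
        else ((p ^ (Nat.card G).factorization p : ℕ) : ℂ) * (χ : G → ℂ) x) (ξ : G → ℂ) = (n : ℂ)
      ∧ n ≠ 0 ∧ padicValInt p n = (Cfsg.charDegree (ξ : G → ℂ)).factorization p := by
    intro h0 ξ hξ
    have hunits := exists_unit_quot_of_height_zero hM B hB χ hχ (hht_iff.1 h0) n' hn' z hz2 hz3
    obtain ⟨w, hw, hpw⟩ := hunits ξ hξ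
    have hz0 : z ξ ≠ 0 := by
      intro h1
      rw [h1, mul_zero] at hw
      have hd0 : ((Cfsg.charDegree (ξ : G → ℂ) : ℕ) : ℤ) ≠ 0 := by
        exact_mod_cast charDegree_ne_zero ξ
      rcases mul_eq_zero.mp hw.symm with h2 | h2
      · exact hd0 h2
      · apply hpw
        rw [h2]
        exact dvd_zero _
    refine ⟨z ξ, hz1 ξ, hz0, ?_⟩
    exact (padicValInt_eq_iff n' _ hpn' (Nat.pos_of_ne_zero (charDegree_ne_zero ξ)) (z ξ) w hz0
      hw).2 hpw
  -- (b) ⇒ (a)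
  have hba : (∃ ξ ∈ B, ∃ n : ℤ,
      Cfsg.classInner (fun x : G => if p ∣ orderOf x then (0 : ℂ)
        else ((p ^ (Nat.card G).factorization p : ℕ) : ℂ) * (χ : G → ℂ) x) (ξ : G → ℂ) = (n : ℂ)
      ∧ n ≠ 0 ∧ padicValInt p n = (Cfsg.charDegree (ξ : G → ℂ)).factorization p)
      → Cfsg.blockHeight p B (χ : G → ℂ) = 0 := by
    rintro ⟨ξ, hξ, n, hn1, hn0, hval⟩
    have hnz : n = z ξ := by
      have := (hz1 ξ).symm.trans hn1
      exact (Int.cast_injective (α := ℂ) this).symm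
    rw [hnz] at hn0 hval
    obtain ⟨w, hw⟩ := (degree_dvd_regZ p χ ξ n' (z ξ) (hz2 ξ)).2
    have hpw := (padicValInt_eq_iff n' _ hpn' (Nat.pos_of_ne_zero (charDegree_ne_zero ξ)) (z ξ) w
      hn0 hw).1 hval
    exact hht_iff.2 (height_zero_of_unit_quot hM B hB χ hχ n' z hz2 ξ hξ w hw hpw)
  refine ⟨⟨fun h0 => ?_, hba⟩, ⟨hac, fun hall => ?_⟩⟩
  · exact ⟨χ, hχ, hac h0 χ hχ⟩
  · exact hba ⟨χ, hχ, hall χ hχ⟩

end Cfsg.Agent.S4426
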