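import Mathlib
import Cfsg.Statements.S4430
import Cfsg.Agent.Lib.helper3.BlockPart
import Cfsg.Agent.Lib.helper3.DefectOrder4
import Cfsg.Agent.Lib.helper3.BlockCover
import Cfsg.Agent.Lib.helper3.Irr8
import Cfsg.Agent.Lib.helper3.Irr5

set_option autoImplicit false
open Cfsg

namespace Cfsg.Agent.S4430

open Cfsg.Agent.Lib.helper3.Block Cfsg.Agent.Lib.helper3.LocalM Cfsg.Agent.Lib.helper3.Central
open Cfsg.Agent.Lib.helper3.Irr Cfsg.Agent.Lib.helper3.CharBasic
set_option linter.style.haveILetI false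

/-- Let H be a subgroup of the finite group G, b a block of H whose induced block B₀ in G is defined (relative to a maximal ideal M of the algebraic integers containing p), and ξ ∈ b. For a block B of G let n_B be the value at 1 of the B-part of the induced character ξ^G (a natural number: the sum over χ ∈ B of the multiplicity of χ in ξ^G times χ(1)). Then for B = B₀ the exact power of p dividing n_B equals the exact power of p dividing ξ^G(1), while for every other block B either n_B = 0 or n_B is divisible by a strictly higher power of p than ξ^G(1). -/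
theorem result {G : Type*} [Group G] [Fintype G] (p : ℕ) [Fact p.Prime] (M : Ideal Cfsg.AlgInt) (hM : Cfsg.IsPModular p M) (H : Subgroup G) [Fintype H] (b : Set (Cfsg.IrrCharacter H)) (B₀ : Set (Cfsg.IrrCharacter G)) (hind : Cfsg.IsInducedBlock M H b B₀) (ξ : Cfsg.IrrCharacter H) (hξ : ξ ∈ b) : (∃ n : ℕ, Cfsg.blockPart B₀ (Cfsg.indFun H (ξ : H → ℂ)) 1 = (n : ℂ) ∧ n ≠ 0 ∧ n.factorization p = (Cfsg.charDegree (Cfsg.indFun H (ξ : H → ℂ))).factorization p) ∧ ∀ B : Set (Cfsg.IrrCharacter G), Cfsg.IsPBlock M B → B ≠ B₀ → ∃ n : ℕ, Cfsg.blockPart B (Cfsg.indFun H (ξ : H → ℂ)) 1 = (n : ℂ) ∧ (n = 0 ∨ (Cfsg.charDegree (Cfsg.indFun H (ξ : H → ℂ))).factorization p < n.factorization p) := by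
  classical
  haveI hMp := isPrime_of_isPModular hM
  have hMtop : M ≠ ⊤ := hM.2.1.ne_top
  obtain ⟨hb, hB₀, hcong⟩ := hind
  obtain ⟨Ψ, hΨdef⟩ : ∃ Ψ : G → ℂ, Ψ = Cfsg.indFun H (ξ : H → ℂ) := ⟨_, rfl⟩
  rw [← hΨdef]
  have hΨc : Cfsg.IsCharacter G Ψ := by
    rw [hΨdef]
    exact isCharacter_indFun H _ (isCharacter_of_isIrrCharacter ξ.2)
  obtain ⟨m, hm⟩ := exists_decomposition_of_isCharacter hΨc
  have hdeg : ∀ χ : Cfsg.IrrCharacter G, ∃ d : ℕ, (χ : G → ℂ) 1 = d := by
    intro χ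
    obtain ⟨d, hd, -, -⟩ := irr_degree_dvd_card χ.2
    exact ⟨d, hd⟩
  choose deg hdeg using hdeg
  obtain ⟨N, hN⟩ : ∃ N : ℕ, N = ∑ χ : Cfsg.IrrCharacter G, m χ * deg χ := ⟨_, rfl⟩
  have hΨ1 : Ψ 1 = (N : ℂ) := by
    rw [hN, hm, Finset.sum_apply]
    push_cast
    apply Finset.sum_congr rfl
    intro χ _
    rw [Pi.smul_apply, smul_eq_mul, hdeg χ]
  have hΨ10 : Ψ 1 ≠ 0 := by
    rw [hΨdef]
    exact indFun_one_ne_zero H _ (apply_one_ne_zero ξ.2)
  have hN0 : N ≠ 0 := by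
    intro h
    rw [h, Nat.cast_zero] at hΨ1
    exact hΨ10 hΨ1
  have hcd : Cfsg.charDegree Ψ = N := charDegree_eq hΨ1
  rw [hcd]
  -- the block parts
  have hpart : ∀ B : Set (Cfsg.IrrCharacter G), Cfsg.blockPart B Ψ 1
      = ((∑ χ : Cfsg.IrrCharacter G, if χ ∈ B then m χ * deg χ else 0 : ℕ) : ℂ) := by
    intro B
    unfold Cfsg.blockPart
    rw [finsum_mem_def, finsum_eq_sum_of_fintype]
    push_cast
    apply Finset.sum_congr rfl
    intro χ _
    rw [Set.indicator_apply]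
    by_cases hχ : χ ∈ B
    · rw [if_pos hχ, if_pos hχ, hdeg χ]
      congr 1
      have := classInner_decomposition_left (fun φ => (m φ : ℂ)) χ
      rw [← hm] at this
      convert this using 2
    · rw [if_neg hχ, if_neg hχ]
  -- the key congruence
  have hB₀' := hB₀
  obtain ⟨χ₀, hB₀eq⟩ := hB₀
  have hχ₀ : χ₀ ∈ B₀ := by
    rw [hB₀eq]
    exact sameBlock_refl hMtop _
  have key : ∀ B : Set (Cfsg.IrrCharacter G), Cfsg.IsPBlock M B →
      Cfsg.MemLocalIdeal M
        (((∑ χ : Cfsg.IrrCharacter G, if χ ∈ B then m χ * deg χ else 0 : ℕ) : ℂ) / (N : ℂ)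
          - (if χ₀ ∈ B then 1 else 0)) := by
    intro B hB
    have h1 := sum_classes_blockCoeff_mul_centralChar_char B m Ψ hm
    have h2 := sum_classes_blockCoeff_mul_centralChar B χ₀
    have h3 : ((∑ χ : Cfsg.IrrCharacter G, if χ ∈ B then m χ * deg χ else 0 : ℕ) : ℂ) / (N : ℂ)
        = ∑ C : ConjClasses G, Cfsg.blockCoeff B (Quotient.out C)
          * Cfsg.centralChar Ψ (Quotient.out C) := by
      rw [div_eq_iff (by exact_mod_cast hN0 : (N : ℂ) ≠ 0), ← hΨ1, h1]
      push_cast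
      apply Finset.sum_congr rfl
      intro χ _
      by_cases hχ : χ ∈ B
      · rw [if_pos hχ, if_pos hχ, one_mul, hdeg χ]
      · rw [if_neg hχ, if_neg hχ, zero_mul]
    rw [h3, ← h2, ← Finset.sum_sub_distrib]
    apply memLocalIdeal_sum
    intro C _
    rw [← mul_sub]
    apply memLocalIdeal_mul_localRing (osima hM B hB _)
    rw [hΨdef, centralChar_indFun H _ (apply_one_ne_zero ξ.2)]
    exact hcong ξ hξ χ₀ hχ₀ _
  constructor
  · refine ⟨_, hpart B₀, ?_⟩
    have h1 := key B₀ hB₀'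
    rw [if_pos hχ₀] at h1
    exact natCast_div_sub_one_memLocalIdeal hM _ N hN0 h1
  · intro B hB hne
    refine ⟨_, hpart B, ?_⟩
    have h1 := key B hB
    have hχ₀B : χ₀ ∉ B := by
      intro hmem
      exact hne (block_eq_of_mem hB hB₀' χ₀ hmem hχ₀)
    rw [if_neg hχ₀B, sub_zero] at h1
    exact natCast_div_memLocalIdeal hM _ N hN0 h1

end Cfsg.Agent.S4430
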