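import Mathlib
import Cfsg.Statements.S4431
import Cfsg.Agent.Lib.helper3.HeightZero3
import Cfsg.Agent.Lib.helper3.ProjVanish7
import Cfsg.Agent.Lib.helper3.CentralDefect5
import Cfsg.Agent.Lib.helper3.IndBlockLocal
import Cfsg.Agent.Lib.helper3.Irr13

set_option autoImplicit false
open Cfsg

namespace Cfsg.Agent.S4431

open Cfsg.Agent.Lib.helper3.Block Cfsg.Agent.Lib.helper3.Lin Cfsg.Agent.Lib.helper3.LocalM Cfsg.Agent.Lib.helper3.Irr Cfsg.Agent.Lib.helper3.Central Cfsg.Agent.Lib.helper3.CharBasic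

set_option linter.style.haveILetI false

/-- Let H be a subgroup of the finite group G and b a block of H whose induced block B₀ in G is defined (relative to a maximal ideal M of the algebraic integers containing p). Let χ be an irreducible character of G, ψ ∈ b, and let η be the class function on H equal to p^a · χ on the p-regular elements of H and zero elsewhere, p^a being the p-part of the order of H. Then (a) if χ ∉ B₀, the number [η, ψ]/ψ(1) lies in the local ideal at M; (b) if χ ∈ B₀ has height zero, it does not. -/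
theorem result {G : Type*} [Group G] [Fintype G] (p : ℕ) [Fact p.Prime] (M : Ideal Cfsg.AlgInt) (hM : Cfsg.IsPModular p M) (H : Subgroup G) [Fintype H] (b : Set (Cfsg.IrrCharacter H)) (B₀ : Set (Cfsg.IrrCharacter G)) (hind : Cfsg.IsInducedBlock M H b B₀) (χ : Cfsg.IrrCharacter G) (ψ : Cfsg.IrrCharacter H) (hψ : ψ ∈ b) : (χ ∉ B₀ → Cfsg.MemLocalIdeal M (Cfsg.classInner (fun h : H => if p ∣ orderOf h then (0 : ℂ) else ((p ^ (Nat.card H).factorization p : ℕ) : ℂ) * (χ : G → ℂ) h) (ψ : H → ℂ) / (ψ : H → ℂ) 1)) ∧ (χ ∈ B₀ → Cfsg.blockHeight p B₀ (χ : G → ℂ) = 0 → ¬ Cfsg.MemLocalIdeal M (Cfsg.classInner (fun h : H => if p ∣ orderOf h then (0 : ℂ) else ((p ^ (Nat.card H).factorization p : ℕ) : ℂ) * (χ : G → ℂ) h) (ψ : H → ℂ) / (ψ : H → ℂ) 1)) := by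
  classical
  haveI hMp := isPrime_of_isPModular hM
  have hMtop : M ≠ ⊤ := hM.2.1.ne_top
  have hp : p.Prime := Fact.out
  obtain ⟨hb, hB₀, hcong⟩ := id hind
  -- the class function `z`
  obtain ⟨z, hz⟩ : ∃ z : G → ℂ, z = fun g => if p ∣ orderOf g then (0 : ℂ)
      else (starRingEnd ℂ) ((χ : G → ℂ) g) := ⟨_, rfl⟩
  have hzR : ∀ g, Cfsg.MemLocalRing M (z g) := by
    intro g
    rw [hz]
    beta_reduce
    split_ifs
    · exact memLocalRing_of_integral isIntegral_zero
    · apply memLocalRing_of_integral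
      have h1 := isIntegral_of_isCharacter (isCharacter_of_isIrrCharacter χ.2) g
      exact h1.map (starRingEnd ℂ).toIntAlgHom
  have hzc : ∀ g x : G, z (x * g * x⁻¹) = z g := by
    intro g x
    rw [hz]
    beta_reduce
    have h1 : orderOf (x * g * x⁻¹) = orderOf g := by
      have : x * g * x⁻¹ = MulAut.conj x g := rfl
      rw [this, MulEquiv.orderOf_eq]
    rw [h1, isClassFunction_of_isCharacter (isCharacter_of_isIrrCharacter χ.2) g x]
  -- the sum over `H`
  obtain ⟨SH, hSH⟩ : ∃ SH : ℂ, SH = ∑ h : H, z (h : G) * ((ψ : H → ℂ) h / (ψ : H → ℂ) 1) :=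
    ⟨_, rfl⟩
  obtain ⟨n', hn'⟩ : ∃ n' : ℕ, n' = ordCompl[p] (Nat.card H) := ⟨_, rfl⟩
  have hpn' : ¬ p ∣ n' := by
    rw [hn']
    exact Nat.not_dvd_ordCompl hp Nat.card_pos.ne'
  have hn'0 : (n' : ℂ) ≠ 0 := by
    have : n' ≠ 0 := by
      rw [hn']
      exact (Nat.ordCompl_pos p Nat.card_pos.ne').ne'
    exact_mod_cast this
  have hinner : Cfsg.classInner (fun h : H => if p ∣ orderOf h then (0 : ℂ)
      else ((p ^ (Nat.card H).factorization p : ℕ) : ℂ) * (χ : G → ℂ) h) (ψ : H → ℂ)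
        / (ψ : H → ℂ) 1 = (n' : ℂ)⁻¹ * SH := by
    unfold Cfsg.classInner
    have hcard : (Nat.card H : ℂ) = ((p ^ (Nat.card H).factorization p : ℕ) : ℂ) * (n' : ℂ) := by
      rw [hn', ← Nat.cast_mul, Nat.ordProj_mul_ordCompl_eq_self]
    have hpa0 : ((p ^ (Nat.card H).factorization p : ℕ) : ℂ) ≠ 0 := by
      exact_mod_cast (pow_pos hp.pos _).ne'
    rw [hcard, hSH]
    rw [← Equiv.sum_comp (Equiv.inv H)]
    rw [div_eq_mul_inv, Finset.mul_sum, Finset.sum_mul, Finset.mul_sum]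
    apply Finset.sum_congr rfl
    intro h _
    simp only [Equiv.inv_apply]
    rw [hz]
    beta_reduce
    have ho : orderOf ((h : H) : G) = orderOf h := Subgroup.orderOf_coe h
    rw [orderOf_inv, ho]
    by_cases hh : p ∣ orderOf h
    · rw [if_pos hh, if_pos hh]
      ring
    · rw [if_neg hh, if_neg hh]
      rw [isCharacter_apply_inv (isCharacter_of_isIrrCharacter ψ.2), Complex.conj_conj,
        Subgroup.coe_inv, isCharacter_apply_inv (isCharacter_of_isIrrCharacter χ.2)]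
      field_simp
  have hinvR : Cfsg.MemLocalRing M ((n' : ℂ)⁻¹) := by
    refine ⟨1, (n' : Cfsg.AlgInt), ?_, ?_⟩
    · intro h
      exact hpn' ((natCast_mem_iff hM n').1 h)
    · simp
  have hnR : Cfsg.MemLocalRing M (n' : ℂ) := by
    apply memLocalRing_of_integral
    exact isIntegral_algebraMap (x := (n' : ℤ)) |> fun h => by simpa using h
  rw [hinner]
  obtain ⟨θ₀, hθ₀⟩ : ∃ θ₀ : Cfsg.IrrCharacter G, θ₀ ∈ B₀ := by
    obtain ⟨θ₀, hθ₀⟩ := hB₀
    refine ⟨θ₀, ?_⟩
    rw [hθ₀]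
    exact sameBlock_refl hMtop _
  have hSG : ∀ θ : Cfsg.IrrCharacter G, ∑ g : G, z g * ((θ : G → ℂ) g / (θ : G → ℂ) 1)
      = regPair p (θ : G → ℂ) (χ : G → ℂ) / (θ : G → ℂ) 1 := by
    intro θ
    unfold regPair
    rw [Finset.sum_div]
    apply Finset.sum_congr rfl
    intro g _
    rw [hz]
    beta_reduce
    by_cases hg : p ∣ orderOf g
    · rw [if_pos hg, if_pos hg]
      ring
    · rw [if_neg hg, if_neg hg]
      ring
  constructor
  · intro hχ
    have h1 := memLocalIdeal_sum_sub_of_induced H b B₀ hind ψ hψ θ₀ hθ₀ z hzR hzc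
    rw [← hSH, hSG] at h1
    have hns : ¬ Cfsg.SameBlock M (θ₀ : G → ℂ) (χ : G → ℂ) := by
      intro hs
      apply hχ
      obtain ⟨θ₁, hθ₁⟩ := hB₀
      rw [hθ₁] at hθ₀ ⊢
      exact sameBlock_trans hθ₀ hs
    have h2 := regular_orthogonality hM θ₀ χ hns
    have h3 : regPair p (θ₀ : G → ℂ) (χ : G → ℂ) = 0 := by
      rw [← h2]
      unfold regPair
      apply Finset.sum_congr rfl
      intro g _
      by_cases hg : p ∣ orderOf g
      · rw [if_pos hg, if_pos hg, zero_mul]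
      · rw [if_neg hg, if_neg hg, one_mul]
    rw [h3, zero_div, sub_zero] at h1
    exact memLocalIdeal_mul_localRing hinvR h1
  · intro hχ hht
    intro hcon
    have h1 := memLocalIdeal_sum_sub_of_induced H b B₀ hind ψ hψ χ hχ z hzR hzc
    rw [← hSH, hSG] at h1
    have h2 : Cfsg.MemLocalIdeal M SH := by
      have h3 := memLocalIdeal_mul_localRing hnR hcon
      rw [← mul_assoc, mul_inv_cancel₀ hn'0, one_mul] at h3
      exact h3
    have h4 : Cfsg.MemLocalIdeal M (regPair p (χ : G → ℂ) (χ : G → ℂ) / (χ : G → ℂ) 1) := by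
      have h5 := memLocalIdeal_sub h2 h1
      rw [sub_sub_cancel] at h5
      exact h5
    -- but this quotient is an integer prime to `p`
    have hmin : (Cfsg.charDegree (χ : G → ℂ)).factorization p = minExp p B₀ := by
      rw [blockHeight_eq] at hht
      have := minExp_le (p := p) hχ
      omega
    obtain ⟨zz, hz1, hz2, hz3⟩ := exists_regZ p χ
    obtain ⟨nG, hnG⟩ : ∃ nG : ℕ, nG = ordCompl[p] (Nat.card G) := ⟨_, rfl⟩
    rw [← hnG] at hz2
    obtain ⟨w, hw, hpw⟩ := exists_unit_quot_of_height_zero hM B₀ hB₀ χ hχ hmin nG hnG zz hz2 hz3 χ hχ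
    have hdeg0 : ((Cfsg.charDegree (χ : G → ℂ) : ℕ) : ℂ) ≠ 0 := by
      exact_mod_cast charDegree_ne_zero χ
    have h6 : regPair p (χ : G → ℂ) (χ : G → ℂ) / (χ : G → ℂ) 1 = (w : ℂ) := by
      rw [hz2 χ, apply_one_eq_charDegree]
      have hw' : (nG : ℂ) * (zz χ : ℂ)
          = ((Cfsg.charDegree (χ : G → ℂ) : ℕ) : ℂ) * (w : ℂ) := by
        exact_mod_cast hw
      rw [hw']
      field_simp
    rw [h6] at h4
    have h7 : Cfsg.MemLocalIdeal M (((w : Cfsg.AlgInt) : Cfsg.AlgInt) : ℂ) := by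
      convert h4 using 1
      simp
    have h8 := mem_of_memLocalIdeal h7
    exact hpw ((intCast_mem_iff hM w).1 h8)

end Cfsg.Agent.S4431
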