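import Cfsg.Statements.S4443
import Cfsg.Agent.Lib.Helper4.RobAsm4
import Cfsg.Agent.H2.RobA5
import Cfsg.Agent.H9.RobE2

set_option autoImplicit false
open Cfsg Cfsg.Agent.Lib.helper3.LocalM Cfsg.Agent.Lib.helper3.Block Cfsg.Agent.Lib.helper3.Central
open Cfsg.Agent.Lib.Helper4.Rob Cfsg.Agent.H2.RobA Cfsg.Agent.H9.RobE2 Cfsg.Agent.H2.RobC

namespace Cfsg.Agent.S4443

/-- Let D be a normal p-subgroup of the finite group G, of order p^d, let p^a be the p-part of the order of G, and fix a Sylow p-subgroup S and a maximal ideal M of the algebraic integers containing p. Index by a finite type ι (via an injective map K) exactly the conjugacy classes of p-regular elements x of G for which D is a Sylow p-subgroup of C_G(x). For classes K_i, K_j let ω(i, j) be the number of pairs (y, z) ∈ K_i × K_j with z y⁻¹ ∈ S; this number is divisible by p^(a−d). Then the number of p-blocks of G having D as a defect group equals the rank over ℤ/pℤ of the matrix with (i, j) entry ω(i, j)/p^(a−d) reduced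 modulo p. -/
theorem result {G : Type*} [Group G] [Finite G] (p : ℕ) [Fact p.Prime] (M : Ideal Cfsg.AlgInt) (hM : Cfsg.IsPModular p M) (D : Subgroup G) [D.Normal] (hD : IsPGroup p D) (S : Sylow p G) {ι : Type*} [Fintype ι] [DecidableEq ι] (K : ι → ConjClasses G) (hKinj : Function.Injective K) (hK : ∀ C : ConjClasses G, (∃ i, K i = C) ↔ ∃ x ∈ C.carrier, ¬ p ∣ orderOf x ∧ ∃ Q : Sylow p (Subgroup.centralizer ({x} : Set G)), (Q : Subgroup (Subgroup.centralizer ({x} : Set G))).map (Subgroup.centralizer ({x} : Set G)).subtype = D) : Nat.card {B : Set (Cfsg.IrrCharacter G) // Cfsg.IsPBlock M B ∧ Cfsg.IsDefectGroup p M B D} = (Matrix.of fun i j : ι => ((Nat.card {yz : G × G // yz.1 ∈ (K i).carrier ∧ yz.2 ∈ (K j).carrier ∧ yz.2 * yz.1⁻¹ ∈ (S : Subgroup G)} / p ^ ((Nat.card G).factorization p - (Nat.card D).factorization p) : ℕ) : ZMod p)).rank := by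
  classical
  haveI hMp := isPrime_of_isPModular hM
  have hMtop : M ≠ ⊤ := hM.2.1.ne_top
  letI : Fintype G := Fintype.ofFinite G
  -- representatives
  have hex : ∀ i, ∃ x ∈ (K i).carrier, Good p D x := fun i => (hK (K i)).mp ⟨i, rfl⟩
  choose x hxmem hxgood using hex
  have hKx : ∀ i, K i = ConjClasses.mk (x i) :=
    fun i => (ConjClasses.mem_carrier_iff_mk_eq.mp (hxmem i)).symm
  have hcomplete : ∀ g, Good p D g → ∃ i, IsConj (x i) g := by
    intro g hg
    obtain ⟨i, hi⟩ := (hK (ConjClasses.mk g)).mpr ⟨g, ConjClasses.mem_carrier_mk, hg⟩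
    refine ⟨i, ?_⟩
    rw [hKx i] at hi
    exact ConjClasses.mk_eq_mk_iff_isConj.mp hi
  have hinj : ∀ i j, IsConj (x i) (x j) → i = j := by
    intro i j h
    apply hKinj
    rw [hKx, hKx]
    exact ConjClasses.mk_eq_mk_iff_isConj.mpr h
  -- the inverse family
  have hxgood' : ∀ i, Good p D (x i)⁻¹ := fun i => good_inv D (hxgood i)
  have hcomplete' : ∀ g, Good p D g → ∃ i, IsConj (x i)⁻¹ g := by
    intro g hg
    obtain ⟨i, hi⟩ := hcomplete g⁻¹ (good_inv D hg)
    refine ⟨i, ?_⟩
    obtain ⟨t, ht⟩ := isConj_iff.mp hi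
    rw [isConj_iff]
    refine ⟨t, ?_⟩
    rw [← inv_inv g, ← ht]
    group
  have hinj' : ∀ i j, IsConj (x i)⁻¹ (x j)⁻¹ → i = j := by
    intro i j h
    apply hinj
    obtain ⟨t, ht⟩ := isConj_iff.mp h
    rw [isConj_iff]
    refine ⟨t, ?_⟩
    rw [← inv_inv (x j), ← ht]
    group
  -- the matrix
  have hmat : (Matrix.of fun i j : ι => ((Nat.card {yz : G × G // yz.1 ∈ (K i).carrier ∧
      yz.2 ∈ (K j).carrier ∧ yz.2 * yz.1⁻¹ ∈ (S : Subgroup G)} /
        p ^ ((Nat.card G).factorization p - (Nat.card D).factorization p) : ℕ) : ZMod p)) =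
      Matrix.diagonal (fun i => ((kk p D (x i) : ℕ) : ZMod p)) *
        Matrix.of fun i j : ι => ((cnt p (x i) (x j) : ℕ) : ZMod p) := by
    ext i j
    rw [Matrix.diagonal_mul, Matrix.of_apply, Matrix.of_apply]
    have h := omega_cast p D hD S (x i) (x j) (hxgood i) (hxgood j)
    unfold omega at h
    rw [hKx i, hKx j]
    exact h
  rw [hmat, Matrix.rank_mul_eq_right_of_isUnit_det]
  swap
  · rw [Matrix.det_diagonal]
    apply IsUnit.mk0
    rw [Finset.prod_ne_zero_iff]
    intro i _
    intro h0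
    rw [ZMod.natCast_eq_zero_iff] at h0
    exact not_dvd_kk D (hxgood i) h0
  show Nat.card (Tau p M D) = _
  rw [Nat.card_eq_fintype_card]
  symm
  -- closedness of blocks
  have hclosed : ∀ B : Tau p M D, ∀ θ ∈ B.1, blockOf M (θ : G → ℂ) ⊆ B.1 := by
    intro B θ hθ
    have := isPBlock_eq_of_mem B.2.1 ⟨θ, rfl⟩ θ hθ (sameBlock_refl hMtop _)
    rw [← this]
  have hmemiff : ∀ B B' : Tau p M D, psiB hM D B' ∈ B.1 ↔ B = B' := by
    intro B B'
    constructor
    · intro h
      apply Subtype.ext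
      exact isPBlock_eq_of_mem B.2.1 B'.2.1 _ h (psiB_mem hM D B')
    · rintro rfl
      exact psiB_mem hM D B
  refine rank_eq_card hM (fun i j => cnt p (x i) (x j)) (fun i => kk p D (x i))
    (fun j => Nat.card ↥(Subgroup.centralizer ({(x j : G ⧸ D)} : Set (G ⧸ D))) * kk p D (x j))
    (fun i => not_dvd_kk D (hxgood i)) ?_ (fun B => sB hM D hD B) (fun B => not_dvd_sB hM D hD B)
    (fun B i => centralChar (psiB hM D B : G → ℂ) (x i))
    (fun B i => centralChar (psiB hM D B : G → ℂ) (x i)⁻¹)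
    (fun B i => blockCoeff B.1 (x i)) (fun B i => blockCoeff B.1 (x i)⁻¹)
    (fun B i => memLocalRing_of_integral (isIntegral_centralChar (psiB hM D B).2 _))
    (fun B i => memLocalRing_of_integral (isIntegral_centralChar (psiB hM D B).2 _))
    (fun B i => memLocalRing_blockCoeff_of_closed hM B.1 (hclosed B) _)
    (fun B i => memLocalRing_blockCoeff_of_closed hM B.1 (hclosed B) _)
    (fun i j => main_congr hM D hD (x i) (x j) (hxgood i) (hxgood j)) ?_ ?_
  · intro j hdvd
    rcases (Nat.Prime.dvd_mul (Fact.out : p.Prime)).mp hdvd with h | h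
    · exact not_dvd_card_centralizer_quot p D hD (x j) (hxgood j) h
    · exact not_dvd_kk D (hxgood j) h
  · intro B B'
    have h := sum_blockCoeff_mul_centralChar hM D hD x hxgood hcomplete hinj B.1 B.2.1 B.2.2
      (psiB hM D B')
    simp only [hmemiff] at h
    exact h
  · intro B B'
    have h := sum_blockCoeff_mul_centralChar hM D hD (fun i => (x i)⁻¹) hxgood' hcomplete' hinj'
      B.1 B.2.1 B.2.2 (psiB hM D B')
    simp only [hmemiff] at h
    exact h


end Cfsg.Agent.S4443
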