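import Mathlib
import Cfsg.Statements.S4446
import Cfsg.Agent.Lib.helper3.GlCyc7

set_option autoImplicit false
open Cfsg

namespace Cfsg.Agent.S4446

open Cfsg.Agent.Lib.helper3.GlCyc Cfsg.Agent.Lib.helper3.Irr

/-- Let the finite group Γ be generated by a normal subgroup G and a cyclic subgroup S of coprime orders, C = G ⊓ C(S), and let χ be an S-invariant irreducible character of G with canonical extension χ̂ to Γ (the extension whose determinantal order is coprime to the order of S). Then there are exactly one irreducible character β of C and one sign ε such that χ̂(c s) = ε β(c) for every c ∈ C and every generator s of S; this β is a constituent of the restriction of χ to C; distinct S-invariant χ give distinct β; and every irreducible character of C arises in this way. -/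
theorem result {Γ : Type*} [Group Γ] [Fintype Γ] (G S : Subgroup Γ) [Fintype G] (hnorm : ∀ s ∈ S, ∀ g ∈ G, s * g * s⁻¹ ∈ G) (hcop : (Nat.card G).Coprime (Nat.card S)) (htop : G ⊔ S = ⊤) (hcyc : IsCyclic S) (C : Subgroup Γ) [Fintype C] (hC : C = G ⊓ Subgroup.centralizer (S : Set Γ)) (hCG : C ≤ G) : (∀ (χ : Cfsg.IrrCharacter G) (χh : Cfsg.IrrCharacter Γ), (∀ s ∈ S, ∀ g g' : G, (g' : Γ) = s * g * s⁻¹ → (χ : G → ℂ) g' = (χ : G → ℂ) g) → (∀ g : G, (χh : Γ → ℂ) g = (χ : G → ℂ) g) → (Cfsg.detOrder (χh : Γ → ℂ)).Coprime (Nat.card S) → (∃! βε : Cfsg.IrrCharacter C × ℤ, (βε.2 = 1 ∨ βε.2 = -1) ∧ ∀ c : C, ∀ s : Γ, Subgroup.zpowers s = S → (χh : Γ → ℂ) ((c : Γ) * s) = (βε.2 : ℂ) * (βε.1 : C → ℂ) c) ∧ ∀ β : Cfsg.IrrCharacter C, ∀ ε : ℤ, (ε = 1 ∨ ε = -1) → (∀ c : C, ∀ s : Γ, Subgroup.zpowers s = S → (χh : Γ → ℂ) ((c : Γ) * s) = (ε : ℂ) * (β : C → ℂ) c) → Cfsg.classInner (fun c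 : C => (χ : G → ℂ) ⟨c, hCG c.2⟩) (β : C → ℂ) ≠ 0) ∧ (∀ (χ χ' : Cfsg.IrrCharacter G) (χh χh' : Cfsg.IrrCharacter Γ), (∀ s ∈ S, ∀ g g' : G, (g' : Γ) = s * g * s⁻¹ → (χ : G → ℂ) g' = (χ : G → ℂ) g) → (∀ s ∈ S, ∀ g g' : G, (g' : Γ) = s * g * s⁻¹ → (χ' : G → ℂ) g' = (χ' : G → ℂ) g) → (∀ g : G, (χh : Γ → ℂ) g = (χ : G → ℂ) g) → (∀ g : G, (χh' : Γ → ℂ) g = (χ' : G → ℂ) g) → (Cfsg.detOrder (χh : Γ → ℂ)).Coprime (Nat.card S) → (Cfsg.detOrder (χh' : Γ → ℂ)).Coprime (Nat.card S) → ∀ β : Cfsg.IrrCharacter C, ∀ ε ε' : ℤ, (ε = 1 ∨ ε = -1) → (ε' = 1 ∨ ε' = -1) → (∀ c : C, ∀ s : Γ, Subgroup.zpowers s = S → (χh : Γ → ℂ) ((c : Γ) * s) = (ε : ℂ) * (β : C → ℂ) c) → (∀ c : C, ∀ s : Γ, Subgroup.zpowers s = S → (χh' : Γ → ℂ) ((c : Γ) * s) = (ε' : ℂ) * (β : C → ℂ) c) → χ = χ') ∧ (∀ β : Cfsg.IrrCharacter C, ∃ (χ : Cfsg.IrrCharacter G) (χh : Cfsg.IrrCharacter Γ) (ε : ℤ), (∀ s ∈ S, ∀ g g'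 : G, (g' : Γ) = s * g * s⁻¹ → (χ : G → ℂ) g' = (χ : G → ℂ) g) ∧ (∀ g : G, (χh : Γ → ℂ) g = (χ : G → ℂ) g) ∧ (Cfsg.detOrder (χh : Γ → ℂ)).Coprime (Nat.card S) ∧ (ε = 1 ∨ ε = -1) ∧ ∀ c : C, ∀ s : Γ, Subgroup.zpowers s = S → (χh : Γ → ℂ) ((c : Γ) * s) = (ε : ℂ) * (β : C → ℂ) c) := by
  classical
  have hGn : G.Normal := normal_of_sup_eq_top G S hnorm htop
  obtain ⟨s₀, hs₀⟩ := exists_zpowers_eq S hcyc
  have h : Setup G S s₀ := ⟨hGn, hcop, htop, hs₀⟩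
  -- the common part
  have key : ∀ (χ : Cfsg.IrrCharacter G) (χh : Cfsg.IrrCharacter Γ),
      (∀ g : G, (χh : Γ → ℂ) g = (χ : G → ℂ) g) →
      (Cfsg.detOrder (χh : Γ → ℂ)).Coprime (Nat.card S) →
      Cfsg.IsIrrCharacter G (fun g : G => (χh : Γ → ℂ) g) ∧
      ∃ (β : Cfsg.IrrCharacter C) (ε : ℤ), (ε = 1 ∨ ε = -1) ∧
        (∀ c : C, ∀ s : Γ, Subgroup.zpowers s = S →
          (χh : Γ → ℂ) ((c : Γ) * s) = (ε : ℂ) * (β : C → ℂ) c) ∧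
        Cfsg.classInner (fun c : C => (χ : G → ℂ) ⟨c, hCG c.2⟩) (β : C → ℂ) ≠ 0 := by
    intro χ χh hext hdet
    have hξG : Cfsg.IsIrrCharacter G (fun g : G => (χh : Γ → ℂ) g) := by
      have : (fun g : G => (χh : Γ → ℂ) g) = (χ : G → ℂ) := funext hext
      rw [this]
      exact χ.2
    refine ⟨hξG, ?_⟩
    obtain ⟨β, ε, hε, hval, hcons⟩ := h.phi_eq C hC (χh : Γ → ℂ) χh.2 hξG hdet
    refine ⟨β, ε, hε, ?_, ?_⟩
    · intro c s hs
      rw [h.canonical_gen' C hC (χh : Γ → ℂ) χh.2 hξG hdet s hs c, hval]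
    · have : (fun c : C => (χ : G → ℂ) ⟨c, hCG c.2⟩) = fun c : C => (χh : Γ → ℂ) (c : Γ) := by
        funext c
        exact (hext ⟨c, hCG c.2⟩).symm
      rw [this]
      exact hcons
  refine ⟨?_, ?_, ?_⟩
  · intro χ χh _ hext hdet
    obtain ⟨-, β, ε, hε, hval, hcons⟩ := key χ χh hext hdet
    have huniq : ∀ (β' : Cfsg.IrrCharacter C) (ε' : ℤ), (ε' = 1 ∨ ε' = -1) →
        (∀ c : C, ∀ s : Γ, Subgroup.zpowers s = S →
          (χh : Γ → ℂ) ((c : Γ) * s) = (ε' : ℂ) * (β' : C → ℂ) c) → β' = β ∧ ε' = ε := by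
      intro β' ε' hε' hval'
      apply signed_irr_unique β' β ε' ε hε' hε
      intro c
      rw [← hval c s₀ hs₀, ← hval' c s₀ hs₀]
    refine ⟨⟨(β, ε), ⟨hε, hval⟩, ?_⟩, ?_⟩
    · rintro ⟨β', ε'⟩ ⟨hε', hval'⟩
      obtain ⟨h1, h2⟩ := huniq β' ε' hε' hval'
      rw [h1, h2]
    · intro β' ε' hε' hval'
      obtain ⟨h1, -⟩ := huniq β' ε' hε' hval'
      rw [h1]
      exact hcons
  · intro χ χ' χh χh' _ _ hext hext' hdet hdet' β ε ε' hε hε' hval hval'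
    by_contra hne
    obtain ⟨hξG, -⟩ := key χ χh hext hdet
    have horth : Cfsg.classInner (fun g : G => (χh' : Γ → ℂ) g) (fun g : G => (χh : Γ → ℂ) g)
        = 0 := by
      have h1 : (fun g : G => (χh : Γ → ℂ) g) = (χ : G → ℂ) := funext hext
      have h2 : (fun g : G => (χh' : Γ → ℂ) g) = (χ' : G → ℂ) := funext hext'
      rw [h1, h2]
      exact irr_classInner_eq_zero χ'.2 χ.2 (fun heq => hne (Subtype.ext heq).symm)
    have h0 := h.phi_orth C hC (χh : Γ → ℂ) (χh' : Γ → ℂ) χh.2 hξG χh'.2 horth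
    have h1 : (fun c : C => (χh : Γ → ℂ) ((c : Γ) * s₀)) = (ε : ℂ) • (β : C → ℂ) := by
      funext c
      rw [hval c s₀ hs₀]
      rfl
    have h2 : (fun c : C => (χh' : Γ → ℂ) ((c : Γ) * s₀)) = (ε' : ℂ) • (β : C → ℂ) := by
      funext c
      rw [hval' c s₀ hs₀]
      rfl
    rw [h1, h2, classInner_smul_left, classInner_smul_right, irr_classInner_self β.2,
      mul_one] at h0
    rcases hε with rfl | rfl <;> rcases hε' with rfl | rfl <;> simp at h0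
  · intro β
    obtain ⟨ξ, hξ, hξG, hdet, ε, hε, hval⟩ := h.exists_of_irr C hC β
    refine ⟨⟨fun g : G => ξ g, hξG⟩, ⟨ξ, hξ⟩, ε, ?_, fun _ => rfl, hdet, hε, ?_⟩
    · intro s _ g g' hgg'
      show ξ (g' : Γ) = ξ (g : Γ)
      rw [hgg']
      exact isClassFunction_of_isCharacter (isCharacter_of_isIrrCharacter hξ) (g : Γ) s
    · intro c s hs
      show ξ ((c : Γ) * s) = _
      rw [h.canonical_gen' C hC ξ hξ hξG hdet s hs c, hval]

end Cfsg.Agent.S4446
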