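import Mathlib
import Cfsg.Statements.S4451
import Cfsg.Agent.Lib.helper3.GlFpf2
import Cfsg.Agent.Lib.helper3.Pdeg2

set_option autoImplicit false
open Cfsg

namespace Cfsg.Agent.S4451

open Cfsg.Agent.Lib.helper3.GlFpf Cfsg.Agent.Lib.helper3.GlFpf.Setup' Cfsg.Agent.Lib.helper3.GlCyc Cfsg.Agent.Lib.helper3.Irr Cfsg.Agent.Lib.helper3.Pdeg
open scoped ComplexConjugate

/-- Let the finite group Γ be generated by a normal subgroup G and a cyclic subgroup S of coprime orders such that every non-identity element of S has the same centraliser C = G ⊓ C(S) in G. Let χ be an S-invariant irreducible character of G, χ̂ its canonical extension to Γ (determinantal order coprime to the order of S), and β the irreducible character of C with χ̂(c s) = ε₀ β(c) for c ∈ C and generators s of S (ε₀ = ±1). Then there are a sign ε = ±1, which may differ from ε₀, and a linear character μ of S with μ² = 1, such that: (a) χ̂(c x) =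 ε β(c) μ(x) for all c ∈ C and all x ∈ S other than 1; (b) the restriction of χ to C equals |S|·ϑ + ε β for some character ϑ of C or ϑ = 0; (c) |S| divides χ(1) − ε β(1). -/
theorem result {Γ : Type*} [Group Γ] [Fintype Γ] (G S : Subgroup Γ) [Fintype G] (hnorm : ∀ s ∈ S, ∀ g ∈ G, s * g * s⁻¹ ∈ G) (hcop : (Nat.card G).Coprime (Nat.card S)) (htop : G ⊔ S = ⊤) (hcyc : IsCyclic S) (C : Subgroup Γ) [Fintype C] (hC : C = G ⊓ Subgroup.centralizer (S : Set Γ)) (hCG : C ≤ G) (hfpf : ∀ x ∈ S, x ≠ 1 → G ⊓ Subgroup.centralizer ({x} : Set Γ) = C) (χ : Cfsg.IrrCharacter G) (hinv : (∀ s ∈ S, ∀ g g' : G, (g' : Γ) = s * g * s⁻¹ → (χ : G → ℂ) g' = (χ : G → ℂ) g)) (χh : Cfsg.IrrCharacter Γ) (hext : (∀ g : G, (χh : Γ → ℂ) g = (χ : G → ℂ) g)) (hdet : (Cfsg.detOrder (χh : Γ → ℂ)).Coprime (Nat.card S)) (β : Cfsg.IrrCharacter C) (ε₀ : ℤ) (hε₀ : ε₀ = 1 ∨ ε₀ = -1) (hβ : ∀ c : C, ∀ s : Γ, Subgroup.zpowers s = S → (χh : Γ → ℂ) ((c : Γ)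 * s) = (ε₀ : ℂ) * (β : C → ℂ) c) : ∃ ε : ℤ, (ε = 1 ∨ ε = -1) ∧ (∃ μ : S → ℂ, Cfsg.IsCharacter S μ ∧ μ 1 = 1 ∧ (∀ x : S, μ x * μ x = 1) ∧ ∀ c : C, ∀ x : S, x ≠ 1 → (χh : Γ → ℂ) ((c : Γ) * x) = (ε : ℂ) * (β : C → ℂ) c * μ x) ∧ (∃ ϑ : C → ℂ, Cfsg.IsCharacter C ϑ ∧ (fun c : C => (χ : G → ℂ) ⟨c, hCG c.2⟩) = fun c => (Nat.card S : ℂ) * ϑ c + (ε : ℂ) * (β : C → ℂ) c) ∧ (Nat.card S : ℤ) ∣ (Cfsg.charDegree (χ : G → ℂ) : ℤ) - ε * (Cfsg.charDegree (β : C → ℂ) : ℤ) := by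
  classical
  haveI hGn : G.Normal := normal_of_sup_eq_top G S hnorm htop
  obtain ⟨s₀, hs₀⟩ := exists_zpowers_eq S hcyc
  have h : Setup G S s₀ := ⟨hGn, hcop, htop, hs₀⟩
  letI : Fintype S := Fintype.ofFinite S
  have hξG : Cfsg.IsIrrCharacter G (fun g : G => (χh : Γ → ℂ) g) := by
    have : (fun g : G => (χh : Γ → ℂ) g) = (χ : G → ℂ) := funext hext
    rw [this]
    exact χ.2
  have hs₀S : s₀ ∈ S := h.mem_S
  have hresC : (fun c : C => (χ : G → ℂ) ⟨c, hCG c.2⟩) = fun c : C => (χh : Γ → ℂ) (c : Γ) := by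
    funext c
    exact (hext ⟨c, hCG c.2⟩).symm
  have hresCc : Cfsg.IsCharacter C (fun c : C => (χh : Γ → ℂ) (c : Γ)) :=
    isCharacter_restrict (isCharacter_of_isIrrCharacter χh.2) C
  obtain ⟨dχ, hdχ⟩ := exists_nat_apply_one (isCharacter_of_isIrrCharacter χ.2)
  obtain ⟨dβ, hdβ⟩ := exists_nat_apply_one (isCharacter_of_isIrrCharacter β.2)
  have hcdχ : Cfsg.charDegree (χ : G → ℂ) = dχ := charDegree_eq' hdχ
  have hcdβ : Cfsg.charDegree (β : C → ℂ) = dβ := charDegree_eq' hdβ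
  by_cases hn : 2 ≤ Nat.card S
  · obtain ⟨γ₀, lam₀, ε, k, hε, hval, hmult⟩ := fpf_structure C hC h hn hfpf (χh : Γ → ℂ) χh.2 hξG
    have hScomm : ∀ a b : S, a * b = b * a := by
      intro a b
      obtain ⟨i, hi⟩ := h.exists_pow_of_mem a.2
      obtain ⟨j, hj⟩ := h.exists_pow_of_mem b.2
      apply Subtype.ext
      push_cast
      rw [hi, hj, ← pow_add, ← pow_add, add_comm]
    have hl1 : (lam₀ : S → ℂ) 1 = 1 := apply_one_eq_one_of_comm hScomm lam₀.2
    have hlc := isCharacter_of_isIrrCharacter lam₀.2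
    -- the generator is not the identity
    have hs₀ne : (⟨s₀, hs₀S⟩ : S) ≠ 1 := by
      intro h1
      have h2 : s₀ = 1 := congrArg Subtype.val h1
      have h3 : Nat.card S = 1 := by
        rw [← hs₀, h2, Subgroup.zpowers_one_eq_bot]
        exact Subgroup.card_bot
      omega
    -- compare with the given data at the generator
    have hcmp : ∀ c : C, (ε₀ : ℂ) * (β : C → ℂ) c
        = ((ε : ℂ) * (lam₀ : S → ℂ) ⟨s₀, hs₀S⟩) * (γ₀ : C → ℂ) c := by
      intro c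
      rw [← hβ c s₀ hs₀, hval c ⟨s₀, hs₀S⟩ hs₀ne]
      ring
    have hε₀ne : (ε₀ : ℂ) ≠ 0 := by
      rcases hε₀ with rfl | rfl <;> norm_num
    have hγβ : γ₀ = β := by
      by_contra hne
      have h1 : Cfsg.classInner (fun c : C => (ε₀ : ℂ) * (β : C → ℂ) c) (β : C → ℂ)
          = Cfsg.classInner (fun c : C => ((ε : ℂ) * (lam₀ : S → ℂ) ⟨s₀, hs₀S⟩) * (γ₀ : C → ℂ) c)
            (β : C → ℂ) := by
        congr 1
        funext c
        exact hcmp c
      have h2 : (fun c : C => (ε₀ : ℂ) * (β : C → ℂ) c) = (ε₀ : ℂ) • (β : C → ℂ) := rfl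
      have h3 : (fun c : C => ((ε : ℂ) * (lam₀ : S → ℂ) ⟨s₀, hs₀S⟩) * (γ₀ : C → ℂ) c)
          = ((ε : ℂ) * (lam₀ : S → ℂ) ⟨s₀, hs₀S⟩) • (γ₀ : C → ℂ) := rfl
      rw [h2, h3, classInner_smul_left, classInner_smul_left, irr_classInner_self β.2,
        irr_classInner_eq_zero γ₀.2 β.2 (fun h' => hne (Subtype.ext h')), mul_one, mul_zero] at h1
      exact hε₀ne h1
    subst hγβ
    have hls : (ε : ℂ) * (lam₀ : S → ℂ) ⟨s₀, hs₀S⟩ = (ε₀ : ℂ) := by
      obtain ⟨d, hd, hd1⟩ := exists_pos_nat_apply_one γ₀.2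
      have := hcmp 1
      rw [hd1] at this
      have hd0 : (d : ℂ) ≠ 0 := by exact_mod_cast hd.ne'
      exact (mul_right_cancel₀ hd0 this).symm
    have hεsq : (ε : ℂ) * (ε : ℂ) = 1 := by
      rcases hε with rfl | rfl <;> norm_num
    have hε₀sq : (ε₀ : ℂ) * (ε₀ : ℂ) = 1 := by
      rcases hε₀ with rfl | rfl <;> norm_num
    have hlsq : (lam₀ : S → ℂ) ⟨s₀, hs₀S⟩ * (lam₀ : S → ℂ) ⟨s₀, hs₀S⟩ = 1 := by
      have h1 : (lam₀ : S → ℂ) ⟨s₀, hs₀S⟩ = (ε : ℂ) * (ε₀ : ℂ) := by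
        rw [← hls, ← mul_assoc, hεsq, one_mul]
      rw [h1]
      calc (ε : ℂ) * ε₀ * (ε * ε₀) = (ε * ε) * (ε₀ * ε₀) := by ring
        _ = 1 := by rw [hεsq, hε₀sq, one_mul]
    have hlall : ∀ x : S, (lam₀ : S → ℂ) x * (lam₀ : S → ℂ) x = 1 := by
      intro x
      obtain ⟨j, hj⟩ := h.exists_pow_of_mem x.2
      have hx : x = (⟨s₀, hs₀S⟩ : S) ^ j := Subtype.ext (by rw [hj]; rfl)
      rw [hx, ← Cfsg.Agent.Lib.helper3.Lin.toHom_apply hlc hl1, map_pow,
        Cfsg.Agent.Lib.helper3.Lin.toHom_apply hlc hl1, ← mul_pow, hlsq, one_pow]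
    -- the decomposition of the restriction to `C`
    have hb : (fun c : C => (χh : Γ → ℂ) (c : Γ)) = fun c : C =>
        (Nat.card S : ℂ) * (∑ γ : Cfsg.IrrCharacter C, (k γ : ℂ) • (γ : C → ℂ)) c
          + (ε : ℂ) * (γ₀ : C → ℂ) c := by
      conv_lhs => rw [isCharacter_eq_sum_classInner hresCc]
      funext c
      simp only [Finset.sum_apply, Pi.smul_apply, smul_eq_mul, hmult, Finset.mul_sum]
      have hterm : ∀ γ : Cfsg.IrrCharacter C,
          (((Nat.card S * k γ : ℕ) : ℂ) + if γ = γ₀ then (ε : ℂ) else 0) * (γ : C → ℂ) c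
            = (Nat.card S : ℂ) * ((k γ : ℂ) * (γ : C → ℂ) c)
              + if γ = γ₀ then (ε : ℂ) * (γ : C → ℂ) c else 0 := by
        intro γ
        split_ifs <;> push_cast <;> ring
      simp only [hterm, Finset.sum_add_distrib, Finset.sum_ite_eq', Finset.mem_univ, if_true]
    have hϑc : Cfsg.IsCharacter C (∑ γ : Cfsg.IrrCharacter C, (k γ : ℂ) • (γ : C → ℂ)) :=
      isCharacter_of_decomposition k
    refine ⟨ε, hε, ⟨(lam₀ : S → ℂ), hlc, hl1, hlall, hval⟩, ?_, ?_⟩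
    · refine ⟨∑ γ : Cfsg.IrrCharacter C, (k γ : ℂ) • (γ : C → ℂ), hϑc, ?_⟩
      rw [hresC]
      exact hb
    · obtain ⟨t, ht⟩ := exists_nat_apply_one hϑc
      have h1 := congrFun hb 1
      simp only [OneMemClass.coe_one] at h1
      have h2 : (χh : Γ → ℂ) 1 = dχ := by
        have := hext 1
        simp only [OneMemClass.coe_one] at this
        rw [this, hdχ]
      rw [h2, ht, hdβ] at h1
      rw [hcdχ, hcdβ]
      have h3 : ((dχ : ℤ) : ℂ) = (((Nat.card S : ℤ) * (t : ℤ) + ε * (dβ : ℤ) : ℤ) : ℂ) := by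
        push_cast
        exact h1
      have h4 := Int.cast_injective (α := ℂ) h3
      exact ⟨t, by rw [h4]; ring⟩
  · -- the operator group is trivial
    have hS1 : Nat.card S = 1 := by
      have : 0 < Nat.card S := Nat.card_pos
      omega
    have hSbot : S = ⊥ := Subgroup.card_eq_one.mp hS1
    have hone : ∀ x : S, x = 1 := by
      intro x
      have hx : (x : Γ) ∈ (⊥ : Subgroup Γ) := hSbot ▸ x.2
      exact Subtype.ext (Subgroup.mem_bot.mp hx)
    have hβ1 : ∀ c : C, (χh : Γ → ℂ) (c : Γ) = (ε₀ : ℂ) * (β : C → ℂ) c := by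
      intro c
      have := hβ c 1 (by rw [Subgroup.zpowers_one_eq_bot, hSbot])
      rwa [mul_one] at this
    obtain ⟨dχ', hdχ'pos, hdχ'⟩ := exists_pos_nat_apply_one χ.2
    obtain ⟨dβ', hdβ'pos, hdβ'⟩ := exists_pos_nat_apply_one β.2
    have hε₀1 : ε₀ = 1 := by
      rcases hε₀ with h1 | h1
      · exact h1
      · exfalso
        have h2 := hβ1 1
        have h3 := hext 1
        simp only [OneMemClass.coe_one] at h2 h3
        rw [h3, hdχ', hdβ', h1] at h2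
        have h4 : ((dχ' : ℤ) : ℂ) = ((-1 * (dβ' : ℤ) : ℤ) : ℂ) := by
          push_cast at h2 ⊢
          exact h2
        have h5 := Int.cast_injective (α := ℂ) h4
        have : (0 : ℤ) < dχ' := by exact_mod_cast hdχ'pos
        have : (0 : ℤ) < dβ' := by exact_mod_cast hdβ'pos
        omega
    refine ⟨1, Or.inl rfl, ⟨fun _ => 1, isCharacter_one, rfl, fun _ => by norm_num, ?_⟩, ?_, ?_⟩
    · intro c x hx
      exact absurd (hone x) hx
    · refine ⟨0, isCharacter_zero, ?_⟩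
      rw [hresC]
      funext c
      rw [hβ1 c, hε₀1]
      simp
    · rw [hS1]
      simp

end Cfsg.Agent.S4451
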