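import Mathlib
import Cfsg.Statements.S4454
import Cfsg.Agent.Lib.helper3.Fr2
import Cfsg.Agent.Lib.helper3.Clifford
import Cfsg.Agent.Lib.helper3.Irr10

set_option autoImplicit false
open Cfsg

namespace Cfsg.Agent.S4454

open Cfsg.Agent.Lib.helper3.Fr Cfsg.Agent.Lib.helper3.Irr Cfsg.Agent.Lib.helper3.IndFun
open scoped ComplexConjugate

/-- Let N ≤ G be normal subgroups of the finite group Γ with Γ/G cyclic and Γ/N a Frobenius group with kernel G/N: G ≠ Γ, N ≠ G, and no element of Γ outside G fixes a non-identity coset of N in G under conjugation. Let ϑ be an irreducible character of N invariant under conjugation by Γ and suppose ϑ is fully ramified in G: the character of G induced from ϑ equals e·χ for an irreducible character χ of G and a natural number e. Then the index of G in Γ divides e − 1 or e + 1. -/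
theorem result {Γ : Type*} [Group Γ] [Fintype Γ] (G N : Subgroup Γ) [hG : G.Normal] [hN : N.Normal] [Fintype G] [Fintype N] (hNG : N ≤ G) (hGlt : G ≠ ⊤) (hNlt : N ≠ G) (hcyc : IsCyclic (Γ ⧸ G)) (hfrob : ∀ x : Γ, x ∉ G → ∀ g : Γ, g ∈ G → x * g * x⁻¹ * g⁻¹ ∈ N → g ∈ N) (θ : Cfsg.IrrCharacter N) (hinv : ∀ (x : Γ) (n : N), (θ : N → ℂ) ⟨x * n * x⁻¹, hN.conj_mem n n.2 x⟩ = (θ : N → ℂ) n) (χ : Cfsg.IrrCharacter G) (e : ℕ) (hram : Cfsg.indFun (N.subgroupOf G) (fun n : N.subgroupOf G => (θ : N → ℂ) ⟨(n : G), n.2⟩) = fun g => (e : ℂ) * (χ : G → ℂ) g) : (G.index : ℤ) ∣ (e : ℤ) - 1 ∨ (G.index : ℤ) ∣ (e : ℤ) + 1 := by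
  classical
  let _ : Fintype (N.subgroupOf G) := Fintype.ofFinite _
  have hN'n : (N.subgroupOf G).Normal := inferInstance
  obtain ⟨eN, heN⟩ : ∃ eN : N.subgroupOf G ≃* N, ∀ n, ((eN n : N) : Γ) = ((n : G) : Γ) :=
    ⟨Subgroup.subgroupOfEquivOfLe hNG, fun _ => rfl⟩
  obtain ⟨θ', hθ'⟩ : ∃ θ' : N.subgroupOf G → ℂ,
      θ' = fun n : N.subgroupOf G => (θ : N → ℂ) ⟨(n : G), n.2⟩ := ⟨_, rfl⟩
  have hθ'eq : θ' = fun n => (θ : N → ℂ) (eN n) := by
    rw [hθ']
    funext n
    apply congrArg (θ : N → ℂ)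
    exact Subtype.ext (heN n).symm
  have hθ'irr : Cfsg.IsIrrCharacter (N.subgroupOf G) θ' := by
    rw [hθ'eq]
    exact isIrrCharacter_comp_mulEquiv eN θ.2
  rw [← hθ'] at hram
  have hχc := isCharacter_of_isIrrCharacter χ.2
  have hχcf := isClassFunction_of_isCharacter hχc
  have hθ'inv : ∀ (x : Γ) (n n' : N.subgroupOf G), ((n' : G) : Γ) = x * ((n : G) : Γ) * x⁻¹ →
      θ' n' = θ' n := by
    intro x n n' hnn'
    rw [hθ'eq]
    show (θ : N → ℂ) (eN n') = (θ : N → ℂ) (eN n)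
    rw [← hinv x (eN n)]
    apply congrArg (θ : N → ℂ)
    apply Subtype.ext
    show ((eN n' : N) : Γ) = x * ((eN n : N) : Γ) * x⁻¹
    rw [heN, hnn', heN]
  -- `e ≠ 0`
  have he0 : (e : ℂ) ≠ 0 := by
    intro h0
    have h1 := congrFun hram 1
    rw [h0, zero_mul, indFun_apply_one] at h1
    have hidx : ((N.subgroupOf G).index : ℂ) ≠ 0 := by
      have : (N.subgroupOf G).index ≠ 0 := Subgroup.index_ne_zero_of_finite
      exact_mod_cast this
    exact (mul_ne_zero hidx (apply_one_ne_zero hθ'irr)) h1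
  have hramsmul : Cfsg.indFun (N.subgroupOf G) θ' = (e : ℂ) • (χ : G → ℂ) := by
    rw [hram]
    rfl
  -- the multiplicity
  have hmult : Cfsg.classInner θ' (fun n : N.subgroupOf G => (χ : G → ℂ) n) = (e : ℂ) := by
    rw [← frobenius_reciprocity (N.subgroupOf G) θ' (χ : G → ℂ) hχcf, hramsmul,
      classInner_smul_left, irr_classInner_self χ.2, mul_one]
  have hmult' : Cfsg.classInner (fun n : N.subgroupOf G => (χ : G → ℂ) n) θ' = (e : ℂ) := by
    rw [← classInner_conj_symm, hmult, Complex.conj_natCast]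
  -- Clifford
  have hres : ∀ n : N.subgroupOf G, (χ : G → ℂ) n = (e : ℂ) * θ' n := by
    have h := clifford (N.subgroupOf G) (χ : G → ℂ) χ.2 θ' hθ'irr (by rw [hmult']; exact he0)
    have hset : {ψ : N.subgroupOf G → ℂ | ∃ g : G, ψ = fun n : N.subgroupOf G =>
        θ' ⟨g * n * g⁻¹, hN'n.conj_mem n n.2 g⟩} = {θ'} := by
      ext ψ
      constructor
      · rintro ⟨g, rfl⟩
        show _ = θ'
        funext n
        exact hθ'inv (g : Γ) n _ (by push_cast; rfl)
      · intro hψ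
        refine ⟨1, ?_⟩
        rw [Set.mem_singleton_iff.mp hψ]
        funext n
        congr 1
        apply Subtype.ext
        simp
    rw [hset, finsum_mem_singleton, hmult'] at h
    intro n
    have := congrFun h n
    simpa using this
  -- `χ` is invariant in `Γ`
  have hχinv : ∀ (x : Γ) (g : G), (χ : G → ℂ) ⟨x * g * x⁻¹, hG.conj_mem (g : Γ) g.2 x⟩
      = (χ : G → ℂ) g := by
    intro x g
    obtain ⟨α, hα⟩ : ∃ α : G ≃* G, ∀ g : G, ((α g : G) : Γ) = x * g * x⁻¹ :=
      ⟨MulAut.conjNormal x, fun g => MulAut.conjNormal_apply x g⟩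
    have hχx : Cfsg.IsIrrCharacter G (fun g => (χ : G → ℂ) (α g)) :=
      isIrrCharacter_comp_mulEquiv α χ.2
    have hχxcf := isClassFunction_of_isCharacter (isCharacter_of_isIrrCharacter hχx)
    have hxres : (fun n : N.subgroupOf G => (fun g => (χ : G → ℂ) (α g)) (n : G))
        = (e : ℂ) • θ' := by
      funext n
      have hmem : α (n : G) ∈ N.subgroupOf G := by
        rw [Subgroup.mem_subgroupOf, hα]
        exact hN.conj_mem _ n.2 x
      have h1 := hres ⟨α (n : G), hmem⟩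
      simp only at h1
      show (χ : G → ℂ) (α (n : G)) = (e : ℂ) * θ' n
      rw [h1, hθ'inv x n ⟨α (n : G), hmem⟩ (hα (n : G))]
    have h2 : Cfsg.classInner (Cfsg.indFun (N.subgroupOf G) θ') (fun g => (χ : G → ℂ) (α g))
        = (e : ℂ) := by
      rw [frobenius_reciprocity (N.subgroupOf G) θ' _ hχxcf, hxres, classInner_smul_right,
        irr_classInner_self hθ'irr, mul_one, Complex.conj_natCast]
    rw [hramsmul, classInner_smul_left] at h2
    have h3 : Cfsg.classInner (χ : G → ℂ) (fun g => (χ : G → ℂ) (α g)) ≠ 0 := by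
      intro h0
      rw [h0, mul_zero] at h2
      exact he0 h2.symm
    have h4 : (χ : G → ℂ) = fun g => (χ : G → ℂ) (α g) := by
      by_contra hne
      exact h3 (irr_classInner_eq_zero χ.2 hχx hne)
    have h5 := congrFun h4 g
    rw [h5]
    apply congrArg (χ : G → ℂ)
    apply Subtype.ext
    rw [hα]
  obtain ⟨ξ, hξ, hξG'⟩ := Cfsg.Agent.Lib.helper3.CycExt.exists_extension_of_cyclic G hcyc
    (χ : G → ℂ) χ.2 hχinv
  have hξG : Cfsg.IsIrrCharacter G (fun g : G => ξ g) := by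
    rw [funext hξG']
    exact χ.2
  have hξN : ∀ n : N, ξ n = (e : ℂ) * (θ : N → ℂ) n := by
    intro n
    have h1 := hξG' ⟨n, hNG n.2⟩
    have h2 := hres ⟨⟨n, hNG n.2⟩, Subgroup.mem_subgroupOf.mpr n.2⟩
    simp only at h1 h2
    rw [h1, h2, hθ']
  exact frob_ramified G N hNG hGlt hcyc hfrob (θ : N → ℂ) θ.2 hinv ξ hξ hξG e hξN

end Cfsg.Agent.S4454
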