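import Mathlib
import Cfsg.Statements.S4459
import Cfsg.Agent.Lib.helper3.PDeg8

set_option autoImplicit false
open Cfsg

namespace Cfsg.Agent.S4459

/-- Let G be a non-abelian finite group and p a prime. Then the irreducible character degrees of G are exactly 1 and p if and only if either G has an abelian normal subgroup of index p or the centre of G has index p³. -/
theorem result {G : Type*} [Group G] [Finite G] (hG : ∃ a b : G, a * b ≠ b * a) (p : ℕ) (hp : p.Prime) : ((∀ χ : Cfsg.IrrCharacter G, Cfsg.charDegree (χ : G → ℂ) = 1 ∨ Cfsg.charDegree (χ : G → ℂ) = p) ∧ ∃ χ : Cfsg.IrrCharacter G, Cfsg.charDegree (χ : G → ℂ) = p) ↔ ((∃ A : Subgroup G, A.Normal ∧ (∀ a ∈ A, ∀ b ∈ A, a * b = b * a) ∧ A.index = p) ∨ (Subgroup.center G).index = p ^ 3) := by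
  have hconv : ∀ χ : Cfsg.IrrCharacter G, (χ : G → ℂ) 1 = ((Cfsg.charDegree (χ : G → ℂ) : ℕ) : ℂ) :=
    fun χ => Cfsg.Agent.Lib.helper3.TwoDeg.apply_one_eq_charDegree' χ
  have hback : (∀ χ : Cfsg.IrrCharacter G, (χ : G → ℂ) 1 = 1 ∨ (χ : G → ℂ) 1 = p) →
      ((∀ χ : Cfsg.IrrCharacter G, Cfsg.charDegree (χ : G → ℂ) = 1 ∨
        Cfsg.charDegree (χ : G → ℂ) = p) ∧
        ∃ χ : Cfsg.IrrCharacter G, Cfsg.charDegree (χ : G → ℂ) = p) := by
    intro hcd
    refine ⟨?_, ?_⟩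
    · intro χ
      rcases hcd χ with h | h
      · left
        rw [hconv χ] at h
        exact_mod_cast h
      · right
        rw [hconv χ] at h
        exact_mod_cast h
    · obtain ⟨χ, hχ⟩ := Cfsg.Agent.Lib.helper3.PDeg.exists_degree_of_nonabelian hG p hcd
      refine ⟨χ, ?_⟩
      rw [hconv χ] at hχ
      exact_mod_cast hχ
  constructor
  · rintro ⟨hcd, ⟨χ, hχ⟩⟩
    apply Cfsg.Agent.Lib.helper3.PDeg.structure_of_degrees hG p hp
      (Cfsg.Agent.Lib.helper3.TwoDeg.degree_hyps p hcd)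
    exact ⟨χ, by rw [hconv χ, hχ]⟩
  · rintro (⟨A, hAn, hAab, hAidx⟩ | hc)
    · haveI := hAn
      exact hback (Cfsg.Agent.Lib.helper3.PDeg.degrees_of_abelian_index p hp A hAab hAidx)
    · exact hback (Cfsg.Agent.Lib.helper3.PDeg.degrees_of_center_index p hp hc)

end Cfsg.Agent.S4459
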