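import Cfsg.Statements.S4460
import Cfsg.Agent.Lib.Helper7.Cd3M

set_option autoImplicit false
open Cfsg

namespace Cfsg.Agent.S4460

/-- A finite group with exactly three distinct irreducible character degrees is solvable of derived length at most 3: its third derived subgroup is trivial. -/
theorem result {G : Type*} [Group G] [Finite G] (hcd : Nat.card {n : ℕ // ∃ χ : Cfsg.IrrCharacter G, Cfsg.charDegree (χ : G → ℂ) = n} = 3) : derivedSeries G 3 = ⊥ := by
  classical
  haveI : Finite {n : ℕ // ∃ χ : Cfsg.IrrCharacter G, Cfsg.charDegree (χ : G → ℂ) = n} :=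
    Nat.finite_of_card_ne_zero (by rw [hcd]; norm_num)
  letI : Fintype {n : ℕ // ∃ χ : Cfsg.IrrCharacter G, Cfsg.charDegree (χ : G → ℂ) = n} :=
    Fintype.ofFinite _
  rw [Nat.card_eq_fintype_card, ← Finset.card_univ, Finset.card_eq_three] at hcd
  obtain ⟨x, y, z, -, -, -, huniv⟩ := hcd
  have hmem : ∀ χ : Cfsg.IrrCharacter G, Cfsg.charDegree (χ : G → ℂ) = x.1 ∨
      Cfsg.charDegree (χ : G → ℂ) = y.1 ∨ Cfsg.charDegree (χ : G → ℂ) = z.1 := by
    intro χ
    have h1 : (⟨Cfsg.charDegree (χ : G → ℂ), ⟨χ, rfl⟩⟩ :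
        {n : ℕ // ∃ χ : Cfsg.IrrCharacter G, Cfsg.charDegree (χ : G → ℂ) = n}) ∈
        (Finset.univ : Finset _) := Finset.mem_univ _
    rw [huniv] at h1
    simp only [Finset.mem_insert, Finset.mem_singleton] at h1
    rcases h1 with h1 | h1 | h1
    · left; exact congrArg Subtype.val h1
    · right; left; exact congrArg Subtype.val h1
    · right; right; exact congrArg Subtype.val h1
  -- the trivial character has degree one
  have hone : Cfsg.charDegree ((⟨fun _ => 1, Cfsg.Agent.Lib.helper3.Irr.isIrrCharacter_one⟩ :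
      Cfsg.IrrCharacter G) : G → ℂ) = 1 := by
    unfold Cfsg.charDegree
    simp
  rcases hmem ⟨fun _ => 1, Cfsg.Agent.Lib.helper3.Irr.isIrrCharacter_one⟩ with h1 | h1 | h1
  · rw [hone] at h1
    apply Cfsg.Agent.Lib.Helper7.Cd3.dl3_of_cd y.1 z.1
    intro χ
    rcases hmem χ with h2 | h2 | h2
    · left; exact h2.trans h1.symm
    · right; left; exact h2
    · right; right; exact h2
  · rw [hone] at h1
    apply Cfsg.Agent.Lib.Helper7.Cd3.dl3_of_cd x.1 z.1
    intro χ
    rcases hmem χ with h2 | h2 | h2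
    · right; left; exact h2
    · left; exact h2.trans h1.symm
    · right; right; exact h2
  · rw [hone] at h1
    apply Cfsg.Agent.Lib.Helper7.Cd3.dl3_of_cd x.1 y.1
    intro χ
    rcases hmem χ with h2 | h2 | h2
    · right; left; exact h2
    · right; right; exact h2
    · left; exact h2.trans h1.symm

end Cfsg.Agent.S4460
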