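import Mathlib
import Cfsg.Statements.S4470
import Cfsg.Agent.Lib.helper3.JordanU3
import Cfsg.Agent.Lib.helper3.JordanU4

set_option autoImplicit false
open Cfsg

namespace Cfsg.Agent.S4470

set_option linter.style.haveILetI false

open Cfsg.Agent.Lib.helper3.JordanU

/-- Let the finite group G have a faithful character of degree n. Then G has an abelian normal subgroup A such that every abelian subgroup H of G satisfies [H : H ⊓ A] ≤ 12^n. -/
theorem result {G : Type*} [Group G] [Finite G] (χ : G → ℂ) (hχ : Cfsg.IsCharacter G χ) (hfaith : ∀ g : G, χ g = χ 1 → g = 1) (n : ℕ) (hn : Cfsg.charDegree χ = n) : ∃ A : Subgroup G, A.Normal ∧ (∀ x ∈ A, ∀ y ∈ A, x * y = y * x) ∧ ∀ H : Subgroup G, (∀ x ∈ H, ∀ y ∈ H, x * y = y * x) → (A.subgroupOf H).index ≤ 12 ^ n := by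
  obtain ⟨n', ρ, hρ⟩ := hχ
  have hdeg : n' = n := by
    rw [← hn, ← hρ]
    unfold Cfsg.charDegree
    rw [Representation.char_one, Module.finrank_fin_fun]
    simp
  subst hdeg
  have hinj : Function.Injective (WSpace.U ρ) := by
    rw [injective_iff_map_eq_one]
    intro g hg
    apply hfaith
    rw [WSpace.U_eq_one_iff] at hg
    rw [← hρ]
    show LinearMap.trace ℂ _ (ρ g) = LinearMap.trace ℂ _ (ρ 1)
    rw [hg, map_one ρ]
  refine ⟨Subgroup.closure (nearSet (WSpace.U ρ)),
    closure_nearSet_normal (WSpace.U ρ) (WSpace.inner_U ρ),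
    closure_nearSet_comm (WSpace.U ρ) (WSpace.inner_U ρ) hinj, ?_⟩
  intro H hH
  have := index_le (WSpace.U ρ) (WSpace.inner_U ρ) H hH
  rwa [WSpace.finrank_eq] at this

end Cfsg.Agent.S4470
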