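import Cfsg.Statements.S4475
import Mathlib
import Cfsg.Agent.Lib.Helper4.FS
import Cfsg.Agent.Lib.helper3.Central

set_option autoImplicit false
open Cfsg

namespace Cfsg.Agent.S4475

/-- Let ρ be an irreducible representation of the finite group G on the coordinate space Fin n → ℂ whose character χ is real-valued, and let ν be the Frobenius–Schur indicator of χ (the average of χ(s²)). Writing X(g) for the matrix of ρ(g), there is a nonzero matrix M with X(g)ᵀ M X(g) = M for all g ∈ G; and every such M (zero or not) satisfies Mᵀ = ν·M. -/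
theorem result {G : Type*} [Group G] [Fintype G] (n : ℕ) (ρ : Representation ℂ G (Fin n → ℂ)) (hirr : ρ.IsIrreducible) (hreal : ∀ g : G, (ρ.character g).im = 0) : (∃ M : Matrix (Fin n) (Fin n) ℂ, M ≠ 0 ∧ ∀ g : G, (LinearMap.toMatrix' (ρ g)).transpose * M * LinearMap.toMatrix' (ρ g) = M) ∧ ∀ M : Matrix (Fin n) (Fin n) ℂ, (∀ g : G, (LinearMap.toMatrix' (ρ g)).transpose * M * LinearMap.toMatrix' (ρ g) = M) → M.transpose = ((Nat.card G : ℂ)⁻¹ * ∑ s : G, ρ.character (s * s)) • M := by
  classical
  have hreal' : ∀ g, (starRingEnd ℂ) (ρ.character g) = ρ.character g :=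
    fun g => Complex.conj_eq_iff_im.mpr (hreal g)
  have hχ : IsIrrCharacter G ρ.character := ⟨n, ρ, hirr, rfl⟩
  obtain ⟨B, hdet, hinv, hsym⟩ := Cfsg.Agent.Lib.Helper4.FS.exists_invariant_form n ρ hirr hreal'
  have hν := Cfsg.Agent.Lib.Helper4.FS.fsInd_eq_or_of_real hχ hreal'
  have hνdef : Cfsg.Agent.Lib.helper3.Irr.fsInd ρ.character
      = (Nat.card G : ℂ)⁻¹ * ∑ s : G, ρ.character (s * s) := rfl
  rw [hνdef] at hsym hν
  set ν : ℂ := (Nat.card G : ℂ)⁻¹ * ∑ s : G, ρ.character (s * s) with hνs
  have hνν : ν * ν = 1 := by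
    rcases hν with h | h <;> rw [h] <;> norm_num
  set A : G → Matrix (Fin n) (Fin n) ℂ := fun g => LinearMap.toMatrix' (ρ g) with hA
  have hAmul : ∀ g h : G, A (g * h) = A g * A h := by
    intro g h
    simp only [hA]
    rw [map_mul, ← LinearMap.toMatrix'_mul]
  have hA1 : A 1 = 1 := by
    simp only [hA]
    rw [map_one]
    exact LinearMap.toMatrix'_one
  have hAinv : ∀ g : G, A g⁻¹ * A g = 1 := by
    intro g
    rw [← hAmul, inv_mul_cancel, hA1]
  have hAinv' : ∀ g : G, A g * A g⁻¹ = 1 := by
    intro g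
    rw [← hAmul, mul_inv_cancel, hA1]
  have hAB : ∀ g : G, A g * B = B * (A g⁻¹).transpose := by
    intro g
    have h1 : A g * B * (A g).transpose * (A g⁻¹).transpose = B * (A g⁻¹).transpose := by
      rw [hinv g]
    rw [Matrix.mul_assoc, ← Matrix.transpose_mul, hAinv, Matrix.transpose_one,
      Matrix.mul_one] at h1
    exact h1
  have hBu : IsUnit B.det := isUnit_iff_ne_zero.mpr hdet
  have hBB : B⁻¹ * B = 1 := Matrix.nonsing_inv_mul B hBu
  have hBB' : B * B⁻¹ = 1 := Matrix.mul_nonsing_inv B hBu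
  have hn : (1 : Matrix (Fin n) (Fin n) ℂ) ≠ 0 := by
    intro h10
    -- then every subrepresentation is everything
    haveI := hirr
    have hsub : ∀ v : Fin n → ℂ, v = 0 := by
      intro v
      have := congrArg (fun M : Matrix (Fin n) (Fin n) ℂ => M.mulVec v) h10
      simpa using this
    have : (⊥ : Subrepresentation ρ) = ⊤ := by
      apply Subrepresentation.toSubmodule_injective
      apply le_antisymm bot_le
      intro v _
      rw [hsub v]
      exact Submodule.zero_mem _
    exact bot_ne_top this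
  constructor
  · refine ⟨B⁻¹, ?_, ?_⟩
    · intro h0
      rw [h0, Matrix.mul_zero] at hBB'
      exact hn hBB'.symm
    · intro g
      have h1 : (A g).transpose * B⁻¹ * A g * B = 1 := by
        rw [Matrix.mul_assoc _ (A g) B, hAB g, ← Matrix.mul_assoc _ B, Matrix.mul_assoc _ B⁻¹ B,
          hBB, Matrix.mul_one, ← Matrix.transpose_mul, hAinv, Matrix.transpose_one]
      have h2 := Matrix.inv_eq_left_inv h1
      exact h2.symm
  · intro M hM
    have hMA : ∀ g : G, (A g⁻¹).transpose * M = M * A g := by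
      intro g
      have h1 : (A g⁻¹).transpose * M * A g⁻¹ * A g = M * A g := by
        rw [hM g⁻¹]
      rw [Matrix.mul_assoc, hAinv, Matrix.mul_one] at h1
      exact h1
    have hcomm : ∀ g : G, A g * (B * M) = (B * M) * A g := by
      intro g
      rw [← Matrix.mul_assoc, hAB g, Matrix.mul_assoc, hMA g, Matrix.mul_assoc]
    haveI := hirr
    obtain ⟨c, hc⟩ := Cfsg.Agent.Lib.helper3.Central.exists_eq_smul_id ρ (Matrix.toLin' (B * M)) (by
      intro g v
      have h1 : ρ g = Matrix.toLin' (A g) := by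
        simp only [hA]
        rw [Matrix.toLin'_toMatrix']
      rw [h1, ← LinearMap.comp_apply, ← LinearMap.comp_apply, ← Matrix.toLin'_mul,
        ← Matrix.toLin'_mul, hcomm g])
    have hBM : B * M = c • (1 : Matrix (Fin n) (Fin n) ℂ) := by
      apply Matrix.toLin'.injective
      rw [hc, map_smul, Matrix.toLin'_one]
    have hMc : M = c • B⁻¹ := by
      have : B⁻¹ * (B * M) = B⁻¹ * (c • (1 : Matrix (Fin n) (Fin n) ℂ)) := by rw [hBM]
      rw [← Matrix.mul_assoc, hBB, Matrix.one_mul, Matrix.mul_smul, Matrix.mul_one] at this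
      exact this
    have hMB : M * B = c • (1 : Matrix (Fin n) (Fin n) ℂ) := by
      rw [hMc, Matrix.smul_mul, hBB]
    -- transpose of `B * M = c`
    have h3 : M.transpose * (ν • B) = M * B := by
      rw [← hsym, ← Matrix.transpose_mul, hBM, hMB, Matrix.transpose_smul, Matrix.transpose_one]
    have h4 : ν • M.transpose = M := by
      have : (M.transpose * (ν • B)) * B⁻¹ = (M * B) * B⁻¹ := by rw [h3]
      rw [Matrix.mul_smul, Matrix.smul_mul, Matrix.mul_assoc, hBB', Matrix.mul_one,
        Matrix.mul_assoc, hBB', Matrix.mul_one] at this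
      exact this
    calc M.transpose = (ν * ν) • M.transpose := by rw [hνν, one_smul]
      _ = ν • (ν • M.transpose) := by rw [smul_smul]
      _ = ν • M := by rw [h4]

end Cfsg.Agent.S4475
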