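import Cfsg.Statements.S4474
import Mathlib
import Cfsg.Agent.Lib.Helper4.RealRep
import Cfsg.Agent.S4475

set_option autoImplicit false
open Cfsg

namespace Cfsg.Agent.S4474

/-- Let χ be an irreducible character of the finite group G. Then the Frobenius–Schur indicator of χ (the average over s ∈ G of χ(s²)) equals 1 if and only if χ is afforded by a real representation: there is a representation of G on a real coordinate space whose trace function, viewed in ℂ, is χ. -/
theorem result {G : Type*} [Group G] [Fintype G] (χ : Cfsg.IrrCharacter G) : ((Nat.card G : ℂ)⁻¹ * ∑ s : G, (χ : G → ℂ) (s * s)) = 1 ↔ ∃ (n : ℕ) (ρ : Representation ℝ G (Fin n → ℝ)), ∀ g : G, ((LinearMap.trace ℝ (Fin n → ℝ) (ρ g) : ℝ) : ℂ) = (χ : G → ℂ) g := by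
  classical
  obtain ⟨χ, hχ⟩ := χ
  show ((Nat.card G : ℂ)⁻¹ * ∑ s : G, χ (s * s)) = 1 ↔ ∃ (n : ℕ)
    (ρ : Representation ℝ G (Fin n → ℝ)),
    ∀ g : G, ((LinearMap.trace ℝ (Fin n → ℝ) (ρ g) : ℝ) : ℂ) = χ g
  constructor
  · intro hν
    obtain ⟨d, ρ, hirr, rfl⟩ := hχ
    obtain ⟨ρR, hρR⟩ := Cfsg.Agent.Lib.Helper4.RealRep.exists_real_rep_of_fsInd_eq_one d ρ hirr hν
    exact ⟨d, ρR, hρR⟩
  · rintro ⟨n, ρR, htr⟩
    -- the complexified representation
    obtain ⟨R', hR'⟩ : ∃ R' : G → Matrix (Fin n) (Fin n) ℝ,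
      R' = fun g => LinearMap.toMatrix' (ρR g) := ⟨_, rfl⟩
    have hR'mul : ∀ g h : G, R' (g * h) = R' g * R' h := by
      intro g h
      simp only [hR']
      rw [map_mul, ← LinearMap.toMatrix'_mul]
    have hR'1 : R' 1 = 1 := by
      simp only [hR']
      rw [map_one]
      exact LinearMap.toMatrix'_one
    obtain ⟨Y, hY⟩ : ∃ Y : G → Matrix (Fin n) (Fin n) ℂ,
      Y = fun g => (R' g).map (Complex.ofRealHom : ℝ →+* ℂ) := ⟨_, rfl⟩
    have hYmul : ∀ g h : G, Y (g * h) = Y g * Y h := by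
      intro g h
      simp only [hY]
      rw [hR'mul, Matrix.map_mul]
    have hY1 : Y 1 = 1 := by
      simp only [hY]
      rw [hR'1, Matrix.map_one _ (map_zero _) (map_one _)]
    let σ : Representation ℂ G (Fin n → ℂ) :=
      { toFun := fun g => Matrix.toLin' (Y g)
        map_one' := by rw [hY1, Matrix.toLin'_one]; rfl
        map_mul' := fun g h => by rw [hYmul, Matrix.toLin'_mul]; rfl }
    have hσ : ∀ g, σ g = Matrix.toLin' (Y g) := fun g => rfl
    have hσM : ∀ g, LinearMap.toMatrix' (σ g) = Y g := fun g => by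
      rw [hσ, LinearMap.toMatrix'_toLin']
    have hσchar : σ.character = χ := by
      funext g
      unfold Representation.character
      rw [hσ, Matrix.trace_toLin'_eq, ← htr g]
      have h2 : LinearMap.trace ℝ (Fin n → ℝ) (ρR g) = Matrix.trace (R' g) := by
        rw [hR', ← Matrix.trace_toLin'_eq, Matrix.toLin'_toMatrix']
      rw [h2, hY]
      simp only [Matrix.trace, Matrix.diag_apply, Matrix.map_apply, Complex.ofRealHom_eq_coe]
      push_cast
      rfl
    obtain ⟨d, ρ, hirr, hρχ⟩ := hχ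
    obtain ⟨e⟩ := Cfsg.Agent.Lib.helper3.Irr.nonempty_equiv_of_character_eq
      (Module.finrank ℂ (Fin n → ℂ)) (Fin n → ℂ) (Fin d → ℂ) σ ρ rfl (hσchar.trans hρχ.symm)
    have hσirr : σ.IsIrreducible := Cfsg.Agent.Lib.Helper4.RealRep.isIrreducible_of_equiv e hirr
    have hσreal : ∀ g : G, (σ.character g).im = 0 := by
      intro g
      rw [hσchar, ← htr g]
      exact Complex.ofReal_im _
    obtain ⟨H, hHpd, hHinv⟩ := Cfsg.Agent.Lib.Helper4.RealRep.exists_invariant_posDef Y hYmul hY1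
    have hYreal : ∀ g, (Y g).conjTranspose = (Y g).transpose := by
      intro g
      ext i j
      rw [Matrix.conjTranspose_apply, Matrix.transpose_apply, hY]
      simp only [Matrix.map_apply, Complex.ofRealHom_eq_coe]
      exact Complex.conj_ofReal _
    have key := (Cfsg.Agent.S4475.result n σ hσirr hσreal).2 H (by
      intro g
      rw [hσM g, ← hYreal g]
      exact hHinv g)
    rw [hσchar] at key
    haveI := hσirr
    have hn : 0 < n := by
      have := Cfsg.Agent.Lib.helper3.Central.finrank_ne_zero_of_irreducible σ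
      rw [Module.finrank_fin_fun] at this
      have h2 : n ≠ 0 := by exact_mod_cast this
      omega
    have hdiag : H ⟨0, hn⟩ ⟨0, hn⟩ ≠ 0 := by
      open scoped ComplexOrder in
      exact (hHpd.diag_pos (i := (⟨0, hn⟩ : Fin n))).ne'
    have h3 := congrFun (congrFun key ⟨0, hn⟩) ⟨0, hn⟩
    rw [Matrix.transpose_apply, Matrix.smul_apply, smul_eq_mul] at h3
    have h4 : ((Nat.card G : ℂ)⁻¹ * ∑ s : G, χ (s * s) - 1) * H ⟨0, hn⟩ ⟨0, hn⟩ = 0 := by
      rw [sub_mul, one_mul, ← h3, sub_self]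
    rcases mul_eq_zero.mp h4 with h5 | h5
    · exact sub_eq_zero.mp h5
    · exact absurd h5 hdiag

end Cfsg.Agent.S4474
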