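import Cfsg.Statements.S4476
import Mathlib
import Cfsg.Agent.Lib.Helper4.FS
import Cfsg.Agent.Lib.Helper4.Galois
import Cfsg.Agent.Lib.Helper4.Codegree
import Cfsg.Agent.Lib.Helper4.CharExtra
import Cfsg.Agent.Lib.helper3.Irr11

namespace Cfsg.Agent.S4476

open Cfsg Module Cfsg.Agent.Lib.helper3.IndFun Cfsg.Agent.Lib.helper3.CharBasic
open Cfsg.Agent.Lib.helper3.Irr Cfsg.Agent.Lib.Helper4.FS Cfsg.Agent.Lib.Helper4.Galois
open Cfsg.Agent.Lib.Helper4.Codegree Cfsg.Agent.Lib.Helper4.CharExtra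
open scoped ComplexConjugate

/-- Let G be a finite group of even order g with exactly t involutions, and put α = (g − 1)/t (a rational number). Then (a) some non-identity element x of G has at most α² conjugates; and (b) some non-principal real-valued irreducible character of G has degree at most α. -/
theorem result {G : Type*} [Group G] [Fintype G] (heven : Even (Nat.card G)) (t : ℕ) (ht : Nat.card {x : G // orderOf x = 2} = t) : (∃ x : G, x ≠ 1 ∧ ((Subgroup.centralizer ({x} : Set G)).index : ℚ) ≤ (((Nat.card G : ℚ) - 1) / t) ^ 2) ∧ ∃ χ : Cfsg.IrrCharacter G, (χ : G → ℂ) ≠ (fun _ => 1) ∧ (∀ g : G, ((χ : G → ℂ) g).im = 0) ∧ (Cfsg.charDegree (χ : G → ℂ) : ℚ) ≤ ((Nat.card G : ℚ) - 1) / t := by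
  classical
  set g : ℕ := Nat.card G with hg
  have hgpos : 0 < g := Nat.card_pos
  have hg2 : 2 ≤ g := by
    obtain ⟨m, hm⟩ := heven
    omega
  -- there is an involution
  have htpos : 0 < t := by
    haveI : Fact (Nat.Prime 2) := ⟨Nat.prime_two⟩
    obtain ⟨x, hx⟩ := exists_prime_orderOf_dvd_card' (G := G) 2 (even_iff_two_dvd.mp heven)
    rw [← ht]
    exact Nat.card_pos_iff.mpr ⟨⟨⟨x, hx⟩⟩, inferInstance⟩
  -- the number of square roots of the identity
  have hroots : Nat.card {s : G // s * s = 1} = 1 + t := by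
    rw [← ht]
    have e : {s : G // s * s = 1} ≃ Option {x : G // orderOf x = 2} := by
      refine ⟨fun s => if h : s.1 = 1 then none else some ⟨s.1, ?_⟩,
        fun o => match o with
          | none => ⟨1, one_mul 1⟩
          | some x => ⟨x.1, ?_⟩, ?_, ?_⟩
      · rw [orderOf_eq_prime_iff]
        exact ⟨by rw [pow_two]; exact s.2, h⟩
      · have := (orderOf_eq_prime_iff (p := 2)).mp x.2
        rw [← pow_two]; exact this.1
      · intro s
        by_cases h : s.1 = 1
        · simp only [h, dite_true]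
          exact Subtype.ext h.symm
        · simp only [h, dite_false]
      · intro o
        match o with
        | none => simp
        | some x =>
          have hx1 : x.1 ≠ 1 := ((orderOf_eq_prime_iff (p := 2)).mp x.2).2
          simp [hx1]
    rw [Nat.card_congr e, Nat.card_eq_fintype_card, Fintype.card_option,
      ← Nat.card_eq_fintype_card, add_comm]
  have hcount := card_sqrt_eq_sum (1 : G)
  rw [hroots] at hcount
  -- degrees and indicators
  let χ₀ : IrrCharacter G := ⟨fun _ => 1, isIrrCharacter_one⟩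
  set d : IrrCharacter G → ℕ := fun χ => charDegree (χ : G → ℂ) with hd
  have hdcast : ∀ χ : IrrCharacter G, (χ : G → ℂ) 1 = (d χ : ℂ) := fun χ =>
    (charDegree_cast (isCharacter_of_isIrrCharacter χ.2)).symm
  have hdpos : ∀ χ : IrrCharacter G, 0 < d χ := fun χ => charDegree_pos χ.2
  have hd0 : d χ₀ = 1 := charDegree_eq (by show (1 : ℂ) = ((1 : ℕ) : ℂ); simp)
  have hν0 : fsInd (χ₀ : G → ℂ) = 1 := by
    show fsInd (fun _ : G => (1 : ℂ)) = 1
    unfold fsInd
    rw [Finset.sum_const, Finset.card_univ, ← Nat.card_eq_fintype_card, nsmul_eq_mul, mul_one]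
    exact inv_mul_cancel₀ (by exact_mod_cast hgpos.ne')
  -- real parts of the indicators
  have hνre : ∀ χ : IrrCharacter G, fsInd (χ : G → ℂ) = ((fsInd (χ : G → ℂ)).re : ℂ) := by
    intro χ
    rcases fsInd_cases χ.2 with h | h
    · rw [h.1]; simp
    · rcases h.1 with h1 | h1 <;> rw [h1] <;> simp
  have hνle : ∀ χ : IrrCharacter G, (fsInd (χ : G → ℂ)).re ≤
      if (∀ x, conj ((χ : G → ℂ) x) = (χ : G → ℂ) x) then 1 else 0 := by
    intro χ
    rcases fsInd_cases χ.2 with h | h
    · rw [if_neg h.2, h.1]; simp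
    · rw [if_pos h.2]
      rcases h.1 with h1 | h1 <;> rw [h1] <;> simp
  -- the real equation `1 + t = ∑ ν(χ) d(χ)`
  have hreal : (1 + t : ℝ) = ∑ χ : IrrCharacter G, (fsInd (χ : G → ℂ)).re * (d χ : ℝ) := by
    have h1 : ((1 + t : ℕ) : ℂ) = ((∑ χ : IrrCharacter G,
        (fsInd (χ : G → ℂ)).re * (d χ : ℝ) : ℝ) : ℂ) := by
      rw [hcount]
      push_cast
      apply Finset.sum_congr rfl
      intro χ _
      rw [hdcast χ]
      conv_lhs => rw [hνre χ]
    have h2 : (((1 + t : ℕ) : ℝ) : ℂ) = ((∑ χ : IrrCharacter G,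
        (fsInd (χ : G → ℂ)).re * (d χ : ℝ) : ℝ) : ℂ) := by
      rw [← h1]; push_cast; ring
    have := Complex.ofReal_injective h2
    rw [← this]; push_cast; ring
  set R : Finset (IrrCharacter G) := Finset.univ.filter
    (fun χ => χ ≠ χ₀ ∧ ∀ x, conj ((χ : G → ℂ) x) = (χ : G → ℂ) x) with hR
  -- `t ≤ ∑_{χ ∈ R} d(χ)`
  have htle : (t : ℝ) ≤ ∑ χ ∈ R, (d χ : ℝ) := by
    have h1 : ∑ χ : IrrCharacter G, (fsInd (χ : G → ℂ)).re * (d χ : ℝ) =
        1 + ∑ χ ∈ Finset.univ.erase χ₀, (fsInd (χ : G → ℂ)).re * (d χ : ℝ) := by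
      rw [← Finset.add_sum_erase _ _ (Finset.mem_univ χ₀), hν0, hd0]
      simp
    rw [h1] at hreal
    have h2 : ∑ χ ∈ Finset.univ.erase χ₀, (fsInd (χ : G → ℂ)).re * (d χ : ℝ) ≤
        ∑ χ ∈ Finset.univ.erase χ₀,
          (if (∀ x, conj ((χ : G → ℂ) x) = (χ : G → ℂ) x) then (d χ : ℝ) else 0) := by
      apply Finset.sum_le_sum
      intro χ _
      have := hνle χ
      split_ifs with h
      · rw [if_pos h] at this
        have hd' : (0 : ℝ) ≤ d χ := Nat.cast_nonneg _
        nlinarith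
      · rw [if_neg h] at this
        have hd' : (0 : ℝ) ≤ d χ := Nat.cast_nonneg _
        nlinarith
    have h3 : ∑ χ ∈ Finset.univ.erase χ₀,
        (if (∀ x, conj ((χ : G → ℂ) x) = (χ : G → ℂ) x) then (d χ : ℝ) else 0) =
        ∑ χ ∈ R, (d χ : ℝ) := by
      rw [← Finset.sum_filter]
      apply Finset.sum_congr _ (fun _ _ => rfl)
      ext χ
      simp [hR]
    linarith
  -- `∑_{χ ≠ χ₀} d(χ)² = g - 1`
  have hsq : ∑ χ : IrrCharacter G, (d χ : ℝ) ^ 2 = (g : ℝ) := by
    have := sum_norm_sq_eq_card_centralizer (1 : G)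
    have hc : Subgroup.centralizer ({1} : Set G) = ⊤ := by
      rw [eq_top_iff]
      intro x _
      rw [Subgroup.mem_centralizer_iff]
      intro y hy
      rw [Set.mem_singleton_iff] at hy
      rw [hy, one_mul, mul_one]
    rw [hc, Subgroup.card_top] at this
    rw [← this]
    apply Finset.sum_congr rfl
    intro χ _
    rw [hdcast χ, Complex.norm_natCast]
  have hsq' : ∑ χ ∈ Finset.univ.erase χ₀, (d χ : ℝ) ^ 2 = (g : ℝ) - 1 := by
    rw [← hsq, ← Finset.add_sum_erase _ _ (Finset.mem_univ χ₀), hd0]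
    simp
  have hRsub : R ⊆ Finset.univ.erase χ₀ := by
    intro χ hχ
    rw [hR, Finset.mem_filter] at hχ
    exact Finset.mem_erase.mpr ⟨hχ.2.1, Finset.mem_univ _⟩
  have hgR : (1 : ℝ) < g := by exact_mod_cast hg2
  have htR : (0 : ℝ) < t := by exact_mod_cast htpos
  set α : ℝ := ((g : ℝ) - 1) / t with hα
  have hαpos : 0 < α := div_pos (by linarith) htR
  constructor
  · -- part (a)
    by_contra hcon
    push Not at hcon
    have hidx : ∀ x : G, x ≠ 1 → α ^ 2 < ((Subgroup.centralizer ({x} : Set G)).index : ℝ) := by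
      intro x hx
      have h1 := hcon x hx
      have h2 : ((((Nat.card G : ℚ) - 1) / t) ^ 2 : ℚ) <
          (((Subgroup.centralizer ({x} : Set G)).index : ℚ)) := h1
      have h3 : (((((Nat.card G : ℚ) - 1) / t) ^ 2 : ℚ) : ℝ) <
          ((((Subgroup.centralizer ({x} : Set G)).index : ℚ)) : ℝ) := Rat.cast_lt.mpr h2
      push_cast at h3
      exact h3
    -- `k g = ∑ |C(x)|`
    set k : ℕ := Fintype.card (IrrCharacter G) with hk
    have hkg : (k : ℝ) * g = ∑ x : G, (Nat.card (Subgroup.centralizer ({x} : Set G)) : ℝ) := by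
      have h1 : ∑ x : G, (Nat.card (Subgroup.centralizer ({x} : Set G)) : ℝ) =
          ∑ x : G, ∑ χ : IrrCharacter G, ‖(χ : G → ℂ) x‖ ^ 2 := by
        apply Finset.sum_congr rfl
        intro x _
        rw [sum_norm_sq_eq_card_centralizer]
      rw [h1, Finset.sum_comm]
      rw [Finset.sum_congr rfl (fun χ _ => sum_norm_sq_irr χ.2)]
      rw [Finset.sum_const, Finset.card_univ, nsmul_eq_mul]
    have hcard : ∀ x : G, (Nat.card (Subgroup.centralizer ({x} : Set G)) : ℝ) *
        ((Subgroup.centralizer ({x} : Set G)).index : ℝ) = g := by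
      intro x
      exact_mod_cast (Subgroup.centralizer ({x} : Set G)).card_mul_index
    have hlt : ∀ x ∈ Finset.univ.erase (1 : G),
        (Nat.card (Subgroup.centralizer ({x} : Set G)) : ℝ) < g / α ^ 2 := by
      intro x hx
      have hx1 : x ≠ 1 := (Finset.mem_erase.mp hx).1
      have h1 := hidx x hx1
      have h2 := hcard x
      have hipos : (0 : ℝ) < ((Subgroup.centralizer ({x} : Set G)).index : ℝ) := by
        exact_mod_cast Nat.pos_of_ne_zero (Subgroup.index_ne_zero_of_finite)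
      rw [lt_div_iff₀ (by positivity)]
      have hcpos : (0 : ℝ) < (Nat.card (Subgroup.centralizer ({x} : Set G)) : ℝ) := by
        exact_mod_cast Nat.card_pos
      nlinarith
    have hne : (Finset.univ.erase (1 : G)).Nonempty := by
      haveI : Nontrivial G := by
        rw [← Fintype.one_lt_card_iff_nontrivial, ← Nat.card_eq_fintype_card]
        omega
      obtain ⟨x, hx⟩ := exists_ne (1 : G)
      exact ⟨x, Finset.mem_erase.mpr ⟨hx, Finset.mem_univ _⟩⟩
    have hsumlt : ∑ x ∈ Finset.univ.erase (1 : G),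
        (Nat.card (Subgroup.centralizer ({x} : Set G)) : ℝ) <
        ∑ _x ∈ Finset.univ.erase (1 : G), (g : ℝ) / α ^ 2 :=
      Finset.sum_lt_sum_of_nonempty hne hlt
    rw [Finset.sum_const, Finset.card_erase_of_mem (Finset.mem_univ _), Finset.card_univ,
      ← Nat.card_eq_fintype_card, nsmul_eq_mul] at hsumlt
    have hone : (Nat.card (Subgroup.centralizer ({(1 : G)} : Set G)) : ℝ) = g := by
      have hc : Subgroup.centralizer ({1} : Set G) = ⊤ := by
        rw [eq_top_iff]
        intro x _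
        rw [Subgroup.mem_centralizer_iff]
        intro y hy
        rw [Set.mem_singleton_iff] at hy
        rw [hy, one_mul, mul_one]
      rw [hc, Subgroup.card_top]
    rw [← Finset.add_sum_erase _ _ (Finset.mem_univ (1 : G)), hone] at hkg
    have hg1 : ((g - 1 : ℕ) : ℝ) = (g : ℝ) - 1 := by
      rw [Nat.cast_sub (by omega)]; simp
    rw [← hg, hg1] at hsumlt
    -- `k - 1 < t² / (g - 1)`
    have hk1 : ((k : ℝ) - 1) * g < ((g : ℝ) - 1) * (g / α ^ 2) := by linarith
    have hk2 : ((k : ℝ) - 1) * ((g : ℝ) - 1) < (t : ℝ) ^ 2 := by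
      have hα2 : α ^ 2 = ((g : ℝ) - 1) ^ 2 / (t : ℝ) ^ 2 := by rw [hα, div_pow]
      rw [hα2] at hk1
      have hg1pos : (0 : ℝ) < (g : ℝ) - 1 := by linarith
      have hgposR : (0 : ℝ) < g := by linarith
      have e : ((g : ℝ) - 1) * (g / (((g : ℝ) - 1) ^ 2 / (t : ℝ) ^ 2)) =
          g * (t : ℝ) ^ 2 / ((g : ℝ) - 1) := by
        field_simp
      rw [e] at hk1
      rw [lt_div_iff₀ hg1pos] at hk1
      nlinarith
    -- Cauchy--Schwarz
    have hCS : (∑ χ ∈ Finset.univ.erase χ₀, (d χ : ℝ)) ^ 2 ≤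
        ((k : ℝ) - 1) * ((g : ℝ) - 1) := by
      have h1 := Finset.sum_mul_sq_le_sq_mul_sq (Finset.univ.erase χ₀)
        (fun _ : IrrCharacter G => (1 : ℝ)) (fun χ => (d χ : ℝ))
      simp only [one_mul, one_pow, Finset.sum_const, nsmul_eq_mul, mul_one] at h1
      rw [hsq', Finset.card_erase_of_mem (Finset.mem_univ _), Finset.card_univ, ← hk] at h1
      have hk1' : ((k - 1 : ℕ) : ℝ) = (k : ℝ) - 1 := by
        have : 1 ≤ k := Fintype.card_pos_iff.mpr ⟨χ₀⟩
        rw [Nat.cast_sub this]; simp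
      rw [hk1'] at h1
      exact h1
    have hRle : ∑ χ ∈ R, (d χ : ℝ) ≤ ∑ χ ∈ Finset.univ.erase χ₀, (d χ : ℝ) :=
      Finset.sum_le_sum_of_subset_of_nonneg hRsub (fun _ _ _ => Nat.cast_nonneg _)
    have h5 : (t : ℝ) ≤ ∑ χ ∈ Finset.univ.erase χ₀, (d χ : ℝ) := htle.trans hRle
    have h6 : (t : ℝ) ^ 2 ≤ (∑ χ ∈ Finset.univ.erase χ₀, (d χ : ℝ)) ^ 2 :=
      pow_le_pow_left₀ htR.le h5 2
    linarith
  · -- part (b)
    by_contra hcon
    push Not at hcon
    have hbig : ∀ χ ∈ R, α < (d χ : ℝ) := by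
      intro χ hχ
      rw [hR, Finset.mem_filter] at hχ
      have hne1 : (χ : G → ℂ) ≠ fun _ => 1 := fun h => hχ.2.1 (Subtype.ext h)
      have h1 := hcon χ hne1 (fun x => Complex.conj_eq_iff_im.mp (hχ.2.2 x))
      have h2 : ((((Nat.card G : ℚ) - 1) / t : ℚ) : ℝ) < ((charDegree (χ : G → ℂ) : ℚ) : ℝ) :=
        Rat.cast_lt.mpr h1
      push_cast at h2
      exact h2
    have hRne : R.Nonempty := by
      by_contra hemp
      rw [Finset.not_nonempty_iff_eq_empty] at hemp
      rw [hemp, Finset.sum_empty] at htle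
      linarith
    have h1 : ∑ χ ∈ R, (d χ : ℝ) < ∑ χ ∈ R, (d χ : ℝ) ^ 2 / α := by
      apply Finset.sum_lt_sum_of_nonempty hRne
      intro χ hχ
      have := hbig χ hχ
      rw [lt_div_iff₀ hαpos]
      have hdp : (0 : ℝ) < d χ := by exact_mod_cast hdpos χ
      nlinarith
    have h2 : ∑ χ ∈ R, (d χ : ℝ) ^ 2 / α ≤ ((g : ℝ) - 1) / α := by
      rw [← Finset.sum_div]
      apply div_le_div_of_nonneg_right _ hαpos.le
      rw [← hsq']
      exact Finset.sum_le_sum_of_subset_of_nonneg hRsub (fun _ _ _ => by positivity)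
    have h3 : ((g : ℝ) - 1) / α = t := by
      rw [hα]
      have hg1 : ((g : ℝ) - 1) ≠ 0 := by linarith
      field_simp
    linarith

end Cfsg.Agent.S4476
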