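import Cfsg.Statements.S4477
import Mathlib
import Cfsg.Agent.Lib.Helper4.LinAct
import Cfsg.Agent.Lib.Helper4.FS
import Cfsg.Agent.Lib.Helper4.Codegree
import Cfsg.Agent.Lib.helper3.Irr13
import Cfsg.Agent.Lib.helper3.Degrees

set_option autoImplicit false
set_option linter.style.haveILetI false

open Cfsg

namespace Cfsg.Agent.S4477

open Cfsg.Agent.Lib.helper3.Irr Cfsg.Agent.Lib.helper3.Lin Cfsg.Agent.Lib.helper3.CharBasic
open Cfsg.Agent.Lib.Helper4.LinAct Cfsg.Agent.Lib.Helper4.Codegree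
open Cfsg.Agent.Lib.helper3.Central Cfsg.Agent.Lib.Helper4.FS
open scoped ComplexConjugate

variable {G : Type*} [Group G] [Finite G]

/-- a maximal subgroup of a finite `2`-group has index two -/
theorem coatom_index_two (hG : IsPGroup 2 G) (M : Subgroup G) (hM : IsCoatom M) :
    M.index = 2 := by
  haveI : Fact (Nat.Prime 2) := ⟨Nat.prime_two⟩
  haveI := hG.isNilpotent
  have hn : M.Normal :=
    ((Group.isNilpotent_of_finite_tfae (G := G)).out 0 2 rfl rfl).mp inferInstance M hM
  haveI := hn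
  have hQ : IsPGroup 2 (G ⧸ M) := hG.to_quotient M
  have hidx : M.index ≠ 1 := fun h => hM.1 (Subgroup.index_eq_one.mp h)
  obtain ⟨n, hn2⟩ := hG.index M
  have hn0 : n ≠ 0 := by
    rintro rfl
    exact hidx (by rw [hn2, pow_zero])
  have hdvd : 2 ∣ Nat.card (G ⧸ M) := by
    rw [← Subgroup.index_eq_card, hn2]
    exact dvd_pow_self 2 hn0
  obtain ⟨xb, hxb⟩ := exists_prime_orderOf_dvd_card' (G := G ⧸ M) 2 hdvd
  obtain ⟨x, rfl⟩ := QuotientGroup.mk_surjective xb
  have hxM : x ∉ M := by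
    intro hx
    have : ((x : G) : G ⧸ M) = 1 := (QuotientGroup.eq_one_iff x).mpr hx
    rw [this, orderOf_one] at hxb
    omega
  set H : Subgroup G := (Subgroup.zpowers ((x : G) : G ⧸ M)).comap (QuotientGroup.mk' M) with hH
  have hMH : M ≤ H := by
    intro m hm
    rw [hH, Subgroup.mem_comap, QuotientGroup.mk'_apply, (QuotientGroup.eq_one_iff m).mpr hm]
    exact Subgroup.one_mem _
  have hxH : x ∈ H := by
    rw [hH, Subgroup.mem_comap, QuotientGroup.mk'_apply]
    exact Subgroup.mem_zpowers _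
  have hHtop : H = ⊤ := by
    apply hM.2
    apply lt_of_le_of_ne hMH
    intro heq
    exact hxM (heq ▸ hxH)
  have hztop : Subgroup.zpowers ((x : G) : G ⧸ M) = ⊤ := by
    rw [eq_top_iff]
    intro yb _
    obtain ⟨y, rfl⟩ := QuotientGroup.mk_surjective yb
    have : y ∈ H := by rw [hHtop]; exact Subgroup.mem_top y
    rw [hH, Subgroup.mem_comap, QuotientGroup.mk'_apply] at this
    exact this
  rw [Subgroup.index_eq_card, ← Subgroup.card_top (G := G ⧸ M), ← hztop, Nat.card_zpowers, hxb]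

/-- a non-cyclic finite group has two distinct maximal subgroups -/
theorem two_coatoms (hnc : ¬ IsCyclic G) :
    ∃ M₁ M₂ : Subgroup G, IsCoatom M₁ ∧ IsCoatom M₂ ∧ M₁ ≠ M₂ := by
  rcases eq_top_or_exists_le_coatom (⊥ : Subgroup G) with h | ⟨M₁, hM₁, -⟩
  · exfalso
    apply hnc
    haveI : Subsingleton G := by
      constructor
      intro a b
      have ha : a ∈ (⊥ : Subgroup G) := by rw [h]; exact Subgroup.mem_top a
      have hb : b ∈ (⊥ : Subgroup G) := by rw [h]; exact Subgroup.mem_top b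
      rw [Subgroup.mem_bot] at ha hb
      rw [ha, hb]
    exact isCyclic_of_subsingleton
  · obtain ⟨g, hg⟩ : ∃ g : G, g ∉ M₁ := by
      by_contra hcon
      push Not at hcon
      exact hM₁.1 (eq_top_iff.mpr (fun g _ => hcon g))
    rcases eq_top_or_exists_le_coatom (Subgroup.zpowers g) with h | ⟨M₂, hM₂, hle⟩
    · exfalso
      apply hnc
      exact isCyclic_iff_exists_zpowers_eq_top.mpr ⟨g, h⟩
    · refine ⟨M₁, M₂, hM₁, hM₂, ?_⟩
      intro heq
      exact hg (heq ▸ hle (Subgroup.mem_zpowers g))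

/-- the homomorphism to `{±1}` attached to a subgroup of index two -/
theorem exists_hom_of_index_two (M : Subgroup G) (hM : M.index = 2) :
    ∃ μ : G →* ℂˣ, μ ^ 2 = 1 ∧ ∀ g, μ g = 1 ↔ g ∈ M := by
  classical
  have hne : (-1 : ℂˣ) ≠ 1 := by
    intro h
    have := congrArg Units.val h
    norm_num at this
  let μ : G →* ℂˣ :=
    { toFun := fun g => if g ∈ M then 1 else -1
      map_one' := by rw [if_pos M.one_mem]
      map_mul' := by
        intro a b
        have h := Subgroup.mul_mem_iff_of_index_two hM (a := a) (b := b)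
        by_cases ha : a ∈ M <;> by_cases hb : b ∈ M
        · rw [if_pos ha, if_pos hb, if_pos (h.mpr ⟨fun _ => hb, fun _ => ha⟩), one_mul]
        · rw [if_pos ha, if_neg hb, if_neg (fun hab => hb ((h.mp hab).mp ha)), one_mul]
        · rw [if_neg ha, if_pos hb, if_neg (fun hab => ha ((h.mp hab).mpr hb)), mul_one]
        · rw [if_neg ha, if_neg hb,
            if_pos (h.mpr ⟨fun h1 => absurd h1 ha, fun h1 => absurd h1 hb⟩)]
          simp }
  have hμ : ∀ g, μ g = if g ∈ M then 1 else -1 := fun g => rfl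
  refine ⟨μ, ?_, ?_⟩
  · ext g
    rw [MonoidHom.pow_apply, hμ]
    by_cases hg : g ∈ M
    · rw [if_pos hg]; simp
    · rw [if_neg hg]; simp
  · intro g
    rw [hμ]
    by_cases hg : g ∈ M
    · rw [if_pos hg]; exact ⟨fun _ => hg, fun _ => rfl⟩
    · rw [if_neg hg]; exact ⟨fun h => absurd h hne, fun h => absurd h hg⟩

/-- the `k`-torsion of the group of linear characters -/
def tors (G : Type*) [Group G] (k : ℕ) : Subgroup (G →* ℂˣ) where
  carrier := {μ | ∀ g, μ g ^ k = 1}
  one_mem' := fun g => by rw [MonoidHom.one_apply, one_pow]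
  mul_mem' := fun {a b} ha hb g => by rw [MonoidHom.mul_apply, mul_pow, ha g, hb g, one_mul]
  inv_mem' := fun {a} ha g => by rw [MonoidHom.inv_apply, inv_pow, ha g, inv_one]

omit [Finite G] in
theorem mem_tors (k : ℕ) (μ : G →* ℂˣ) : μ ∈ tors G k ↔ ∀ g, μ g ^ k = 1 := Iff.rfl

omit [Finite G] in
theorem isPGroup_tors (j : ℕ) : IsPGroup 2 (tors G (2 ^ j)) := by
  intro μ
  refine ⟨j, ?_⟩
  apply Subtype.ext
  ext g
  have := (mem_tors (2 ^ j) (μ : G →* ℂˣ)).mp μ.2 g
  simpa using congrArg Units.val this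

theorem four_dvd_card_tors (hG : IsPGroup 2 G) (hnc : ¬ IsCyclic G) :
    4 ∣ Nat.card (tors G 2) := by
  classical
  haveI : Fact (Nat.Prime 2) := ⟨Nat.prime_two⟩
  obtain ⟨M₁, M₂, hM₁, hM₂, hne⟩ := two_coatoms hnc
  obtain ⟨μ₁, hμ₁, hk₁⟩ := exists_hom_of_index_two M₁ (coatom_index_two hG M₁ hM₁)
  obtain ⟨μ₂, hμ₂, hk₂⟩ := exists_hom_of_index_two M₂ (coatom_index_two hG M₂ hM₂)
  have h12 : μ₁ ≠ μ₂ := by
    intro h
    apply hne
    ext g
    rw [← hk₁, ← hk₂, h]
  have h1 : μ₁ ≠ 1 := by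
    intro h
    apply hM₁.1
    rw [eq_top_iff]
    intro g _
    rw [← hk₁, h, MonoidHom.one_apply]
  have h2 : μ₂ ≠ 1 := by
    intro h
    apply hM₂.1
    rw [eq_top_iff]
    intro g _
    rw [← hk₂, h, MonoidHom.one_apply]
  have hA := isPGroup_tors (G := G) 1
  rw [pow_one] at hA
  obtain ⟨r, hr⟩ := (IsPGroup.iff_card).mp hA
  letI : Fintype (tors G 2) := Fintype.ofFinite _
  have hmem : ∀ μ : G →* ℂˣ, μ ^ 2 = 1 → μ ∈ tors G 2 := by
    intro μ h
    rw [mem_tors]
    intro g
    have := DFunLike.congr_fun h g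
    rwa [MonoidHom.pow_apply, MonoidHom.one_apply] at this
  let a₁ : tors G 2 := ⟨μ₁, hmem μ₁ hμ₁⟩
  let a₂ : tors G 2 := ⟨μ₂, hmem μ₂ hμ₂⟩
  have hcard : 3 ≤ Nat.card (tors G 2) := by
    rw [Nat.card_eq_fintype_card]
    have hs : ({1, a₁, a₂} : Finset (tors G 2)).card = 3 := by
      rw [Finset.card_insert_of_notMem, Finset.card_insert_of_notMem, Finset.card_singleton]
      · rw [Finset.mem_singleton]
        intro h
        exact h12 (congrArg Subtype.val h)
      · rw [Finset.mem_insert, Finset.mem_singleton]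
        rintro (h | h)
        · exact h1 (congrArg Subtype.val h).symm
        · exact h2 (congrArg Subtype.val h).symm
    rw [← hs]
    exact Finset.card_le_univ _
  rw [hr] at hcard ⊢
  have hr2 : 2 ≤ r := by
    by_contra hlt
    have : r = 0 ∨ r = 1 := by omega
    rcases this with rfl | rfl <;> norm_num at hcard
  obtain ⟨s, rfl⟩ := Nat.exists_eq_add_of_le hr2
  rw [pow_add]
  exact Dvd.intro _ rfl

/-! ### The Frobenius–Schur count modulo four -/

/-- real-valued irreducible characters -/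
def IsReal (χ : IrrCharacter G) : Prop := ∀ g, conj ((χ : G → ℂ) g) = (χ : G → ℂ) g

theorem fsInd_lin_real [Fintype G] (χ : IrrCharacter G) (h1 : (χ : G → ℂ) 1 = 1)
    (hr : IsReal χ) : fsInd (χ : G → ℂ) = 1 := by
  have h := irr_classInner_self χ.2
  rw [Cfsg.Agent.Lib.helper3.IndFun.classInner_apply] at h
  unfold fsInd
  rw [← h]
  congr 1
  apply Finset.sum_congr rfl
  intro s _
  rw [map_mul_of_apply_one_eq_one (isCharacter_of_isIrrCharacter χ.2) h1, hr s]

open scoped Classical in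
theorem exists_term [Fintype G] (hG : IsPGroup 2 G) (χ : IrrCharacter G) :
    ∃ c : ℤ, (c : ℂ) = fsInd (χ : G → ℂ) * (χ : G → ℂ) 1 ∧
      (4 : ℤ) ∣ c - ((if charDegree (χ : G → ℂ) = 1 ∧ IsReal χ then 1 else 0) +
        2 * (if charDegree (χ : G → ℂ) = 2 ∧ IsReal χ then 1 else 0)) := by
  haveI : Fact (Nat.Prime 2) := ⟨Nat.prime_two⟩
  obtain ⟨n, hn1, hndvd, hnpos⟩ := irr_degree_dvd_card χ.2
  have hdeg : charDegree (χ : G → ℂ) = n := charDegree_eq hn1
  obtain ⟨m, hm⟩ := (IsPGroup.iff_card).mp hG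
  rw [hm] at hndvd
  obtain ⟨k, -, rfl⟩ := (Nat.dvd_prime_pow Nat.prime_two).mp hndvd
  rw [hdeg, hn1]
  rcases fsInd_cases χ.2 with ⟨h0, hnr⟩ | ⟨hpm, hr⟩
  · refine ⟨0, by rw [h0]; simp, ?_⟩
    have hnr' : ¬ IsReal χ := hnr
    rw [if_neg (fun h => hnr' h.2), if_neg (fun h => hnr' h.2)]
    simp
  · have hr' : IsReal χ := hr
    rcases Nat.lt_or_ge k 2 with hk | hk
    · have : k = 0 ∨ k = 1 := by omega
      rcases this with rfl | rfl
      · have hf := fsInd_lin_real χ (by rw [hn1]; simp) hr'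
        refine ⟨1, by rw [hf]; simp, ?_⟩
        rw [if_pos ⟨by simp, hr'⟩, if_neg (fun h => by simp at h)]
        simp
      · rcases hpm with hf | hf
        · refine ⟨2, by rw [hf]; simp, ?_⟩
          rw [if_neg (fun h => by simp at h), if_pos ⟨by simp, hr'⟩]
          simp
        · refine ⟨-2, by rw [hf]; simp, ?_⟩
          rw [if_neg (fun h => by simp at h), if_pos ⟨by simp, hr'⟩]
          norm_num
    · obtain ⟨j, rfl⟩ := Nat.exists_eq_add_of_le hk
      have h4 : (2 : ℕ) ^ (2 + j) = 4 * 2 ^ j := by rw [pow_add]; norm_num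
      have hne1 : ¬ ((2 : ℕ) ^ (2 + j) = 1 ∧ IsReal χ) := by
        rintro ⟨h, -⟩
        have : 0 < 2 ^ j := Nat.pos_of_ne_zero (by positivity)
        omega
      have hne2 : ¬ ((2 : ℕ) ^ (2 + j) = 2 ∧ IsReal χ) := by
        rintro ⟨h, -⟩
        have : 0 < 2 ^ j := Nat.pos_of_ne_zero (by positivity)
        omega
      rw [if_neg hne1, if_neg hne2]
      rcases hpm with hf | hf
      · refine ⟨((2 : ℕ) ^ (2 + j) : ℕ), by rw [hf]; push_cast; ring, ?_⟩
        rw [h4]
        push_cast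
        exact ⟨2 ^ j, by ring⟩
      · refine ⟨-((2 : ℕ) ^ (2 + j) : ℕ), by rw [hf]; push_cast; ring, ?_⟩
        rw [h4]
        push_cast
        exact ⟨-2 ^ j, by ring⟩

theorem card_sq_eq_one [Fintype G] :
    Nat.card {s : G // s * s = 1} = 1 + Nat.card {x : G // orderOf x = 2} := by
  classical
  rw [Nat.card_eq_fintype_card, Nat.card_eq_fintype_card, Fintype.card_subtype,
    Fintype.card_subtype]
  have h : Finset.univ.filter (fun s : G => s * s = 1) =
      insert 1 (Finset.univ.filter (fun x : G => orderOf x = 2)) := by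
    ext s
    rw [Finset.mem_filter, Finset.mem_insert, Finset.mem_filter,
      orderOf_eq_prime_iff (p := 2) (hp := ⟨Nat.prime_two⟩)]
    rw [pow_two]
    constructor
    · rintro ⟨-, h⟩
      by_cases h1 : s = 1
      · left; exact h1
      · right; exact ⟨Finset.mem_univ _, h, h1⟩
    · rintro (h | ⟨-, h, -⟩)
      · rw [h]; exact ⟨Finset.mem_univ _, one_mul 1⟩
      · exact ⟨Finset.mem_univ _, h⟩
  rw [h, Finset.card_insert_of_notMem, add_comm]
  rw [Finset.mem_filter]
  rintro ⟨-, h⟩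
  rw [orderOf_one] at h
  omega

open scoped Classical in
theorem count [Fintype G] (hG : IsPGroup 2 G) :
    ∃ q : ℤ, (1 + Nat.card {x : G // orderOf x = 2} : ℤ) =
      ((Finset.univ.filter (fun χ : IrrCharacter G =>
          charDegree (χ : G → ℂ) = 1 ∧ IsReal χ)).card : ℤ) +
        2 * ((Finset.univ.filter (fun χ : IrrCharacter G =>
          charDegree (χ : G → ℂ) = 2 ∧ IsReal χ)).card : ℤ) + 4 * q := by
  choose c hc1 hc2 using exists_term hG
  have hsum : (∑ χ : IrrCharacter G, c χ : ℤ) = (1 + Nat.card {x : G // orderOf x = 2} : ℤ) := by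
    have h := card_sqrt_eq_sum (1 : G)
    rw [card_sq_eq_one] at h
    have h2 : ((∑ χ : IrrCharacter G, c χ : ℤ) : ℂ) =
        ((1 + Nat.card {x : G // orderOf x = 2} : ℤ) : ℂ) := by
      push_cast
      rw [Finset.sum_congr rfl (fun χ _ => hc1 χ), ← h]
      push_cast
      rfl
    exact_mod_cast h2
  have hdvd : (4 : ℤ) ∣ ∑ χ : IrrCharacter G,
      (c χ - ((if charDegree (χ : G → ℂ) = 1 ∧ IsReal χ then 1 else 0) +
        2 * (if charDegree (χ : G → ℂ) = 2 ∧ IsReal χ then 1 else 0))) :=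
    Finset.dvd_sum (fun χ _ => hc2 χ)
  obtain ⟨q, hq⟩ := hdvd
  refine ⟨q, ?_⟩
  rw [Finset.sum_sub_distrib, Finset.sum_add_distrib, ← Finset.mul_sum, Finset.sum_boole,
    Finset.sum_boole, hsum] at hq
  push_cast at hq ⊢
  linarith

/-! ### The action of the linear characters -/

omit [Finite G] in
theorem conj_fn_of_sq (μ : G →* ℂˣ) (g : G) (h : fn μ g * fn μ g = 1) :
    conj (fn μ g) = fn μ g := by
  rcases mul_self_eq_one_iff.mp h with h1 | h1
  · rw [h1, map_one]
  · rw [h1, map_neg, map_one]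

omit [Finite G] in
theorem fn_sq_of_mem_tors (μ : G →* ℂˣ) (hμ : μ ∈ tors G 2) (g : G) :
    fn μ g * fn μ g = 1 := by
  have h := (mem_tors 2 μ).mp hμ g
  have h2 := congrArg Units.val h
  rw [Units.val_pow_eq_pow_val, Units.val_one, pow_two] at h2
  exact h2

theorem norm_fn (μ : G →* ℂˣ) (g : G) : ‖fn μ g‖ = 1 := by
  apply Complex.norm_eq_one_of_pow_eq_one (n := orderOf g)
  · rw [fn_apply, ← Units.val_pow_eq_pow_val, ← map_pow, pow_orderOf_eq_one, map_one,
      Units.val_one]
  · exact (orderOf_pos g).ne'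

open scoped Classical in
theorem card_X1 [Fintype G] :
    (Finset.univ.filter (fun χ : IrrCharacter G =>
      charDegree (χ : G → ℂ) = 1 ∧ IsReal χ)).card = Nat.card (tors G 2) := by
  rw [← Fintype.card_coe, ← Nat.card_eq_fintype_card]
  symm
  apply Nat.card_congr
  refine Equiv.ofBijective (fun a => ⟨lin a.1, ?_⟩) ⟨?_, ?_⟩
  · rw [Finset.mem_filter]
    refine ⟨Finset.mem_univ _, ?_, ?_⟩
    · apply charDegree_eq
      show fn a.1 1 = ((1 : ℕ) : ℂ)
      rw [fn_apply_one, Nat.cast_one]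
    · intro g
      exact conj_fn_of_sq a.1 g (fn_sq_of_mem_tors a.1 a.2 g)
  · intro a b h
    apply Subtype.ext
    exact lin_injective (congrArg Subtype.val h)
  · rintro ⟨χ, hχ⟩
    rw [Finset.mem_filter] at hχ
    obtain ⟨-, hd, hr⟩ := hχ
    have h1 : (χ : G → ℂ) 1 = 1 := by
      rw [← charDegree_cast (isCharacter_of_isIrrCharacter χ.2), hd, Nat.cast_one]
    obtain ⟨μ, hμ⟩ := exists_lin_eq χ h1
    have hμg : ∀ g, fn μ g = (χ : G → ℂ) g := fun g => by rw [← hμ]; rfl
    have hmem : μ ∈ tors G 2 := by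
      rw [mem_tors]
      intro g
      apply Units.ext
      rw [Units.val_one, Units.val_pow_eq_pow_val, pow_two]
      have hn := norm_fn μ g
      have hc := Complex.mul_conj' (fn μ g)
      rw [hn] at hc
      have hreal : conj (fn μ g) = fn μ g := by rw [hμg]; exact hr g
      rw [hreal] at hc
      rw [← fn_apply, hc]
      norm_num
    refine ⟨⟨μ, hmem⟩, ?_⟩
    apply Subtype.ext
    exact hμ

/-- Let G be a finite 2-group whose number of involutions is congruent to 1 modulo 4. Then G is cyclic or its commutator subgroup has index 4. -/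
theorem result {G : Type*} [Group G] [Finite G] (hG : IsPGroup 2 G) (ht : Nat.card {x : G // orderOf x = 2} % 4 = 1) : IsCyclic G ∨ (commutator G).index = 4 := by
  classical
  letI : Fintype G := Fintype.ofFinite G
  haveI : Fact (Nat.Prime 2) := ⟨Nat.prime_two⟩
  by_contra hcon
  push Not at hcon
  obtain ⟨hnc, hidx⟩ := hcon
  obtain ⟨q, hq⟩ := count hG
  have h4 := four_dvd_card_tors hG hnc
  rw [← card_X1] at h4
  set X₁ : Finset (IrrCharacter G) := Finset.univ.filter (fun χ : IrrCharacter G =>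
      charDegree (χ : G → ℂ) = 1 ∧ IsReal χ) with hX₁
  set X : Finset (IrrCharacter G) := Finset.univ.filter (fun χ : IrrCharacter G =>
      charDegree (χ : G → ℂ) = 2 ∧ IsReal χ) with hXdef
  have hXodd : X.card % 2 = 1 := by
    obtain ⟨k, hk⟩ := h4
    rw [hk] at hq
    push_cast at hq
    omega
  -- the action of `tors G 2` on `X`
  have hA := isPGroup_tors (G := G) 1
  rw [pow_one] at hA
  have hX : ∀ a : tors G 2, ∀ χ ∈ X, a • χ ∈ X := by
    intro a χ hχ
    rw [hXdef, Finset.mem_filter] at hχ ⊢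
    obtain ⟨-, hd, hr⟩ := hχ
    refine ⟨Finset.mem_univ _, ?_, ?_⟩
    · unfold charDegree at hd ⊢
      rw [Subgroup.smul_def, smul_apply_one]
      exact hd
    · intro g
      rw [Subgroup.smul_def, Cfsg.Agent.Lib.Helper4.LinAct.smul_apply, map_mul, hr g,
        conj_fn_of_sq a.1 g (fn_sq_of_mem_tors a.1 a.2 g)]
  set Y : Finset (IrrCharacter G) := X.filter (fun χ => ∀ a : tors G 2, a • χ = χ) with hYdef
  have hXY := card_modEq_card_filter_fixed 2 hA X hX Y (fun χ => by rw [hYdef, Finset.mem_filter])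
  have hYodd : Y.card % 2 = 1 := by
    have := hXY
    unfold Nat.ModEq at this
    omega
  -- the action of `tors G 4` on `Y`
  have hB := isPGroup_tors (G := G) 2
  have hsq : ∀ b : G →* ℂˣ, b ∈ tors G (2 ^ 2) → b ^ 2 ∈ tors G 2 := by
    intro b hb
    rw [mem_tors] at hb ⊢
    intro g
    rw [MonoidHom.pow_apply, ← pow_mul]
    exact hb g
  have hY : ∀ b : tors G (2 ^ 2), ∀ χ ∈ Y, b • χ ∈ Y := by
    intro b χ hχ
    rw [hYdef, Finset.mem_filter] at hχ ⊢
    obtain ⟨hχX, hfix⟩ := hχ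
    have hχX' := hχX
    rw [hXdef, Finset.mem_filter] at hχX'
    obtain ⟨-, hd, hr⟩ := hχX'
    refine ⟨?_, ?_⟩
    · rw [hXdef, Finset.mem_filter]
      refine ⟨Finset.mem_univ _, ?_, ?_⟩
      · unfold charDegree at hd ⊢
        rw [Subgroup.smul_def, smul_apply_one]
        exact hd
      · intro g
        rw [Subgroup.smul_def, Cfsg.Agent.Lib.Helper4.LinAct.smul_apply, map_mul, hr g]
        by_cases h0 : (χ : G → ℂ) g = 0
        · rw [h0, mul_zero, mul_zero]
        · -- `b ^ 2` fixes `χ`, hence is trivial at `g`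
          have h1 := congrArg (fun ψ : IrrCharacter G => (ψ : G → ℂ) g)
            (hfix ⟨b.1 ^ 2, hsq b.1 b.2⟩)
          simp only [Subgroup.smul_def, Cfsg.Agent.Lib.Helper4.LinAct.smul_apply] at h1
          have h2 : fn (b.1 ^ 2) g = 1 := by
            have : (fn (b.1 ^ 2) g - 1) * (χ : G → ℂ) g = 0 := by linear_combination h1
            rcases mul_eq_zero.mp this with h | h
            · exact sub_eq_zero.mp h
            · exact absurd h h0
          rw [fn_apply, MonoidHom.pow_apply, Units.val_pow_eq_pow_val, pow_two] at h2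
          rw [conj_fn_of_sq b.1 g h2]
    · intro a
      have := hfix a
      apply Subtype.ext
      funext g
      have h1 := congrArg (fun ψ : IrrCharacter G => (ψ : G → ℂ) g) this
      simp only [Subgroup.smul_def, Cfsg.Agent.Lib.Helper4.LinAct.smul_apply] at h1 ⊢
      rw [mul_left_comm, h1]
  set Z : Finset (IrrCharacter G) := Y.filter (fun χ => ∀ b : tors G (2 ^ 2), b • χ = χ)
    with hZdef
  have hYZ := card_modEq_card_filter_fixed 2 hB Y hY Z (fun χ => by rw [hZdef, Finset.mem_filter])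
  have hZodd : Z.card % 2 = 1 := by
    have := hYZ
    unfold Nat.ModEq at this
    omega
  obtain ⟨χ, hχZ⟩ : Z.Nonempty := by
    rw [← Finset.card_pos]
    omega
  rw [hZdef, Finset.mem_filter] at hχZ
  obtain ⟨hχY, hfixB⟩ := hχZ
  rw [hYdef, Finset.mem_filter] at hχY
  obtain ⟨hχX, -⟩ := hχY
  rw [hXdef, Finset.mem_filter] at hχX
  obtain ⟨-, hd, -⟩ := hχX
  have hle := card_le_sq_of_fixed (tors G (2 ^ 2)) χ (fun μ hμ => by
    have := hfixB ⟨μ, hμ⟩
    rw [Subgroup.smul_def] at this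
    exact this)
  have hχ1 : (χ : G → ℂ) 1 = 2 := by
    rw [← charDegree_cast (isCharacter_of_isIrrCharacter χ.2), hd]
    norm_num
  rw [hχ1] at hle
  have hle4 : Nat.card (tors G (2 ^ 2)) ≤ 4 := by
    have : (Nat.card (tors G (2 ^ 2)) : ℝ) ≤ 4 := by
      refine hle.trans ?_
      norm_num
    exact_mod_cast this
  -- `tors G 2 = tors G 4`
  have hAB : tors G 2 ≤ tors G (2 ^ 2) := by
    intro μ hμ
    rw [mem_tors] at hμ ⊢
    intro g
    have h22 : (2 : ℕ) ^ 2 = 2 * 2 := by norm_num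
    rw [h22, pow_mul, hμ g, one_pow]
  have hcardA : 4 ≤ Nat.card (tors G 2) := by
    have e := card_X1 (G := G)
    rw [← hX₁] at e
    obtain ⟨k, hk⟩ := h4
    have hpos : 0 < Nat.card (tors G 2) := Nat.card_pos
    omega
  have hEq : tors G 2 = tors G (2 ^ 2) :=
    Subgroup.eq_of_le_of_card_ge hAB (hle4.trans hcardA)
  -- all of `Λ`
  have hΛcard : Nat.card (G →* ℂˣ) = (commutator G).index := card_hom_eq_index
  obtain ⟨m, hm⟩ := (IsPGroup.iff_card).mp hG
  have hstep : ∀ (k : ℕ) (μ : G →* ℂˣ), (∀ g, μ g ^ 2 ^ (k + 1) = 1) → ∀ g, μ g ^ 2 = 1 := by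
    intro k
    induction k with
    | zero =>
      intro μ h g
      have := h g
      rwa [zero_add, pow_one] at this
    | succ k ih =>
      intro μ h
      apply ih
      set ν : G →* ℂˣ := (powMonoidHom (2 ^ k)).comp μ with hν
      have hνg : ∀ g, ν g = μ g ^ 2 ^ k := fun g => rfl
      have h1 : ν ∈ tors G (2 ^ 2) := by
        rw [mem_tors]
        intro g
        rw [hνg, ← pow_mul, ← pow_add]
        have := h g
        rwa [show k + 1 + 1 = k + 2 from rfl] at this
      rw [← hEq, mem_tors] at h1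
      intro g
      have := h1 g
      rwa [hνg, ← pow_mul, ← pow_succ] at this
  have hall : ∀ μ : G →* ℂˣ, μ ∈ tors G 2 := by
    intro μ
    rw [mem_tors]
    have hbase : ∀ g, μ g ^ 2 ^ m = 1 := by
      intro g
      rw [← map_pow, ← hm, pow_card_eq_one', map_one]
    rcases Nat.eq_zero_or_pos m with rfl | hmpos
    · intro g
      have := hbase g
      rw [pow_zero, pow_one] at this
      rw [this, one_pow]
    · obtain ⟨k, rfl⟩ := Nat.exists_eq_succ_of_ne_zero hmpos.ne'
      exact hstep k μ hbase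
  have htop : tors G 2 = ⊤ := eq_top_iff.mpr (fun μ _ => hall μ)
  apply hidx
  rw [← hΛcard, ← Subgroup.card_top (G := G →* ℂˣ), ← htop]
  apply le_antisymm _ hcardA
  rw [hEq]
  exact hle4

end Cfsg.Agent.S4477
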