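import Mathlib
import Cfsg.Statements.S4478
import Cfsg.Agent.Lib.helper3.InvClass3

set_option autoImplicit false
open Cfsg

namespace Cfsg.Agent.S4478

open Cfsg.Agent.Lib.helper3.InvClass Cfsg.Agent.Lib.helper3.Block

set_option linter.style.haveILetI false

/-- Let G be a finite group of even order and χ an irreducible character of G whose degree x is divisible by the full power of 2 dividing the order of G and, for every odd prime p such that G has an element of order 2p, by the full power of p dividing the order of G. Then all involutions of G are conjugate, the centralizer of every involution has order exactly x with x coprime to its index, and the Frobenius–Schur indicator of χ equals 1. -/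
theorem result {G : Type*} [Group G] [Fintype G] (heven : Even (Nat.card G)) (χ : Cfsg.IrrCharacter G) (h2 : 2 ^ (Nat.card G).factorization 2 ∣ Cfsg.charDegree (χ : G → ℂ)) (hp : ∀ p : ℕ, p.Prime → p ≠ 2 → (∃ g : G, orderOf g = 2 * p) → p ^ (Nat.card G).factorization p ∣ Cfsg.charDegree (χ : G → ℂ)) : (∀ s t : G, orderOf s = 2 → orderOf t = 2 → IsConj s t) ∧ (∀ s : G, orderOf s = 2 → Nat.card (Subgroup.centralizer ({s} : Set G)) = Cfsg.charDegree (χ : G → ℂ) ∧ (Nat.card (Subgroup.centralizer ({s} : Set G))).Coprime (Subgroup.centralizer ({s} : Set G)).index) ∧ (Nat.card G : ℂ)⁻¹ * ∑ g : G, (χ : G → ℂ) (g * g) = 1 := by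
  classical
  have hx : MixedDefectZero G (Cfsg.charDegree (χ : G → ℂ)) := ⟨h2, hp⟩
  have hx0 : Cfsg.charDegree (χ : G → ℂ) ≠ 0 := by
    obtain ⟨d', hd'pos, hd'1⟩ := Cfsg.Agent.Lib.helper3.Irr.exists_pos_nat_apply_one χ.2
    rw [charDegree_eq hd'1]
    exact hd'pos.ne'
  obtain ⟨hIx, hfs⟩ := card_involutions_mul_degree heven χ hx
  refine ⟨?_, ?_, hfs⟩
  · intro s t hs ht
    exact (involutions_conj hx0 hx hIx s hs).1 t ht
  · intro s hs
    exact (involutions_conj hx0 hx hIx s hs).2

end Cfsg.Agent.S4478
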