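import Cfsg.Statements.S4486
import Cfsg.Agent.H1.BLMain
import Cfsg.Agent.Lib.helper3.BLStruct
import Cfsg.Agent.Lib.helper3.PDeg5
import Cfsg.Agent.Lib.helper3.RankOne2

set_option autoImplicit false
open Cfsg

namespace Cfsg.Agent.S4486

open Cfsg.Agent.Lib.helper3.Irr Cfsg.Agent.Lib.helper3.Block Cfsg.Agent.Lib.helper3.BLStruct
open Cfsg.Agent.Lib.helper3.PDeg Cfsg.Agent.Lib.helper3.IndFun Cfsg.Agent.H1.BL

/-- An irreducible character that is constant is the principal character. -/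
theorem eq_one_of_const {G : Type*} [Group G] [Fintype G] {ψ : G → ℂ} (hψ : IsIrrCharacter G ψ)
    (hc : ∀ g : G, ψ g = ψ 1) : ψ = fun _ => 1 := by
  obtain ⟨d, hd0, hd⟩ := exists_pos_nat_apply_one hψ
  have h1 := irr_classInner_self hψ
  rw [classInner_apply] at h1
  have h2 : ∑ g : G, ψ g * (starRingEnd ℂ) (ψ g) = (Nat.card G : ℂ) * ((d : ℂ) * (d : ℂ)) := by
    have : ∀ g : G, ψ g * (starRingEnd ℂ) (ψ g) = (d : ℂ) * (d : ℂ) := by
      intro g
      rw [hc g, hd, Complex.conj_natCast]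
    simp_rw [this]
    rw [Finset.sum_const, Finset.card_univ, nsmul_eq_mul, Nat.card_eq_fintype_card]
  rw [h2] at h1
  have hG : (Nat.card G : ℂ) ≠ 0 := card_ne_zero_complex G
  rw [← mul_assoc, inv_mul_cancel₀ hG, one_mul] at h1
  have h3 : d * d = 1 := by exact_mod_cast h1
  have h4 : d = 1 := by nlinarith
  funext g
  rw [hc g, hd, h4]
  simp

/-- Let G be a finite group and p a prime dividing its order such that every non-identity element of a Sylow p-subgroup P has the same centralizer as P; let p^n be the order of P. If G has a non-principal irreducible character χ of degree x with x² < p^n − 1, then either G has a proper normal subgroup containing P, or G has a normal subgroup of index p^n and x = 1. -/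
theorem result {G : Type*} [Group G] [Finite G] (p : ℕ) (hp : p.Prime) (hpG : p ∣ Nat.card G) (P : Sylow p G) (hstar : ∀ x ∈ (P : Subgroup G), x ≠ 1 → Subgroup.centralizer ({x} : Set G) = Subgroup.centralizer ((P : Subgroup G) : Set G)) (n : ℕ) (hn : Nat.card P = p ^ n) (χ : Cfsg.IrrCharacter G) (h1 : (χ : G → ℂ) ≠ fun _ => 1) (hdeg : Cfsg.charDegree (χ : G → ℂ) ^ 2 + 1 < p ^ n) : (∃ K : Subgroup G, K.Normal ∧ K ≠ ⊤ ∧ (P : Subgroup G) ≤ K) ∨ ((∃ N : Subgroup G, N.Normal ∧ N.index = p ^ n) ∧ Cfsg.charDegree (χ : G → ℂ) = 1) := by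
  classical
  haveI : Fact p.Prime := ⟨hp⟩
  haveI : Fintype G := Fintype.ofFinite G
  by_cases hK : ∃ K : Subgroup G, K.Normal ∧ K ≠ ⊤ ∧ (P : Subgroup G) ≤ K
  · exact Or.inl hK
  right
  obtain ⟨V, hVC, hPV, hsup, hVinv, hTI⟩ := exists_structure p hp P hstar
  obtain ⟨N₀, hN₀⟩ : ∃ N₀ : Subgroup G, N₀ = Subgroup.normalizer ((P : Subgroup G) : Set G) :=
    ⟨_, rfl⟩
  have hPN : (P : Subgroup G) ≤ N₀ := by
    rw [hN₀]
    exact Subgroup.le_normalizer
  have hCN : Subgroup.centralizer ((P : Subgroup G) : Set G) ≤ N₀ := by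
    rw [hN₀]
    exact Subgroup.centralizer_le_normalizer _
  have hVN : V ≤ N₀ := hVC.trans hCN
  obtain ⟨P', hP'⟩ : ∃ P' : Subgroup ↥N₀, P' = (P : Subgroup G).subgroupOf N₀ := ⟨_, rfl⟩
  obtain ⟨V', hV'⟩ : ∃ V' : Subgroup ↥N₀, V' = V.subgroupOf N₀ := ⟨_, rfl⟩
  have hmemP' : ∀ a : ↥N₀, a ∈ P' ↔ (a : G) ∈ (P : Subgroup G) := by
    intro a
    rw [hP', Subgroup.mem_subgroupOf]
  have hmemV' : ∀ a : ↥N₀, a ∈ V' ↔ (a : G) ∈ V := by
    intro a
    rw [hV', Subgroup.mem_subgroupOf]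
  have hsup' : P' ⊔ V' = (Subgroup.centralizer ((P : Subgroup G) : Set G)).subgroupOf N₀ := by
    rw [hP', hV', ← Subgroup.subgroupOf_sup hPN hVN, hsup]
  have hmemsup : ∀ a : ↥N₀, a ∈ P' ⊔ V' ↔
      (a : G) ∈ Subgroup.centralizer ((P : Subgroup G) : Set G) := by
    intro a
    rw [hsup', Subgroup.mem_subgroupOf]
  have hPC : (P : Subgroup G) ≤ Subgroup.centralizer ((P : Subgroup G) : Set G) := by
    rw [← hsup]
    exact le_sup_left
  haveI hP'n : P'.Normal := by
    refine ⟨fun a ha g => ?_⟩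
    rw [hmemP'] at ha ⊢
    have hg : (g : G) ∈ Subgroup.normalizer ((P : Subgroup G) : Set G) := by
      rw [← hN₀]
      exact g.2
    have := (Subgroup.mem_normalizer_iff.mp hg (a : G)).mp ha
    exact this
  haveI hV'n : V'.Normal := by
    refine ⟨fun a ha g => ?_⟩
    rw [hmemV'] at ha ⊢
    have hg : (g : G) ∈ Subgroup.normalizer ((P : Subgroup G) : Set G) := by
      rw [← hN₀]
      exact g.2
    exact hVinv (g : G) hg (a : G) ha
  have hHyp : Hyp P' V' := by
    refine ⟨?_, ?_, ?_, ?_⟩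
    · intro x hx v hv
      rw [hmemP'] at hx
      rw [hmemV'] at hv
      have h2 := hVC hv
      rw [Subgroup.mem_centralizer_iff] at h2
      exact Subtype.ext (h2 (x : G) hx)
    · intro x hx hxv
      rw [hmemP'] at hx
      rw [hmemV'] at hxv
      have h2 : (x : G) ∈ (P : Subgroup G) ⊓ V := ⟨hx, hxv⟩
      rw [hPV, Subgroup.mem_bot] at h2
      exact Subtype.ext h2
    · intro x hx y hy
      rw [hmemP'] at hx hy
      have h2 := hPC hy
      rw [Subgroup.mem_centralizer_iff] at h2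
      exact Subtype.ext (h2 (x : G) hx)
    · intro a ha x hx hfix
      by_contra hx1
      apply ha
      rw [hmemsup]
      rw [hmemP'] at hx
      have hxG : (x : G) ≠ 1 := fun h => hx1 (Subtype.ext h)
      rw [← hstar (x : G) hx hxG, Subgroup.mem_centralizer_iff]
      intro y hy
      rw [Set.mem_singleton_iff] at hy
      subst hy
      have h3 : (a : G) * (x : G) * (a : G)⁻¹ = (x : G) := congrArg Subtype.val hfix
      calc (x : G) * (a : G) = ((a : G) * (x : G) * (a : G)⁻¹) * (a : G) := by rw [h3]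
        _ = (a : G) * (x : G) := by group
  have hTI' : ∀ a : ↥N₀, a ∈ P' ⊔ V' → a ∉ V' → ∀ y : G, y * (a : G) * y⁻¹ ∈ N₀ → y ∈ N₀ := by
    intro a ha haV y hy
    rw [← mulHom_range hHyp] at ha
    obtain ⟨z, hz⟩ := ha
    rw [mulHom_apply] at hz
    have hz1 : ((z.1 : ↥N₀) : G) ∈ (P : Subgroup G) := (hmemP' _).mp z.1.2
    have hz2 : ((z.2 : ↥N₀) : G) ∈ V := (hmemV' _).mp z.2.2
    have hne : ((z.1 : ↥N₀) : G) ≠ 1 := by
      intro h1'
      apply haV
      rw [← hz]
      have : (z.1 : ↥N₀) = 1 := Subtype.ext h1'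
      rw [this, one_mul]
      exact z.2.2
    have haG : (a : G) = ((z.1 : ↥N₀) : G) * ((z.2 : ↥N₀) : G) := by
      rw [← hz]
      rfl
    have hy' : y * (((z.1 : ↥N₀) : G) * ((z.2 : ↥N₀) : G)) * y⁻¹
        ∈ Subgroup.normalizer ((P : Subgroup G) : Set G) := by
      rw [← hN₀, ← haG]
      exact hy
    have h5 := hTI _ hz1 _ hz2 hne y hy'
    rw [← hN₀] at h5
    exact h5
  have hH : ∀ ψ : G → ℂ, IsIrrCharacter G ψ → ψ ≠ (fun _ => 1) →
      ∃ x : ↥N₀, x ∈ P' ∧ ψ x ≠ ψ 1 := by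
    intro ψ hψ hψ1
    by_contra hcon
    push_neg at hcon
    have hψc := isCharacter_of_isIrrCharacter hψ
    have hPK : (P : Subgroup G) ≤ kerSub hψc := by
      intro x hx
      rw [mem_kerSub]
      exact hcon ⟨x, hPN hx⟩ ((hmemP' _).mpr hx)
    have htop : kerSub hψc = ⊤ := by
      by_contra hne
      exact hK ⟨kerSub hψc, inferInstance, hne, hPK⟩
    apply hψ1
    apply eq_one_of_const hψ
    intro g
    have : g ∈ kerSub hψc := by
      rw [htop]
      exact Subgroup.mem_top g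
    exact (mem_kerSub hψc g).mp this
  have hd : (χ : G → ℂ) 1 = ((charDegree (χ : G → ℂ) : ℕ) : ℂ) := apply_one_eq_charDegree χ
  have hcardP' : Nat.card ↥P' = p ^ n := by
    rw [← hn, hP']
    exact Nat.card_congr (Subgroup.subgroupOfEquivOfLe hPN).toEquiv
  have hdq : charDegree (χ : G → ℂ) ^ 2 + 1 < Nat.card ↥P' := by
    rw [hcardP']
    exact hdeg
  obtain ⟨hd1, htop⟩ := core N₀ P' V' hHyp hTI' hH (χ : G → ℂ) χ.2 h1 _ hd hdq
  refine ⟨?_, hd1⟩
  have hNC : Subgroup.normalizer ((P : Subgroup G) : Set G)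
      ≤ Subgroup.centralizer ((P : Subgroup G) : Set G) := by
    intro g hg
    rw [← hN₀] at hg
    have h2 : (⟨g, hg⟩ : ↥N₀) ∈ P' ⊔ V' := by
      rw [htop]
      exact Subgroup.mem_top _
    exact (hmemsup _).mp h2
  obtain ⟨K, hKn, hKi⟩ := exists_normal_index p P hNC
  exact ⟨K, hKn, by rw [hKi, hn]⟩

end Cfsg.Agent.S4486
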