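import Cfsg.Statements.S4485
import Cfsg.Agent.S4486
import Cfsg.Agent.Lib.helper3.Lin
import Cfsg.Agent.Lib.helper3.RankOne2

set_option autoImplicit false
open Cfsg

namespace Cfsg.Agent.S4485

open Cfsg.Agent.Lib.helper3.Irr Cfsg.Agent.Lib.helper3.Lin Cfsg.Agent.Lib.helper3.Block

/-- Every `G`-conjugate of an element of the Sylow subgroup `P` is a conjugate, inside the normal
closure `M` of `P`, of an element of `P`. -/
theorem exists_conj_mem {G : Type*} [Group G] [Finite G] (p : ℕ) [Fact p.Prime] (P : Sylow p G)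
    (M : Subgroup G) (hM : M = Subgroup.normalClosure ((P : Subgroup G) : Set G)) (g x : G)
    (hx : x ∈ (P : Subgroup G)) :
    ∃ m y : ↥M, (y : G) ∈ (P : Subgroup G) ∧ g * x * g⁻¹ = ((m * y * m⁻¹ : ↥M) : G) := by
  subst hM
  have hPM : (P : Subgroup G) ≤ Subgroup.normalClosure ((P : Subgroup G) : Set G) :=
    Subgroup.le_normalClosure
  have hnorm : (Subgroup.normalClosure ((P : Subgroup G) : Set G)).Normal :=
    Subgroup.normalClosure_normal
  have hmemQ : ∀ z : G, z ∈ ((g • P : Sylow p G) : Subgroup G) ↔ g⁻¹ * z * g ∈ (P : Subgroup G) := by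
    intro z
    rw [Sylow.coe_subgroup_smul, Subgroup.mem_pointwise_smul_iff_inv_smul_mem, MulAut.smul_def,
      ← map_inv, MulAut.conj_apply, inv_inv]
  have hQM : ((g • P : Sylow p G) : Subgroup G)
      ≤ Subgroup.normalClosure ((P : Subgroup G) : Set G) := by
    intro z hz
    have h1 := hPM ((hmemQ z).mp hz)
    have h2 := hnorm.conj_mem _ h1 g
    have h3 : g * (g⁻¹ * z * g) * g⁻¹ = z := by group
    rwa [h3] at h2
  obtain ⟨m, hm⟩ := MulAction.exists_smul_eq
    (↥(Subgroup.normalClosure ((P : Subgroup G) : Set G))) (P.subtype hPM)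
    ((g • P : Sylow p G).subtype hQM)
  have hz : g * x * g⁻¹ ∈ ((g • P : Sylow p G) : Subgroup G) := by
    rw [hmemQ]
    have h3 : g⁻¹ * (g * x * g⁻¹) * g = x := by group
    rwa [h3]
  have h4 : (⟨g * x * g⁻¹, hQM hz⟩ : ↥(Subgroup.normalClosure ((P : Subgroup G) : Set G)))
      ∈ (((g • P : Sylow p G).subtype hQM :
        Sylow p ↥(Subgroup.normalClosure ((P : Subgroup G) : Set G))) :
        Subgroup ↥(Subgroup.normalClosure ((P : Subgroup G) : Set G))) := by
    rw [Sylow.coe_subtype, Subgroup.mem_subgroupOf]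
    exact hz
  rw [← hm, Sylow.coe_subgroup_smul, Subgroup.mem_pointwise_smul_iff_inv_smul_mem, MulAut.smul_def,
    ← map_inv, MulAut.conj_apply, inv_inv, Sylow.coe_subtype, Subgroup.mem_subgroupOf] at h4
  refine ⟨m, m⁻¹ * ⟨g * x * g⁻¹, hQM hz⟩ * m, h4, ?_⟩
  have h5 : m * (m⁻¹ * (⟨g * x * g⁻¹, hQM hz⟩ :
      ↥(Subgroup.normalClosure ((P : Subgroup G) : Set G))) * m) * m⁻¹ = ⟨g * x * g⁻¹, hQM hz⟩ := by
    group
  rw [h5]

/-- Let G be a finite group and p a prime dividing its order such that every non-identity element of a Sylow p-subgroup P has the same centralizer as P itself (so P is abelian); let p^n be the order of P. If G has a faithful character of degree x with x² < p^n − 1, then P is normal in G. -/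
theorem result {G : Type*} [Group G] [Finite G] (p : ℕ) (hp : p.Prime) (hpG : p ∣ Nat.card G) (P : Sylow p G) (hstar : ∀ x ∈ (P : Subgroup G), x ≠ 1 → Subgroup.centralizer ({x} : Set G) = Subgroup.centralizer ((P : Subgroup G) : Set G)) (n : ℕ) (hn : Nat.card P = p ^ n) (χ : G → ℂ) (hχ : Cfsg.IsCharacter G χ) (hfaith : ∀ g : G, χ g = χ 1 → g = 1) (hdeg : Cfsg.charDegree χ ^ 2 + 1 < p ^ n) : (P : Subgroup G).Normal := by
  classical
  haveI : Fact p.Prime := ⟨hp⟩
  obtain ⟨M, hMdef⟩ : ∃ M : Subgroup G, M = Subgroup.normalClosure ((P : Subgroup G) : Set G) :=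
    ⟨_, rfl⟩
  have hPM : (P : Subgroup G) ≤ M := by
    rw [hMdef]
    exact Subgroup.le_normalClosure
  haveI : Fintype ↥M := Fintype.ofFinite _
  haveI : Fintype G := Fintype.ofFinite _
  obtain ⟨PM, hPMdef⟩ : ∃ PM : Sylow p ↥M, PM = P.subtype hPM := ⟨_, rfl⟩
  have hPMmem : ∀ m : ↥M, m ∈ (PM : Subgroup ↥M) ↔ (m : G) ∈ (P : Subgroup G) := by
    intro m
    rw [hPMdef, Sylow.coe_subtype, Subgroup.mem_subgroupOf]
  have hcardPM : Nat.card PM = p ^ n := by
    rw [← hn]
    exact Nat.card_congr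
      { toFun := fun m => ⟨((m : ↥M) : G), (hPMmem _).mp m.2⟩
        invFun := fun q => ⟨⟨(q : G), hPM q.2⟩, (hPMmem _).mpr q.2⟩
        left_inv := fun m => rfl
        right_inv := fun q => rfl }
  have hn0 : n ≠ 0 := by
    intro h0
    rw [h0, pow_zero] at hdeg
    omega
  have hpM : p ∣ Nat.card ↥M := by
    have h1 : p ∣ Nat.card PM := by
      rw [hcardPM]
      exact dvd_pow_self p hn0
    exact h1.trans (Subgroup.card_subgroup_dvd_card _)
  have hstarM : ∀ x ∈ (PM : Subgroup ↥M), x ≠ 1 →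
      Subgroup.centralizer ({x} : Set ↥M) = Subgroup.centralizer ((PM : Subgroup ↥M) : Set ↥M) := by
    intro x hx hx1
    have hxG : (x : G) ≠ 1 := fun h => hx1 (Subtype.ext h)
    have h := hstar (x : G) ((hPMmem x).mp hx) hxG
    ext m
    rw [Subgroup.mem_centralizer_iff, Subgroup.mem_centralizer_iff]
    constructor
    · intro h1 q hq
      have h2 : (m : G) ∈ Subgroup.centralizer ({(x : G)} : Set G) := by
        rw [Subgroup.mem_centralizer_iff]
        intro y hy
        rw [Set.mem_singleton_iff] at hy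
        subst hy
        exact congrArg Subtype.val (h1 x (Set.mem_singleton x))
      rw [h, Subgroup.mem_centralizer_iff] at h2
      exact Subtype.ext (h2 (q : G) ((hPMmem q).mp hq))
    · intro h1 y hy
      rw [Set.mem_singleton_iff] at hy
      subst hy
      exact h1 y hx
  -- decomposition of the restriction
  have hχM : IsCharacter ↥M (fun m : ↥M => χ m) := isCharacter_restrict hχ M
  obtain ⟨mult, hmult⟩ := exists_decomposition_of_isCharacter hχM
  obtain ⟨d, hd⟩ := exists_nat_apply_one hχ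
  have hcd : charDegree χ = d := charDegree_eq hd
  have hsum : ∀ m : ↥M, χ (m : G) = ∑ ψ : IrrCharacter ↥M, (mult ψ : ℂ) * (ψ : ↥M → ℂ) m := by
    intro m
    have h2 := congrFun hmult m
    simp only [Finset.sum_apply, Pi.smul_apply, smul_eq_mul] at h2
    exact h2
  have hlin : ∀ ψ : IrrCharacter ↥M, mult ψ ≠ 0 → (ψ : ↥M → ℂ) 1 = 1 := by
    intro ψ hψ
    by_cases h1 : (ψ : ↥M → ℂ) = fun _ => 1
    · rw [h1]
    · have hdegψ : charDegree (ψ : ↥M → ℂ) ≤ d := by
        have h3 : (d : ℂ) = ((∑ ψ' : IrrCharacter ↥M, mult ψ' * charDegree (ψ' : ↥M → ℂ) : ℕ) : ℂ) := by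
          rw [← hd]
          push_cast
          have h4 := hsum 1
          rw [Subgroup.coe_one] at h4
          rw [h4]
          apply Finset.sum_congr rfl
          intro ψ' _
          rw [apply_one_eq_charDegree]
        have h4 : d = ∑ ψ' : IrrCharacter ↥M, mult ψ' * charDegree (ψ' : ↥M → ℂ) := by
          exact_mod_cast h3
        have h5 : mult ψ * charDegree (ψ : ↥M → ℂ)
            ≤ ∑ ψ' : IrrCharacter ↥M, mult ψ' * charDegree (ψ' : ↥M → ℂ) :=
          Finset.single_le_sum (f := fun ψ' : IrrCharacter ↥M => mult ψ' * charDegree (ψ' : ↥M → ℂ))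
            (fun _ _ => Nat.zero_le _) (Finset.mem_univ ψ)
        have h6 : charDegree (ψ : ↥M → ℂ) ≤ mult ψ * charDegree (ψ : ↥M → ℂ) :=
          Nat.le_mul_of_pos_left _ (Nat.pos_of_ne_zero hψ)
        omega
      have hdeg' : charDegree (ψ : ↥M → ℂ) ^ 2 + 1 < p ^ n := by
        have h7 : charDegree (ψ : ↥M → ℂ) ^ 2 ≤ d ^ 2 := Nat.pow_le_pow_left hdegψ 2
        rw [hcd] at hdeg
        omega
      rcases Cfsg.Agent.S4486.result p hp hpM PM hstarM n hcardPM ψ h1 hdeg' with
        ⟨K, hKn, hKtop, hPK⟩ | ⟨_, hdeg1⟩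
      · exfalso
        apply hKtop
        have key : Subgroup.normalClosure ((P : Subgroup G) : Set G) ≤ K.map M.subtype := by
          rw [Subgroup.normalClosure, Subgroup.closure_le]
          intro y hy
          rw [Group.mem_conjugatesOfSet_iff] at hy
          obtain ⟨x, hx, hxy⟩ := hy
          rw [isConj_iff] at hxy
          obtain ⟨g, rfl⟩ := hxy
          obtain ⟨m, y, hyP, hconj⟩ := exists_conj_mem p P M hMdef g x hx
          rw [hconj]
          refine ⟨m * y * m⁻¹, ?_, rfl⟩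
          exact hKn.conj_mem y (hPK ((hPMmem y).mpr hyP)) m
        rw [eq_top_iff]
        intro m _
        have hm : (m : G) ∈ Subgroup.normalClosure ((P : Subgroup G) : Set G) := by
          rw [← hMdef]
          exact m.2
        obtain ⟨k, hk, hkm⟩ := key hm
        have : k = m := Subtype.ext hkm
        rw [← this]
        exact hk
      · rw [apply_one_eq_charDegree, hdeg1]
        simp
  have hcomm : ∀ a b : ↥M, a * b = b * a := by
    intro a b
    have h5 : χ ((a * b * a⁻¹ * b⁻¹ : ↥M) : G) = χ 1 := by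
      have e2 := hsum 1
      rw [Subgroup.coe_one] at e2
      rw [hsum, e2]
      apply Finset.sum_congr rfl
      intro ψ _
      by_cases hψ : mult ψ = 0
      · rw [hψ]
        simp
      · have hl := hlin ψ hψ
        have hψc := isCharacter_of_isIrrCharacter ψ.2
        have ha : (ψ : ↥M → ℂ) a * (ψ : ↥M → ℂ) a⁻¹ = 1 := by
          rw [← map_mul_of_apply_one_eq_one hψc hl, mul_inv_cancel, hl]
        have hb : (ψ : ↥M → ℂ) b * (ψ : ↥M → ℂ) b⁻¹ = 1 := by
          rw [← map_mul_of_apply_one_eq_one hψc hl, mul_inv_cancel, hl]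
        rw [map_mul_of_apply_one_eq_one hψc hl, map_mul_of_apply_one_eq_one hψc hl,
          map_mul_of_apply_one_eq_one hψc hl, hl]
        linear_combination ((mult ψ : ℂ) * (ψ : ↥M → ℂ) b * (ψ : ↥M → ℂ) b⁻¹) * ha
          + (mult ψ : ℂ) * hb
    have h6 := hfaith _ h5
    have h7 : a * b * a⁻¹ * b⁻¹ = 1 := Subtype.ext h6
    calc a * b = (a * b * a⁻¹ * b⁻¹) * (b * a) := by group
      _ = b * a := by rw [h7, one_mul]
  refine ⟨fun x hx g => ?_⟩
  obtain ⟨m, y, hyP, hconj⟩ := exists_conj_mem p P M hMdef g x hx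
  rw [hconj, hcomm m y, mul_inv_cancel_right]
  exact hyP

end Cfsg.Agent.S4485
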