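import Mathlib
import Cfsg.Statements.S4487
import Cfsg.Agent.Lib.helper3.BlockNil2
import Cfsg.Agent.H1.Cores

set_option autoImplicit false
open Cfsg

set_option linter.style.haveILetI false

namespace Cfsg.Agent.S4487

open Cfsg.Agent.Lib.helper3.LocalM Cfsg.Agent.Lib.helper3.Block Cfsg.Agent.Lib.helper3.Irr Cfsg.Agent.Lib.helper3.CharBasic Cfsg.Agent.Lib.helper3.Central

/-- Let G be a finite group and p a prime such that G has no non-trivial normal subgroup of order prime to p and C_G(O_p(G)) ≤ O_p(G). Then G has a single p-block: any two irreducible characters lie in the same block relative to every maximal ideal M of the algebraic integers containing p. -/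
theorem result {G : Type*} [Group G] [Finite G] (p : ℕ) [Fact p.Prime] (M : Ideal Cfsg.AlgInt) (hM : Cfsg.IsPModular p M) (hcore : Cfsg.pPrimeCore p G = ⊥) (hconstr : Subgroup.centralizer ((Cfsg.pCore p G) : Set G) ≤ Cfsg.pCore p G) (χ ψ : Cfsg.IrrCharacter G) : Cfsg.SameBlock M (χ : G → ℂ) (ψ : G → ℂ) := by
  classical
  letI : Fintype G := Fintype.ofFinite G
  haveI hMp : M.IsPrime := hM.2.1.isPrime
  haveI hnorm : (Cfsg.pCore p G).Normal := Cfsg.Agent.H1.pCore_normal p
  have hPG : IsPGroup p (Cfsg.pCore p G) := Cfsg.Agent.H1.pCore_isPGroup p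
  intro g
  by_cases h : ∃ x : G, IsConj g x ∧ x ∈ Subgroup.centralizer (Cfsg.pCore p G : Set G)
  · obtain ⟨x, hgx, hx⟩ := h
    have hxQ : x ∈ Cfsg.pCore p G := hconstr hx
    obtain ⟨t, ht⟩ := isConj_iff.mp hgx
    have hgQ : g ∈ Cfsg.pCore p G := by
      have h1 := hnorm.conj_mem x hxQ t⁻¹
      rw [← ht] at h1
      have e : t⁻¹ * (t * g * t⁻¹) * t⁻¹⁻¹ = g := by group
      rwa [e] at h1
    have h1 := memLocalIdeal_centralChar_sub_index hM (Cfsg.pCore p G) hPG g hgQ χ
    have h2 := memLocalIdeal_centralChar_sub_index hM (Cfsg.pCore p G) hPG g hgQ ψ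
    have := memLocalIdeal_sub h1 h2
    rwa [sub_sub_sub_cancel_right] at this
  · push Not at h
    exact memLocalIdeal_sub
      (memLocalIdeal_centralChar_of_not_centralizer hM (Cfsg.pCore p G) hPG g h χ)
      (memLocalIdeal_centralChar_of_not_centralizer hM (Cfsg.pCore p G) hPG g h ψ)

end Cfsg.Agent.S4487
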