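import Mathlib
import Cfsg.Statements.S4490
import Cfsg.Agent.Lib.helper3.HeightZero5
import Cfsg.Agent.Lib.helper3.DefectOrder4
import Cfsg.Agent.Lib.helper3.Irr11
import Cfsg.Agent.Lib.helper3.Irr13
import Cfsg.Agent.Lib.helper3.CentralDefect5
import Cfsg.Agent.Lib.helper3.BlockMinMax

set_option autoImplicit false
open Cfsg

namespace Cfsg.Agent.S4490

open Cfsg.Agent.Lib.helper3.Block Cfsg.Agent.Lib.helper3.LocalM Cfsg.Agent.Lib.helper3.Irr Cfsg.Agent.Lib.helper3.Central Cfsg.Agent.Lib.helper3.CharBasic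

set_option linter.style.haveILetI false

/-- Let G be a finite group and M a maximal ideal of the algebraic integers containing 2. Every 2-block B of G whose defect groups are the Sylow 2-subgroups of G (a block of full defect) and which is not the principal block is different from its complex-conjugate block, the block formed by the complex conjugates of the members of B. -/
theorem result {G : Type*} [Group G] [Finite G] (M : Ideal Cfsg.AlgInt) (hM : Cfsg.IsPModular 2 M) (B : Set (Cfsg.IrrCharacter G)) (hB : Cfsg.IsPBlock M B) (P : Sylow 2 G) (hfull : Cfsg.IsDefectGroup 2 M B (P : Subgroup G)) (hnp : B ≠ Cfsg.principalBlock M G) : {ψ : Cfsg.IrrCharacter G | ∃ χ ∈ B, (ψ : G → ℂ) = fun g => (starRingEnd ℂ) ((χ : G → ℂ) g)} ≠ B := by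
  classical
  letI : Fintype G := Fintype.ofFinite G
  haveI : Fact (2 : ℕ).Prime := ⟨Nat.prime_two⟩
  haveI hMp := isPrime_of_isPModular hM
  have hMtop : M ≠ ⊤ := hM.2.1.ne_top
  intro hconj
  apply hnp
  -- it suffices to put the trivial character in `B`
  obtain ⟨one, hone⟩ : ∃ one : Cfsg.IrrCharacter G, (one : G → ℂ) = fun _ => (1 : ℂ) :=
    ⟨⟨fun _ => 1, isIrrCharacter_one⟩, rfl⟩
  have hprinc : Cfsg.IsPBlock M (Cfsg.principalBlock M G) := by
    refine ⟨one, ?_⟩
    unfold Cfsg.principalBlock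
    rw [hone]
  have hone_mem : one ∈ Cfsg.principalBlock M G := by
    unfold Cfsg.principalBlock Cfsg.blockOf
    rw [Set.mem_ofPred_eq, hone]
    exact sameBlock_refl hMtop _
  by_contra hne
  have honeB : one ∉ B := fun h => hne (block_eq_of_mem hB hprinc one h hone_mem)
  obtain ⟨Bf, hBfdef⟩ : ∃ Bf : Finset (Cfsg.IrrCharacter G),
      Bf = Finset.univ.filter (fun χ : Cfsg.IrrCharacter G => χ ∈ B) := ⟨_, rfl⟩
  have hBf : ∀ χ, χ ∈ Bf ↔ χ ∈ B := by
    intro χ
    rw [hBfdef, Finset.mem_filter]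
    simp
  obtain ⟨χ₁, hB'⟩ := id hB
  have hχ₁B : χ₁ ∈ B := by
    rw [hB']
    exact sameBlock_refl hMtop _
  have hcoef : ∀ g : G, Cfsg.blockCoeff B g = (Nat.card G : ℂ)⁻¹ *
      ∑ χ ∈ Bf, (χ : G → ℂ) 1 * (starRingEnd ℂ) ((χ : G → ℂ) g) := by
    intro g
    rw [blockCoeff_eq_sum_filter, ← hBfdef]
  -- the complex conjugate of a member of `B` is in `B`
  obtain ⟨cj, hcj⟩ : ∃ cj : Cfsg.IrrCharacter G → Cfsg.IrrCharacter G,
      ∀ χ, ((cj χ : Cfsg.IrrCharacter G) : G → ℂ) = fun g => (starRingEnd ℂ) ((χ : G → ℂ) g) :=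
    ⟨fun χ => ⟨fun g => (starRingEnd ℂ) ((χ : G → ℂ) g), isIrrCharacter_conj χ.2⟩, fun χ => rfl⟩
  have hcjB : ∀ χ ∈ B, cj χ ∈ B := by
    intro χ hχ
    rw [← hconj]
    exact ⟨χ, hχ, hcj χ⟩
  have hcjcj : ∀ χ, cj (cj χ) = χ := by
    intro χ
    apply Subtype.ext
    rw [hcj, hcj]
    funext g
    exact Complex.conj_conj _
  -- the coefficients are invariant under inversion
  have hinv : ∀ g : G, Cfsg.blockCoeff B g⁻¹ = Cfsg.blockCoeff B g := by
    intro g
    rw [hcoef, hcoef]
    congr 1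
    refine Finset.sum_nbij' cj cj ?_ ?_ ?_ ?_ ?_
    · intro χ hχ
      exact (hBf _).2 (hcjB χ ((hBf _).1 hχ))
    · intro χ hχ
      exact (hBf _).2 (hcjB χ ((hBf _).1 hχ))
    · intro χ _
      exact hcjcj χ
    · intro χ _
      exact hcjcj χ
    · intro χ _
      rw [hcj]
      beta_reduce
      rw [isCharacter_apply_inv (isCharacter_of_isIrrCharacter χ.2), Complex.conj_conj,
        Cfsg.Agent.Lib.helper3.Block.conj_apply_one]
  -- the coefficients sum to zero
  have hsum0 : ∑ g : G, Cfsg.blockCoeff B g = 0 := by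
    have h1 : ∀ χ ∈ Bf, ∑ g : G, (starRingEnd ℂ) ((χ : G → ℂ) g) = 0 := by
      intro χ hχ
      have hne1 : (χ : G → ℂ) ≠ (one : G → ℂ) := by
        intro h
        apply honeB
        have : χ = one := Subtype.ext h
        rw [← this]
        exact (hBf _).1 hχ
      have h2 := irr_classInner_eq_zero χ.2 one.2 hne1
      unfold Cfsg.classInner at h2
      rw [hone] at h2
      have h3 : (Nat.card G : ℂ) ≠ 0 := by
        exact_mod_cast Nat.card_pos.ne'
      have h4 : ∑ g : G, (χ : G → ℂ) g = 0 := by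
        have := (mul_eq_zero.1 h2).resolve_left (inv_ne_zero h3)
        simpa using this
      rw [← map_sum, h4, map_zero]
    calc ∑ g : G, Cfsg.blockCoeff B g
        = ∑ g : G, (Nat.card G : ℂ)⁻¹ *
            ∑ χ ∈ Bf, (χ : G → ℂ) 1 * (starRingEnd ℂ) ((χ : G → ℂ) g) :=
          Finset.sum_congr rfl (fun g _ => hcoef g)
      _ = (Nat.card G : ℂ)⁻¹ * ∑ χ ∈ Bf, (χ : G → ℂ) 1 *
            ∑ g : G, (starRingEnd ℂ) ((χ : G → ℂ) g) := by
          rw [← Finset.mul_sum, Finset.sum_comm]
          congr 1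
          apply Finset.sum_congr rfl
          intro χ _
          rw [Finset.mul_sum]
      _ = 0 := by
          rw [Finset.sum_eq_zero, mul_zero]
          intro χ hχ
          rw [h1 χ hχ, mul_zero]
  -- a linear order on `G`
  letI : LinearOrder G := LinearOrder.lift' (Fintype.equivFin G) (Fintype.equivFin G).injective
  obtain ⟨a, ha⟩ : ∃ a : G → ℂ, a = fun g => Cfsg.blockCoeff B g := ⟨_, rfl⟩
  have haR : ∀ g, Cfsg.MemLocalRing M (a g) := by
    intro g
    rw [ha]
    exact osima hM B hB g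
  have hainv : ∀ g, a g⁻¹ = a g := by
    intro g
    rw [ha]
    exact hinv g
  obtain ⟨L, hL⟩ : ∃ L : ℂ, L = ∑ g : G, (if g < g⁻¹ then a g else 0) := ⟨_, rfl⟩
  have hLR : Cfsg.MemLocalRing M L := by
    rw [hL]
    apply memLocalRing_sum
    intro g _
    split_ifs
    · exact haR g
    · exact memLocalRing_of_integral isIntegral_zero
  have hsplit : ∑ g : G, a g = L + L + a 1 := by
    have h1 : ∀ g : G, a g = (if g < g⁻¹ then a g else 0) + (if g⁻¹ < g then a g else 0)
        + (if g = g⁻¹ then a g else 0) := by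
      intro g
      rcases lt_trichotomy g g⁻¹ with h | h | h
      · rw [if_pos h, if_neg (not_lt_of_gt h), if_neg h.ne]; ring
      · rw [if_neg (by rw [← h]; exact lt_irrefl g), if_neg (by rw [← h]; exact lt_irrefl g),
          if_pos h]; ring
      · rw [if_neg (not_lt_of_gt h), if_pos h, if_neg h.ne']; ring
    have h2 : ∑ g : G, (if g⁻¹ < g then a g else 0) = L := by
      rw [hL]
      rw [← Equiv.sum_comp (Equiv.inv G)]
      apply Finset.sum_congr rfl
      intro g _
      simp only [Equiv.inv_apply, inv_inv]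
      rw [hainv]
    have h3 : ∑ g : G, (if g = g⁻¹ then a g else 0) = a 1 := by
      rw [Finset.sum_eq_single (1 : G)]
      · rw [if_pos (by simp)]
      · intro g _ hg1
        split_ifs with h
        · have h4 : g ^ 2 = 1 := by
            rw [pow_two]
            nth_rewrite 2 [h]
            exact mul_inv_cancel g
          have h5 : orderOf g = 2 := orderOf_eq_prime h4 hg1
          rw [ha]
          exact blockCoeff_eq_zero_of_dvd hM B hB g (by rw [h5])
        · rfl
      · intro h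
        exact absurd (Finset.mem_univ _) h
    calc ∑ g : G, a g = ∑ g : G, ((if g < g⁻¹ then a g else 0) + (if g⁻¹ < g then a g else 0)
        + (if g = g⁻¹ then a g else 0)) := Finset.sum_congr rfl (fun g _ => h1 g)
      _ = L + L + a 1 := by
        rw [Finset.sum_add_distrib, Finset.sum_add_distrib, h2, h3, ← hL]
  have ha1 : Cfsg.MemLocalIdeal M (a 1) := by
    have h1 : ∑ g : G, a g = 0 := by
      rw [ha]
      exact hsum0
    rw [hsplit] at h1
    have h2 : a 1 = L * (-(2 : ℕ) : ℂ) := by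
      have : a 1 = -(L + L) := by linear_combination h1
      rw [this]
      push_cast
      ring
    rw [h2]
    apply memLocalIdeal_mul_localRing hLR
    apply memLocalIdeal_neg
    have h3 := memLocalIdeal_of_mem hM.2.2 hMtop
    convert h3 using 1
    rw [Nat.cast_ofNat, Nat.cast_ofNat]
    rfl
  -- the defect groups are Sylow, so the least exponent is zero
  have hmin : minExp 2 B = 0 := by
    obtain ⟨g, hg, P', hP'⟩ := hfull
    have h1 := factorization_centralizer_of_isDefectClass hM B hB g hg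
    rw [blockDefect_eq] at h1
    have h2 := minExp_le_factorization_card (p := 2) hχ₁B
    have h3 : Nat.card (P : Subgroup G) = 2 ^ (Nat.card G).factorization 2 :=
      Sylow.card_eq_multiplicity P
    have h4 : Nat.card (P' : Subgroup (Subgroup.centralizer ({g} : Set G)))
        = 2 ^ (Nat.card (Subgroup.centralizer ({g} : Set G))).factorization 2 :=
      Sylow.card_eq_multiplicity P'
    have h5 : Nat.card (P : Subgroup G)
        = Nat.card (P' : Subgroup (Subgroup.centralizer ({g} : Set G))) := by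
      rw [hP']
      exact Subgroup.card_map_of_injective (Subgroup.subtype_injective _)
    rw [h3, h4] at h5
    have h6 := Nat.pow_right_injective (le_refl 2) h5
    omega
  have hfac := factorization_sum_sq hM B hB Bf hBf
  rw [hmin, add_zero] at hfac
  obtain ⟨N, hN⟩ : ∃ N : ℕ, N = ∑ ψ ∈ Bf, Cfsg.charDegree (ψ : G → ℂ) ^ 2 := ⟨_, rfl⟩
  rw [← hN] at hfac
  have hNpos : N ≠ 0 := by
    rw [hN]
    intro h0
    rw [Finset.sum_eq_zero_iff] at h0
    have h1 := h0 χ₁ ((hBf _).2 hχ₁B)
    have h2 : Cfsg.charDegree (χ₁ : G → ℂ) = 0 := by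
      exact pow_eq_zero_iff (two_ne_zero) |>.1 h1
    exact charDegree_ne_zero χ₁ h2
  have ha1eq : (Nat.card G : ℂ) * a 1 = (N : ℂ) := by
    rw [ha]
    beta_reduce
    rw [hcoef, hN]
    have h3 : (Nat.card G : ℂ) ≠ 0 := by
      exact_mod_cast Nat.card_pos.ne'
    rw [← mul_assoc, mul_inv_cancel₀ h3, one_mul]
    push_cast
    apply Finset.sum_congr rfl
    intro χ _
    rw [Cfsg.Agent.Lib.helper3.Block.conj_apply_one, apply_one_eq_charDegree]
    ring
  obtain ⟨e, he⟩ : ∃ e : ℕ, e = (Nat.card G).factorization 2 := ⟨_, rfl⟩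
  obtain ⟨n', hn'⟩ : ∃ n' : ℕ, n' = Nat.card G / 2 ^ e := ⟨_, rfl⟩
  obtain ⟨N', hN'⟩ : ∃ N' : ℕ, N' = N / 2 ^ e := ⟨_, rfl⟩
  have hG2 : Nat.card G = 2 ^ e * n' := by
    rw [hn', he]
    exact (Nat.ordProj_mul_ordCompl_eq_self _ 2).symm
  have hN2 : N = 2 ^ e * N' := by
    rw [hN', he, ← hfac]
    exact (Nat.ordProj_mul_ordCompl_eq_self _ 2).symm
  have hN'odd : ¬ 2 ∣ N' := by
    rw [hN', he, ← hfac]
    exact Nat.not_dvd_ordCompl Nat.prime_two hNpos
  have hfin : (n' : ℂ) * a 1 = (N' : ℂ) := by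
    have h1 : ((2 : ℂ) ^ e) ≠ 0 := pow_ne_zero _ two_ne_zero
    apply mul_left_cancel₀ h1
    rw [hG2, hN2] at ha1eq
    push_cast at ha1eq
    linear_combination ha1eq
  exact not_memLocalIdeal_of_mul_eq hM n' N' hN'odd hfin ha1

end Cfsg.Agent.S4490
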