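import Mathlib
import Cfsg.Statements.S4491
import Cfsg.Agent.Lib.helper3.HeightZero5

set_option autoImplicit false
open Cfsg

namespace Cfsg.Agent.S4491

open Cfsg.Agent.Lib.helper3.Block Cfsg.Agent.Lib.helper3.LocalM Cfsg.Agent.Lib.helper3.Irr Cfsg.Agent.Lib.helper3.Central

set_option linter.style.haveILetI false

/-- Let B be a p-block of defect d of the finite group G (relative to a maximal ideal M of the algebraic integers containing p), and let p^a be the p-part of the order of G. Then the exact power of p dividing the sum of the squares of the degrees of the irreducible characters in B is p^(2a − d). -/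
theorem result {G : Type*} [Group G] [Finite G] (p : ℕ) [Fact p.Prime] (M : Ideal Cfsg.AlgInt) (hM : Cfsg.IsPModular p M) (B : Set (Cfsg.IrrCharacter G)) (hB : Cfsg.IsPBlock M B) : (∑ᶠ χ ∈ B, Cfsg.charDegree (χ : G → ℂ) ^ 2).factorization p = 2 * (Nat.card G).factorization p - Cfsg.blockDefect p B := by
  classical
  letI : Fintype G := Fintype.ofFinite G
  haveI hMp := isPrime_of_isPModular hM
  have hMtop : M ≠ ⊤ := hM.2.1.ne_top
  obtain ⟨Bf, hBfdef⟩ : ∃ Bf : Finset (Cfsg.IrrCharacter G),
      Bf = Finset.univ.filter (fun χ : Cfsg.IrrCharacter G => χ ∈ B) := ⟨_, rfl⟩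
  have hBf : ∀ χ, χ ∈ Bf ↔ χ ∈ B := by
    intro χ
    rw [hBfdef, Finset.mem_filter]
    simp
  obtain ⟨χ₁, hB'⟩ := id hB
  have hχ₁B : χ₁ ∈ B := by
    rw [hB']
    exact sameBlock_refl hMtop _
  rw [finsum_mem_eq_sum_filter_irr, ← hBfdef, factorization_sum_sq hM B hB Bf hBf, blockDefect_eq]
  have := minExp_le_factorization_card (p := p) hχ₁B
  omega

end Cfsg.Agent.S4491
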