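import Mathlib
import Cfsg.Statements.S4493
import Cfsg.Agent.Lib.helper3.NormalSylow2
import Cfsg.Agent.Lib.Helper4.Codegree

set_option autoImplicit false
open Cfsg

set_option linter.style.haveILetI false

namespace Cfsg.Agent.S4493

open Cfsg.Agent.Lib.helper3.NormalSylow

/-- Let G be a finite solvable group and p a prime. Then G has a normal abelian Sylow p-subgroup if and only if no irreducible character degree of G is divisible by p. -/
theorem result {G : Type*} [Group G] [Finite G] (hsolv : Group.IsSolvable G) (p : ℕ) (hp : p.Prime) : (∃ P : Subgroup G, P.Normal ∧ (∀ x ∈ P, ∀ y ∈ P, x * y = y * x) ∧ IsPGroup p P ∧ ¬ p ∣ P.index) ↔ ∀ χ : Cfsg.IrrCharacter G, ¬ p ∣ Cfsg.charDegree (χ : G → ℂ) := by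
  classical
  letI : Fintype G := Fintype.ofFinite G
  haveI : Fact p.Prime := ⟨hp⟩
  have hconv : (∀ χ : Cfsg.IrrCharacter G, ¬ p ∣ Cfsg.charDegree (χ : G → ℂ)) ↔ PDeg p G := by
    constructor
    · intro h χ d hd hpd
      apply h χ
      rw [Cfsg.Agent.Lib.Helper4.Codegree.charDegree_eq hd]
      exact hpd
    · intro h χ hpd
      obtain ⟨n, hn, -, -⟩ := Cfsg.Agent.Lib.helper3.Central.irr_degree_dvd_card χ.2
      rw [Cfsg.Agent.Lib.Helper4.Codegree.charDegree_eq hn] at hpd
      exact h χ n hn hpd
  rw [hconv]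
  constructor
  · rintro ⟨P, hn, hc, -, hidx⟩
    haveI := hn
    exact pdeg_of_normal_abelian p P hc hidx
  · intro hdeg
    obtain ⟨P⟩ : Nonempty (Sylow p G) := inferInstance
    have hn : (P : Subgroup G).Normal := by
      refine normal_sylow_aux p (fun H _ => Group.IsSolvable H) ?_ ?_ ?_ _ G rfl hsolv hdeg P
      · intro H _ N _ hH
        haveI := hH
        infer_instance
      · intro H _ K hH
        haveI := hH
        infer_instance
      · intro H _ _ _ hH
        exact exists_normal_of_solvable p hH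
    haveI := hn
    refine ⟨(P : Subgroup G), hn, ?_, P.isPGroup', P.not_dvd_index⟩
    intro x hx y hy
    exact congrArg Subtype.val (comm_of_pdeg p hdeg P ⟨x, hx⟩ ⟨y, hy⟩)

end Cfsg.Agent.S4493
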