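import Cfsg.Statements.S4495
import Mathlib
import Cfsg.Agent.Lib.Helper4.SelfCentP

set_option autoImplicit false

open Cfsg

namespace Cfsg.Agent.S4495

open Cfsg.Agent.Lib.Helper4.SelfCentP
open scoped commutatorElement

variable {G : Type*} [Group G] [Finite G]

/-- the case `N(P) = P`: the commutator subgroup has index `p` -/
theorem index_of_relIndex_eq_one (p : ℕ) [hpf : Fact p.Prime] (x : G) (hx : orderOf x = p)
    (hC : Subgroup.centralizer ({x} : Set G) = Subgroup.zpowers x)
    (he : (Subgroup.zpowers x).relIndex (Subgroup.normalizer (Subgroup.zpowers x : Set G)) = 1) :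
    (commutator G).index = p := by
  have hp := hpf.out
  obtain ⟨Q, hQ⟩ := exists_sylow hx hC
  have hset : ((Q : Subgroup G) : Set G) = (Subgroup.zpowers x : Set G) := by rw [hQ]
  have hNP : Subgroup.normalizer (Subgroup.zpowers x : Set G) ≤ Subgroup.zpowers x :=
    Subgroup.relIndex_eq_one.mp he
  have hPc : Subgroup.zpowers x ≤ Subgroup.centralizer (Subgroup.zpowers x : Set G) := by
    intro a ha
    rw [Subgroup.mem_centralizer_iff]
    intro b hb
    obtain ⟨i, rfl⟩ := Subgroup.mem_zpowers_iff.mp ha
    obtain ⟨j, rfl⟩ := Subgroup.mem_zpowers_iff.mp hb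
    rw [← zpow_add, ← zpow_add, add_comm]
  have hNC : Subgroup.normalizer (Q : Set G) ≤ Subgroup.centralizer (Q : Set G) := by
    have hset' : (Q : Set G) = (Subgroup.zpowers x : Set G) := hset
    rw [hset']
    exact hNP.trans hPc
  have hcompl := MonoidHom.ker_transferSylow_isComplement' Q hNC
  set K := (MonoidHom.transferSylow Q hNC).ker with hK
  haveI hKn : K.Normal := MonoidHom.normal_ker _
  have hidx : K.index = p := by
    rw [hcompl.symm.index_eq_card, hQ, card_P hx]
  -- `K ∩ P = 1`
  have hKP : ∀ k ∈ K, k ∈ Subgroup.zpowers x → k = 1 := by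
    intro k hk hkP
    have : k ∈ K ⊓ (Q : Subgroup G) := ⟨hk, hQ ▸ hkP⟩
    rw [hcompl.disjoint.eq_bot] at this
    exact this
  have hfree : ∀ s ∈ K, s * x = x * s → s = 1 := by
    intro s hs hsx
    apply hKP s hs
    rw [← hC, Subgroup.mem_centralizer_singleton_iff]
    exact hsx
  have heq : commutator G = K := by
    apply le_antisymm
    · rw [commutator_def, Subgroup.commutator_le]
      intro a _ b _
      haveI : IsCyclic (G ⧸ K) := isCyclic_of_prime_card (p := p) (by
        rw [← hidx]; rfl)
      apply (QuotientGroup.eq_one_iff (N := K) _).mp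
      obtain ⟨c, hc⟩ := IsCyclic.exists_generator (α := G ⧸ K)
      obtain ⟨i, hi⟩ := Subgroup.mem_zpowers_iff.mp (hc (a : G ⧸ K))
      obtain ⟨j, hj⟩ := Subgroup.mem_zpowers_iff.mp (hc (b : G ⧸ K))
      rw [commutatorElement_def]
      simp only [QuotientGroup.mk_mul, QuotientGroup.mk_inv]
      rw [← hi, ← hj, ← zpow_neg, ← zpow_neg, ← zpow_add, ← zpow_add, ← zpow_add]
      have : i + j + -i + -j = 0 := by ring
      rw [this, zpow_zero]
    · intro k hk
      obtain ⟨s, -, hs⟩ := exists_comm_eq K hfree k hk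
      rw [← hs]
      have : s * x * s⁻¹ * x⁻¹ = ⁅s, x⁆ := by rw [commutatorElement_def]
      rw [this, commutator_def]
      exact Subgroup.commutator_mem_commutator (Subgroup.mem_top _) (Subgroup.mem_top _)
  rw [heq, hidx]

/-- the case `N(P) ≠ P`: the index of the commutator subgroup divides `|N(P) : P|` -/
theorem index_dvd_of_relIndex_ne_one (p : ℕ) [hpf : Fact p.Prime] (x : G) (hx : orderOf x = p)
    (hC : Subgroup.centralizer ({x} : Set G) = Subgroup.zpowers x)
    (he : (Subgroup.zpowers x).relIndex (Subgroup.normalizer (Subgroup.zpowers x : Set G)) ≠ 1) :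
    (commutator G).index ∣
      (Subgroup.zpowers x).relIndex (Subgroup.normalizer (Subgroup.zpowers x : Set G)) := by
  have hp := hpf.out
  obtain ⟨Q, hQ⟩ := exists_sylow hx hC
  have hset : ((Q : Subgroup G) : Set G) = (Subgroup.zpowers x : Set G) := by rw [hQ]
  have hNP : ¬ Subgroup.normalizer (Subgroup.zpowers x : Set G) ≤ Subgroup.zpowers x :=
    fun h => he (Subgroup.relIndex_eq_one.mpr h)
  obtain ⟨n, hnN, hnP⟩ := SetLike.not_le_iff_exists.mp hNP
  have h1 : n * x * n⁻¹ ∈ Subgroup.zpowers x :=
    (Subgroup.mem_normalizer_iff.mp hnN x).mp (Subgroup.mem_zpowers x)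
  have h2 : n * x * n⁻¹ * x⁻¹ ∈ Subgroup.zpowers x :=
    (Subgroup.zpowers x).mul_mem h1 ((Subgroup.zpowers x).inv_mem (Subgroup.mem_zpowers x))
  have h3 : n * x * n⁻¹ * x⁻¹ ≠ 1 := by
    intro h
    apply hnP
    rw [← hC, Subgroup.mem_centralizer_singleton_iff]
    calc n * x = (n * x * n⁻¹ * x⁻¹) * x * n := by group
      _ = x * n := by rw [h, one_mul]
  have h4 : n * x * n⁻¹ * x⁻¹ ∈ commutator G := by
    have : n * x * n⁻¹ * x⁻¹ = ⁅n, x⁆ := by rw [commutatorElement_def]
    rw [this, commutator_def]
    exact Subgroup.commutator_mem_commutator (Subgroup.mem_top _) (Subgroup.mem_top _)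
  have hPle : Subgroup.zpowers x ≤ commutator G := by
    rw [← zpowers_eq_of_mem hp hx h2 h3, Subgroup.zpowers_le]
    exact h4
  have hfr : Subgroup.normalizer ((Q : Subgroup G) : Set G) ⊔ commutator G = ⊤ :=
    Sylow.normalizer_sup_eq_top' Q (hQ ▸ hPle)
  rw [hset] at hfr
  have h5 : (commutator G).index =
      (commutator G).relIndex (Subgroup.normalizer (Subgroup.zpowers x : Set G)) := by
    rw [← Subgroup.relIndex_sup_right, hfr, Subgroup.relIndex_top_right]
  rw [h5]
  exact Subgroup.relIndex_dvd_of_le_left _ hPle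

/-- Let the finite group G contain an element x of prime order p with C_G(x) = ⟨x⟩, and let t be the number of conjugacy classes of elements of order p. If t ≠ p − 1 then the commutator subgroup has index at most (p − 1)/t; if t = p − 1 it has index exactly p. -/
theorem result {G : Type*} [Group G] [Finite G] (p : ℕ) (hp : p.Prime) (x : G) (hx : orderOf x = p) (hC : Subgroup.centralizer ({x} : Set G) = Subgroup.zpowers x) (t : ℕ) (ht : Nat.card {C : ConjClasses G // ∃ g ∈ C.carrier, orderOf g = p} = t) : (t ≠ p - 1 → (commutator G).index * t ≤ p - 1) ∧ (t = p - 1 → (commutator G).index = p) := by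
  haveI : Fact p.Prime := ⟨hp⟩
  have hte := card_classes_mul hx hC
  rw [ht] at hte
  have hp1 : 1 ≤ p - 1 := by have := hp.two_le; omega
  by_cases he : (Subgroup.zpowers x).relIndex
      (Subgroup.normalizer (Subgroup.zpowers x : Set G)) = 1
  · rw [he, mul_one] at hte
    refine ⟨fun h => absurd hte h, fun _ => index_of_relIndex_eq_one p x hx hC he⟩
  · have hdvd := index_dvd_of_relIndex_ne_one p x hx hC he
    have hepos : 0 < (Subgroup.zpowers x).relIndex
        (Subgroup.normalizer (Subgroup.zpowers x : Set G)) := by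
      rcases Nat.eq_zero_or_pos ((Subgroup.zpowers x).relIndex
        (Subgroup.normalizer (Subgroup.zpowers x : Set G))) with h | h
      · rw [h, mul_zero] at hte; omega
      · exact h
    refine ⟨fun _ => ?_, fun h => ?_⟩
    · calc (commutator G).index * t ≤ (Subgroup.zpowers x).relIndex
            (Subgroup.normalizer (Subgroup.zpowers x : Set G)) * t :=
          Nat.mul_le_mul_right t (Nat.le_of_dvd hepos hdvd)
        _ = p - 1 := by rw [mul_comm]; exact hte
    · exfalso
      apply he
      rw [h] at hte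
      have : (p - 1) * (Subgroup.zpowers x).relIndex
          (Subgroup.normalizer (Subgroup.zpowers x : Set G)) = (p - 1) * 1 := by
        rw [hte, mul_one]
      exact Nat.eq_of_mul_eq_mul_left hp1 this

end Cfsg.Agent.S4495
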