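import Cfsg.Statements.S4496
import Mathlib
import Cfsg.Agent.Lib.Helper4.SelfCentP
import Cfsg.Agent.S0713

set_option autoImplicit false

open Cfsg

namespace Cfsg.Agent.S4496

open Cfsg.Agent.Lib.Helper4.SelfCentP

/-- part (a): a normal subgroup of order divisible by `p` contains the commutator subgroup -/
theorem partA {G : Type*} [Group G] [Finite G] (p : ℕ) (hp : p.Prime) (x : G) (hx : orderOf x = p)
    (hC : Subgroup.centralizer ({x} : Set G) = Subgroup.zpowers x) (S : Subgroup G) [hS : S.Normal]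
    (hdvd : p ∣ Nat.card S) : commutator G ≤ S := by
  haveI : Fact p.Prime := ⟨hp⟩
  obtain ⟨Q, hQ⟩ := exists_sylow hx hC
  obtain ⟨g, hg⟩ := exists_prime_orderOf_dvd_card' (G := S) p hdvd
  have hg' : orderOf (g : G) = p := by rw [Subgroup.orderOf_coe]; exact hg
  obtain ⟨h, hmem, hne⟩ := exists_conj_mem hx hC hg'
  have hSc : h * g * h⁻¹ ∈ S := hS.conj_mem g g.2 h
  have hPS : Subgroup.zpowers x ≤ S := by
    rw [← zpowers_eq_of_mem hp hx hmem hne, Subgroup.zpowers_le]
    exact hSc
  have hfr : Subgroup.normalizer ((Q : Subgroup G) : Set G) ⊔ S = ⊤ :=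
    Sylow.normalizer_sup_eq_top' Q (hQ ▸ hPS)
  rw [commutator_def, Subgroup.commutator_le]
  intro a _ b _
  have ha : a ∈ Subgroup.normalizer ((Q : Subgroup G) : Set G) ⊔ S := by rw [hfr]; trivial
  have hb : b ∈ Subgroup.normalizer ((Q : Subgroup G) : Set G) ⊔ S := by rw [hfr]; trivial
  obtain ⟨n₁, hn₁, s₁, hs₁, rfl⟩ := Subgroup.mem_sup_of_normal_right.mp ha
  obtain ⟨n₂, hn₂, s₂, hs₂, rfl⟩ := Subgroup.mem_sup_of_normal_right.mp hb
  have hset : ((Q : Subgroup G) : Set G) = (Subgroup.zpowers x : Set G) := by rw [hQ]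
  rw [hset] at hn₁ hn₂
  have hcc := Cfsg.Agent.S0713.comm_mem_centralizer (Subgroup.zpowers x) n₁ n₂ hn₁ hn₂
  have hcS : n₁ * n₂ * n₁⁻¹ * n₂⁻¹ ∈ S := by
    apply hPS
    rw [← hC]
    exact Subgroup.centralizer_le (Set.singleton_subset_iff.mpr (Subgroup.mem_zpowers x)) hcc
  apply (QuotientGroup.eq_one_iff (N := S) _).mp
  have e1 : ((s₁ : G) : G ⧸ S) = 1 := (QuotientGroup.eq_one_iff _).mpr hs₁
  have e2 : ((s₂ : G) : G ⧸ S) = 1 := (QuotientGroup.eq_one_iff _).mpr hs₂
  have e3 : ((n₁ * n₂ * n₁⁻¹ * n₂⁻¹ : G) : G ⧸ S) = 1 := (QuotientGroup.eq_one_iff _).mpr hcS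
  rw [commutatorElement_def]
  simp only [QuotientGroup.mk_mul, QuotientGroup.mk_inv, e1, e2, mul_one] at e3 ⊢
  exact e3

/-- Let the finite group G contain an element x of prime order p with C_G(x) = ⟨x⟩. Then: (a) every normal subgroup of order divisible by p contains the commutator subgroup; (b) every normal subgroup S of order prime to p has order dividing the number of subgroups of order p of G and congruent to 1 modulo p, and in G/S the image of x again has prime order p and commutes only with its own powers. -/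
theorem result {G : Type*} [Group G] [Finite G] (p : ℕ) (hp : p.Prime) (x : G) (hx : orderOf x = p) (hC : Subgroup.centralizer ({x} : Set G) = Subgroup.zpowers x) (S : Subgroup G) [S.Normal] : (p ∣ Nat.card S → commutator G ≤ S) ∧ (¬ p ∣ Nat.card S → Nat.card S ∣ Nat.card {H : Subgroup G // Nat.card H = p} ∧ Nat.card S % p = 1 ∧ orderOf (QuotientGroup.mk x : G ⧸ S) = p ∧ Subgroup.centralizer ({(QuotientGroup.mk x : G ⧸ S)} : Set (G ⧸ S)) = Subgroup.zpowers (QuotientGroup.mk x : G ⧸ S)) := by
  haveI : Fact p.Prime := ⟨hp⟩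
  have hS : S.Normal := inferInstance
  refine ⟨partA p hp x hx hC S, ?_⟩
  intro hnd
  have hSP : ∀ s ∈ S, s ∈ Subgroup.zpowers x → s = 1 := by
    intro s hs hsP
    by_contra hs1
    have ho := orderOf_eq_of_mem hp hx hsP hs1
    apply hnd
    rw [← ho]
    have := orderOf_dvd_natCard (⟨s, hs⟩ : S)
    rwa [Subgroup.orderOf_mk] at this
  have hfree : ∀ s ∈ S, s * x = x * s → s = 1 := by
    intro s hs hsx
    apply hSP s hs
    rw [← hC, Subgroup.mem_centralizer_singleton_iff]
    exact hsx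
  have hxS : x ∉ S := fun h => x_ne_one hp hx (hSP x h (Subgroup.mem_zpowers x))
  refine ⟨?_, card_mod_eq_one S hx hfree, ?_, ?_⟩
  · -- divisibility
    rw [card_subgroups_eq_index hx hC]
    set N := Subgroup.normalizer (Subgroup.zpowers x : Set G) with hN
    have hinf : N ⊓ S = ⊥ := by
      rw [eq_bot_iff]
      rintro s ⟨hsN, hsS⟩
      rw [Subgroup.mem_bot]
      apply hfree s hsS
      have h1 : s * x * s⁻¹ ∈ Subgroup.zpowers x :=
        (Subgroup.mem_normalizer_iff.mp hsN x).mp (Subgroup.mem_zpowers x)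
      have h2 : s * x * s⁻¹ * x⁻¹ ∈ Subgroup.zpowers x :=
        (Subgroup.zpowers x).mul_mem h1 ((Subgroup.zpowers x).inv_mem (Subgroup.mem_zpowers x))
      have h3 : s * x * s⁻¹ * x⁻¹ ∈ S := by
        have : s * x * s⁻¹ * x⁻¹ = s * (x * s⁻¹ * x⁻¹) := by group
        rw [this]
        exact S.mul_mem hsS (hS.conj_mem _ (S.inv_mem hsS) x)
      have h4 := hSP _ h3 h2
      calc s * x = (s * x * s⁻¹ * x⁻¹) * x * s := by group
        _ = x * s := by rw [h4, one_mul]
    have hcard := Cfsg.Agent.H1.card_sup_mul_card_inf N S (by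
      rw [Subgroup.normalizer_eq_top]; exact le_top)
    rw [hinf, Subgroup.card_bot, mul_one] at hcard
    have h5 : Nat.card N * Nat.card S ∣ Nat.card G := by
      rw [← hcard]
      exact Subgroup.card_subgroup_dvd_card _
    rw [← N.card_mul_index] at h5
    exact Nat.dvd_of_mul_dvd_mul_left Nat.card_pos h5
  · -- order of the image
    apply orderOf_eq_prime
    · rw [← QuotientGroup.mk_pow, ← hx, pow_orderOf_eq_one, QuotientGroup.mk_one]
    · intro h
      exact hxS ((QuotientGroup.eq_one_iff _).mp h)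
  · -- centralizer of the image
    apply le_antisymm
    · intro g' hg'
      obtain ⟨g, rfl⟩ := QuotientGroup.mk_surjective g'
      rw [Subgroup.mem_centralizer_singleton_iff] at hg'
      have hu : g * x * g⁻¹ * x⁻¹ ∈ S := by
        apply (QuotientGroup.eq_one_iff (N := S) _).mp
        simp only [QuotientGroup.mk_mul, QuotientGroup.mk_inv]
        rw [hg']
        group
      obtain ⟨s, hs, hsu⟩ := exists_comm_eq S hfree _ hu
      have h1 : s * x * s⁻¹ = g * x * g⁻¹ := mul_right_cancel hsu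
      have h2 : s⁻¹ * g ∈ Subgroup.zpowers x := by
        rw [← hC, Subgroup.mem_centralizer_singleton_iff]
        calc s⁻¹ * g * x = s⁻¹ * (g * x * g⁻¹) * g := by group
          _ = s⁻¹ * (s * x * s⁻¹) * g := by rw [h1]
          _ = x * (s⁻¹ * g) := by group
      obtain ⟨k, hk⟩ := Subgroup.mem_zpowers_iff.mp h2
      rw [Subgroup.mem_zpowers_iff]
      refine ⟨k, ?_⟩
      rw [← QuotientGroup.mk_zpow, hk, QuotientGroup.mk_mul, QuotientGroup.mk_inv,
        (QuotientGroup.eq_one_iff s).mpr hs, inv_one, one_mul]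
    · rw [Subgroup.zpowers_le, Subgroup.mem_centralizer_singleton_iff]

end Cfsg.Agent.S4496
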