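import Cfsg.Statements.S4497
import Mathlib
import Cfsg.Agent.Lib.Helper4.SelfCentP
import Cfsg.Agent.H1.Cores
import Cfsg.Agent.S4496
import Cfsg.Agent.S4495

set_option autoImplicit false

open Cfsg

namespace Cfsg.Agent.S4497

open Cfsg.Agent.Lib.Helper4.SelfCentP Cfsg.Agent.H1
open scoped commutatorElement

variable {G : Type*} [Group G] [Finite G]

/-- the `p′`-core of a normal subgroup is normal in the whole group -/
theorem pPrimeCore_map_normal (p : ℕ) (D : Subgroup G) [hD : D.Normal] :
    ((Cfsg.pPrimeCore p D).map D.subtype).Normal := by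
  constructor
  intro r hr g
  obtain ⟨r₀, hr₀, rfl⟩ := Subgroup.mem_map.mp hr
  let φ : D ≃* D := MulAut.conjNormal g
  have hn : ((Cfsg.pPrimeCore p D).map φ.toMonoidHom).Normal :=
    Subgroup.Normal.map inferInstance _ φ.surjective
  have hc : (Nat.card ((Cfsg.pPrimeCore p D).map φ.toMonoidHom)).Coprime p := by
    have hcard : Nat.card ((Cfsg.pPrimeCore p D).map φ.toMonoidHom) =
        Nat.card (Cfsg.pPrimeCore p D) :=
      Subgroup.card_map_of_injective (f := φ.toMonoidHom) φ.injective
    rw [hcard]
    exact pPrimeCore_coprime p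
  have hle := le_pPrimeCore hn hc
  have h1 : φ r₀ ∈ Cfsg.pPrimeCore p D := hle (Subgroup.mem_map_of_mem _ hr₀)
  refine Subgroup.mem_map.mpr ⟨φ r₀, h1, ?_⟩
  simp [φ]

theorem zpowers_le_commutator (p : ℕ) [hpf : Fact p.Prime] (x : G) (hx : orderOf x = p)
    (hC : Subgroup.centralizer ({x} : Set G) = Subgroup.zpowers x)
    (he : (Subgroup.zpowers x).relIndex (Subgroup.normalizer (Subgroup.zpowers x : Set G)) ≠ 1) :
    Subgroup.zpowers x ≤ commutator G := by
  have hp := hpf.out
  have hNP : ¬ Subgroup.normalizer (Subgroup.zpowers x : Set G) ≤ Subgroup.zpowers x :=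
    fun h => he (Subgroup.relIndex_eq_one.mpr h)
  obtain ⟨n, hnN, hnP⟩ := SetLike.not_le_iff_exists.mp hNP
  have h1 : n * x * n⁻¹ ∈ Subgroup.zpowers x :=
    (Subgroup.mem_normalizer_iff.mp hnN x).mp (Subgroup.mem_zpowers x)
  have h2 : n * x * n⁻¹ * x⁻¹ ∈ Subgroup.zpowers x :=
    (Subgroup.zpowers x).mul_mem h1 ((Subgroup.zpowers x).inv_mem (Subgroup.mem_zpowers x))
  have h3 : n * x * n⁻¹ * x⁻¹ ≠ 1 := by
    intro h
    apply hnP
    rw [← hC, Subgroup.mem_centralizer_singleton_iff]
    calc n * x = (n * x * n⁻¹ * x⁻¹) * x * n := by group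
      _ = x * n := by rw [h, one_mul]
  have h4 : n * x * n⁻¹ * x⁻¹ ∈ commutator G := by
    have : n * x * n⁻¹ * x⁻¹ = ⁅n, x⁆ := by rw [commutatorElement_def]
    rw [this, commutator_def]
    exact Subgroup.commutator_mem_commutator (Subgroup.mem_top _) (Subgroup.mem_top _)
  rw [← zpowers_eq_of_mem hp hx h2 h3, Subgroup.zpowers_le]
  exact h4

/-- the `p′`-core meets `⟨x⟩` trivially -/
theorem core_inf (p : ℕ) (hp : p.Prime) (x : G) (hx : orderOf x = p) :
    ∀ s ∈ Cfsg.pPrimeCore p G, s ∈ Subgroup.zpowers x → s = 1 := by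
  intro s hs hsP
  by_contra hs1
  have ho := orderOf_eq_of_mem hp hx hsP hs1
  have hcop := pPrimeCore_coprime (G := G) p
  have hdvd : p ∣ Nat.card (Cfsg.pPrimeCore p G) := by
    have := orderOf_dvd_natCard (⟨s, hs⟩ : Cfsg.pPrimeCore p G)
    rwa [Subgroup.orderOf_mk, ho] at this
  have := Nat.Coprime.eq_one_of_dvd hcop.symm hdvd
  exact hp.one_lt.ne' this

theorem core_le_commutator (p : ℕ) (hp : p.Prime) (x : G) (hx : orderOf x = p)
    (hC : Subgroup.centralizer ({x} : Set G) = Subgroup.zpowers x) :
    Cfsg.pPrimeCore p G ≤ commutator G := by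
  have hfree : ∀ s ∈ Cfsg.pPrimeCore p G, s * x = x * s → s = 1 := by
    intro s hs hsx
    apply core_inf p hp x hx s hs
    rw [← hC, Subgroup.mem_centralizer_singleton_iff]
    exact hsx
  intro u hu
  obtain ⟨s, -, hs⟩ := exists_comm_eq (Cfsg.pPrimeCore p G) hfree u hu
  rw [← hs]
  have : s * x * s⁻¹ * x⁻¹ = ⁅s, x⁆ := by rw [commutatorElement_def]
  rw [this, commutator_def]
  exact Subgroup.commutator_mem_commutator (Subgroup.mem_top _) (Subgroup.mem_top _)

theorem simple_quot (p : ℕ) [hpf : Fact p.Prime] (x : G) (hx : orderOf x = p)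
    (hC : Subgroup.centralizer ({x} : Set G) = Subgroup.zpowers x)
    (he : (Subgroup.zpowers x).relIndex (Subgroup.normalizer (Subgroup.zpowers x : Set G)) ≠ 1)
    [h : ((Cfsg.pPrimeCore p G).subgroupOf (commutator G)).Normal] :
    IsSimpleGroup (↥(commutator G) ⧸ (Cfsg.pPrimeCore p G).subgroupOf (commutator G)) := by
  have hp := hpf.out
  have hOD : Cfsg.pPrimeCore p G ≤ commutator G := core_le_commutator p hp x hx hC
  have hPD : Subgroup.zpowers x ≤ commutator G := zpowers_le_commutator p x hx hC he
  obtain ⟨Q, hQ⟩ := exists_sylow hx hC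
  have hset : ((Q : Subgroup G) : Set G) = (Subgroup.zpowers x : Set G) := by rw [hQ]
  have hfr : Subgroup.normalizer (Subgroup.zpowers x : Set G) ⊔ commutator G = ⊤ := by
    have h0 : Subgroup.normalizer ((Q : Subgroup G) : Set G) ⊔ commutator G = ⊤ :=
      Sylow.normalizer_sup_eq_top' Q (hQ ▸ hPD)
    rw [hset] at h0
    exact h0
  have hfr' : commutator G ⊔ Subgroup.normalizer (Subgroup.zpowers x : Set G) = ⊤ := by
    rw [sup_comm]; exact hfr
  have hxO : x ∉ Cfsg.pPrimeCore p G :=
    fun hx' => x_ne_one hp hx (core_inf p hp x hx x hx' (Subgroup.mem_zpowers x))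
  have key : ∀ L : Subgroup (commutator G), L.Normal →
      (Cfsg.pPrimeCore p G).subgroupOf (commutator G) ≤ L →
      L = (Cfsg.pPrimeCore p G).subgroupOf (commutator G) ∨ L = ⊤ := by
    intro L hL hOL
    by_cases hdvd : p ∣ Nat.card L
    · right
      obtain ⟨g₀, hg₀⟩ := exists_prime_orderOf_dvd_card' (G := L) p hdvd
      have hg₀' : orderOf (((g₀ : commutator G)) : G) = p := by
        rw [Subgroup.orderOf_coe, Subgroup.orderOf_coe]; exact hg₀
      obtain ⟨h', hmem, hne⟩ := exists_conj_mem hx hC hg₀'
      have hh' : h' ∈ Subgroup.normalizer (Subgroup.zpowers x : Set G) ⊔ commutator G := by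
        rw [hfr]; trivial
      obtain ⟨n, hn, d, hd, rfl⟩ := Subgroup.mem_sup_of_normal_right.mp hh'
      have hy : d * ((g₀ : commutator G) : G) * d⁻¹ ∈ Subgroup.zpowers x := by
        have h1 : n⁻¹ ∈ Subgroup.normalizer (Subgroup.zpowers x : Set G) :=
          Subgroup.inv_mem _ hn
        have h2 := (Subgroup.mem_normalizer_iff.mp h1 _).mp hmem
        have : n⁻¹ * (n * d * ((g₀ : commutator G) : G) * (n * d)⁻¹) * n⁻¹⁻¹ =
            d * ((g₀ : commutator G) : G) * d⁻¹ := by group
        rwa [this] at h2
      have hy1 : d * ((g₀ : commutator G) : G) * d⁻¹ ≠ 1 := by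
        intro h1
        apply hne
        have : n * d * ((g₀ : commutator G) : G) * (n * d)⁻¹ =
            n * (d * ((g₀ : commutator G) : G) * d⁻¹) * n⁻¹ := by group
        rw [this, h1]
        group
      have hyL : (⟨d, hd⟩ : commutator G) * (g₀ : commutator G) * (⟨d, hd⟩ : commutator G)⁻¹ ∈ L :=
        hL.conj_mem _ g₀.2 _
      have hPL : Subgroup.zpowers x ≤ L.map (commutator G).subtype := by
        rw [← zpowers_eq_of_mem hp hx hy hy1, Subgroup.zpowers_le]
        exact Subgroup.mem_map.mpr ⟨_, hyL, by simp⟩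
      have hM : Subgroup.normalClosure (Subgroup.zpowers x : Set G) ≤
          L.map (commutator G).subtype := by
        rw [Subgroup.normalClosure, Subgroup.closure_le]
        intro c hc
        obtain ⟨a, ha, hca⟩ := Group.mem_conjugatesOfSet_iff.mp hc
        obtain ⟨g, hg⟩ := isConj_iff.mp hca
        have hg' : g ∈ commutator G ⊔ Subgroup.normalizer (Subgroup.zpowers x : Set G) := by
          rw [hfr']; trivial
        obtain ⟨d', hd', n', hn', rfl⟩ := Subgroup.mem_sup_of_normal_left.mp hg'
        have h1 : n' * a * n'⁻¹ ∈ Subgroup.zpowers x :=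
          (Subgroup.mem_normalizer_iff.mp hn' a).mp ha
        obtain ⟨l, hl, hl'⟩ := Subgroup.mem_map.mp (hPL h1)
        have h2 : (⟨d', hd'⟩ : commutator G) * l * (⟨d', hd'⟩ : commutator G)⁻¹ ∈ L :=
          hL.conj_mem _ hl _
        rw [SetLike.mem_coe, ← hg]
        refine Subgroup.mem_map.mpr ⟨_, h2, ?_⟩
        have hl'' : (l : G) = n' * a * n'⁻¹ := hl'
        simp only [Subgroup.subtype_apply, Subgroup.coe_mul, Subgroup.coe_inv, hl'']
        group
      have hpM : p ∣ Nat.card (Subgroup.normalClosure (Subgroup.zpowers x : Set G)) := by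
        have hxM : x ∈ Subgroup.normalClosure (Subgroup.zpowers x : Set G) :=
          Subgroup.subset_normalClosure (Subgroup.mem_zpowers x)
        have := orderOf_dvd_natCard
          (⟨x, hxM⟩ : Subgroup.normalClosure (Subgroup.zpowers x : Set G))
        rwa [Subgroup.orderOf_mk, hx] at this
      have hDM := Cfsg.Agent.S4496.partA p hp x hx hC
        (Subgroup.normalClosure (Subgroup.zpowers x : Set G)) hpM
      rw [eq_top_iff]
      intro a _
      obtain ⟨l, hl, hl'⟩ := Subgroup.mem_map.mp (hM (hDM a.2))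
      have : l = a := Subtype.ext hl'
      rw [← this]
      exact hl
    · left
      have hcop : (Nat.card L).Coprime p :=
        ((Nat.Prime.coprime_iff_not_dvd hp).mpr hdvd).symm
      have hLR : L ≤ Cfsg.pPrimeCore p (commutator G) := le_pPrimeCore hL hcop
      haveI := pPrimeCore_map_normal p (commutator G)
      have hRc : (Nat.card ((Cfsg.pPrimeCore p (commutator G)).map
          (commutator G).subtype)).Coprime p := by
        rw [Subgroup.card_map_of_injective (commutator G).subtype_injective]
        exact pPrimeCore_coprime p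
      have hRO : (Cfsg.pPrimeCore p (commutator G)).map (commutator G).subtype ≤
          Cfsg.pPrimeCore p G := le_pPrimeCore inferInstance hRc
      apply le_antisymm _ hOL
      intro l hl
      rw [Subgroup.mem_subgroupOf]
      exact hRO (Subgroup.mem_map_of_mem _ (hLR hl))
  refine { exists_pair_ne := ?_, eq_bot_or_eq_top_of_normal := ?_ }
  · have hne : (Cfsg.pPrimeCore p G).subgroupOf (commutator G) ≠ ⊤ := by
      intro htop
      apply hxO
      have : (⟨x, hPD (Subgroup.mem_zpowers x)⟩ : commutator G) ∈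
          (Cfsg.pPrimeCore p G).subgroupOf (commutator G) := by rw [htop]; trivial
      exact Subgroup.mem_subgroupOf.mp this
    haveI : Nontrivial (↥(commutator G) ⧸ (Cfsg.pPrimeCore p G).subgroupOf (commutator G)) :=
      QuotientGroup.nontrivial_iff.mpr hne
    exact exists_pair_ne _
  · intro H hH
    have hLn : (H.comap (QuotientGroup.mk' ((Cfsg.pPrimeCore p G).subgroupOf (commutator G)))).Normal :=
      hH.comap _
    have hOL : (Cfsg.pPrimeCore p G).subgroupOf (commutator G) ≤
        H.comap (QuotientGroup.mk' ((Cfsg.pPrimeCore p G).subgroupOf (commutator G))) := by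
      intro a ha
      rw [Subgroup.mem_comap]
      have : QuotientGroup.mk' ((Cfsg.pPrimeCore p G).subgroupOf (commutator G)) a = 1 :=
        (QuotientGroup.eq_one_iff a).mpr ha
      rw [this]
      exact H.one_mem
    have hmap : (H.comap (QuotientGroup.mk' ((Cfsg.pPrimeCore p G).subgroupOf
        (commutator G)))).map (QuotientGroup.mk' ((Cfsg.pPrimeCore p G).subgroupOf
        (commutator G))) = H :=
      Subgroup.map_comap_eq_self_of_surjective (QuotientGroup.mk'_surjective _) H
    rcases key _ hLn hOL with h1 | h1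
    · left
      rw [← hmap, h1]
      exact QuotientGroup.map_mk'_self _
    · right
      rw [← hmap, h1, ← MonoidHom.range_eq_map]
      exact MonoidHom.range_eq_top.mpr (QuotientGroup.mk'_surjective _)

/-- Let the finite group G contain an element x of prime order p with C_G(x) = ⟨x⟩, let t be the number of conjugacy classes of elements of order p, and let S* = O_{p′}(G) be the largest normal subgroup of order prime to p. Then S* ≤ G′; if t ≠ p − 1 the quotient G′/S* is simple (in particular non-trivial); if t = p − 1 then G′ = S*. -/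
theorem result {G : Type*} [Group G] [Finite G] (p : ℕ) (hp : p.Prime) (x : G) (hx : orderOf x = p) (hC : Subgroup.centralizer ({x} : Set G) = Subgroup.zpowers x) (t : ℕ) (ht : Nat.card {C : ConjClasses G // ∃ g ∈ C.carrier, orderOf g = p} = t) : Cfsg.pPrimeCore p G ≤ commutator G ∧ (t ≠ p - 1 → ∀ h : ((Cfsg.pPrimeCore p G).subgroupOf (commutator G)).Normal, IsSimpleGroup (↥(commutator G) ⧸ (Cfsg.pPrimeCore p G).subgroupOf (commutator G))) ∧ (t = p - 1 → commutator G = Cfsg.pPrimeCore p G) := by
  haveI : Fact p.Prime := ⟨hp⟩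
  have hte := card_classes_mul hx hC
  rw [ht] at hte
  have hp1 : 1 ≤ p - 1 := by have := hp.two_le; omega
  refine ⟨core_le_commutator p hp x hx hC, ?_, ?_⟩
  · intro hne h
    have he : (Subgroup.zpowers x).relIndex
        (Subgroup.normalizer (Subgroup.zpowers x : Set G)) ≠ 1 := by
      intro he
      rw [he, mul_one] at hte
      exact hne hte
    exact simple_quot p x hx hC he
  · intro heq
    have he : (Subgroup.zpowers x).relIndex
        (Subgroup.normalizer (Subgroup.zpowers x : Set G)) = 1 := by
      rw [heq] at hte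
      have : (p - 1) * (Subgroup.zpowers x).relIndex
          (Subgroup.normalizer (Subgroup.zpowers x : Set G)) = (p - 1) * 1 := by
        rw [hte, mul_one]
      exact Nat.eq_of_mul_eq_mul_left hp1 this
    have hidx := Cfsg.Agent.S4495.index_of_relIndex_eq_one p x hx hC he
    apply le_antisymm _ (core_le_commutator p hp x hx hC)
    apply le_pPrimeCore inferInstance
    -- `p ∤ |G′|`
    obtain ⟨Q, hQ⟩ := exists_sylow hx hC
    rw [Nat.coprime_comm, Nat.Prime.coprime_iff_not_dvd hp]
    intro hdvd
    have h1 := (commutator G).card_mul_index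
    rw [hidx] at h1
    have h2 : p * p ∣ Nat.card G := by
      rw [← h1]
      exact Nat.mul_dvd_mul_right hdvd p
    have h3 := Q.card_eq_multiplicity
    rw [hQ, card_P hx] at h3
    have h4 : (Nat.card G).factorization p = 1 := by
      have h5 : p ^ 1 = p ^ (Nat.card G).factorization p := by rw [pow_one]; exact h3
      exact (Nat.pow_right_injective hp.two_le h5).symm
    have h6 : 2 ≤ (Nat.card G).factorization p := by
      have : p ^ 2 ∣ Nat.card G := by rw [pow_two]; exact h2
      exact (hp.pow_dvd_iff_le_factorization Nat.card_pos.ne').mp this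
    omega

end Cfsg.Agent.S4497
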