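import Mathlib
import Cfsg.Statements.S4498
import Cfsg.Agent.Lib.helper3.ProjVanish7
import Cfsg.Agent.Lib.helper3.BlockBasic
import Cfsg.Agent.Lib.helper3.Irr11

set_option autoImplicit false
open Cfsg

namespace Cfsg.Agent.S4498

open Cfsg.Agent.Lib.helper3.Block Cfsg.Agent.Lib.helper3.LocalM Cfsg.Agent.Lib.helper3.Irr
set_option linter.style.haveILetI false

/-- Let p and q be distinct primes dividing the order of the finite group G, and suppose G has no element of order p·q. Fix maximal ideals M_p over p and M_q over q of the algebraic integers. Then the principal p-block and the principal q-block of G have a non-principal irreducible character in common. -/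
theorem result {G : Type*} [Group G] [Finite G] (p q : ℕ) [Fact p.Prime] [Fact q.Prime] (hpq : p ≠ q) (hp : p ∣ Nat.card G) (hq : q ∣ Nat.card G) (hno : ∀ g : G, orderOf g ≠ p * q) (Mp Mq : Ideal Cfsg.AlgInt) (hMp : Cfsg.IsPModular p Mp) (hMq : Cfsg.IsPModular q Mq) : ∃ χ : Cfsg.IrrCharacter G, (χ : G → ℂ) ≠ (fun _ => 1) ∧ χ ∈ Cfsg.principalBlock Mp G ∧ χ ∈ Cfsg.principalBlock Mq G := by
  classical
  letI : Fintype G := Fintype.ofFinite G
  haveI hMpp := isPrime_of_isPModular hMp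
  haveI hMqp := isPrime_of_isPModular hMq
  have hG0 : (Nat.card G : ℂ) ≠ 0 := by
    have : Nat.card G ≠ 0 := Nat.card_pos.ne'
    exact_mod_cast this
  have hSp : ∀ θ ∈ Cfsg.principalBlock Mp G,
      Cfsg.blockOf Mp (θ : G → ℂ) ⊆ Cfsg.principalBlock Mp G :=
    fun θ hθ ψ hψ => sameBlock_trans hθ hψ
  have hSq : ∀ θ ∈ Cfsg.principalBlock Mq G,
      Cfsg.blockOf Mq (θ : G → ℂ) ⊆ Cfsg.principalBlock Mq G :=
    fun θ hθ ψ hψ => sameBlock_trans hθ hψ
  obtain ⟨x, hx⟩ := exists_prime_orderOf_dvd_card' (G := G) p hp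
  obtain ⟨y, hy⟩ := exists_prime_orderOf_dvd_card' (G := G) q hq
  by_contra hcon
  push Not at hcon
  obtain ⟨Θ, hΘ⟩ : ∃ Θ : G → ℂ, Θ = fun g => ∑ χ : Cfsg.IrrCharacter G,
      (if χ ∈ Cfsg.principalBlock Mp G then (1 : ℂ) else 0)
        * ((χ : G → ℂ) g * (starRingEnd ℂ) ((χ : G → ℂ) x)) := ⟨_, rfl⟩
  obtain ⟨L, hL⟩ : ∃ L : G → ℂ, L = fun h => ∑ χ : Cfsg.IrrCharacter G,
      (if χ ∈ Cfsg.principalBlock Mq G then (1 : ℂ) else 0)
        * ((χ : G → ℂ) h * (starRingEnd ℂ) ((χ : G → ℂ) y)) := ⟨_, rfl⟩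
  have hΘ0 : ∀ g : G, ¬ p ∣ orderOf g → Θ g = 0 := by
    intro g hg
    rw [hΘ]
    exact weak_block_orthogonality hMp _ hSp g x hg (by rw [hx])
  have hL0 : ∀ h : G, ¬ q ∣ orderOf h → L h = 0 := by
    intro h hh
    rw [hL]
    exact weak_block_orthogonality hMq _ hSq h y hh (by rw [hy])
  have hpq : ∀ h : G, q ∣ orderOf h → ¬ p ∣ orderOf h := by
    intro h hq' hp'
    have hcop : Nat.Coprime p q := (Nat.coprime_primes Fact.out Fact.out).mpr hpq
    have hdvd : p * q ∣ orderOf h := hcop.mul_dvd_of_dvd_of_dvd hp' hq'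
    exact hno _ (orderOf_pow_orderOf_div (orderOf_pos h).ne' hdvd)
  have hZ0 : ∑ h : G, Θ h * (starRingEnd ℂ) (L h) = 0 := by
    apply Finset.sum_eq_zero
    intro h _
    by_cases hh : q ∣ orderOf h
    · rw [hΘ0 h (hpq h hh), zero_mul]
    · rw [hL0 h hh, map_zero, mul_zero]
  have hZ : ∑ h : G, Θ h * (starRingEnd ℂ) (L h)
      = (Nat.card G : ℂ) * ∑ χ : Cfsg.IrrCharacter G,
        (if χ ∈ Cfsg.principalBlock Mp G then (1 : ℂ) else 0)
          * (if χ ∈ Cfsg.principalBlock Mq G then (1 : ℂ) else 0)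
          * ((starRingEnd ℂ) ((χ : G → ℂ) x) * (χ : G → ℂ) y) := by
    have h1 : ∀ h : G, Θ h * (starRingEnd ℂ) (L h)
        = ∑ χ : Cfsg.IrrCharacter G, ∑ ψ : Cfsg.IrrCharacter G,
          (if χ ∈ Cfsg.principalBlock Mp G then (1 : ℂ) else 0)
          * (if ψ ∈ Cfsg.principalBlock Mq G then (1 : ℂ) else 0)
          * ((starRingEnd ℂ) ((χ : G → ℂ) x) * (ψ : G → ℂ) y)
          * ((χ : G → ℂ) h * (starRingEnd ℂ) ((ψ : G → ℂ) h)) := by
      intro h
      rw [hΘ, hL]
      beta_reduce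
      rw [map_sum, Finset.sum_mul_sum]
      apply Finset.sum_congr rfl
      intro χ _
      apply Finset.sum_congr rfl
      intro ψ _
      rw [map_mul, map_mul, Complex.conj_conj]
      have : (starRingEnd ℂ) (if ψ ∈ Cfsg.principalBlock Mq G then (1 : ℂ) else 0)
          = if ψ ∈ Cfsg.principalBlock Mq G then (1 : ℂ) else 0 := by
        split_ifs
        · exact map_one _
        · exact map_zero _
      rw [this]
      ring
    rw [Finset.sum_congr rfl (fun h _ => h1 h), Finset.sum_comm, Finset.mul_sum]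
    apply Finset.sum_congr rfl
    intro χ _
    rw [Finset.sum_comm]
    have h2 : ∀ ψ : Cfsg.IrrCharacter G, ∑ h : G,
        (if χ ∈ Cfsg.principalBlock Mp G then (1 : ℂ) else 0)
          * (if ψ ∈ Cfsg.principalBlock Mq G then (1 : ℂ) else 0)
          * ((starRingEnd ℂ) ((χ : G → ℂ) x) * (ψ : G → ℂ) y)
          * ((χ : G → ℂ) h * (starRingEnd ℂ) ((ψ : G → ℂ) h))
        = (if χ ∈ Cfsg.principalBlock Mp G then (1 : ℂ) else 0)
          * (if ψ ∈ Cfsg.principalBlock Mq G then (1 : ℂ) else 0)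
          * ((starRingEnd ℂ) ((χ : G → ℂ) x) * (ψ : G → ℂ) y)
          * (if χ = ψ then (Nat.card G : ℂ) else 0) := by
      intro ψ
      rw [← Finset.mul_sum, sum_irr_mul_conj_eq]
    rw [Finset.sum_congr rfl (fun ψ _ => h2 ψ), Finset.sum_eq_single χ]
    · rw [if_pos rfl]
      ring
    · intro ψ _ hne
      rw [if_neg (Ne.symm hne), mul_zero]
    · intro h
      exact absurd (Finset.mem_univ _) h
  rw [hZ0] at hZ
  obtain ⟨triv, htriv⟩ : ∃ triv : Cfsg.IrrCharacter G, (triv : G → ℂ) = fun _ => 1 :=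
    ⟨⟨_, isIrrCharacter_one⟩, rfl⟩
  have htp : triv ∈ Cfsg.principalBlock Mp G := by
    show Cfsg.SameBlock Mp (fun _ : G => (1 : ℂ)) (triv : G → ℂ)
    rw [htriv]
    exact sameBlock_refl hMpp.ne_top _
  have htq : triv ∈ Cfsg.principalBlock Mq G := by
    show Cfsg.SameBlock Mq (fun _ : G => (1 : ℂ)) (triv : G → ℂ)
    rw [htriv]
    exact sameBlock_refl hMqp.ne_top _
  rw [Finset.sum_eq_single triv] at hZ
  · rw [if_pos htp, if_pos htq, htriv] at hZ
    simp only [map_one, mul_one] at hZ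
    exact hG0 hZ.symm
  · intro χ _ hne
    have hne' : (χ : G → ℂ) ≠ fun _ => 1 := by
      intro h
      apply hne
      apply Subtype.ext
      rw [h, htriv]
    by_cases hχp : χ ∈ Cfsg.principalBlock Mp G
    · rw [if_neg (hcon χ hne' hχp), mul_zero, zero_mul]
    · rw [if_neg hχp, zero_mul, zero_mul]
  · intro h
    exact absurd (Finset.mem_univ _) h

end Cfsg.Agent.S4498
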