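import Mathlib
import Cfsg.Statements.S4506
import Cfsg.Agent.Lib.helper3.PConj
import Cfsg.Agent.Lib.helper3.Pdeg2

set_option autoImplicit false
open Cfsg

namespace Cfsg.Agent.S4506

open Cfsg.Agent.Lib.helper3.PConj Cfsg.Agent.Lib.helper3.Irr Cfsg.Agent.Lib.helper3.IndFun

/-- Let G be a finite group, p a prime, p^a the p-part of the order of G and g′ its p′-part. Call two irreducible characters p-conjugate when one is obtained from the other by applying a field automorphism of ℂ that fixes the g′-th roots of unity, and let r be the number of characters p-conjugate to the irreducible character χ (χ included). Then the exponent of p in r·χ(1) is at most a; and if p^a divides r·χ(1) then p^a already divides χ(1). -/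
theorem result {G : Type*} [Group G] [Finite G] (p : ℕ) (hp : p.Prime) (χ : Cfsg.IrrCharacter G) (r : ℕ) (hr : Nat.card {ψ : Cfsg.IrrCharacter G // ∃ σ : ℂ ≃+* ℂ, σ (Complex.exp (2 * Real.pi * Complex.I / ((Nat.card G / p ^ (Nat.card G).factorization p) : ℕ))) = Complex.exp (2 * Real.pi * Complex.I / ((Nat.card G / p ^ (Nat.card G).factorization p) : ℕ)) ∧ (ψ : G → ℂ) = fun g => σ ((χ : G → ℂ) g)} = r) : (r * Cfsg.charDegree (χ : G → ℂ)).factorization p ≤ (Nat.card G).factorization p ∧ (p ^ (Nat.card G).factorization p ∣ r * Cfsg.charDegree (χ : G → ℂ) → p ^ (Nat.card G).factorization p ∣ Cfsg.charDegree (χ : G → ℂ)) := by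
  classical
  letI : Fintype G := Fintype.ofFinite G
  haveI : Fact p.Prime := ⟨hp⟩
  obtain ⟨m, hm⟩ : ∃ m : ℕ, m = Nat.card G / p ^ (Nat.card G).factorization p := ⟨_, rfl⟩
  rw [← hm] at hr
  have hG0 : Nat.card G ≠ 0 := Nat.card_pos.ne'
  have hm0 : m ≠ 0 := by rw [hm]; exact (Nat.ordCompl_pos p hG0).ne'
  have hGm : Nat.card G = p ^ (Nat.card G).factorization p * m := by
    rw [hm]; exact (Nat.ordProj_mul_ordCompl_eq_self _ p).symm
  have hcop : Nat.Coprime p m := by rw [hm]; exact Nat.coprime_ordCompl hp hG0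
  obtain ⟨O, hO⟩ : ∃ O : Finset (Cfsg.IrrCharacter G), O = Finset.univ.filter
      (fun ψ : Cfsg.IrrCharacter G => ∃ σ : ℂ ≃+* ℂ,
        σ (Complex.exp (2 * Real.pi * Complex.I / (m : ℂ)))
          = Complex.exp (2 * Real.pi * Complex.I / (m : ℂ)) ∧
        (ψ : G → ℂ) = fun g => σ ((χ : G → ℂ) g)) := ⟨_, rfl⟩
  have hOr : O.card = r := by
    rw [← hr, hO, Nat.card_eq_fintype_card, Fintype.card_subtype]
  have hmemO : ∀ ψ : Cfsg.IrrCharacter G, ψ ∈ O ↔ ∃ σ : ℂ ≃+* ℂ,
        σ (Complex.exp (2 * Real.pi * Complex.I / (m : ℂ)))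
          = Complex.exp (2 * Real.pi * Complex.I / (m : ℂ)) ∧
        (ψ : G → ℂ) = fun g => σ ((χ : G → ℂ) g) := by
    intro ψ
    rw [hO, Finset.mem_filter]
    simp
  have hχc := isCharacter_of_isIrrCharacter χ.2
  have hχO : χ ∈ O := by
    rw [hmemO]
    exact ⟨RingEquiv.refl ℂ, rfl, rfl⟩
  have hreg : ∀ ψ ∈ O, ∀ g : G, ¬ p ∣ orderOf g → (ψ : G → ℂ) g = (χ : G → ℂ) g := by
    intro ψ hψ g hg
    obtain ⟨σ, hσ, hψσ⟩ := (hmemO ψ).mp hψ
    rw [hψσ]
    apply apply_fixed_of_orderOf_dvd hχc σ m hm0 hσ g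
    have h1 : orderOf g ∣ p ^ (Nat.card G).factorization p * m := by
      rw [← hGm]; exact orderOf_dvd_natCard g
    have h2 : Nat.Coprime (orderOf g) (p ^ (Nat.card G).factorization p) :=
      Nat.Coprime.pow_right _ ((Nat.Prime.coprime_iff_not_dvd hp).mpr hg).symm
    exact h2.dvd_of_dvd_mul_left h1
  obtain ⟨P⟩ : Nonempty (Sylow p G) := inferInstance
  letI : Fintype (P : Subgroup G) := Fintype.ofFinite _
  have hP : ∀ ψ ∈ O, ∑ x : (P : Subgroup G), (ψ : G → ℂ) x
      = ∑ x : (P : Subgroup G), (χ : G → ℂ) x := by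
    intro ψ hψ
    obtain ⟨σ, hσ, hψσ⟩ := (hmemO ψ).mp hψ
    obtain ⟨k, hk⟩ := exists_nat_sum_subgroup hχc (P : Subgroup G)
    rw [hψσ]
    simp only
    rw [← map_sum, hk, map_natCast]
  obtain ⟨deg, hdpos, hd1⟩ := exists_pos_nat_apply_one χ.2
  have hcd : Cfsg.charDegree (χ : G → ℂ) = deg := Cfsg.Agent.Lib.helper3.Pdeg.charDegree_eq' hd1
  rw [hcd, ← hOr]
  exact pconj_bound p χ O hχO hreg P hP deg hd1

end Cfsg.Agent.S4506
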