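import Cfsg.Statements.S4508
import Mathlib
import Cfsg.Agent.Lib.Helper7.BrQ1
import Cfsg.Agent.Lib.Helper7.BrQ2
import Cfsg.Agent.Lib.Helper7.BrQ3
import Cfsg.Agent.Lib.Helper7.BrQ4
import Cfsg.Agent.Lib.Helper7.BrQ5
import Cfsg.Agent.Lib.Helper7.BrQ6

set_option autoImplicit false
set_option linter.style.haveILetI false
open Cfsg

namespace Cfsg.Agent.S4508
open Cfsg.Agent.Lib.Helper7.BrQ Cfsg.Agent.Lib.Helper7.BrP
open Cfsg.Agent.Lib.helper3.Irr Cfsg.Agent.Lib.helper3.CharBasic
open Cfsg.Agent.Lib.helper3.IndFun Cfsg.Agent.Lib.helper3.CycTI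

/-- Let the finite group G contain an element x of prime order p with C_G(x) = ⟨x⟩, and let t be the number of conjugacy classes of elements of order p. If G has an irreducible character of degree p − 1, then t is even or the commutator subgroup has even index. -/
theorem result {G : Type*} [Group G] [Finite G] (p : ℕ) (hp : p.Prime) (x : G) (hx : orderOf x = p) (hC : Subgroup.centralizer ({x} : Set G) = Subgroup.zpowers x) (t : ℕ) (ht : Nat.card {C : ConjClasses G // ∃ g ∈ C.carrier, orderOf g = p} = t) (χ : Cfsg.IrrCharacter G) (hχ : Cfsg.charDegree (χ : G → ℂ) + 1 = p) : Even t ∨ Even (commutator G).index := by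
  classical
  letI : Fintype G := Fintype.ofFinite G
  haveI : Fact p.Prime := ⟨hp⟩
  -- the case `p = 2`
  by_cases hp2 : p = 2
  · right
    subst hp2
    exact even_index_of_two x hx hC
  have hpodd : Odd p := hp.odd_of_ne_two hp2
  -- the subgroup `P`
  set P : Subgroup G := Subgroup.zpowers x with hPdef
  letI : Fintype P := Fintype.ofFinite P
  have hP : Nat.card P = p := by rw [hPdef, Nat.card_zpowers, hx]
  have hC' := self_centralizing_zpowers p x hx hC
  have hpN : p ∣ Nat.card (Subgroup.normalizer (P : Set G)) := by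
    have := Subgroup.card_dvd_of_le (Subgroup.le_normalizer (H := P))
    rwa [hP] at this
  obtain ⟨e, hN⟩ := hpN
  have hte := card_classes_mul p x hx hC e hN
  rw [ht] at hte
  -- easy cases
  by_cases hteven : Even t
  · exact Or.inl hteven
  right
  have htodd : Odd t := Nat.not_even_iff_odd.mp hteven
  have hp1even : Even (p - 1) := by
    obtain ⟨k, hk⟩ := hpodd
    exact ⟨k, by omega⟩
  have heven : Even e := by
    rw [← hte] at hp1even
    rcases Nat.even_mul.mp hp1even with h | h
    · exact absurd h hteven
    · exact h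
  have he2 : 2 ≤ e := by
    obtain ⟨k, hk⟩ := heven
    have : e ≠ 0 := by
      rintro rfl
      have := hp.two_le
      omega
    omega
  have hdiv : e ∣ p - 1 := ⟨t, by rw [← hte, mul_comm]⟩
  -- the degree
  have hχc := isCharacter_of_isIrrCharacter χ.2
  obtain ⟨d, hd0, hd⟩ := exists_pos_nat_apply_one χ.2
  have hdeg : (χ : G → ℂ) 1 = ((p - 1 : ℕ) : ℂ) := by
    have h1 : Cfsg.charDegree (χ : G → ℂ) = d := by
      unfold Cfsg.charDegree
      rw [hd]
      simp
    rw [hd]
    congr 1
    omega
  -- no principal constituent on `P`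
  have hmult := mult_triv_eq_zero P hp hP hC' e hN he2 hdiv χ hdeg
  have h0 : ∑ y : P, (χ : G → ℂ) y = 0 := by
    rw [classInner_apply] at hmult
    have hP0 : (Nat.card P : ℂ) ≠ 0 := card_ne_zero_complex P
    have h1 : ∑ y : P, linFun (1 : P →* ℂˣ) y * (starRingEnd ℂ) ((χ : G → ℂ) y) = 0 := by
      rcases mul_eq_zero.mp hmult with h | h
      · exact absurd (inv_eq_zero.mp h) hP0
      · exact h
    have h2 : (starRingEnd ℂ) (∑ y : P, (χ : G → ℂ) y) = 0 := by
      rw [map_sum, ← h1]
      apply Finset.sum_congr rfl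
      intro y _
      rw [linFun_one_eq, one_mul]
    exact (map_eq_zero _).mp h2
  -- an element of order `e`
  obtain ⟨v, hvN, hv⟩ := exists_orderOf_eq P hp hP hC' e hN
  apply even_index_of_vanishing hχc v e t hv heven htodd
  · rw [hdeg, hte]
  · intro z hz hz1
    apply apply_eq_zero_of_mem_normalizer P hC' _ hχc h0
    · exact (Subgroup.zpowers_le.mpr hvN) hz
    · intro hzP
      apply hz1
      have h1 : orderOf z ∣ e := by
        rw [← hv]
        exact orderOf_dvd_of_mem_zpowers hz
      have h2 : orderOf z ∣ p := by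
        have := Subgroup.orderOf_dvd_natCard P hzP
        rwa [hP] at this
      have hcop : Nat.Coprime p e := by
        rw [hp.coprime_iff_not_dvd]
        intro hpe
        have h2le := hp.two_le
        have hle := Nat.le_of_dvd (by omega) (hpe.trans hdiv)
        omega
      have h3 : orderOf z ∣ 1 := by
        have := Nat.dvd_gcd h2 h1
        rwa [hcop] at this
      exact orderOf_eq_one_iff.mp (Nat.dvd_one.mp h3)

end Cfsg.Agent.S4508
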