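import Cfsg.Statements.S4509
import Mathlib
import Cfsg.Agent.Lib.Helper4.SelfCentP
import Cfsg.Agent.Lib.Helper4.SelfCentP2
import Cfsg.Agent.S4495
import Cfsg.Agent.S4496
import Cfsg.Agent.S4497
import Cfsg.Agent.S0713
import Cfsg.Agent.H1.Card

set_option autoImplicit false

open Cfsg

namespace Cfsg.Agent.S4509

open Cfsg.Agent.Lib.Helper4.SelfCentP
open scoped commutatorElement

variable {G : Type*} [Group G] [Finite G]

/-- Frattini argument for a normal subgroup containing `⟨x⟩` -/
theorem frattini (p : ℕ) [hpf : Fact p.Prime] (x : G) (hx : orderOf x = p)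
    (hC : Subgroup.centralizer ({x} : Set G) = Subgroup.zpowers x)
    (S : Subgroup G) [S.Normal] (hPS : Subgroup.zpowers x ≤ S) :
    Subgroup.normalizer (Subgroup.zpowers x : Set G) ⊔ S = ⊤ := by
  obtain ⟨Q, hQ⟩ := exists_sylow hx hC
  have hset : ((Q : Subgroup G) : Set G) = (Subgroup.zpowers x : Set G) := by rw [hQ]
  have hfr : Subgroup.normalizer ((Q : Subgroup G) : Set G) ⊔ S = ⊤ :=
    Sylow.normalizer_sup_eq_top' Q (hQ ▸ hPS)
  rw [hset] at hfr
  exact hfr

theorem caseA (p : ℕ) [hpf : Fact p.Prime] (x : G) (hx : orderOf x = p)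
    (hC : Subgroup.centralizer ({x} : Set G) = Subgroup.zpowers x)
    (he : (Subgroup.zpowers x).relIndex (Subgroup.normalizer (Subgroup.zpowers x : Set G)) = 1) :
    Nat.card (commutator G) = (Subgroup.normalizer (Subgroup.zpowers x : Set G)).index ∧
      IsCyclic (G ⧸ commutator G) ∧ (commutator G).index = p := by
  have hp := hpf.out
  have hidx := Cfsg.Agent.S4495.index_of_relIndex_eq_one p x hx hC he
  have h1 := card_eq (G := G) hx
  rw [he, one_mul] at h1
  have h2 := (commutator G).card_mul_index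
  rw [hidx, h1] at h2
  refine ⟨?_, ?_, hidx⟩
  · apply Nat.eq_of_mul_eq_mul_right hp.pos
    rw [h2, mul_comm]
  · have hc : Nat.card (G ⧸ commutator G) = p := by
      rw [← Subgroup.index_eq_card, hidx]
    exact isCyclic_of_prime_card hc

theorem claimA (p : ℕ) [hpf : Fact p.Prime] (x : G) (hx : orderOf x = p)
    (hC : Subgroup.centralizer ({x} : Set G) = Subgroup.zpowers x)
    (he : (Subgroup.zpowers x).relIndex (Subgroup.normalizer (Subgroup.zpowers x : Set G)) ≠ 1)
    (hD : derivedSeries G 2 ≠ derivedSeries G 1) :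
    Nat.card (derivedSeries G 2) = (Subgroup.normalizer (Subgroup.zpowers x : Set G)).index ∧
      Nat.card (commutator G) =
        p * (Subgroup.normalizer (Subgroup.zpowers x : Set G)).index := by
  have hp := hpf.out
  have hD1 : derivedSeries G 1 = commutator G := derivedSeries_one G
  have hD2 : derivedSeries G 2 = ⁅commutator G, commutator G⁆ := by
    rw [derivedSeries_succ, hD1]
  haveI hD2n : (derivedSeries G 2).Normal := derivedSeries_normal G 2
  have hD21 : derivedSeries G 2 ≤ commutator G := by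
    rw [hD2]
    exact Subgroup.commutator_le_left _ _
  have hnd : ¬ p ∣ Nat.card (derivedSeries G 2) := by
    intro hdvd
    apply hD
    rw [hD1]
    exact le_antisymm hD21 (Cfsg.Agent.S4496.partA p hp x hx hC (derivedSeries G 2) hdvd)
  have hfree := free_of_not_dvd hp hx hC (derivedSeries G 2) hnd
  have hPD : Subgroup.zpowers x ≤ commutator G :=
    Cfsg.Agent.S4497.zpowers_le_commutator p x hx hC he
  -- decomposition
  have hdec : ∀ a ∈ commutator G, ∃ s ∈ derivedSeries G 2, s⁻¹ * a ∈ Subgroup.zpowers x := by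
    intro a ha
    have hu : a * x * a⁻¹ * x⁻¹ ∈ derivedSeries G 2 := by
      rw [hD2]
      have : a * x * a⁻¹ * x⁻¹ = ⁅a, x⁆ := by rw [commutatorElement_def]
      rw [this]
      exact Subgroup.commutator_mem_commutator ha (hPD (Subgroup.mem_zpowers x))
    obtain ⟨s, hs, hsu⟩ := exists_comm_eq (derivedSeries G 2) hfree _ hu
    refine ⟨s, hs, ?_⟩
    rw [← hC, Subgroup.mem_centralizer_singleton_iff]
    have h1 : s * x * s⁻¹ = a * x * a⁻¹ := by
      have := congrArg (· * x) hsu
      simpa using this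
    calc s⁻¹ * a * x = s⁻¹ * (a * x * a⁻¹) * a := by group
      _ = s⁻¹ * (s * x * s⁻¹) * a := by rw [h1]
      _ = x * (s⁻¹ * a) := by group
  have hle : commutator G ≤ Subgroup.zpowers x ⊔ derivedSeries G 2 := by
    intro a ha
    obtain ⟨s, hs, hz⟩ := hdec a ha
    have : a = s * (s⁻¹ * a) := by group
    rw [this]
    exact Subgroup.mul_mem _ (Subgroup.mem_sup_right hs) (Subgroup.mem_sup_left hz)
  have heq : Subgroup.zpowers x ⊔ derivedSeries G 2 = commutator G :=
    le_antisymm (sup_le hPD hD21) hle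
  have hinf : Subgroup.zpowers x ⊓ derivedSeries G 2 = ⊥ := by
    rw [eq_bot_iff]
    intro s hs
    rw [Subgroup.mem_bot]
    exact inf_zpowers_of_not_dvd hp hx _ hnd s hs.2 hs.1
  have hnorm : ∀ (H : Subgroup G), H ≤ Subgroup.normalizer ((derivedSeries G 2 : Subgroup G) : Set G) := by
    intro H
    rw [Subgroup.normalizer_eq_top]
    exact le_top
  have hc1 := Cfsg.Agent.H1.card_sup_mul_card_inf (Subgroup.zpowers x) (derivedSeries G 2) (hnorm _)
  rw [heq, hinf, Subgroup.card_bot, mul_one, card_P hx] at hc1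
  -- the normalizer
  have hfr := frattini p x hx hC (commutator G) hPD
  have hfr2 : Subgroup.normalizer (Subgroup.zpowers x : Set G) ⊔ derivedSeries G 2 = ⊤ := by
    rw [eq_top_iff, ← hfr, ← heq, ← sup_assoc]
    apply sup_le_sup_right
    exact sup_le le_rfl Subgroup.le_normalizer
  have hinf2 : Subgroup.normalizer (Subgroup.zpowers x : Set G) ⊓ derivedSeries G 2 = ⊥ := by
    rw [eq_bot_iff]
    intro s hs
    rw [Subgroup.mem_bot]
    exact inf_normalizer_of_not_dvd hp hx hC _ hnd s hs.2 hs.1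
  have hc2 := Cfsg.Agent.H1.card_sup_mul_card_inf
    (Subgroup.normalizer (Subgroup.zpowers x : Set G)) (derivedSeries G 2) (hnorm _)
  rw [hfr2, hinf2, Subgroup.card_bot, mul_one, Subgroup.card_top, card_normalizer hx,
    card_eq (G := G) hx] at hc2
  have he0 : 0 < (Subgroup.zpowers x).relIndex
      (Subgroup.normalizer (Subgroup.zpowers x : Set G)) := by
    apply Nat.pos_of_ne_zero
    intro h0
    have := card_normalizer (G := G) hx
    rw [h0, mul_zero] at this
    exact Nat.card_pos.ne' this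
  have hcard : Nat.card (derivedSeries G 2) =
      (Subgroup.normalizer (Subgroup.zpowers x : Set G)).index := by
    have hpe : 0 < p * (Subgroup.zpowers x).relIndex
        (Subgroup.normalizer (Subgroup.zpowers x : Set G)) := Nat.mul_pos hp.pos he0
    apply Nat.eq_of_mul_eq_mul_left hpe
    rw [← hc2, mul_assoc]
  refine ⟨hcard, ?_⟩
  rw [hc1, hcard]

theorem claimB (p : ℕ) [hpf : Fact p.Prime] (x : G) (hx : orderOf x = p)
    (hC : Subgroup.centralizer ({x} : Set G) = Subgroup.zpowers x)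
    (he : (Subgroup.zpowers x).relIndex (Subgroup.normalizer (Subgroup.zpowers x : Set G)) ≠ 1)
    (S : Subgroup G) [hS : S.Normal]
    (hcard : Nat.card S = (Subgroup.normalizer (Subgroup.zpowers x : Set G)).index)
    (hnd : ¬ p ∣ Nat.card S) :
    derivedSeries G 2 ≠ derivedSeries G 1 := by
  have hp := hpf.out
  have hD1 : derivedSeries G 1 = commutator G := derivedSeries_one G
  have hD2 : derivedSeries G 2 = ⁅commutator G, commutator G⁆ := by
    rw [derivedSeries_succ, hD1]
  have hPD : Subgroup.zpowers x ≤ commutator G :=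
    Cfsg.Agent.S4497.zpowers_le_commutator p x hx hC he
  have hnorm : ∀ (H : Subgroup G), H ≤ Subgroup.normalizer ((S : Subgroup G) : Set G) := by
    intro H
    rw [Subgroup.normalizer_eq_top]
    exact le_top
  have hinf2 : Subgroup.normalizer (Subgroup.zpowers x : Set G) ⊓ S = ⊥ := by
    rw [eq_bot_iff]
    intro s hs
    rw [Subgroup.mem_bot]
    exact inf_normalizer_of_not_dvd hp hx hC _ hnd s hs.2 hs.1
  have hc2 := Cfsg.Agent.H1.card_sup_mul_card_inf
    (Subgroup.normalizer (Subgroup.zpowers x : Set G)) S (hnorm _)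
  rw [hinf2, Subgroup.card_bot, mul_one, card_normalizer hx, hcard, mul_assoc,
    ← card_eq (G := G) hx] at hc2
  have htop : Subgroup.normalizer (Subgroup.zpowers x : Set G) ⊔ S = ⊤ :=
    Subgroup.card_eq_iff_eq_top _ |>.mp hc2
  have hdecomp : ∀ g : G, ∃ n ∈ Subgroup.normalizer (Subgroup.zpowers x : Set G),
      ∃ s ∈ S, n * s = g := by
    intro g
    have hg : g ∈ Subgroup.normalizer (Subgroup.zpowers x : Set G) ⊔ S := by
      rw [htop]; exact Subgroup.mem_top g
    exact Subgroup.mem_sup_of_normal_right.mp hg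
  -- commutators lie in `P ⊔ S`
  have hGle : commutator G ≤ Subgroup.zpowers x ⊔ S := by
    rw [commutator_def, Subgroup.commutator_le]
    intro g₁ _ g₂ _
    obtain ⟨n₁, hn₁, s₁, hs₁, rfl⟩ := hdecomp g₁
    obtain ⟨n₂, hn₂, s₂, hs₂, rfl⟩ := hdecomp g₂
    have h1 := comm_mul_mem S n₁ n₂ s₁ s₂ hs₁ hs₂
    have h2 : n₁ * n₂ * n₁⁻¹ * n₂⁻¹ ∈ Subgroup.zpowers x := by
      have := Cfsg.Agent.S0713.comm_mem_centralizer (Subgroup.zpowers x) n₁ n₂ hn₁ hn₂
      rw [← hC]
      exact Subgroup.centralizer_le (Set.singleton_subset_iff.mpr (Subgroup.mem_zpowers x)) this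
    have : ⁅n₁ * s₁, n₂ * s₂⁆ = (n₁ * n₂ * n₁⁻¹ * n₂⁻¹) *
        ((n₁ * n₂ * n₁⁻¹ * n₂⁻¹)⁻¹ * ⁅n₁ * s₁, n₂ * s₂⁆) := by group
    rw [this]
    exact Subgroup.mul_mem _ (Subgroup.mem_sup_left h2) (Subgroup.mem_sup_right h1)
  have hD2S : derivedSeries G 2 ≤ S := by
    rw [hD2]
    refine (Subgroup.commutator_mono hGle hGle).trans ?_
    rw [Subgroup.commutator_le]
    intro g₁ hg₁ g₂ hg₂
    obtain ⟨z₁, hz₁, s₁, hs₁, rfl⟩ := Subgroup.mem_sup_of_normal_right.mp hg₁
    obtain ⟨z₂, hz₂, s₂, hs₂, rfl⟩ := Subgroup.mem_sup_of_normal_right.mp hg₂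
    have h1 := comm_mul_mem S z₁ z₂ s₁ s₂ hs₁ hs₂
    have h2 : z₁ * z₂ * z₁⁻¹ * z₂⁻¹ = 1 := by
      obtain ⟨k₁, rfl⟩ := Subgroup.mem_zpowers_iff.mp hz₁
      obtain ⟨k₂, rfl⟩ := Subgroup.mem_zpowers_iff.mp hz₂
      rw [← zpow_add, ← zpow_neg, ← zpow_neg, ← zpow_add, ← zpow_add]
      have : k₁ + k₂ + -k₁ + -k₂ = 0 := by ring
      rw [this, zpow_zero]
    rw [h2, inv_one, one_mul] at h1
    exact h1
  intro hEq
  rw [hD1] at hEq
  have hxS : x ∈ S := hD2S (hEq ▸ hPD (Subgroup.mem_zpowers x))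
  exact x_ne_one hp hx (inf_zpowers_of_not_dvd hp hx S hnd x hxS (Subgroup.mem_zpowers x))

/-- Let the finite group G contain an element x of prime order p with C_G(x) = ⟨x⟩; let t be the number of conjugacy classes of elements of order p and 1 + n·p the number of subgroups of order p. Then G has a normal subgroup of order 1 + n·p if and only if either t = p − 1, or t < p − 1 and G″ ≠ G′. Moreover, if t = p − 1 then G′ has order 1 + n·p and G/G′ is cyclic of order p; and if t < p − 1 and G″ ≠ G′ then G″ has order 1 + n·p and G′ has order p·(1 + n·p). -/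
theorem result {G : Type*} [Group G] [Finite G] (p : ℕ) (hp : p.Prime) (x : G) (hx : orderOf x = p) (hC : Subgroup.centralizer ({x} : Set G) = Subgroup.zpowers x) (t : ℕ) (ht : Nat.card {C : ConjClasses G // ∃ g ∈ C.carrier, orderOf g = p} = t) (n : ℕ) (hn : Nat.card {H : Subgroup G // Nat.card H = p} = 1 + n * p) : ((∃ S : Subgroup G, S.Normal ∧ Nat.card S = 1 + n * p) ↔ (t = p - 1 ∨ (t < p - 1 ∧ derivedSeries G 2 ≠ derivedSeries G 1))) ∧ (t = p - 1 → Nat.card (commutator G) = 1 + n * p ∧ IsCyclic (G ⧸ commutator G) ∧ (commutator G).index = p) ∧ (t < p - 1 → derivedSeries G 2 ≠ derivedSeries G 1 → Nat.card (derivedSeries G 2) = 1 + n * p ∧ Nat.card (commutator G) = p * (1 + n * p)) := by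
  haveI : Fact p.Prime := ⟨hp⟩
  have hte := card_classes_mul hx hC
  rw [ht] at hte
  have hm := card_subgroups_eq_index hx hC
  rw [hn] at hm
  have hp1 : 1 ≤ p - 1 := by have := hp.two_le; omega
  have hndm : ¬ p ∣ 1 + n * p := by
    intro h
    have h2 : p ∣ n * p := Dvd.intro_left n rfl
    have h3 : p ∣ 1 := (Nat.dvd_add_left h2).mp h
    exact hp.one_lt.ne' (Nat.dvd_one.mp h3)
  have ht0 : t ≠ 0 := by
    rintro rfl
    rw [zero_mul] at hte
    omega
  have he1 : t = p - 1 → (Subgroup.zpowers x).relIndex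
      (Subgroup.normalizer (Subgroup.zpowers x : Set G)) = 1 := by
    intro h
    have h2 : t * (Subgroup.zpowers x).relIndex
      (Subgroup.normalizer (Subgroup.zpowers x : Set G)) = t * 1 := by rw [hte, mul_one, h]
    exact Nat.eq_of_mul_eq_mul_left (Nat.pos_of_ne_zero ht0) h2
  have he2 : t < p - 1 → (Subgroup.zpowers x).relIndex
      (Subgroup.normalizer (Subgroup.zpowers x : Set G)) ≠ 1 := by
    intro h h1
    rw [h1, mul_one] at hte
    omega
  refine ⟨⟨?_, ?_⟩, ?_, ?_⟩
  · rintro ⟨S, hSn, hScard⟩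
    by_cases he : (Subgroup.zpowers x).relIndex
        (Subgroup.normalizer (Subgroup.zpowers x : Set G)) = 1
    · left
      rw [he, mul_one] at hte
      exact hte
    · right
      have hlt : t < p - 1 := by
        have he0 : (Subgroup.zpowers x).relIndex
            (Subgroup.normalizer (Subgroup.zpowers x : Set G)) ≠ 0 := by
          intro h0
          rw [h0, mul_zero] at hte
          omega
        have h2 : 2 ≤ (Subgroup.zpowers x).relIndex
            (Subgroup.normalizer (Subgroup.zpowers x : Set G)) := by omega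
        have h3 : t * 2 ≤ p - 1 := by
          rw [← hte]
          exact Nat.mul_le_mul_left t h2
        omega
      refine ⟨hlt, ?_⟩
      exact claimB p x hx hC he S (by rw [hScard, hm]) (by rw [hScard]; exact hndm)
  · rintro (h | ⟨hlt, hD⟩)
    · refine ⟨commutator G, inferInstance, ?_⟩
      rw [(caseA p x hx hC (he1 h)).1, ← hm]
    · refine ⟨derivedSeries G 2, derivedSeries_normal G 2, ?_⟩
      rw [(claimA p x hx hC (he2 hlt) hD).1, ← hm]
  · intro h
    obtain ⟨h1, h2, h3⟩ := caseA p x hx hC (he1 h)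
    exact ⟨by rw [h1, ← hm], h2, h3⟩
  · intro hlt hD
    obtain ⟨h1, h2⟩ := claimA p x hx hC (he2 hlt) hD
    exact ⟨by rw [h1, ← hm], by rw [h2, ← hm]⟩

end Cfsg.Agent.S4509
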