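import Mathlib
import Cfsg.Statements.S4510
import Cfsg.Agent.Lib.helper3.DefectOrder3

set_option autoImplicit false
open Cfsg

namespace Cfsg.Agent.S4510

open Cfsg.Agent.Lib.helper3.Block Cfsg.Agent.Lib.helper3.LocalM
set_option linter.style.haveILetI false

/-- Let G be a finite group, p a prime, M a maximal ideal of the algebraic integers containing p, and call the defect of a conjugacy class the exponent of p in the order of the centralizer of its elements. Two irreducible characters lying in p-blocks of defect exactly d lie in the same block if and only if their central characters (class size times χ(x)/χ(1)) agree modulo the local ideal at M at every p-regular element x whose class has defect exactly d. -/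
theorem result {G : Type*} [Group G] [Finite G] (p : ℕ) [Fact p.Prime] (M : Ideal Cfsg.AlgInt) (hM : Cfsg.IsPModular p M) (d : ℕ) (χ ψ : Cfsg.IrrCharacter G) (hχ : Cfsg.blockDefect p (Cfsg.blockOf M (χ : G → ℂ)) = d) (hψ : Cfsg.blockDefect p (Cfsg.blockOf M (ψ : G → ℂ)) = d) : Cfsg.SameBlock M (χ : G → ℂ) (ψ : G → ℂ) ↔ ∀ x : G, ¬ p ∣ orderOf x → (Nat.card (Subgroup.centralizer ({x} : Set G))).factorization p = d → Cfsg.MemLocalIdeal M (Cfsg.centralChar (χ : G → ℂ) x - Cfsg.centralChar (ψ : G → ℂ) x) := by
  classical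
  letI : Fintype G := Fintype.ofFinite G
  haveI hMp := isPrime_of_isPModular hM
  have hMtop : M ≠ ⊤ := hM.2.1.ne_top
  constructor
  · intro h x _ _
    exact h x
  · intro h
    obtain ⟨B, hBdef⟩ : ∃ B : Set (Cfsg.IrrCharacter G), B = Cfsg.blockOf M (χ : G → ℂ) := ⟨_, rfl⟩
    have hB : Cfsg.IsPBlock M B := ⟨χ, hBdef⟩
    have hχB : χ ∈ B := by
      rw [hBdef]
      exact sameBlock_refl hMtop _
    have hBψ : Cfsg.IsPBlock M (Cfsg.blockOf M (ψ : G → ℂ)) := ⟨ψ, rfl⟩
    have hψBψ : ψ ∈ Cfsg.blockOf M (ψ : G → ℂ) := sameBlock_refl hMtop _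
    rw [← hBdef] at hχ
    have h1 := sum_classes_blockCoeff_mul_centralChar B χ
    have h2 := sum_classes_blockCoeff_mul_centralChar B ψ
    rw [if_pos hχB] at h1
    by_contra hne
    have hψB : ψ ∉ B := by
      intro hmem
      rw [hBdef] at hmem
      exact hne hmem
    rw [if_neg hψB] at h2
    have h3 : ∑ C : ConjClasses G, Cfsg.blockCoeff B (Quotient.out C)
        * (Cfsg.centralChar (χ : G → ℂ) (Quotient.out C)
          - Cfsg.centralChar (ψ : G → ℂ) (Quotient.out C)) = 1 := by
      simp_rw [mul_sub]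
      rw [Finset.sum_sub_distrib, h1, h2, sub_zero]
    apply not_memLocalIdeal_one (M := M)
    rw [← h3]
    apply memLocalIdeal_sum
    intro C _
    obtain ⟨x, hx⟩ : ∃ x : G, x = Quotient.out C := ⟨_, rfl⟩
    rw [← hx]
    have hloc := osima hM B hB x
    have hint : IsIntegral ℤ (Cfsg.centralChar (χ : G → ℂ) x - Cfsg.centralChar (ψ : G → ℂ) x) :=
      (isIntegral_centralChar χ.2 x).sub (isIntegral_centralChar ψ.2 x)
    rcases lt_trichotomy ((Nat.card (Subgroup.centralizer ({x} : Set G))).factorization p) d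
      with hlt | heq | hgt
    · have e1 := memLocalIdeal_centralChar_of_lt hM B hB χ hχB x (by rw [hχ]; exact hlt)
      have e2 := memLocalIdeal_centralChar_of_lt hM _ hBψ ψ hψBψ x (by rw [hψ]; exact hlt)
      exact memLocalIdeal_mul_localRing hloc (memLocalIdeal_sub e1 e2)
    · by_cases hxp : p ∣ orderOf x
      · rw [blockCoeff_eq_zero_of_dvd hM B hB x hxp, zero_mul]
        exact memLocalIdeal_zero hMtop
      · exact memLocalIdeal_mul_localRing hloc (h x hxp heq)
    · have e1 := memLocalIdeal_blockCoeff_of_lt hM B hB x (by rw [hχ]; exact hgt)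
      rw [mul_comm]
      exact memLocalIdeal_mul_integral e1 hint

end Cfsg.Agent.S4510
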