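import Mathlib
import Cfsg.Statements.S4518
import Cfsg.Agent.Lib.helper3.GalPow2

set_option autoImplicit false
open Cfsg

namespace Cfsg.Agent.S4518

open Cfsg.Agent.Lib.helper3.Irr Cfsg.Agent.Lib.helper3.GalPow Cfsg.Agent.Lib.helper3.PRes

/-- Let N be a normal subgroup of the finite group G whose index is not divisible by the prime p, and let k be coprime to the order of G with k ^ (p ^ e) ≡ 1 modulo the order of G for some e (so g ↦ g ^ k induces a field automorphism of p-power order on character values). If an irreducible character χ of G satisfies χ (g ^ k) = χ g for all g, then every irreducible constituent θ of the restriction of χ to N satisfies θ (n ^ k) = θ n for all n. -/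
theorem result {G : Type*} [Group G] [Fintype G] (p : ℕ) [Fact p.Prime] (N : Subgroup G) [N.Normal] [Fintype N] (hidx : ¬ p ∣ N.index) (k e : ℕ) (hk : Nat.Coprime k (Nat.card G)) (hke : k ^ (p ^ e) ≡ 1 [MOD Nat.card G]) (χ : Cfsg.IrrCharacter G) (hχ : ∀ g : G, (χ : G → ℂ) (g ^ k) = (χ : G → ℂ) g) (θ : Cfsg.IrrCharacter N) (hθ : Cfsg.classInner (fun n : N => (χ : G → ℂ) n) (θ : N → ℂ) ≠ 0) : ∀ n : N, (θ : N → ℂ) (n ^ k) = (θ : N → ℂ) n := by
  classical
  have hNn : N.Normal := inferInstance
  have hkN : k.Coprime (Nat.card N) :=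
    Nat.Coprime.coprime_dvd_right (Subgroup.card_subgroup_dvd_card N) hk
  have hcf := isClassFunction_of_isCharacter (isCharacter_of_isIrrCharacter χ.2)
  letI := conjAction N
  set P : Cfsg.IrrCharacter N → Prop :=
    fun φ => Cfsg.classInner (fun n : N => (χ : G → ℂ) n) (φ : N → ℂ) ≠ 0 with hP
  have hτP : ∀ φ, P φ → P (powIrr k hkN φ) := by
    intro φ hφ
    show Cfsg.classInner (fun n : N => (χ : G → ℂ) n) (fun n : N => (φ : N → ℂ) (n ^ k)) ≠ 0
    have h1 : (fun n : N => (χ : G → ℂ) n)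
        = fun n : N => (fun m : N => (χ : G → ℂ) m) (n ^ k) := by
      funext n
      simp only [Subgroup.coe_pow]
      exact (hχ n).symm
    rw [h1]
    have h2 := classInner_pow_pow (fun m : N => (χ : G → ℂ) m) (φ : N → ℂ) k hkN
    rw [h2]
    exact hφ
  set f : Function.End {φ // P φ} := fun x => ⟨powIrr k hkN x.1, hτP x.1 x.2⟩ with hfdef
  have hf : f ^ p ^ e = 1 := by
    funext x
    rw [end_pow_apply]
    have hiter : ∀ j : ℕ, ((f^[j] x : {φ // P φ}) : Cfsg.IrrCharacter N)
        = (powIrr k hkN)^[j] x.1 := by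
      intro j
      induction j with
      | zero => rfl
      | succ j ih =>
        rw [Function.iterate_succ_apply', Function.iterate_succ_apply', ← ih]
    apply Subtype.ext
    apply Subtype.ext
    funext n
    rw [hiter, powIrr_iterate]
    show (x.1 : N → ℂ) (n ^ k ^ p ^ e) = (x.1 : N → ℂ) n
    congr 1
    have h1 : orderOf n ∣ Nat.card G :=
      dvd_trans (orderOf_dvd_natCard n) (Subgroup.card_subgroup_dvd_card N)
    have h2 : k ^ p ^ e ≡ 1 [MOD orderOf n] := hke.of_dvd h1
    rw [← pow_eq_pow_iff_modEq] at h2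
    rw [h2, pow_one]
  have hmod := Equiv.Perm.card_fixedPoints_modEq (f := f) (p := p) (n := e) hf
  have hcard : Fintype.card {φ // P φ} ∣ N.index := by
    have h1 := conjAction_card_orbit_dvd N θ
    have h2 : Nat.card (MulAction.orbit G θ) = Fintype.card {φ // P φ} := by
      rw [← Nat.card_eq_fintype_card]
      apply Nat.card_congr
      apply Equiv.subtypeEquivRight
      intro φ
      constructor
      · rintro ⟨g, rfl⟩
        show Cfsg.classInner _ ((g • θ : Cfsg.IrrCharacter N) : N → ℂ) ≠ 0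
        have h3 : ((g • θ : Cfsg.IrrCharacter N) : N → ℂ) = conjFun N (θ : N → ℂ) g⁻¹ := by
          rw [conjFun_eq_comp]
          rfl
        rw [h3, classInner_restrict_conjFun N (χ : G → ℂ) hcf (θ : N → ℂ) g⁻¹]
        exact hθ
      · intro hφ
        obtain ⟨g, hg⟩ := exists_conj_of_constituents N (χ : G → ℂ) χ.2 θ φ hθ hφ
        refine ⟨g⁻¹, ?_⟩
        apply Subtype.ext
        show ((g⁻¹ • θ : Cfsg.IrrCharacter N) : N → ℂ) = (φ : N → ℂ)
        rw [hg, conjFun_eq_comp]
        funext n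
        show (θ : N → ℂ) (MulAut.conjNormal (g⁻¹)⁻¹ n) = _
        rw [inv_inv]
    rw [h2] at h1
    exact h1
  have hpcard : ¬ p ∣ Fintype.card {φ // P φ} := fun h => hidx (dvd_trans h hcard)
  have hfix : ∃ x : {φ // P φ}, f x = x := by
    by_contra hne
    push Not at hne
    have h0 : Fintype.card (Function.fixedPoints f) = 0 := by
      rw [Fintype.card_eq_zero_iff]
      exact ⟨fun x => hne x.1 x.2⟩
    rw [h0] at hmod
    exact hpcard ((Nat.modEq_zero_iff_dvd).mp hmod)
  obtain ⟨⟨θ₀, hθ₀P⟩, hθ₀⟩ := hfix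
  have hθ₀fix : ∀ n : N, (θ₀ : N → ℂ) (n ^ k) = (θ₀ : N → ℂ) n := by
    intro n
    have h1 := congrArg (fun x : {φ // P φ} => ((x : Cfsg.IrrCharacter N) : N → ℂ) n) hθ₀
    exact h1
  obtain ⟨g, hg⟩ := exists_conj_of_constituents N (χ : G → ℂ) χ.2 θ₀ θ hθ₀P hθ
  intro n
  rw [hg]
  unfold conjFun
  have h1 := hθ₀fix ⟨g * n * g⁻¹, hNn.conj_mem n n.2 g⟩
  rw [← h1]
  apply congrArg (θ₀ : N → ℂ)
  apply Subtype.ext
  simp [conj_pow]

end Cfsg.Agent.S4518
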