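import Mathlib
import Cfsg.Statements.S4521
import Cfsg.Agent.Lib.helper3.CentralProd

set_option autoImplicit false
open Cfsg

namespace Cfsg.Agent.S4521

set_option linter.style.haveILetI false

open Cfsg Cfsg.Agent.Lib.helper3.Block Cfsg.Agent.Lib.helper3.LocalM Cfsg.Agent.Lib.helper3.Irr Cfsg.Agent.Lib.helper3.CharBasic Cfsg.Agent.Lib.helper3.CExt

/-- Let the finite group G be generated by subgroups U₁ and U₂ that commute elementwise and whose intersection is a p-group, and let M be a maximal ideal of the algebraic integers containing the prime p. If the irreducible character χ of G has the irreducible constituents ψ₁ on U₁ and ψ₂ on U₂, then χ lies in the principal block of G if and only if ψ₁ and ψ₂ lie in the principal blocks of U₁ and U₂. -/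
theorem result {G : Type*} [Group G] [Fintype G] (p : ℕ) [Fact p.Prime] (M : Ideal Cfsg.AlgInt) (hM : Cfsg.IsPModular p M) (U₁ U₂ : Subgroup G) [Fintype U₁] [Fintype U₂] (hcomm : ∀ u ∈ U₁, ∀ v ∈ U₂, u * v = v * u) (hgen : U₁ ⊔ U₂ = ⊤) (hZ : IsPGroup p ↥(U₁ ⊓ U₂)) (χ : Cfsg.IrrCharacter G) (ψ₁ : Cfsg.IrrCharacter U₁) (ψ₂ : Cfsg.IrrCharacter U₂) (h₁ : Cfsg.classInner (fun u : U₁ => (χ : G → ℂ) u) (ψ₁ : U₁ → ℂ) ≠ 0) (h₂ : Cfsg.classInner (fun u : U₂ => (χ : G → ℂ) u) (ψ₂ : U₂ → ℂ) ≠ 0) : χ ∈ Cfsg.principalBlock M G ↔ (ψ₁ ∈ Cfsg.principalBlock M U₁ ∧ ψ₂ ∈ Cfsg.principalBlock M U₂) := by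
  classical
  haveI hMp := Cfsg.Agent.Lib.helper3.LocalM.isPrime_of_isPModular hM
  have hMtop : M ≠ ⊤ := hM.2.1.ne_top
  -- the multiplication homomorphism
  obtain ⟨f, hfapp⟩ : ∃ f : U₁ × U₂ →* G, ∀ x : U₁ × U₂, f x = (x.1 : G) * (x.2 : G) :=
    ⟨MonoidHom.noncommCoprod U₁.subtype U₂.subtype (fun u v => hcomm u u.2 v v.2),
      fun x => rfl⟩
  have hsurj : Function.Surjective f := by
    intro g
    have h1 : U₁ ≤ f.range := fun u hu => ⟨(⟨u, hu⟩, 1), by rw [hfapp]; simp⟩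
    have h2 : U₂ ≤ f.range := fun v hv => ⟨(1, ⟨v, hv⟩), by rw [hfapp]; simp⟩
    have h3 := sup_le h1 h2
    rw [hgen] at h3
    exact h3 (Subgroup.mem_top g)
  have hirr := isIrrCharacter_comp_surjective f hsurj χ.2
  obtain ⟨φ₁, φ₂, hφ₁, hφ₂, hprod⟩ := exists_of_isIrrCharacter_prod hirr
  have hχ : ∀ (u : U₁) (v : U₂), (χ : G → ℂ) ((u : G) * (v : G)) = φ₁ u * φ₂ v := by
    intro u v
    have := congrFun hprod (u, v)
    rw [hfapp] at this
    exact this
  -- identify the constituents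
  have e1 : (ψ₁ : U₁ → ℂ) = φ₁ := by
    by_contra hne
    apply h₁
    have hres : (fun u : U₁ => (χ : G → ℂ) u) = φ₂ 1 • φ₁ := by
      funext u
      have := hχ u 1
      rw [OneMemClass.coe_one, mul_one] at this
      rw [this, Pi.smul_apply, smul_eq_mul, mul_comm]
    rw [hres, classInner_smul_left, irr_classInner_eq_zero hφ₁ ψ₁.2 (fun h => hne h.symm),
      mul_zero]
  have e2 : (ψ₂ : U₂ → ℂ) = φ₂ := by
    by_contra hne
    apply h₂
    have hres : (fun u : U₂ => (χ : G → ℂ) u) = φ₁ 1 • φ₂ := by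
      funext u
      have := hχ 1 u
      rw [OneMemClass.coe_one, one_mul] at this
      rw [this, Pi.smul_apply, smul_eq_mul]
    rw [hres, classInner_smul_left, irr_classInner_eq_zero hφ₂ ψ₂.2 (fun h => hne h.symm),
      mul_zero]
  -- kernel facts
  have hkerZ : ∀ z ∈ f.ker, (z.1 : G) ∈ U₁ ⊓ U₂ := by
    intro z hz
    rw [MonoidHom.mem_ker, hfapp] at hz
    refine ⟨z.1.2, ?_⟩
    have : (z.1 : G) = (z.2 : G)⁻¹ := eq_inv_of_mul_eq_one_left hz
    show (z.1 : G) ∈ U₂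
    rw [this]
    exact U₂.inv_mem z.2.2
  have hkerZ2 : ∀ z ∈ f.ker, (z.2 : G) = (z.1 : G)⁻¹ := by
    intro z hz
    rw [MonoidHom.mem_ker, hfapp] at hz
    exact eq_inv_of_mul_eq_one_right hz
  have hker : ∀ z ∈ f.ker, ∃ k : ℕ, z ^ (p ^ k) = 1 := by
    intro z hz
    obtain ⟨k, hk⟩ := hZ ⟨(z.1 : G), hkerZ z hz⟩
    have hk' : (z.1 : G) ^ (p ^ k) = 1 := by
      have := congrArg (fun t : ↥(U₁ ⊓ U₂) => (t : G)) hk
      simpa using this
    refine ⟨k, ?_⟩
    apply Prod.ext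
    · apply Subtype.ext
      simpa using hk'
    · apply Subtype.ext
      have : ((z ^ (p ^ k)).2 : G) = (z.2 : G) ^ (p ^ k) := by simp
      rw [this, hkerZ2 z hz, inv_pow, hk', inv_one]
      rfl
  have hcent : f.ker ≤ Subgroup.center (U₁ × U₂) := by
    intro z hz
    rw [Subgroup.mem_center_iff]
    intro w
    have hz1 := hkerZ z hz
    have hz2 : (z.2 : G) ∈ U₁ := by
      rw [hkerZ2 z hz]
      exact U₁.inv_mem z.1.2
    apply Prod.ext
    · apply Subtype.ext
      show (w.1 : G) * (z.1 : G) = (z.1 : G) * (w.1 : G)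
      exact hcomm _ w.1.2 _ hz1.2
    · apply Subtype.ext
      show (w.2 : G) * (z.2 : G) = (z.2 : G) * (w.2 : G)
      exact (hcomm _ hz2 _ w.2.2).symm
  -- the regOmega identity
  have hreg : regOmega p (χ : G → ℂ)
      = regOmega p (ψ₁ : U₁ → ℂ) * regOmega p (ψ₂ : U₂ → ℂ) := by
    rw [← regOmega_comp_of_central f hsurj hker hcent (χ : G → ℂ), hprod, regOmega_prod, e1, e2]
  constructor
  · intro hχB
    have hne := not_memLocalIdeal_regOmega hM χ hχB
    rw [hreg] at hne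
    constructor
    · by_contra h
      apply hne
      rw [regOmega_eq_zero hM ψ₁ h, zero_mul]
      exact memLocalIdeal_zero hMtop
    · by_contra h
      apply hne
      rw [regOmega_eq_zero hM ψ₂ h, mul_zero]
      exact memLocalIdeal_zero hMtop
  · rintro ⟨hB1, hB2⟩
    apply mem_principalBlock_of_regOmega hM χ
    rw [hreg]
    intro h
    rcases memLocalIdeal_or_of_mul_local (memLocalRing_regOmega hM ψ₁ hB1)
      (memLocalRing_regOmega hM ψ₂ hB2) h with h' | h'
    · exact not_memLocalIdeal_regOmega hM ψ₁ hB1 h'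
    · exact not_memLocalIdeal_regOmega hM ψ₂ hB2 h'


end Cfsg.Agent.S4521
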