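import Mathlib
import Cfsg.Statements.S4550
import Cfsg.Agent.Lib.helper3.GalFix3
import Cfsg.Agent.Lib.helper3.GalFix4

set_option autoImplicit false
open Cfsg

namespace Cfsg.Agent.S4550

open Cfsg.Agent.Lib.helper3.GalFix Cfsg.Agent.Lib.helper3.GalPow

set_option linter.style.haveILetI false

/-- Let G be a finite group of even order and M a maximal ideal of the algebraic integers containing 2. Let k be a natural number with g ^ k = g ^ 3 for every 2-element g and g ^ k = g for every element g of odd order (such k exist); an irreducible character χ is unchanged by g ↦ g ^ k exactly when it is fixed by the field automorphism that cubes the 2-power roots of unity and fixes the roots of unity of odd order. Then the number of members χ of the principal 2-block of odd degree with χ (g ^ k) = χ g for all g is even. -/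
theorem result {G : Type*} [Group G] [Finite G] (M : Ideal Cfsg.AlgInt) (hM : Cfsg.IsPModular 2 M) (hev : Even (Nat.card G)) (k : ℕ) (hk₁ : ∀ g : G, (∃ j : ℕ, orderOf g = 2 ^ j) → g ^ k = g ^ 3) (hk₂ : ∀ g : G, Odd (orderOf g) → g ^ k = g) : Even (Nat.card {χ : Cfsg.IrrCharacter G // χ ∈ Cfsg.principalBlock M G ∧ Odd (Cfsg.charDegree (χ : G → ℂ)) ∧ ∀ g : G, (χ : G → ℂ) (g ^ k) = (χ : G → ℂ) g}) := by
  classical
  letI : Fintype G := Fintype.ofFinite G
  haveI : Fact (Nat.Prime 2) := ⟨Nat.prime_two⟩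
  obtain ⟨k', hk'cop, hpow, hk'1, hk'2⟩ := exists_coprime_pow_eq (G := G) 2 Nat.prime_two k 3
    (by norm_num) hk₁ (fun g hg => hk₂ g (Nat.Coprime.odd_of_right hg))
  obtain ⟨a, ha⟩ : ∃ a : ℕ, a = (Nat.card G).factorization 2 := ⟨_, rfl⟩
  rw [← ha] at hk'1
  have hk'N : k' ^ (2 ^ a) ≡ 1 [MOD Nat.card G] := by
    rw [ha]
    exact pow_two_pow_modEq_one (Nat.card G) k' (by rw [← ha]; exact hk'1) hk'2
  have hgN : ∀ g : G, g ^ (k' ^ (2 ^ a)) = g := by
    intro g
    have h1 : k' ^ (2 ^ a) ≡ 1 [MOD orderOf g] := hk'N.of_dvd (orderOf_dvd_natCard g)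
    have := (pow_eq_pow_iff_modEq (x := g)).2 h1
    rw [this, pow_one]
  obtain ⟨X, hX⟩ : ∃ X : Type _, X = {χ : Cfsg.IrrCharacter G //
      χ ∈ Cfsg.principalBlock M G ∧ Odd (Cfsg.charDegree (χ : G → ℂ))} := ⟨_, rfl⟩
  subst hX
  let f : {χ : Cfsg.IrrCharacter G //
      χ ∈ Cfsg.principalBlock M G ∧ Odd (Cfsg.charDegree (χ : G → ℂ))} →
      {χ : Cfsg.IrrCharacter G //
      χ ∈ Cfsg.principalBlock M G ∧ Odd (Cfsg.charDegree (χ : G → ℂ))} :=
    fun x => ⟨powIrr k' hk'cop x.1, powIrr_mem_principalBlock k' hk'cop x.1 x.2.1,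
      by rw [powIrr_charDegree]; exact x.2.2⟩
  have hfit : ∀ (j : ℕ) (x : {χ : Cfsg.IrrCharacter G //
      χ ∈ Cfsg.principalBlock M G ∧ Odd (Cfsg.charDegree (χ : G → ℂ))}),
      ((f^[j] x).1 : Cfsg.IrrCharacter G) = (powIrr k' hk'cop)^[j] x.1 := by
    intro j
    induction j with
    | zero => intro x; rfl
    | succ j ih =>
      intro x
      rw [Function.iterate_succ_apply, Function.iterate_succ_apply, ih (f x)]
  have hf : ∀ x, f^[2 ^ a] x = x := by
    intro x
    apply Subtype.ext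
    rw [hfit]
    apply Subtype.ext
    funext g
    rw [powIrr_iterate, hgN]
  have hmod := card_fixed_modEq_of_iterate 2 f a hf
  have hXeven : Even (Nat.card {χ : Cfsg.IrrCharacter G //
      χ ∈ Cfsg.principalBlock M G ∧ Odd (Cfsg.charDegree (χ : G → ℂ))}) := by
    rw [Nat.card_eq_fintype_card, Fintype.card_subtype]
    exact even_card_odd_degree_principal hM hev
  have hfixeven : Even (Nat.card {x : {χ : Cfsg.IrrCharacter G //
      χ ∈ Cfsg.principalBlock M G ∧ Odd (Cfsg.charDegree (χ : G → ℂ))} // f x = x}) := by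
    rw [Nat.even_iff] at hXeven ⊢
    rw [← hmod]
    exact hXeven
  have hfx : ∀ x : {χ : Cfsg.IrrCharacter G //
      χ ∈ Cfsg.principalBlock M G ∧ Odd (Cfsg.charDegree (χ : G → ℂ))},
      f x = x ↔ ∀ g : G, (x.1 : G → ℂ) (g ^ k) = (x.1 : G → ℂ) g := by
    intro x
    constructor
    · intro h g
      have h1 := congrArg (fun y : {χ : Cfsg.IrrCharacter G //
        χ ∈ Cfsg.principalBlock M G ∧ Odd (Cfsg.charDegree (χ : G → ℂ))} =>
          ((y.1 : Cfsg.IrrCharacter G) : G → ℂ) g) h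
      rw [hpow g]
      exact h1
    · intro h
      apply Subtype.ext
      apply Subtype.ext
      funext g
      show (x.1 : G → ℂ) (g ^ k') = (x.1 : G → ℂ) g
      rw [← hpow g]
      exact h g
  have hequiv : Nat.card {χ : Cfsg.IrrCharacter G // χ ∈ Cfsg.principalBlock M G ∧
      Odd (Cfsg.charDegree (χ : G → ℂ)) ∧ ∀ g : G, (χ : G → ℂ) (g ^ k) = (χ : G → ℂ) g}
      = Nat.card {x : {χ : Cfsg.IrrCharacter G //
      χ ∈ Cfsg.principalBlock M G ∧ Odd (Cfsg.charDegree (χ : G → ℂ))} // f x = x} := by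
    apply Nat.card_congr
    exact
      { toFun := fun t => ⟨⟨t.1, t.2.1, t.2.2.1⟩, (hfx _).2 t.2.2.2⟩
        invFun := fun y => ⟨y.1.1, y.1.2.1, y.1.2.2, (hfx y.1).1 y.2⟩
        left_inv := fun t => rfl
        right_inv := fun y => rfl }
  rw [hequiv]
  exact hfixeven

end Cfsg.Agent.S4550
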