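import Mathlib
import Cfsg.Statements.S4558
import Cfsg.Agent.Lib.helper3.AlgInt2

set_option autoImplicit false
open Cfsg

namespace Cfsg.Agent.S4558

/-- Let χ be a character of the finite group G and g an element of p-power order for the prime p. If χ g = 0, then p divides the degree of χ. -/
theorem result {G : Type*} [Group G] [Finite G] (p : ℕ) [Fact p.Prime] (χ : G → ℂ) (hχ : Cfsg.IsCharacter G χ) (g : G) (hg : ∃ j : ℕ, orderOf g = p ^ j) (h0 : χ g = 0) : p ∣ Cfsg.charDegree χ := by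
  obtain ⟨n, ρ, rfl⟩ := hχ
  obtain ⟨j, hj⟩ := hg
  have hp : p.Prime := Fact.out
  have hdeg : Cfsg.charDegree ρ.character = Module.finrank ℂ (Fin n → ℂ) := by
    unfold Cfsg.charDegree
    rw [Representation.char_one]
    simp
  rw [hdeg]
  rcases Nat.eq_zero_or_pos j with hj0 | hjpos
  · rw [hj0, pow_zero, orderOf_eq_one_iff] at hj
    rw [hj, Representation.char_one] at h0
    have : Module.finrank ℂ (Fin n → ℂ) = 0 := by exact_mod_cast h0
    rw [this]
    exact dvd_zero p
  · obtain ⟨j', rfl⟩ : ∃ j', j = j' + 1 := ⟨j - 1, by omega⟩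
    have hN : 0 < p ^ (j' + 1) := pow_pos hp.pos _
    have hζ : IsPrimitiveRoot (Complex.exp (2 * Real.pi * Complex.I / (p ^ (j' + 1) : ℕ)))
        (p ^ (j' + 1)) := Complex.isPrimitiveRoot_exp _ hN.ne'
    obtain ⟨ω, hω, hω2⟩ := Cfsg.Agent.Lib.helper3.AlgInt.character_one_sub_character ρ g
      (p ^ (j' + 1)) hN (by rw [← hj]; exact pow_orderOf_eq_one g) hζ
    rw [h0, sub_zero] at hω2
    have := Cfsg.Agent.Lib.helper3.AlgInt.prime_dvd_of_eq_one_sub_mul_pow hp j' hζ
      (Module.finrank ℂ (Fin n → ℂ) : ℤ) ω hω (by rw [Int.cast_natCast]; exact hω2)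
    exact_mod_cast this

end Cfsg.Agent.S4558
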