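import Cfsg.Statements.S4560
import Cfsg.Agent.Lib.Helper4.AltCh8
import Cfsg.Agent.Lib.Helper4.AltCh9

set_option autoImplicit false
set_option linter.style.haveILetI false
set_option linter.unusedSectionVars false
set_option maxHeartbeats 1000000
open Cfsg

namespace Cfsg.Agent.S4560

open Cfsg.Agent.Lib.Helper4.AltCh MulAction

theorem fixC_coe {n : ℕ} (x : alternatingGroup (Fin n)) :
    fixC (H := alternatingGroup (Fin n)) (Ω := Fin n) x
      = fixC (H := Equiv.Perm (Fin n)) (Ω := Fin n) (x : Equiv.Perm (Fin n)) := rfl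

theorem twoC_coe {n : ℕ} (x : alternatingGroup (Fin n)) :
    twoC (H := alternatingGroup (Fin n)) (Ω := Fin n) x
      = twoC (H := Equiv.Perm (Fin n)) (Ω := Fin n) (x : Equiv.Perm (Fin n)) := rfl

theorem inst_perm (n : ℕ) : IsMultiplyPretransitive (Equiv.Perm (Fin n)) (Fin n) 4 :=
  Equiv.Perm.isMultiplyPretransitive (Fin n) 4

theorem inst_alt (n : ℕ) (hn : 7 ≤ n) :
    IsMultiplyPretransitive (alternatingGroup (Fin n)) (Fin n) 4 := by
  haveI := alternatingGroup.isMultiplyPretransitive (Fin n)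
  have hc : Nat.card (Fin n) = n := by rw [Nat.card_eq_fintype_card, Fintype.card_fin]
  exact isMultiplyPretransitive_of_le (n := Nat.card (Fin n) - 2) (by rw [hc]; omega)
    (Nat.sub_le _ _)

theorem glue1 (n : ℕ) (hn : 7 ≤ n) (P : alternatingGroup (Fin n) → Prop)
    (x : alternatingGroup (Fin n)) (hx : P x)
    (hzero : phi1 (H := alternatingGroup (Fin n)) (Fin n) x = 0) :
    ∃ χ : Cfsg.IrrCharacter (alternatingGroup (Fin n)),
      (∃ x : alternatingGroup (Fin n), P x ∧ (χ : alternatingGroup (Fin n) → ℂ) x = 0) ∧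
      ∃ ψ : Cfsg.IrrCharacter (Equiv.Perm (Fin n)), ∀ x : alternatingGroup (Fin n),
        (ψ : Equiv.Perm (Fin n) → ℂ) x = (χ : alternatingGroup (Fin n) → ℂ) x := by
  haveI := inst_perm n
  haveI := inst_alt n hn
  have hΩ : 4 ≤ Fintype.card (Fin n) := by rw [Fintype.card_fin]; omega
  obtain ⟨χ, hχ⟩ := exists_irr_phi1 (H := alternatingGroup (Fin n)) (Fin n) hΩ
  obtain ⟨ψ, hψ⟩ := exists_irr_phi1 (H := Equiv.Perm (Fin n)) (Fin n) hΩ
  refine ⟨χ, ⟨x, hx, ?_⟩, ψ, ?_⟩
  · rw [hχ, hzero]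
  · intro y
    rw [hχ, hψ]
    rfl

theorem glue2 (n : ℕ) (hn : 7 ≤ n) (P : alternatingGroup (Fin n) → Prop)
    (x : alternatingGroup (Fin n)) (hx : P x)
    (hzero : phi2 (H := alternatingGroup (Fin n)) (Fin n) x = 0) :
    ∃ χ : Cfsg.IrrCharacter (alternatingGroup (Fin n)),
      (∃ x : alternatingGroup (Fin n), P x ∧ (χ : alternatingGroup (Fin n) → ℂ) x = 0) ∧
      ∃ ψ : Cfsg.IrrCharacter (Equiv.Perm (Fin n)), ∀ x : alternatingGroup (Fin n),
        (ψ : Equiv.Perm (Fin n) → ℂ) x = (χ : alternatingGroup (Fin n) → ℂ) x := by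
  haveI := inst_perm n
  haveI := inst_alt n hn
  have hΩ : 4 ≤ Fintype.card (Fin n) := by rw [Fintype.card_fin]; omega
  obtain ⟨χ, hχ⟩ := exists_irr_phi2 (H := alternatingGroup (Fin n)) (Fin n) hΩ
  obtain ⟨ψ, hψ⟩ := exists_irr_phi2 (H := Equiv.Perm (Fin n)) (Fin n) hΩ
  refine ⟨χ, ⟨x, hx, ?_⟩, ψ, ?_⟩
  · rw [hχ, hzero]
  · intro y
    rw [hχ, hψ]
    rfl

theorem glue3 (n : ℕ) (hn : 7 ≤ n) (P : alternatingGroup (Fin n) → Prop)
    (x : alternatingGroup (Fin n)) (hx : P x)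
    (hzero : phi3 (H := alternatingGroup (Fin n)) (Fin n) x = 0) :
    ∃ χ : Cfsg.IrrCharacter (alternatingGroup (Fin n)),
      (∃ x : alternatingGroup (Fin n), P x ∧ (χ : alternatingGroup (Fin n) → ℂ) x = 0) ∧
      ∃ ψ : Cfsg.IrrCharacter (Equiv.Perm (Fin n)), ∀ x : alternatingGroup (Fin n),
        (ψ : Equiv.Perm (Fin n) → ℂ) x = (χ : alternatingGroup (Fin n) → ℂ) x := by
  haveI := inst_perm n
  haveI := inst_alt n hn
  have hΩ : 4 ≤ Fintype.card (Fin n) := by rw [Fintype.card_fin]; omega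
  obtain ⟨χ, hχ⟩ := exists_irr_phi3 (H := alternatingGroup (Fin n)) (Fin n) hΩ
  obtain ⟨ψ, hψ⟩ := exists_irr_phi3 (H := Equiv.Perm (Fin n)) (Fin n) hΩ
  refine ⟨χ, ⟨x, hx, ?_⟩, ψ, ?_⟩
  · rw [hχ, hzero]
  · intro y
    rw [hχ, hψ]
    rfl

theorem phi1_zero {n : ℕ} (x : alternatingGroup (Fin n))
    (hf : fixC (H := Equiv.Perm (Fin n)) (Ω := Fin n) (x : Equiv.Perm (Fin n)) = 1) :
    phi1 (H := alternatingGroup (Fin n)) (Fin n) x = 0 := by
  unfold phi1
  rw [fixC_coe, hf]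
  simp

theorem phi2_zero {n : ℕ} (x : alternatingGroup (Fin n))
    (hf : fixC (H := Equiv.Perm (Fin n)) (Ω := Fin n) (x : Equiv.Perm (Fin n)) = 0)
    (ht : twoC (H := Equiv.Perm (Fin n)) (Ω := Fin n) (x : Equiv.Perm (Fin n)) = 0) :
    phi2 (H := alternatingGroup (Fin n)) (Fin n) x = 0 := by
  unfold phi2
  rw [fixC_coe, twoC_coe, hf, ht]
  simp

theorem phi3_zero {n : ℕ} (x : alternatingGroup (Fin n))
    (hf : fixC (H := Equiv.Perm (Fin n)) (Ω := Fin n) (x : Equiv.Perm (Fin n)) = 2)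
    (ht : twoC (H := Equiv.Perm (Fin n)) (Ω := Fin n) (x : Equiv.Perm (Fin n)) = 0) :
    phi3 (H := alternatingGroup (Fin n)) (Fin n) x = 0 := by
  unfold phi3
  rw [fixC_coe, twoC_coe, hf, ht]
  have : (2 : ℕ).descFactorial 2 = 2 := rfl
  rw [this]
  norm_num

/-- For n ≥ 7 the alternating group on n letters has an irreducible character that vanishes at some 2-element and is the restriction of an irreducible character of the symmetric group, and an irreducible character that vanishes at some element of order 3 and is the restriction of an irreducible character of the symmetric group. -/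
theorem result (n : ℕ) (hn : 7 ≤ n) : (∃ χ : Cfsg.IrrCharacter (alternatingGroup (Fin n)), (∃ x : alternatingGroup (Fin n), (∃ j : ℕ, orderOf x = 2 ^ j) ∧ (χ : alternatingGroup (Fin n) → ℂ) x = 0) ∧ ∃ ψ : Cfsg.IrrCharacter (Equiv.Perm (Fin n)), ∀ x : alternatingGroup (Fin n), (ψ : Equiv.Perm (Fin n) → ℂ) x = (χ : alternatingGroup (Fin n) → ℂ) x) ∧ (∃ χ : Cfsg.IrrCharacter (alternatingGroup (Fin n)), (∃ y : alternatingGroup (Fin n), orderOf y = 3 ∧ (χ : alternatingGroup (Fin n) → ℂ) y = 0) ∧ ∃ ψ : Cfsg.IrrCharacter (Equiv.Perm (Fin n)), ∀ x : alternatingGroup (Fin n), (ψ : Equiv.Perm (Fin n) → ℂ) x = (χ : alternatingGroup (Fin n) → ℂ) x) := by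
  constructor
  · -- the `2`-element
    have hcases : n % 2 = 1 ∨ n % 4 = 0 ∨ n % 4 = 2 := by omega
    rcases hcases with h1 | h0 | h2
    · obtain ⟨σ, hσA, hord, hsum, -⟩ := exists_perm_of_mset (n := n) 2 ((n - 1) / 2) (Or.inl rfl)
        (by omega) (by omega)
      have hf : fixC (H := Equiv.Perm (Fin n)) (Ω := Fin n) σ = 1 := by
        rw [fixC_perm, hsum]; omega
      apply glue1 n hn (fun x => ∃ j : ℕ, orderOf x = 2 ^ j) ⟨σ, hσA⟩
      · rw [Subgroup.orderOf_mk]; exact hord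
      · exact phi1_zero _ hf
    · obtain ⟨σ, hσA, hord, hsum, h2⟩ := exists_perm_of_mset (n := n) 4 (n / 4) (Or.inr rfl)
        (by omega) (by omega)
      have hf : fixC (H := Equiv.Perm (Fin n)) (Ω := Fin n) σ = 0 := by
        rw [fixC_perm, hsum]; omega
      have ht := twoC_perm_eq_zero σ (h2 rfl)
      apply glue2 n hn (fun x => ∃ j : ℕ, orderOf x = 2 ^ j) ⟨σ, hσA⟩
      · rw [Subgroup.orderOf_mk]; exact hord
      · exact phi2_zero _ hf ht
    · obtain ⟨σ, hσA, hord, hsum, h2⟩ := exists_perm_of_mset (n := n) 4 ((n - 2) / 4)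
        (Or.inr rfl) (by omega) (by omega)
      have hf : fixC (H := Equiv.Perm (Fin n)) (Ω := Fin n) σ = 2 := by
        rw [fixC_perm, hsum]; omega
      have ht := twoC_perm_eq_zero σ (h2 rfl)
      apply glue3 n hn (fun x => ∃ j : ℕ, orderOf x = 2 ^ j) ⟨σ, hσA⟩
      · rw [Subgroup.orderOf_mk]; exact hord
      · exact phi3_zero _ hf ht
  · -- the element of order three
    obtain ⟨σ, hσA, hord, hsum⟩ := exists_perm_three (n := n) (by omega)
    have ht : twoC (H := Equiv.Perm (Fin n)) (Ω := Fin n) σ = 0 := by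
      apply twoC_eq_zero_of_pow_three
      rw [← hord]
      exact pow_orderOf_eq_one σ
    have hf : fixC (H := Equiv.Perm (Fin n)) (Ω := Fin n) σ = n % 3 := by
      rw [fixC_perm, hsum]; omega
    have hcases : n % 3 = 1 ∨ n % 3 = 0 ∨ n % 3 = 2 := by omega
    rcases hcases with h1 | h0 | h2
    · apply glue1 n hn (fun x => orderOf x = 3) ⟨σ, hσA⟩
      · rw [Subgroup.orderOf_mk]; exact hord
      · exact phi1_zero _ (hf.trans h1)
    · apply glue2 n hn (fun x => orderOf x = 3) ⟨σ, hσA⟩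
      · rw [Subgroup.orderOf_mk]; exact hord
      · exact phi2_zero _ (hf.trans h0) ht
    · apply glue3 n hn (fun x => orderOf x = 3) ⟨σ, hσA⟩
      · rw [Subgroup.orderOf_mk]; exact hord
      · exact phi3_zero _ (hf.trans h2) ht

end Cfsg.Agent.S4560
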