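import Mathlib
import Cfsg.Statements.S4566
import Cfsg.Agent.Lib.helper3.CentralChar

set_option autoImplicit false
open Cfsg

namespace Cfsg.Agent.S4566

/-- Let N be a central subgroup of the finite group G, ψ a faithful irreducible (hence degree-one) character of N, and χ an irreducible character of G whose restriction to N contains ψ. If g ∈ G and some x ∈ G has commutator x⁻¹ g⁻¹ x g in N but different from 1, then χ g = 0. -/
theorem result {G : Type*} [Group G] [Fintype G] (N : Subgroup G) [Fintype N] (hN : N ≤ Subgroup.center G) (ψ : Cfsg.IrrCharacter ↥N) (hfaith : ∀ n : ↥N, (ψ : ↥N → ℂ) n = (ψ : ↥N → ℂ) 1 → n = 1) (χ : Cfsg.IrrCharacter G) (hover : Cfsg.classInner (fun n : ↥N => (χ : G → ℂ) n) (ψ : ↥N → ℂ) ≠ 0) (g x : G) (hcomm : x⁻¹ * g⁻¹ * x * g ∈ N) (hne : x⁻¹ * g⁻¹ * x * g ≠ 1) : (χ : G → ℂ) g = 0 := by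
  set z : G := x⁻¹ * g⁻¹ * x * g with hz
  have hzc : z ∈ Subgroup.center G := hN hcomm
  -- `x⁻¹ g x = g z⁻¹`
  have h1 : x⁻¹ * g * x = g * z⁻¹ := by
    have e : x⁻¹ * g⁻¹ * x = z * g⁻¹ := by rw [hz]; group
    calc x⁻¹ * g * x = (x⁻¹ * g⁻¹ * x)⁻¹ := by group
      _ = (z * g⁻¹)⁻¹ := by rw [e]
      _ = g * z⁻¹ := by group
  have hcf := Cfsg.Agent.Lib.helper3.Irr.isClassFunction_of_isCharacter
    (Cfsg.Agent.Lib.helper3.Irr.isCharacter_of_isIrrCharacter χ.2)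
  have h2 : (χ : G → ℂ) (x⁻¹ * g * x) = (χ : G → ℂ) g := by
    have := hcf g x⁻¹
    rwa [inv_inv] at this
  have h3 := Cfsg.Agent.Lib.helper3.Central.apply_mul_central N hN ψ.2 χ.2 hover g
    ⟨z⁻¹, N.inv_mem hcomm⟩
  simp only at h3
  rw [← h1, h2] at h3
  -- ψ z⁻¹ ≠ 1
  have hNcomm : ∀ a b : N, a * b = b * a := by
    intro a b
    apply Subtype.ext
    exact (Subgroup.mem_center_iff.mp (hN a.2) b).symm
  have hψ1 : (ψ : ↥N → ℂ) 1 = 1 := Cfsg.Agent.Lib.helper3.Irr.apply_one_eq_one_of_comm hNcomm ψ.2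
  have hne1 : (ψ : ↥N → ℂ) ⟨z⁻¹, N.inv_mem hcomm⟩ ≠ 1 := by
    intro h
    have := hfaith ⟨z⁻¹, N.inv_mem hcomm⟩ (by rw [h, hψ1])
    have h4 : z⁻¹ = 1 := congrArg Subtype.val this
    exact hne (inv_eq_one.mp h4)
  have h5 : (1 - (ψ : ↥N → ℂ) ⟨z⁻¹, N.inv_mem hcomm⟩) * (χ : G → ℂ) g = 0 := by
    rw [sub_mul, one_mul, ← h3, sub_self]
  rcases mul_eq_zero.mp h5 with h | h
  · exact absurd (sub_eq_zero.mp h).symm hne1
  · exact h

end Cfsg.Agent.S4566
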