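import Cfsg.Statements.S4567
import Mathlib
import Cfsg.Agent.Lib.helper3.CentralChar
import Cfsg.Agent.Lib.helper3.Irr7
import Cfsg.Agent.Lib.helper3.Irr10
import Cfsg.Agent.Lib.helper3.Inflate

set_option linter.style.haveILetI false

namespace Cfsg.Agent.S4567

open Cfsg Module Cfsg.Agent.Lib.helper3.IndFun Cfsg.Agent.Lib.helper3.CharBasic
open Cfsg.Agent.Lib.helper3.Irr Cfsg.Agent.Lib.helper3.Central
open scoped ComplexConjugate

/-- Counting conjugacy classes satisfying a conjugation-invariant predicate. -/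
theorem sum_card_commuting {Q : Type*} [Group Q] [Fintype Q] (sp : Q → Prop) [DecidablePred sp]
    (hsp : ∀ q y : Q, sp q → sp (y * q * y⁻¹)) :
    ∑ q : Q, (if sp q then (Nat.card {y : Q // y * q = q * y} : ℂ) else 0)
      = (Nat.card Q : ℂ) *
        (Nat.card {C : ConjClasses Q // ∃ q : Q, ConjClasses.mk q = C ∧ sp q} : ℂ) := by
  classical
  haveI : Fintype (ConjClasses Q) := Fintype.ofFinite _
  rw [← Finset.sum_fiberwise (s := Finset.univ) (g := fun q : Q => ConjClasses.mk q)]
  rw [Nat.card_eq_fintype_card (α := {C : ConjClasses Q // ∃ q : Q, ConjClasses.mk q = C ∧ sp q}),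
    Fintype.card_subtype, Finset.card_filter, Nat.cast_sum, Finset.mul_sum]
  apply Finset.sum_congr rfl
  intro C _
  obtain ⟨q0, rfl⟩ := ConjClasses.mk_surjective C
  by_cases hC : ∃ q : Q, ConjClasses.mk q = ConjClasses.mk q0 ∧ sp q
  · rw [if_pos hC, Nat.cast_one, mul_one]
    -- every element of the class satisfies `sp`
    have hall : ∀ q ∈ Finset.univ.filter (fun q : Q => ConjClasses.mk q = ConjClasses.mk q0),
        (if sp q then (Nat.card {y : Q // y * q = q * y} : ℂ) else 0)
          = (Nat.card Q : ℂ) /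
            ((Finset.univ.filter (fun q : Q => ConjClasses.mk q = ConjClasses.mk q0)).card : ℂ) := by
      intro q hq
      rw [Finset.mem_filter] at hq
      obtain ⟨q1, hq1, hsp1⟩ := hC
      have hconj : IsConj q1 q := ConjClasses.mk_eq_mk_iff_isConj.mp (hq1.trans hq.2.symm)
      obtain ⟨c, hc⟩ := isConj_iff.mp hconj
      have hspq : sp q := by
        rw [← hc]
        exact hsp q1 c hsp1
      rw [if_pos hspq]
      have h1 : (Finset.univ.filter (fun x : Q => ConjClasses.mk x = ConjClasses.mk q0))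
          = Finset.univ.filter (fun x : Q => IsConj q x) := by
        ext x
        simp only [Finset.mem_filter, Finset.mem_univ, true_and]
        rw [← hq.2, ConjClasses.mk_eq_mk_iff_isConj]
        exact ⟨fun h => h.symm, fun h => h.symm⟩
      rw [h1, card_class_eq_index]
      have h2 : Nat.card {y : Q // y * q = q * y}
          = Nat.card (Subgroup.centralizer ({q} : Set Q)) := by
        apply Nat.card_congr
        refine Equiv.subtypeEquivRight ?_
        intro y
        rw [Subgroup.mem_centralizer_iff]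
        simp only [Set.mem_singleton_iff, forall_eq]
        exact ⟨fun h => h.symm, fun h => h.symm⟩
      rw [h2, ← (Subgroup.centralizer ({q} : Set Q)).card_mul_index]
      have h3 : ((Subgroup.centralizer ({q} : Set Q)).index : ℂ) ≠ 0 := by
        exact_mod_cast Subgroup.index_ne_zero_of_finite
      push_cast
      field_simp
    rw [Finset.sum_congr rfl hall, Finset.sum_const, nsmul_eq_mul]
    have h4 : ((Finset.univ.filter
        (fun q : Q => ConjClasses.mk q = ConjClasses.mk q0)).card : ℂ) ≠ 0 := by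
      have : q0 ∈ Finset.univ.filter (fun q : Q => ConjClasses.mk q = ConjClasses.mk q0) := by
        simp
      have := Finset.card_pos.mpr ⟨q0, this⟩
      exact_mod_cast this.ne'
    field_simp
  · rw [if_neg hC, Nat.cast_zero, mul_zero]
    apply Finset.sum_eq_zero
    intro q hq
    rw [Finset.mem_filter] at hq
    rw [if_neg]
    intro hspq
    exact hC ⟨q, hq.2, hspq⟩

section main

variable {G : Type*} [Group G] [Fintype G]

/-- The special elements of the statement. -/
def special (N : Subgroup G) (g : G) : Prop :=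
  ∀ x : G, x⁻¹ * g⁻¹ * x * g ∈ N → x * g = g * x

theorem exists_constituent {H : Type*} [Group H] [Fintype H] {θ : H → ℂ} (hθ : IsCharacter H θ)
    (h1 : θ 1 ≠ 0) : ∃ φ : IrrCharacter H, classInner θ (φ : H → ℂ) ≠ 0 := by
  by_contra hcon
  push Not at hcon
  apply h1
  have h2 := isCharacter_eq_sum_classInner hθ
  rw [h2]
  simp only [hcon, zero_smul, Finset.sum_const_zero, Pi.zero_apply]

theorem apply_eq_zero_of_not_special (N : Subgroup G) [Fintype N] (hN : N ≤ Subgroup.center G)
    {ψ : N → ℂ} (hψ : IsIrrCharacter N ψ) (hfaith : ∀ n : N, ψ n = ψ 1 → n = 1) {χ : G → ℂ}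
    (hχ : IsIrrCharacter G χ) (hover : classInner (fun n : N => χ n) ψ ≠ 0) (g : G)
    (hg : ¬ special N g) : χ g = 0 := by
  unfold special at hg
  push Not at hg
  obtain ⟨x, hm, hxg⟩ := hg
  by_contra h0
  apply hxg
  have hψ1 : ψ 1 = 1 := by
    apply apply_one_eq_one_of_comm _ hψ
    intro a b
    apply Subtype.ext
    exact Subgroup.mem_center_iff.mp (hN b.2) a
  have hcf := isClassFunction_of_isCharacter (isCharacter_of_isIrrCharacter hχ)
  have h1 : χ (x⁻¹ * g * x⁻¹⁻¹) = χ g := hcf g x⁻¹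
  have h2 : x⁻¹ * g * x⁻¹⁻¹ = g * ((⟨(x⁻¹ * g⁻¹ * x * g)⁻¹, N.inv_mem hm⟩ : N) : G) := by
    show x⁻¹ * g * x⁻¹⁻¹ = g * (x⁻¹ * g⁻¹ * x * g)⁻¹
    group
  rw [h2, apply_mul_central N hN hψ hχ hover] at h1
  have h3 : ψ ⟨(x⁻¹ * g⁻¹ * x * g)⁻¹, N.inv_mem hm⟩ = 1 := by
    have h4 : (ψ ⟨(x⁻¹ * g⁻¹ * x * g)⁻¹, N.inv_mem hm⟩ - 1) * χ g = 0 := by
      rw [sub_mul, h1, one_mul, sub_self]
    rcases mul_eq_zero.mp h4 with h5 | h5
    · exact sub_eq_zero.mp h5
    · exact absurd h5 h0
  rw [← hψ1] at h3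
  have h6 := congrArg (fun n : N => (n : G)) (hfaith _ h3)
  simp only [OneMemClass.coe_one, inv_eq_one] at h6
  calc x * g = g * x * (x⁻¹ * g⁻¹ * x * g) := by group
    _ = g * x := by rw [h6, mul_one]

theorem sum_special (N : Subgroup G) [Fintype N] (hN : N ≤ Subgroup.center G)
    {ψ : N → ℂ} (hψ : IsIrrCharacter N ψ) (g : G) (hg : special N g)
    [DecidablePred (fun χ : IrrCharacter G => classInner (fun n : N => (χ : G → ℂ) n) ψ ≠ 0)] :
    (Nat.card N : ℂ) * ∑ χ ∈ Finset.univ.filter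
        (fun χ : IrrCharacter G => classInner (fun n : N => (χ : G → ℂ) n) ψ ≠ 0),
        (χ : G → ℂ) g * conj ((χ : G → ℂ) g)
      = (Nat.card {y : G // y * g = g * y} : ℂ) := by
  classical
  have hψ1 : ψ 1 = 1 := by
    apply apply_one_eq_one_of_comm _ hψ
    intro a b
    apply Subtype.ext
    exact Subgroup.mem_center_iff.mp (hN b.2) a
  have hNne : (Nat.card N : ℂ) ≠ 0 := card_ne_zero_complex N
  have hc : ∀ χ : IrrCharacter G, ∑ n : N, conj (ψ n) * (χ : G → ℂ) (g * n)
      = if classInner (fun n : N => (χ : G → ℂ) n) ψ ≠ 0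
        then (Nat.card N : ℂ) * (χ : G → ℂ) g else 0 := by
    intro χ
    have hχN : IsCharacter N (fun n : N => (χ : G → ℂ) n) :=
      isCharacter_restrict (isCharacter_of_isIrrCharacter χ.2) N
    obtain ⟨d, hd, -, hdpos⟩ := irr_degree_dvd_card χ.2
    have hχ1 : (χ : G → ℂ) 1 ≠ 0 := by
      rw [hd]
      exact_mod_cast hdpos.ne'
    obtain ⟨φ, hφ⟩ := exists_constituent hχN hχ1
    have hval : ∀ n : N, (χ : G → ℂ) (g * n) = (φ : N → ℂ) n * (χ : G → ℂ) g :=
      fun n => apply_mul_central N hN φ.2 χ.2 hφ g n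
    simp_rw [hval]
    have hsum : ∑ n : N, conj (ψ n) * ((φ : N → ℂ) n * (χ : G → ℂ) g)
        = (Nat.card N : ℂ) * (χ : G → ℂ) g * classInner (φ : N → ℂ) ψ := by
      rw [classInner_apply]
      have : ∑ n : N, conj (ψ n) * ((φ : N → ℂ) n * (χ : G → ℂ) g)
          = (χ : G → ℂ) g * ∑ n : N, (φ : N → ℂ) n * conj (ψ n) := by
        rw [Finset.mul_sum]
        apply Finset.sum_congr rfl
        intro n _
        ring
      rw [this]
      field_simp
    rw [hsum]
    by_cases hP : classInner (fun n : N => (χ : G → ℂ) n) ψ ≠ 0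
    · rw [if_pos hP]
      have hφψ : (φ : N → ℂ) = ψ := by
        funext n
        have e1 := apply_mul_central N hN φ.2 χ.2 hφ 1 n
        have e2 := apply_mul_central N hN hψ χ.2 hP 1 n
        rw [e1] at e2
        exact mul_right_cancel₀ hχ1 e2
      rw [hφψ, irr_classInner_self hψ, mul_one]
    · rw [if_neg hP]
      have hne : (φ : N → ℂ) ≠ ψ := by
        intro h
        apply hP
        rw [← h]
        exact hφ
      rw [irr_classInner_eq_zero φ.2 hψ hne, mul_zero]
  have h1 : ∑ χ : IrrCharacter G, conj ((χ : G → ℂ) g) *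
      ∑ n : N, conj (ψ n) * (χ : G → ℂ) (g * n)
      = (Nat.card N : ℂ) * ∑ χ ∈ Finset.univ.filter
        (fun χ : IrrCharacter G => classInner (fun n : N => (χ : G → ℂ) n) ψ ≠ 0),
        (χ : G → ℂ) g * conj ((χ : G → ℂ) g) := by
    rw [Finset.mul_sum, Finset.sum_filter]
    apply Finset.sum_congr rfl
    intro χ _
    rw [hc]
    split_ifs
    · ring
    · rw [mul_zero]
  have h2 : ∑ χ : IrrCharacter G, conj ((χ : G → ℂ) g) *
      ∑ n : N, conj (ψ n) * (χ : G → ℂ) (g * n)
      = ∑ n : N, conj (ψ n) * (Nat.card {y : G // y * g * y⁻¹ = g * n} : ℂ) := by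
    simp_rw [Finset.mul_sum]
    rw [Finset.sum_comm]
    apply Finset.sum_congr rfl
    intro n _
    rw [← sum_irr_mul_conj (g * n) g, Finset.mul_sum]
    apply Finset.sum_congr rfl
    intro χ _
    ring
  have h3 : ∀ n : N, n ≠ 1 → Nat.card {y : G // y * g * y⁻¹ = g * n} = 0 := by
    intro n hn
    rw [Nat.card_eq_zero]
    left
    constructor
    rintro ⟨y, hy⟩
    apply hn
    have hm : y⁻¹⁻¹ * g⁻¹ * y⁻¹ * g ∈ N := by
      have : y⁻¹⁻¹ * g⁻¹ * y⁻¹ * g = ((n⁻¹ : N) : G) := by
        have e1 : (y * g * y⁻¹)⁻¹ * g = ((n⁻¹ : N) : G) := by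
          rw [hy]
          simp
        rw [← e1]
        group
      rw [this]
      exact (n⁻¹).2
    have h4 := hg y⁻¹ hm
    have h5 : y * g * y⁻¹ = g := by
      calc y * g * y⁻¹ = y * (g * y⁻¹) := by group
        _ = y * (y⁻¹ * g) := by rw [h4]
        _ = g := by group
    rw [h5] at hy
    apply Subtype.ext
    have := mul_left_cancel (a := g) (b := 1) (c := (n : G)) (by rw [mul_one]; exact hy)
    exact this.symm
  rw [← h1, h2, Finset.sum_eq_single (1 : N)]
  · rw [hψ1, map_one, one_mul]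
    congr 1
    apply Nat.card_congr
    refine Equiv.subtypeEquivRight ?_
    intro y
    simp only [OneMemClass.coe_one, mul_one]
    exact mul_inv_eq_iff_eq_mul
  · intro n _ hn
    rw [h3 n hn, Nat.cast_zero, mul_zero]
  · intro h
    exact absurd (Finset.mem_univ _) h

end main

/-- Let N be a central subgroup of the finite group G and ψ a faithful irreducible (hence degree-one) character of N. Call a coset g N special when every x ∈ G whose commutator x⁻¹ g⁻¹ x g lies in N actually commutes with g (this depends only on the coset). Then the number of irreducible characters of G whose restriction to N contains ψ equals the number of conjugacy classes of G/N consisting of special cosets. -/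
theorem result {G : Type*} [Group G] [Fintype G] (N : Subgroup G) [N.Normal] [Fintype N] (hN : N ≤ Subgroup.center G) (ψ : Cfsg.IrrCharacter ↥N) (hfaith : ∀ n : ↥N, (ψ : ↥N → ℂ) n = (ψ : ↥N → ℂ) 1 → n = 1) : Nat.card {χ : Cfsg.IrrCharacter G // Cfsg.classInner (fun n : ↥N => (χ : G → ℂ) n) (ψ : ↥N → ℂ) ≠ 0} = Nat.card {C : ConjClasses (G ⧸ N) // ∃ g : G, ConjClasses.mk (g : G ⧸ N) = C ∧ ∀ x : G, x⁻¹ * g⁻¹ * x * g ∈ N → x * g = g * x} := by
  classical
  haveI : Fintype (G ⧸ N) := Fintype.ofFinite _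
  obtain ⟨ψf, hψ⟩ := ψ
  simp only at hfaith ⊢
  apply Nat.cast_injective (R := ℂ)
  have hG : (Nat.card G : ℂ) ≠ 0 := card_ne_zero_complex G
  have hNne : (Nat.card N : ℂ) ≠ 0 := card_ne_zero_complex N
  -- the left-hand side as an average
  have hL : (Nat.card {χ : IrrCharacter G //
      classInner (fun n : N => (χ : G → ℂ) n) ψf ≠ 0} : ℂ)
      = (Nat.card G : ℂ)⁻¹ * ∑ g : G, ∑ χ ∈ Finset.univ.filter
        (fun χ : IrrCharacter G => classInner (fun n : N => (χ : G → ℂ) n) ψf ≠ 0),
        (χ : G → ℂ) g * conj ((χ : G → ℂ) g) := by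
    rw [Nat.card_eq_fintype_card, Fintype.card_subtype, Finset.sum_comm, Finset.mul_sum]
    rw [Finset.card_eq_sum_ones, Nat.cast_sum]
    apply Finset.sum_congr rfl
    intro χ _
    rw [Nat.cast_one, ← classInner_apply, irr_classInner_self χ.2]
  have hper : ∀ g : G, ∑ χ ∈ Finset.univ.filter
      (fun χ : IrrCharacter G => classInner (fun n : N => (χ : G → ℂ) n) ψf ≠ 0),
      (χ : G → ℂ) g * conj ((χ : G → ℂ) g)
      = if special N g then (Nat.card N : ℂ)⁻¹ * (Nat.card {y : G // y * g = g * y} : ℂ)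
        else 0 := by
    intro g
    split_ifs with hg
    · rw [← sum_special N hN hψ g hg]
      field_simp
    · apply Finset.sum_eq_zero
      intro χ hχ
      rw [apply_eq_zero_of_not_special N hN hψ hfaith χ.2 (Finset.mem_filter.mp hχ).2 g hg,
        zero_mul]
  -- the special cosets
  let sp' : G ⧸ N → Prop := fun q => ∃ g : G, (g : G ⧸ N) = q ∧ special N g
  have hcentral : ∀ (g' n x : G), n ∈ N →
      x⁻¹ * (g' * n)⁻¹ * x * (g' * n) = x⁻¹ * g'⁻¹ * x * g' := by
    intro g' n x hn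
    have hnc : ∀ z : G, z * n = n * z := fun z => Subgroup.mem_center_iff.mp (hN hn) z
    calc x⁻¹ * (g' * n)⁻¹ * x * (g' * n)
        = x⁻¹ * n⁻¹ * ((g'⁻¹ * x * g') * n) := by group
      _ = x⁻¹ * n⁻¹ * (n * (g'⁻¹ * x * g')) := by rw [hnc]
      _ = x⁻¹ * g'⁻¹ * x * g' := by group
  have hsp_iff : ∀ g : G, special N g ↔ sp' (g : G ⧸ N) := by
    intro g
    constructor
    · intro h
      exact ⟨g, rfl, h⟩
    · rintro ⟨g', hg', h⟩
      have hn : g'⁻¹ * g ∈ N := QuotientGroup.eq.mp hg'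
      have hgn : g = g' * (g'⁻¹ * g) := by group
      have hnc : ∀ z : G, z * (g'⁻¹ * g) = (g'⁻¹ * g) * z :=
        fun z => Subgroup.mem_center_iff.mp (hN hn) z
      intro x hx
      rw [hgn, hcentral g' _ x hn] at hx
      have h1 := h x hx
      rw [hgn]
      calc x * (g' * (g'⁻¹ * g)) = (x * g') * (g'⁻¹ * g) := by group
        _ = (g' * x) * (g'⁻¹ * g) := by rw [h1]
        _ = g' * (x * (g'⁻¹ * g)) := by group
        _ = g' * ((g'⁻¹ * g) * x) := by rw [hnc]
        _ = g' * (g'⁻¹ * g) * x := by group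
  have hsp_conj : ∀ q y : G ⧸ N, sp' q → sp' (y * q * y⁻¹) := by
    rintro q y ⟨g, rfl, hg⟩
    obtain ⟨h, rfl⟩ := QuotientGroup.mk_surjective y
    refine ⟨h * g * h⁻¹, rfl, ?_⟩
    intro x hx
    have h1 : (h⁻¹ * x * h)⁻¹ * g⁻¹ * (h⁻¹ * x * h) * g
        = h⁻¹ * (x⁻¹ * (h * g * h⁻¹)⁻¹ * x * (h * g * h⁻¹)) * h⁻¹⁻¹ := by group
    have h2 : (h⁻¹ * x * h)⁻¹ * g⁻¹ * (h⁻¹ * x * h) * g ∈ N := by
      rw [h1]
      exact ‹N.Normal›.conj_mem _ hx h⁻¹
    have h3 := hg _ h2
    calc x * (h * g * h⁻¹) = h * ((h⁻¹ * x * h) * g) * h⁻¹ := by group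
      _ = h * (g * (h⁻¹ * x * h)) * h⁻¹ := by rw [h3]
      _ = h * g * h⁻¹ * x := by group
  -- counting commuting elements through the quotient
  have hcomm_count : ∀ g : G, special N g → (Nat.card {y : G // y * g = g * y} : ℂ)
      = (Nat.card N : ℂ) *
        (Nat.card {z : G ⧸ N // z * (g : G ⧸ N) = (g : G ⧸ N) * z} : ℂ) := by
    intro g hg
    have h1 : (Nat.card {y : G // y * g = g * y} : ℂ)
        = ∑ y : G, (fun z : G ⧸ N => if z * (g : G ⧸ N) = (g : G ⧸ N) * z then (1 : ℂ) else 0)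
          (y : G ⧸ N) := by
      rw [Nat.card_eq_fintype_card, Fintype.card_subtype, Finset.card_filter, Nat.cast_sum]
      apply Finset.sum_congr rfl
      intro y _
      have : (y * g = g * y) ↔ ((y : G ⧸ N) * (g : G ⧸ N) = (g : G ⧸ N) * (y : G ⧸ N)) := by
        constructor
        · intro h
          rw [← QuotientGroup.mk_mul, ← QuotientGroup.mk_mul, h]
        · intro h
          rw [← QuotientGroup.mk_mul, ← QuotientGroup.mk_mul, QuotientGroup.eq] at h
          apply hg y
          have : y⁻¹ * g⁻¹ * y * g = ((y * g)⁻¹ * (g * y))⁻¹ := by group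
          rw [this]
          exact N.inv_mem h
      simp only [this]
      split_ifs <;> simp
    rw [h1]
    refine (Cfsg.Agent.Lib.helper3.Irr.sum_comp_mk N
      (fun z : G ⧸ N => if z * (g : G ⧸ N) = (g : G ⧸ N) * z then (1 : ℂ) else 0)).trans ?_
    congr 1
    rw [Nat.card_eq_fintype_card, Fintype.card_subtype, Finset.card_filter, Nat.cast_sum]
    apply Finset.sum_congr rfl
    intro z _
    split_ifs <;> simp
  rw [hL]
  simp_rw [hper]
  have hstep : ∀ g : G, (if special N g then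
      (Nat.card N : ℂ)⁻¹ * (Nat.card {y : G // y * g = g * y} : ℂ) else 0)
      = (fun q : G ⧸ N => if sp' q then
          (Nat.card {z : G ⧸ N // z * q = q * z} : ℂ) else 0) (g : G ⧸ N) := by
    intro g
    by_cases hg : special N g
    · rw [if_pos hg]
      simp only
      rw [if_pos ((hsp_iff g).mp hg), hcomm_count g hg]
      field_simp
    · rw [if_neg hg]
      simp only
      rw [if_neg (fun h => hg ((hsp_iff g).mpr h))]
  rw [Finset.sum_congr rfl (fun g _ => hstep g)]
  rw [Cfsg.Agent.Lib.helper3.Irr.sum_comp_mk N (fun q : G ⧸ N => if sp' q then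
          (Nat.card {z : G ⧸ N // z * q = q * z} : ℂ) else 0), sum_card_commuting sp' hsp_conj]
  have hcard : (Nat.card G : ℂ) = (Nat.card (G ⧸ N) : ℂ) * (Nat.card N : ℂ) := by
    rw [Subgroup.card_eq_card_quotient_mul_card_subgroup N]
    push_cast
    ring
  have hQ : (Nat.card (G ⧸ N) : ℂ) ≠ 0 := card_ne_zero_complex _
  rw [hcard]
  field_simp
  congr 1
  apply Nat.card_congr
  refine Equiv.subtypeEquivRight ?_
  intro C
  constructor
  · rintro ⟨q, hq, g, rfl, hg⟩
    exact ⟨g, hq, hg⟩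
  · rintro ⟨g, hq, hg⟩
    exact ⟨g, hq, g, rfl, hg⟩

end Cfsg.Agent.S4567
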