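import Cfsg.Statements.S4574
import Mathlib
import Cfsg.Agent.Lib.Helper4.Galois
import Cfsg.Agent.Lib.Helper4.Codegree
import Cfsg.Agent.Lib.helper3.CharBasic2

namespace Cfsg.Agent.S4574

open Cfsg Module Cfsg.Agent.Lib.helper3.CharBasic
open Cfsg.Agent.Lib.helper3.Irr Cfsg.Agent.Lib.Helper4.Galois Cfsg.Agent.Lib.Helper4.Codegree

/-- Let χ be an irreducible character of the finite group G, of degree d, and let Z(χ) be the set of elements g with |χ g| = d (the centre of χ). Then χ vanishes on at least (d ^ 2 - 1) · |Z(χ)| elements of G, with equality when every value |χ g| is 0, 1 or d. -/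
theorem result {G : Type*} [Group G] [Fintype G] [DecidableEq G] (χ : G → ℂ) (hχ : Cfsg.IsIrrCharacter G χ) : (Cfsg.charDegree χ ^ 2 - 1) * (Finset.univ.filter (fun g : G => ‖χ g‖ = (Cfsg.charDegree χ : ℝ))).card ≤ (Finset.univ.filter (fun g : G => χ g = 0)).card ∧ ((∀ g : G, ‖χ g‖ = 0 ∨ ‖χ g‖ = 1 ∨ ‖χ g‖ = (Cfsg.charDegree χ : ℝ)) → (Cfsg.charDegree χ ^ 2 - 1) * (Finset.univ.filter (fun g : G => ‖χ g‖ = (Cfsg.charDegree χ : ℝ))).card = (Finset.univ.filter (fun g : G => χ g = 0)).card) := by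
  classical
  have hchar : IsCharacter G χ := isCharacter_of_isIrrCharacter hχ
  set d := charDegree χ with hd
  have hdpos : 0 < d := charDegree_pos hχ
  have hdcast : (d : ℂ) = χ 1 := charDegree_cast hchar
  set Z : Finset G := Finset.univ.filter (fun g : G => ‖χ g‖ = (d : ℝ)) with hZ
  set Zr : Finset G := Finset.univ.filter (fun g : G => χ g = 0) with hZr
  set S : Finset G := Finset.univ.filter (fun g : G => ¬ ‖χ g‖ = (d : ℝ)) with hS
  -- `S` is closed under coprime powers
  have hSclosed : ∀ g ∈ S, ∀ k : ℕ, k.Coprime (Nat.card G) → g ^ k ∈ S := by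
    intro g hg k hk
    rw [hS, Finset.mem_filter] at hg ⊢
    refine ⟨Finset.mem_univ _, fun h => hg.2 ?_⟩
    obtain ⟨n, ρ, hirr, hρ⟩ := hχ
    have hdn : (d : ℝ) = (finrank ℂ (Fin n → ℂ) : ℝ) := by
      have h1 : (d : ℂ) = (finrank ℂ (Fin n → ℂ) : ℂ) := by
        rw [hdcast, ← hρ, Representation.char_one]
      exact_mod_cast h1
    rw [← hρ, hdn] at h ⊢
    rw [norm_character_eq_finrank_iff] at h ⊢
    obtain ⟨ω, hω⟩ := h
    obtain ⟨m, hm⟩ := exists_pow_pow_eq g k hk
    refine ⟨ω ^ m, ?_⟩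
    rw [← hm, map_pow, hω]
    ext v
    simp [smul_pow]
  have key := card_nonvanishing_le_sum hchar S hSclosed 2
  have htotal := sum_norm_sq_irr hχ
  have hsplit : ∑ g : G, ‖χ g‖ ^ 2 = ∑ g ∈ Z, ‖χ g‖ ^ 2 + ∑ g ∈ S, ‖χ g‖ ^ 2 := by
    rw [hZ, hS, Finset.sum_filter_add_sum_filter_not]
  have hZsum : ∑ g ∈ Z, ‖χ g‖ ^ 2 = (Z.card : ℝ) * (d : ℝ) ^ 2 := by
    rw [Finset.sum_congr rfl (fun g hg => by rw [(Finset.mem_filter.mp hg).2]),
      Finset.sum_const, nsmul_eq_mul]
  have hcard : Z.card + S.card = Nat.card G := by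
    rw [hZ, hS, Finset.card_filter_add_card_filter_not, Finset.card_univ,
      Nat.card_eq_fintype_card]
  have hSZ : (S.filter (fun g => χ g ≠ 0)).card + (S.filter (fun g => ¬ χ g ≠ 0)).card = S.card :=
    Finset.card_filter_add_card_filter_not _
  have hSZr : S.filter (fun g => ¬ χ g ≠ 0) = Zr := by
    ext g
    simp only [hS, hZr, Finset.mem_filter, Finset.mem_univ, true_and, not_not]
    constructor
    · exact fun h => h.2
    · intro h
      refine ⟨?_, h⟩
      rw [h, norm_zero]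
      intro h0
      have : (d : ℝ) = 0 := h0.symm
      have : d = 0 := by exact_mod_cast this
      omega
  rw [hSZr] at hSZ
  -- the real inequality
  have hreal : (Z.card : ℝ) * (d : ℝ) ^ 2 + ((S.filter (fun g => χ g ≠ 0)).card : ℝ) ≤
      (Nat.card G : ℝ) := by
    rw [← htotal, hsplit, hZsum]
    linarith
  have hnat : Z.card * d ^ 2 + (S.filter (fun g => χ g ≠ 0)).card ≤ Nat.card G := by
    exact_mod_cast hreal
  have hd2 : 1 ≤ d ^ 2 := Nat.one_le_pow _ _ hdpos
  constructor
  · rw [Nat.sub_mul, one_mul]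
    have : d ^ 2 * Z.card = Z.card * d ^ 2 := mul_comm _ _
    omega
  · intro hvals
    have hSsum : ∑ g ∈ S, ‖χ g‖ ^ 2 = ((S.filter (fun g => χ g ≠ 0)).card : ℝ) := by
      rw [Finset.card_filter, Nat.cast_sum]
      apply Finset.sum_congr rfl
      intro g hg
      have hgS := (Finset.mem_filter.mp hg).2
      rcases hvals g with h0 | h1 | hd'
      · rw [h0]
        have : χ g = 0 := norm_eq_zero.mp h0
        simp [this]
      · rw [h1]
        have : χ g ≠ 0 := by
          intro h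
          rw [h, norm_zero] at h1
          exact zero_ne_one h1
        simp [this]
      · exact absurd hd' hgS
    have hreal' : (Z.card : ℝ) * (d : ℝ) ^ 2 + ((S.filter (fun g => χ g ≠ 0)).card : ℝ) =
        (Nat.card G : ℝ) := by
      rw [← htotal, hsplit, hZsum, hSsum]
    have hnat' : Z.card * d ^ 2 + (S.filter (fun g => χ g ≠ 0)).card = Nat.card G := by
      exact_mod_cast hreal'
    rw [Nat.sub_mul, one_mul]
    have : d ^ 2 * Z.card = Z.card * d ^ 2 := mul_comm _ _
    omega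

end Cfsg.Agent.S4574
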