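import Cfsg.Statements.S4580
import Cfsg.Agent.Lib.Helper4.RealExt1
import Cfsg.Agent.Lib.helper3.Gallagher3
import Cfsg.Agent.Lib.helper3.Irr9
import Cfsg.Agent.Lib.helper3.Irr13
import Cfsg.Agent.Lib.helper3.Lin
import Cfsg.Agent.Lib.helper3.AbelianInertia

set_option autoImplicit false
open Cfsg

namespace Cfsg.Agent.S4580

set_option linter.style.haveILetI false
set_option maxHeartbeats 1000000

open Cfsg.Agent.Lib.helper3.Irr Cfsg.Agent.Lib.helper3.CharBasic Cfsg.Agent.Lib.helper3.Lin
open scoped ComplexConjugate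

/-- powers of a linear character are linear characters -/
theorem isCharacter_pow_linear {G : Type*} [Group G] {β : G → ℂ} (hβ : IsCharacter G β) (c : ℕ) :
    IsCharacter G (fun g => β g ^ c) := by
  induction c with
  | zero =>
    have : (fun g : G => β g ^ 0) = fun _ => (1 : ℂ) := by
      funext g
      rw [pow_zero]
    rw [this]
    exact isCharacter_one
  | succ k ih =>
    have : (fun g : G => β g ^ (k + 1)) = (fun g => β g ^ k) * β := by
      funext g
      rw [Pi.mul_apply, pow_succ]
    rw [this]
    exact isCharacter_mul ih hβ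

/-- Let N be a normal subgroup of the finite group G, M a maximal ideal of the algebraic integers containing 2, and θ a real-valued irreducible character of N of odd degree that extends to G (some irreducible character of G restricts to θ). Then θ has an extension to G lying in the principal 2-block of G. -/
theorem result {G : Type*} [Group G] [Finite G] (N : Subgroup G) [N.Normal] (M : Ideal Cfsg.AlgInt) (hM : Cfsg.IsPModular 2 M) (θ : Cfsg.IrrCharacter N) (hreal : ∀ n : N, ((θ : N → ℂ) n).im = 0) (hodd : Odd (Cfsg.charDegree (θ : N → ℂ))) (hext : ∃ η : Cfsg.IrrCharacter G, ∀ n : N, (η : G → ℂ) n = (θ : N → ℂ) n) :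
    ∃ η : Cfsg.IrrCharacter G, (∀ n : N, (η : G → ℂ) n = (θ : N → ℂ) n) ∧ η ∈ Cfsg.principalBlock M G := by
  classical
  letI : Fintype G := Fintype.ofFinite G
  letI : Fintype N := Fintype.ofFinite N
  obtain ⟨η, hη⟩ := hext
  have hηc := isCharacter_of_isIrrCharacter η.2
  have hηN : IsIrrCharacter N (fun n : N => (η : G → ℂ) n) := by
    have : (fun n : N => (η : G → ℂ) n) = (θ : N → ℂ) := funext hη
    rw [this]
    exact θ.2
  have hconj : IsIrrCharacter G (fun g => conj ((η : G → ℂ) g)) := isIrrCharacter_conj η.2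
  have hres : ∀ n : N, (fun g => conj ((η : G → ℂ) g)) n = (η : G → ℂ) n := by
    intro n
    show conj ((η : G → ℂ) n) = (η : G → ℂ) n
    rw [hη n]
    exact Complex.conj_eq_iff_im.mpr (hreal n)
  obtain ⟨β, hβc, hβ1, hβN, hβη⟩ := exists_linear_mul_of_restrict_eq N (η : G → ℂ)
    (fun g => conj ((η : G → ℂ) g)) η.2 hconj hηN hres
  -- the odd part of the group order
  obtain ⟨b, hb⟩ : ∃ b : ℕ, b = ordCompl[2] (Nat.card G) := ⟨_, rfl⟩
  have hbodd : ¬ 2 ∣ b := by
    rw [hb]
    exact Nat.not_dvd_ordCompl Nat.prime_two Nat.card_pos.ne'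
  obtain ⟨c, hc⟩ : ∃ c : ℕ, 2 * c = b + 1 := by
    have : b % 2 = 1 := by omega
    exact ⟨(b + 1) / 2, by omega⟩
  -- the twisted extension
  have hlamc : IsCharacter G (fun g => β g ^ c) := isCharacter_pow_linear hβc c
  have hlam1 : (fun g => β g ^ c) 1 = 1 := by
    show β 1 ^ c = 1
    rw [hβ1, one_pow]
  have hirr' : IsIrrCharacter G ((fun g => β g ^ c) * (η : G → ℂ)) :=
    isIrrCharacter_linear_mul hlamc hlam1 η.2
  refine ⟨⟨(fun g => β g ^ c) * (η : G → ℂ), hirr'⟩, ?_, ?_⟩
  · intro n
    show β n ^ c * (η : G → ℂ) n = (θ : N → ℂ) n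
    rw [hβN n, one_pow, one_mul, hη n]
  · apply Cfsg.Agent.Lib.Helper4.RealExt.mem_principalBlock_of_inv_of_odd hM
    · intro g hg
      show β g⁻¹ ^ c * (η : G → ℂ) g⁻¹ = β g ^ c * (η : G → ℂ) g
      rw [isCharacter_apply_inv hβc, isCharacter_apply_inv hηc]
      have hconjη : conj ((η : G → ℂ) g) = β g * (η : G → ℂ) g := by
        have := congrFun hβη g
        exact this
      rw [hconjη]
      -- `z = β g`
      have hz1 : conj (β g) * β g = 1 := by
        rw [← isCharacter_apply_inv hβc, ← map_mul_of_apply_one_eq_one hβc hβ1, inv_mul_cancel,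
          hβ1]
      have hgb : g ^ b = 1 := by
        have h1 : orderOf g ∣ Nat.card G := orderOf_dvd_natCard g
        have h2 : Nat.card G = 2 ^ (Nat.card G).factorization 2 * b := by
          rw [hb]
          exact (Nat.ordProj_mul_ordCompl_eq_self (Nat.card G) 2).symm
        rw [h2] at h1
        have hcop : Nat.Coprime (orderOf g) (2 ^ (Nat.card G).factorization 2) :=
          Nat.Coprime.pow_right _ ((Nat.Prime.coprime_iff_not_dvd Nat.prime_two).2 hg).symm
        exact orderOf_dvd_iff_pow_eq_one.1 (hcop.dvd_of_dvd_mul_left h1)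
      have hzb : β g ^ b = 1 := pow_eq_one_of_linear hβc hβ1 g b hgb
      have hz0 : β g ^ c ≠ 0 := by
        apply pow_ne_zero
        intro h0
        rw [h0, mul_zero] at hz1
        exact zero_ne_one hz1
      have key : conj (β g) ^ c * β g = β g ^ c := by
        apply mul_left_cancel₀ hz0
        calc β g ^ c * (conj (β g) ^ c * β g) = (conj (β g) * β g) ^ c * β g := by
              rw [mul_pow]; ring
          _ = β g := by rw [hz1, one_pow, one_mul]
          _ = β g ^ b * β g := by rw [hzb, one_mul]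
          _ = β g ^ (2 * c) := by rw [hc, pow_succ]
          _ = β g ^ c * β g ^ c := by rw [two_mul, pow_add]
      rw [← mul_assoc, key]
    · have hdeg : charDegree ((fun g => β g ^ c) * (η : G → ℂ)) = charDegree (θ : N → ℂ) := by
        unfold charDegree
        congr 2
        show β 1 ^ c * (η : G → ℂ) 1 = (θ : N → ℂ) 1
        rw [hβ1, one_pow, one_mul]
        exact hη 1
      show Odd (charDegree ((fun g => β g ^ c) * (η : G → ℂ)))
      rw [hdeg]
      exact hodd

end Cfsg.Agent.S4580
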