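import Mathlib
import Cfsg.Statements.S4582

set_option autoImplicit false
open Cfsg

namespace Cfsg.Agent.S4582

open scoped commutatorElement

/-- The transfer argument: the statement when the group is the product of the subgroup `P` of odd
index and the normal subgroup `N`. -/
theorem key {H : Type*} [Group H] [Finite H] (N P : Subgroup H) [hNn : N.Normal]
    (hodd : Odd P.index) (hP2 : IsPGroup 2 P)
    (hPN : ∀ g : H, ∃ a ∈ P, ∃ n ∈ N, g = a * n)
    (hP : ∀ x ∈ P, x ^ 2 ∈ (P ⊓ N) ⊔ ⁅P, P⁆)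
    (hQ : ∀ x ∈ P ⊓ N, x ^ 2 ∈ ⁅P ⊓ N, P ⊓ N⁆)
    (hN : Odd (Nat.card (Abelianization N))) :
    ∀ x ∈ P, x ^ 2 ∈ ⁅P, P⁆ := by
  classical
  obtain ⟨ϕ, hϕ⟩ : ∃ ϕ : P →* Abelianization P, ϕ = Abelianization.of := ⟨_, rfl⟩
  obtain ⟨V, hV⟩ : ∃ V : H →* Abelianization P, V = MonoidHom.transfer ϕ := ⟨_, rfl⟩
  have hϕker : ∀ y : P, ϕ y = 1 ↔ (y : H) ∈ ⁅P, P⁆ := by
    intro y
    rw [← MonoidHom.mem_ker, hϕ, Abelianization.ker_of, ← Subgroup.map_subtype_commutator]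
    constructor
    · intro h
      exact ⟨y, h, rfl⟩
    · rintro ⟨z, hz, hzy⟩
      have : z = y := Subtype.ext hzy
      rwa [← this]
  have hA2 : IsPGroup 2 (Abelianization P) := hP2.to_quotient (commutator P)
  -- the transfer is trivial on `N`
  have hVN : ∀ n ∈ N, V n = 1 := by
    intro n hn
    obtain ⟨f', hf'⟩ : ∃ f' : Abelianization N →* Abelianization P,
        f' = Abelianization.lift (V.comp N.subtype) := ⟨_, rfl⟩
    have h1 : V n = f' (Abelianization.of ⟨n, hn⟩) := by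
      rw [hf', Abelianization.lift_apply_of]
      rfl
    rw [h1]
    have h2 : orderOf (f' (Abelianization.of ⟨n, hn⟩)) ∣ Nat.card (Abelianization N) :=
      (orderOf_map_dvd f' _).trans (orderOf_dvd_natCard _)
    obtain ⟨k, hk⟩ := hA2 (f' (Abelianization.of ⟨n, hn⟩))
    have h3 : orderOf (f' (Abelianization.of ⟨n, hn⟩)) ∣ 2 ^ k := orderOf_dvd_of_pow_eq_one hk
    have h4 : Nat.Coprime (Nat.card (Abelianization N)) (2 ^ k) :=
      Nat.Coprime.pow_right k (Nat.coprime_two_right.2 hN)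
    have h5 := Nat.eq_one_of_dvd_coprimes h4 h2 h3
    exact orderOf_eq_one_iff.1 h5
  have hVc : ∀ c ∈ ⁅P, P⁆, V c = 1 := by
    intro c hc
    have h1 : ⁅P, P⁆ ≤ commutator H := Subgroup.commutator_mono le_top le_top
    exact Abelianization.commutator_subset_ker V (h1 hc)
  have hVsq : ∀ x ∈ P, V x ^ 2 = 1 := by
    intro x hx
    rw [← map_pow]
    have h1 : (P ⊓ N) ⊔ ⁅P, P⁆ ≤ V.ker := by
      apply sup_le
      · intro y hy
        exact hVN y hy.2
      · intro y hy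
        exact hVc y hy
    exact h1 (hP x hx)
  have hQsq : ∀ u : P, (u : H) ∈ N → ϕ u ^ 2 = 1 := by
    intro u hu
    rw [← map_pow, hϕker]
    have h1 := hQ u ⟨u.2, hu⟩
    have h2 : ⁅P ⊓ N, P ⊓ N⁆ ≤ ⁅P, P⁆ := Subgroup.commutator_mono inf_le_left inf_le_left
    rw [Subgroup.coe_pow]
    exact h2 h1
  intro x hx
  obtain ⟨R, hR⟩ : ∃ R : Subgroup (Abelianization P), R = (N.subgroupOf P).map ϕ := ⟨_, rfl⟩
  have hRsq : ∀ t ∈ R, t ^ 2 = 1 := by
    intro t ht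
    rw [hR] at ht
    obtain ⟨u, hu, rfl⟩ := ht
    exact hQsq u (Subgroup.mem_subgroupOf.1 hu)
  obtain ⟨X, hX⟩ : ∃ X : P, X = ⟨x, hx⟩ := ⟨_, rfl⟩
  -- each factor of the transfer is congruent to a power of `x`
  have hfactor : ∀ (g : H) (r : ℕ) (hc : g⁻¹ * x ^ r * g ∈ P),
      ϕ ⟨g⁻¹ * x ^ r * g, hc⟩ * (ϕ X ^ r)⁻¹ ∈ R := by
    intro g r hc
    obtain ⟨a, ha, n, hn, rfl⟩ := hPN g
    obtain ⟨A, hA⟩ : ∃ A : P, A = ⟨a, ha⟩ := ⟨_, rfl⟩
    obtain ⟨y, hy⟩ : ∃ y : P, y = A⁻¹ * X ^ r * A := ⟨_, rfl⟩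
    obtain ⟨c, hcdef⟩ : ∃ c : P, c = ⟨(a * n)⁻¹ * x ^ r * (a * n), hc⟩ := ⟨_, rfl⟩
    rw [← hcdef]
    have hyval : (y : H) = a⁻¹ * x ^ r * a := by
      rw [hy, hA, hX]
      rfl
    have hk : ((y⁻¹ * c : P) : H) ∈ N := by
      have h1 : ((y⁻¹ * c : P) : H) = ((y : H)⁻¹ * n⁻¹ * ((y : H)⁻¹)⁻¹) * n := by
        rw [Subgroup.coe_mul, Subgroup.coe_inv, hcdef, hyval]
        show (a⁻¹ * x ^ r * a)⁻¹ * ((a * n)⁻¹ * x ^ r * (a * n)) = _
        group
      rw [h1]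
      exact N.mul_mem (hNn.conj_mem _ (N.inv_mem hn) _) hn
    have hϕy : ϕ y = ϕ X ^ r := by
      rw [hy, map_mul, map_mul, map_inv, map_pow]
      rw [mul_comm, ← mul_assoc, mul_inv_cancel, one_mul]
    have h2 : ϕ c * (ϕ X ^ r)⁻¹ = ϕ (y⁻¹ * c) := by
      rw [map_mul, map_inv, hϕy, mul_comm]
    rw [h2, hR]
    exact ⟨_, Subgroup.mem_subgroupOf.2 hk, rfl⟩
  letI : Fintype (Quotient (MulAction.orbitRel (Subgroup.zpowers x) (H ⧸ P))) :=
    Fintype.ofFinite _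
  have h1 := MonoidHom.transfer_eq_prod_quotient_orbitRel_zpowers_quot ϕ x
  have h2 := Subgroup.index_eq_sum_minimalPeriod P x
  obtain ⟨m, hm⟩ : ∃ m : ℕ, m = P.index := ⟨_, rfl⟩
  have hmain : V x * (ϕ X ^ m)⁻¹ ∈ R := by
    rw [hV, h1, hm, h2, ← Finset.prod_pow_eq_pow_sum, ← Finset.prod_inv_distrib,
      ← Finset.prod_mul_distrib]
    apply Subgroup.prod_mem
    intro q _
    exact hfactor _ _ _
  -- conclusion
  have h3 : (ϕ X ^ m) ^ 2 = 1 := by
    have h4 := hRsq _ hmain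
    rw [mul_pow, hVsq x hx, one_mul, inv_pow, inv_eq_one] at h4
    exact h4
  have h5 : (x ^ 2) ^ m ∈ ⁅P, P⁆ := by
    have h6 : ϕ (X ^ (m * 2)) = 1 := by
      rw [map_pow, pow_mul]
      exact h3
    rw [hϕker, hX] at h6
    rw [← pow_mul, mul_comm]
    exact h6
  obtain ⟨k, hk⟩ := hP2 X
  have hxk : x ^ 2 ^ k = 1 := by
    have := congrArg Subtype.val hk
    rw [Subgroup.coe_pow, hX] at this
    exact this
  have hcop : Nat.Coprime m (2 ^ k) := by
    rw [hm]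
    exact Nat.Coprime.pow_right k (Nat.coprime_two_right.2 hodd)
  have hbez := Nat.gcd_eq_gcd_ab m (2 ^ k)
  rw [hcop.gcd_eq_one] at hbez
  have h7 : x ^ 2 = ((x ^ 2) ^ m) ^ (Nat.gcdA m (2 ^ k)) := by
    have h8 : (x ^ 2) ^ ((m : ℤ) * Nat.gcdA m (2 ^ k) + ((2 ^ k : ℕ) : ℤ) * Nat.gcdB m (2 ^ k))
        = x ^ 2 := by
      rw [← hbez]
      simp
    rw [zpow_add, zpow_mul, zpow_mul, zpow_natCast, zpow_natCast] at h8
    have h9 : (x ^ 2) ^ 2 ^ k = 1 := by
      rw [← pow_mul, mul_comm, pow_mul, hxk, one_pow]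
    rw [h9, one_zpow, mul_one] at h8
    exact h8.symm
  rw [h7]
  exact Subgroup.zpow_mem _ h5 _

/-- Let N be a normal subgroup of the finite group G, P a Sylow 2-subgroup of G and Q = P ∩ N. Suppose that P/QP' and Q/Q' are elementary abelian (every square of an element of P lies in the subgroup generated by Q and the derived subgroup of P, and every square of an element of Q lies in the derived subgroup of Q), and that the commutator factor group N/N' has odd order. Then P/P' is elementary abelian. -/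
theorem result {G : Type*} [Group G] [Finite G] (N : Subgroup G) [N.Normal] (P : Sylow 2 G)
    (hP : ∀ x ∈ (P : Subgroup G), x ^ 2 ∈ ((P : Subgroup G) ⊓ N) ⊔ ⁅(P : Subgroup G), (P : Subgroup G)⁆)
    (hQ : ∀ x ∈ (P : Subgroup G) ⊓ N, x ^ 2 ∈ ⁅(P : Subgroup G) ⊓ N, (P : Subgroup G) ⊓ N⁆)
    (hodd : Odd (Nat.card (Abelianization N))) :
    ∀ x ∈ (P : Subgroup G), x ^ 2 ∈ ⁅(P : Subgroup G), (P : Subgroup G)⁆ := by
  classical
  obtain ⟨K, hK⟩ : ∃ K : Subgroup G, K = (P : Subgroup G) ⊔ N := ⟨_, rfl⟩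
  have hPK : (P : Subgroup G) ≤ K := hK ▸ le_sup_left
  have hNK : N ≤ K := hK ▸ le_sup_right
  have hmapP : ((P : Subgroup G).subgroupOf K).map K.subtype = (P : Subgroup G) :=
    Subgroup.map_subgroupOf_eq_of_le hPK
  have hmapN : (N.subgroupOf K).map K.subtype = N := Subgroup.map_subgroupOf_eq_of_le hNK
  have hinj : Function.Injective K.subtype := Subgroup.subtype_injective K
  have hmem : ∀ (T : Subgroup K) (y : K), (y : G) ∈ T.map K.subtype → y ∈ T := by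
    intro T y hy
    obtain ⟨z, hz, hzy⟩ := hy
    have : z = y := hinj hzy
    rwa [← this]
  have hmapc : (⁅(P : Subgroup G).subgroupOf K, (P : Subgroup G).subgroupOf K⁆).map K.subtype
      = ⁅(P : Subgroup G), (P : Subgroup G)⁆ := by
    rw [Subgroup.map_commutator, hmapP]
  have hmapinf : ((P : Subgroup G).subgroupOf K ⊓ N.subgroupOf K).map K.subtype
      = (P : Subgroup G) ⊓ N := by
    rw [Subgroup.map_inf _ _ _ hinj, hmapP, hmapN]
  have hkey := key (H := K) (N.subgroupOf K) ((P : Subgroup G).subgroupOf K) ?_ ?_ ?_ ?_ ?_ ?_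
  · intro x hx
    have h1 := hkey ⟨x, hPK hx⟩ (Subgroup.mem_subgroupOf.2 hx)
    rw [← hmapc]
    exact ⟨_, h1, rfl⟩
  · -- odd index
    have h1 : ((P : Subgroup G).subgroupOf K).index ∣ (P : Subgroup G).index :=
      Subgroup.relIndex_dvd_index_of_le hPK
    have h2 : ¬ 2 ∣ (P : Subgroup G).index := P.not_dvd_index
    rw [← Nat.not_even_iff_odd, even_iff_two_dvd]
    intro h3
    exact h2 (dvd_trans h3 h1)
  · exact P.isPGroup'.comap_subtype
  · intro g
    have hg : (g : G) ∈ ((((P : Subgroup G) ⊔ N : Subgroup G)) : Set G) := by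
      rw [← hK]
      exact g.2
    rw [Subgroup.mul_normal, Set.mem_mul] at hg
    obtain ⟨a, ha, n, hn, hg⟩ := hg
    refine ⟨⟨a, hPK ha⟩, Subgroup.mem_subgroupOf.2 ha, ⟨n, hNK hn⟩, Subgroup.mem_subgroupOf.2 hn, ?_⟩
    apply Subtype.ext
    exact hg.symm
  · intro x hx
    apply hmem
    rw [Subgroup.map_sup, hmapinf, hmapc]
    exact hP x (Subgroup.mem_subgroupOf.1 hx)
  · intro x hx
    apply hmem
    rw [Subgroup.map_commutator, hmapinf]
    apply hQ
    rw [← hmapinf]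
    exact ⟨x, hx, rfl⟩
  · have e : Abelianization (N.subgroupOf K) ≃* Abelianization N :=
      (Subgroup.subgroupOfEquivOfLe hNK).abelianizationCongr
    rw [Nat.card_congr e.toEquiv]
    exact hodd

end Cfsg.Agent.S4582
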