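import Mathlib
import Cfsg.Statements.S4583
import Cfsg.Agent.Lib.helper3.PrincNormal2
import Cfsg.Agent.Lib.helper3.RankOne2
import Cfsg.Agent.Lib.helper3.Irr5
import Cfsg.Agent.Lib.helper3.Irr9

set_option autoImplicit false
open Cfsg

namespace Cfsg.Agent.S4583

set_option linter.style.haveILetI false

open Cfsg Cfsg.Agent.Lib.helper3.Block Cfsg.Agent.Lib.helper3.LocalM Cfsg.Agent.Lib.helper3.Irr Cfsg.Agent.Lib.helper3.CharBasic Cfsg.Agent.Lib.helper3.IndFun

/-- Let N be a normal subgroup of the finite group G, p a prime, M a maximal ideal of the algebraic integers containing p, and P a Sylow p-subgroup of G. Let θ be an irreducible character of N of degree prime to p lying in the principal p-block of N, and suppose θ extends to the subgroup NP (some irreducible character of NP restricts to θ). Then some irreducible character χ of G of degree prime to p in the principal p-block of G lies over θ (θ is a constituent of the restriction of χ to N). -/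
theorem result {G : Type*} [Group G] [Finite G] (N : Subgroup G) [N.Normal] (p : ℕ) [Fact p.Prime] (M : Ideal Cfsg.AlgInt) (hM : Cfsg.IsPModular p M) (P : Sylow p G)
    (θ : Cfsg.IrrCharacter N) (hθ : θ ∈ Cfsg.principalBlock M N) (hdeg : ¬ p ∣ Cfsg.charDegree (θ : N → ℂ))
    (hext : ∃ η : Cfsg.IrrCharacter ↥(N ⊔ (P : Subgroup G)), ∀ n : N, (η : ↥(N ⊔ (P : Subgroup G)) → ℂ) (Subgroup.inclusion le_sup_left n) = (θ : N → ℂ) n) :
    ∃ χ : Cfsg.IrrCharacter G, χ ∈ Cfsg.principalBlock M G ∧ ¬ p ∣ Cfsg.charDegree (χ : G → ℂ) ∧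
      haveI := Fintype.ofFinite N; Cfsg.classInner (fun n : N => (χ : G → ℂ) n) (θ : N → ℂ) ≠ 0 := by
  classical
  haveI : Fintype G := Fintype.ofFinite G
  haveI hFN : Fintype N := Fintype.ofFinite N
  haveI : Fintype ↥(N ⊔ (P : Subgroup G)) := Fintype.ofFinite _
  haveI hMp := isPrime_of_isPModular hM
  have hMtop : M ≠ ⊤ := hM.2.1.ne_top
  have hp : p.Prime := Fact.out
  obtain ⟨η, hη⟩ := hext
  -- p-regular elements of `NP` lie in `N`
  have hregN : ∀ h : ↥(N ⊔ (P : Subgroup G)), ¬ p ∣ orderOf h → (h : G) ∈ N := by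
    intro h hreg
    have h1 : (QuotientGroup.mk' N) (h : G)
        ∈ (N ⊔ (P : Subgroup G)).map (QuotientGroup.mk' N) := Subgroup.mem_map_of_mem _ h.2
    rw [Subgroup.map_sup, QuotientGroup.map_mk'_self, bot_sup_eq] at h1
    obtain ⟨x, hx, hxh⟩ := h1
    obtain ⟨k, hk⟩ := P.isPGroup' ⟨x, hx⟩
    have hk' : x ^ (p ^ k) = 1 := by
      have := congrArg Subtype.val hk
      simpa using this
    have h2 : ((QuotientGroup.mk' N) (h : G)) ^ (p ^ k) = 1 := by
      rw [← hxh, ← map_pow, hk', map_one]
    have h3 : ¬ p ∣ orderOf ((QuotientGroup.mk' N) (h : G)) := by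
      intro hd
      apply hreg
      rw [← Subgroup.orderOf_coe]
      exact hd.trans (orderOf_map_dvd _ _)
    have h4 := eq_one_of_reg_of_pow hp h3 k h2
    exact (QuotientGroup.eq_one_iff _).mp h4
  have hη1 : (η : ↥(N ⊔ (P : Subgroup G)) → ℂ) 1 = (θ : N → ℂ) 1 := by
    have := hη 1
    rwa [map_one] at this
  have hreg_eq : regOmega p (η : ↥(N ⊔ (P : Subgroup G)) → ℂ) = regOmega p (θ : N → ℂ) := by
    unfold regOmega
    symm
    apply Fintype.sum_of_injective (Subgroup.inclusion le_sup_left)
      (Subgroup.inclusion_injective _)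
    · intro h hh
      rw [if_pos, zero_mul]
      by_contra hreg
      apply hh
      exact ⟨⟨(h : G), hregN h hreg⟩, Subtype.ext rfl⟩
    · intro n
      rw [hη n, hη1]
      have : orderOf (Subgroup.inclusion (le_sup_left : N ≤ N ⊔ (P : Subgroup G)) n)
          = orderOf n :=
        orderOf_injective (Subgroup.inclusion _) (Subgroup.inclusion_injective _) n
      rw [this]
  have hθunit := not_memLocalIdeal_regOmega hM θ hθ
  have hform := sum_classInner_indFun_mul_regOmega p (N ⊔ (P : Subgroup G))
    (η : ↥(N ⊔ (P : Subgroup G)) → ℂ) (apply_one_ne_zero η.2)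
  rw [hreg_eq, hη1, apply_one_eq_charDegree θ] at hform
  have hidx : ¬ p ∣ (N ⊔ (P : Subgroup G)).index := by
    intro h
    have h1 : (N ⊔ (P : Subgroup G)).index ∣ (P : Subgroup G).index :=
      Subgroup.index_dvd_of_le le_sup_right
    exact P.not_dvd_index (h.trans h1)
  -- the right side is a unit
  have hRHS : ¬ MemLocalIdeal M (((N ⊔ (P : Subgroup G)).index : ℂ)
      * (((charDegree (θ : N → ℂ) : ℕ) : ℂ) * regOmega p (θ : N → ℂ))) := by
    intro h
    rcases memLocalIdeal_or_of_mul_local
      (memLocalRing_of_integral (isIntegral_natCast _))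
      (memLocalRing_mul (memLocalRing_of_integral (isIntegral_natCast _))
        (memLocalRing_regOmega hM θ hθ)) h with h' | h'
    · exact not_memLocalIdeal_natCast hM _ hidx h'
    · rcases memLocalIdeal_or_of_mul_local
        (memLocalRing_of_integral (isIntegral_natCast _))
        (memLocalRing_regOmega hM θ hθ) h' with h'' | h''
      · exact not_memLocalIdeal_natCast hM _ hdeg h''
      · exact hθunit h''
  -- find the character
  have hex : ∃ χ : IrrCharacter G, χ ∈ principalBlock M G ∧ ¬ p ∣ charDegree (χ : G → ℂ) ∧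
      classInner (indFun (N ⊔ (P : Subgroup G)) (η : ↥(N ⊔ (P : Subgroup G)) → ℂ))
        (χ : G → ℂ) ≠ 0 := by
    by_contra hcon
    push Not at hcon
    apply hRHS
    rw [← hform]
    apply memLocalIdeal_sum
    intro χ _
    by_cases hχ : χ ∈ principalBlock M G
    · by_cases hdvd : p ∣ charDegree (χ : G → ℂ)
      · obtain ⟨n, hn⟩ := exists_nat_classInner_of_isCharacter_of_isCharacter
          (isCharacter_indFun (N ⊔ (P : Subgroup G)) _ (isCharacter_of_isIrrCharacter η.2))
          (isCharacter_of_isIrrCharacter χ.2)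
        rw [hn, apply_one_eq_charDegree χ]
        have h1 : MemLocalIdeal M (((charDegree (χ : G → ℂ) : ℕ) : ℂ)) := by
          have : ((charDegree (χ : G → ℂ) : ℕ) : AlgInt) ∈ M := by
            rw [natCast_mem_iff hM]
            exact hdvd
          have h := memLocalIdeal_of_mem this hMtop
          simpa using h
        have h2 := memLocalIdeal_mul_localRing (memLocalRing_regOmega hM χ hχ) h1
        have h3 := memLocalIdeal_mul_integral h2 (isIntegral_natCast n)
        convert h3 using 1
        ring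
      · rw [hcon χ hχ hdvd, zero_mul]
        exact memLocalIdeal_zero hMtop
    · rw [regOmega_eq_zero hM χ hχ, mul_zero, mul_zero]
      exact memLocalIdeal_zero hMtop
  obtain ⟨χ, hχB, hχdeg, hχne⟩ := hex
  refine ⟨χ, hχB, hχdeg, ?_⟩
  -- `χ` lies over `θ`
  have hχc := isCharacter_of_isIrrCharacter χ.2
  have hχH := isCharacter_restrict hχc (N ⊔ (P : Subgroup G))
  have hne2 : classInner (fun h : ↥(N ⊔ (P : Subgroup G)) => (χ : G → ℂ) h)
      (η : ↥(N ⊔ (P : Subgroup G)) → ℂ) ≠ 0 := by
    intro h0
    apply hχne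
    rw [frobenius_reciprocity _ _ _ (isClassFunction_of_isCharacter hχc),
      ← classInner_conj_symm, h0, map_zero]
  have hρ := isCharacter_sub_of_classInner_ne_zero hχH η hne2
  have hρN : IsCharacter N (fun n : N =>
      ((fun h : ↥(N ⊔ (P : Subgroup G)) => (χ : G → ℂ) h)
        - (η : ↥(N ⊔ (P : Subgroup G)) → ℂ)) (Subgroup.inclusion le_sup_left n)) :=
    isCharacter_comp hρ (Subgroup.inclusion le_sup_left)
  obtain ⟨b, hb⟩ := exists_nat_classInner_of_isCharacter hρN θ
  have hsum : (fun n : N => (χ : G → ℂ) n)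
      = (θ : N → ℂ) + fun n : N =>
        ((fun h : ↥(N ⊔ (P : Subgroup G)) => (χ : G → ℂ) h)
          - (η : ↥(N ⊔ (P : Subgroup G)) → ℂ)) (Subgroup.inclusion le_sup_left n) := by
    funext n
    simp only [Pi.add_apply, Pi.sub_apply]
    rw [hη n]
    simp
  have hfinal : classInner (fun n : N => (χ : G → ℂ) n) (θ : N → ℂ) ≠ 0 := by
    rw [hsum, classInner_add_left, hb, irr_classInner_self θ.2]
    have : (1 : ℕ) + b ≠ 0 := by omega
    exact_mod_cast this
  convert hfinal


end Cfsg.Agent.S4583
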