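import Cfsg.Statements.S4584
import Mathlib
import Cfsg.Agent.Lib.Helper4.AbelianIndexP
import Cfsg.Agent.S3741

set_option autoImplicit false
set_option linter.style.haveILetI false
open Cfsg
open Cfsg.Agent.Lib.Helper4.AbelianIndexP

namespace Cfsg.Agent.S4584

/-- if `C(x)` has index `p` and a large centre, the index formula holds -/
theorem formula {P : Type*} [Group P] [Finite P] (p : ℕ) [Fact p.Prime] (hP : IsPGroup p P)
    (hna : ¬ ∀ g h : P, g * h = h * g) (x : P)
    (hidx : (Subgroup.centralizer ({x} : Set P)).index = p)
    (hW : Nat.card ↥(Subgroup.centralizer ({x} : Set P)) ≤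
      p * Nat.card (Subgroup.center ↥(Subgroup.centralizer ({x} : Set P)))) :
    (Subgroup.center P).index = p * Nat.card (commutator P) := by
  have hpp : p.Prime := Fact.out
  haveI hMn : (Subgroup.centralizer ({x} : Set P)).Normal :=
    normal_of_index_eq_prime p hP _ hidx
  -- `M / Z(M)` is cyclic
  have hq := Subgroup.card_eq_card_quotient_mul_card_subgroup
    (Subgroup.center ↥(Subgroup.centralizer ({x} : Set P)))
  have hQle : Nat.card (↥(Subgroup.centralizer ({x} : Set P)) ⧸
      Subgroup.center ↥(Subgroup.centralizer ({x} : Set P))) ≤ p := by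
    have hpos : 0 < Nat.card (Subgroup.center ↥(Subgroup.centralizer ({x} : Set P))) :=
      Nat.card_pos
    rw [hq] at hW
    exact Nat.le_of_mul_le_mul_right hW hpos
  have hQp : IsPGroup p (↥(Subgroup.centralizer ({x} : Set P)) ⧸
      Subgroup.center ↥(Subgroup.centralizer ({x} : Set P))) :=
    (hP.to_subgroup _).to_quotient _
  haveI hcyc : IsCyclic (↥(Subgroup.centralizer ({x} : Set P)) ⧸
      Subgroup.center ↥(Subgroup.centralizer ({x} : Set P))) := by
    obtain ⟨c, hc⟩ := hQp.exists_card_eq
    have hc1 : c ≤ 1 := by
      by_contra h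
      push Not at h
      have h2 : p ^ 2 ≤ p ^ c := Nat.pow_le_pow_right hpp.pos h
      rw [← hc] at h2
      nlinarith [hpp.two_le]
    interval_cases c
    · rw [pow_zero] at hc
      haveI : Subsingleton (↥(Subgroup.centralizer ({x} : Set P)) ⧸
          Subgroup.center ↥(Subgroup.centralizer ({x} : Set P))) :=
        (Nat.card_eq_one_iff_unique.mp hc).1
      exact isCyclic_of_subsingleton
    · rw [pow_one] at hc
      exact isCyclic_of_prime_card hc
  have hMab := commutative_of_cyclic_center_quotient
    (QuotientGroup.mk' (Subgroup.center ↥(Subgroup.centralizer ({x} : Set P))))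
    (by rw [QuotientGroup.ker_mk'])
  have hA : ∀ a ∈ Subgroup.centralizer ({x} : Set P), ∀ b ∈ Subgroup.centralizer ({x} : Set P),
      a * b = b * a := by
    intro a ha b hb
    exact congrArg Subtype.val (hMab ⟨a, ha⟩ ⟨b, hb⟩)
  have := index_center_eq (Subgroup.centralizer ({x} : Set P)) hA (hidx ▸ hpp) hna
  rwa [hidx] at this

/-- Let p be a prime and P a group of order p^4. Then the derived subgroup P' has order p if and only if the centre Z(P) has index p^2 in P. -/
theorem result {P : Type*} [Group P] [Finite P] (p : ℕ) [Fact p.Prime] (hP : Nat.card P = p ^ 4) :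
    Nat.card (commutator P) = p ↔ (Subgroup.center P).index = p ^ 2 := by
  classical
  have hpp : p.Prime := Fact.out
  have hPG : IsPGroup p P := IsPGroup.of_card hP
  have hZmul := Subgroup.card_mul_index (Subgroup.center P)
  constructor
  · intro hc
    -- non-abelian
    have hna : ¬ ∀ g h : P, g * h = h * g := by
      intro h
      have : commutator P = ⊥ := by
        rw [commutator_def, eq_bot_iff, Subgroup.commutator_le]
        intro g _ k _
        rw [Subgroup.mem_bot, commutatorElement_eq_one_iff_mul_comm]
        exact h g k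
      rw [this, Subgroup.card_bot] at hc
      exact hpp.one_lt.ne hc
    obtain ⟨x, hx⟩ : ∃ x : P, x ∉ Subgroup.center P := by
      by_contra h
      push Not at h
      exact hna (fun g k => ((Subgroup.mem_center_iff.mp (h k)) g))
    -- the derived subgroup is central
    have hcen : commutator P ≤ Subgroup.center P :=
      Cfsg.Agent.H1.normal_card_p_le_center hPG _ hc
    have hkey := (Cfsg.Agent.S3741.key p (⊤ : Subgroup P) ⊤
      (fun z hz y _ => by
        have hz' : z ∈ commutator P := by rw [commutator_def]; exact hz
        exact ((Subgroup.mem_center_iff.mp (hcen hz')) y).symm)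
      (by rw [← commutator_def]; exact hc) x (Subgroup.mem_top x)).2
      (by
        intro h
        apply hx
        rw [Subgroup.coe_top, Subgroup.centralizer_univ] at h
        exact h)
    have hMcard : p * Nat.card ↥(Subgroup.centralizer ({x} : Set P)) = Nat.card P := by
      have e1 : Nat.card ↥(⊤ : Subgroup P) = Nat.card P := Subgroup.card_top
      rw [e1] at hkey
      rw [← hkey]
      congr 1
      apply Nat.card_congr
      refine ⟨fun m => ⟨⟨m.1, Subgroup.mem_top _⟩, ?_⟩, fun b => ⟨b.1.1, ?_⟩,
        fun m => rfl, fun b => rfl⟩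
      · exact (Subgroup.mem_centralizer_singleton_iff.mp m.2).symm
      · rw [Subgroup.mem_centralizer_singleton_iff]; exact b.2.symm
    have hidx : (Subgroup.centralizer ({x} : Set P)).index = p := by
      have h1 := Subgroup.card_mul_index (Subgroup.centralizer ({x} : Set P))
      rw [← hMcard, mul_comm] at h1
      have hpos : 0 < Nat.card ↥(Subgroup.centralizer ({x} : Set P)) := Nat.card_pos
      exact Nat.eq_of_mul_eq_mul_right hpos h1
    have hM3 : Nat.card ↥(Subgroup.centralizer ({x} : Set P)) = p ^ 3 := by
      rw [hP] at hMcard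
      have : p * Nat.card ↥(Subgroup.centralizer ({x} : Set P)) = p * p ^ 3 := by
        rw [hMcard]; ring
      exact Nat.eq_of_mul_eq_mul_left hpp.pos this
    have hZp : p ≤ Nat.card (Subgroup.center P) := by
      haveI : Nontrivial P := by
        by_contra h
        rw [not_nontrivial_iff_subsingleton] at h
        exact hna (fun g k => congrArg₂ _ (Subsingleton.elim g k) (Subsingleton.elim k g))
      haveI := hPG.center_nontrivial
      obtain ⟨a, ha⟩ := (hPG.to_subgroup (Subgroup.center P)).exists_card_eq
      have h1 : 1 < Nat.card (Subgroup.center P) := Finite.one_lt_card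
      rw [ha] at h1 ⊢
      have ha0 : a ≠ 0 := by rintro rfl; simp at h1
      calc p = p ^ 1 := (pow_one p).symm
        _ ≤ p ^ a := Nat.pow_le_pow_right hpp.pos (Nat.one_le_iff_ne_zero.mpr ha0)
    have hW := card_center_centralizer p hPG x hx
    have hf := formula p hPG hna x hidx (by
      rw [hM3]
      calc p ^ 3 = p * (p * p) := by ring
        _ ≤ p * (p * Nat.card (Subgroup.center P)) :=
          Nat.mul_le_mul_left _ (Nat.mul_le_mul_left _ hZp)
        _ ≤ p * Nat.card (Subgroup.center ↥(Subgroup.centralizer ({x} : Set P))) :=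
          Nat.mul_le_mul_left _ hW)
    rw [hf, hc]; ring
  · intro hi
    have hZ2 : Nat.card (Subgroup.center P) = p ^ 2 := by
      rw [hi, hP] at hZmul
      have : Nat.card (Subgroup.center P) * p ^ 2 = p ^ 2 * p ^ 2 := by rw [hZmul]; ring
      exact Nat.eq_of_mul_eq_mul_right (pow_pos hpp.pos 2) this
    have hna : ¬ ∀ g h : P, g * h = h * g := by
      intro h
      have : Subgroup.center P = ⊤ := by
        rw [eq_top_iff]
        intro g _
        rw [Subgroup.mem_center_iff]
        intro k; exact h k g
      rw [this, Subgroup.index_top] at hi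
      have : 1 < p ^ 2 := Nat.one_lt_pow (by norm_num) hpp.one_lt
      omega
    obtain ⟨x, hx⟩ : ∃ x : P, x ∉ Subgroup.center P := by
      by_contra h
      push Not at h
      exact hna (fun g k => ((Subgroup.mem_center_iff.mp (h k)) g))
    have hW := card_center_centralizer p hPG x hx
    rw [hZ2] at hW
    have hWM : Nat.card (Subgroup.center ↥(Subgroup.centralizer ({x} : Set P))) ≤
        Nat.card ↥(Subgroup.centralizer ({x} : Set P)) := Subgroup.card_le_card_group _
    have hMtop : Subgroup.centralizer ({x} : Set P) ≠ ⊤ := by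
      intro h
      apply hx
      rw [Subgroup.mem_center_iff]
      intro g
      exact Subgroup.mem_centralizer_singleton_iff.mp (h ▸ Subgroup.mem_top g)
    obtain ⟨c, hc⟩ := (hPG.to_subgroup (Subgroup.centralizer ({x} : Set P))).exists_card_eq
    have hc3 : c = 3 := by
      have h1 : p ^ 3 ≤ p ^ c := by
        rw [← hc]
        calc p ^ 3 = p * p ^ 2 := by ring
          _ ≤ _ := hW.trans hWM
      have h2 : 3 ≤ c := (Nat.pow_le_pow_iff_right hpp.one_lt).mp h1
      have h3 : c < 4 := by
        by_contra h
        push Not at h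
        have h4 : p ^ 4 ≤ p ^ c := Nat.pow_le_pow_right hpp.pos h
        have h5 : Nat.card ↥(Subgroup.centralizer ({x} : Set P)) ≤ Nat.card P :=
          Subgroup.card_le_card_group _
        have h6 : Nat.card ↥(Subgroup.centralizer ({x} : Set P)) = Nat.card P := by
          rw [hc, hP] at h5 ⊢
          exact le_antisymm h5 h4
        exact hMtop ((Subgroup.card_eq_iff_eq_top _).mp h6)
      omega
    rw [hc3] at hc
    have hidx : (Subgroup.centralizer ({x} : Set P)).index = p := by
      have h1 := Subgroup.card_mul_index (Subgroup.centralizer ({x} : Set P))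
      rw [hc, hP] at h1
      have : p ^ 3 * (Subgroup.centralizer ({x} : Set P)).index = p ^ 3 * p := by
        rw [h1]; ring
      exact Nat.eq_of_mul_eq_mul_left (pow_pos hpp.pos 3) this
    have hf := formula p hPG hna x hidx (by
      rw [hc]
      calc p ^ 3 = p * p ^ 2 := by ring
        _ ≤ p * (p * p ^ 2) := Nat.mul_le_mul_left _ (Nat.le_mul_of_pos_left _ hpp.pos)
        _ ≤ _ := Nat.mul_le_mul_left _ hW)
    rw [hi] at hf
    have : p * p = p * Nat.card (commutator P) := by rw [← hf]; ring
    exact (Nat.eq_of_mul_eq_mul_left hpp.pos this).symm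

end Cfsg.Agent.S4584
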