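import Cfsg.Statements.S4585
import Mathlib
import Cfsg.Agent.S4584
import Cfsg.Agent.H2.MaxClassLCS

set_option autoImplicit false
set_option linter.style.haveILetI false
open Cfsg

namespace Cfsg.Agent.S4585

universe u

/-- strict decrease of the lower central series of a finite `p`-group, in terms of orders -/
theorem mul_card_lcs_le {P : Type u} [Group P] [Finite P] (p : ℕ) [Fact p.Prime]
    (hP : IsPGroup p P) [Group.IsNilpotent P] (k : ℕ) (hk : k < Group.nilpotencyClass P) :
    p * Nat.card (Subgroup.lowerCentralSeries (⊤ : Subgroup P) (k + 1)) ≤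
      Nat.card (Subgroup.lowerCentralSeries (⊤ : Subgroup P) k) := by
  have hpp : p.Prime := Fact.out
  have hle : Subgroup.lowerCentralSeries (⊤ : Subgroup P) (k + 1) ≤
      Subgroup.lowerCentralSeries ⊤ k :=
    Subgroup.lowerCentralSeries_antitone _ (Nat.le_succ k)
  have hne : Subgroup.lowerCentralSeries (⊤ : Subgroup P) (k + 1) ≠
      Subgroup.lowerCentralSeries ⊤ k := by
    intro h
    have h1 := Cfsg.Agent.H2.MaxClassLCS.lcs_stable k h (Group.nilpotencyClass P - k)
    have h2 : k + (Group.nilpotencyClass P - k) = Group.nilpotencyClass P := by omega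
    rw [h2, Subgroup.lowerCentralSeries_nilpotencyClass] at h1
    have h3 := Subgroup.lowerCentralSeries_eq_bot_iff_nilpotencyClass_le.mp h1.symm
    omega
  obtain ⟨a, ha⟩ := (hP.to_subgroup
    (Subgroup.lowerCentralSeries (⊤ : Subgroup P) (k + 1))).exists_card_eq
  obtain ⟨b, hb⟩ := (hP.to_subgroup
    (Subgroup.lowerCentralSeries (⊤ : Subgroup P) k)).exists_card_eq
  have hlt : a < b := by
    by_contra h
    push Not at h
    have hge : Nat.card (Subgroup.lowerCentralSeries (⊤ : Subgroup P) k) ≤
        Nat.card (Subgroup.lowerCentralSeries (⊤ : Subgroup P) (k + 1)) := by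
      rw [ha, hb]; exact Nat.pow_le_pow_right hpp.pos h
    exact hne (Subgroup.eq_of_le_of_card_ge hle hge)
  rw [ha, hb, ← pow_succ']
  exact Nat.pow_le_pow_right hpp.pos hlt

/-- a finite `p`-group whose derived subgroup has index at most `p` is commutative -/
theorem comm_of_index_le {P : Type u} [Group P] [Finite P] (p : ℕ) [Fact p.Prime]
    (hP : IsPGroup p P) (hi : (commutator P).index ≤ p) : ∀ g h : P, g * h = h * g := by
  have hpp : p.Prime := Fact.out
  have hQp : IsPGroup p (P ⧸ commutator P) := hP.to_quotient _
  have hcyc : IsCyclic (P ⧸ commutator P) := by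
    obtain ⟨c, hc⟩ := hQp.exists_card_eq
    rw [Subgroup.index_eq_card, hc] at hi
    have hc1 : c ≤ 1 := by
      by_contra h
      push Not at h
      have h2 : p ^ 2 ≤ p ^ c := Nat.pow_le_pow_right hpp.pos h
      nlinarith [hpp.two_le]
    interval_cases c
    · rw [pow_zero] at hc
      haveI : Subsingleton (P ⧸ commutator P) := (Nat.card_eq_one_iff_unique.mp hc).1
      exact isCyclic_of_subsingleton
    · rw [pow_one] at hc
      exact isCyclic_of_prime_card hc
  exact Cfsg.Agent.H2.MaxClassLCS.comm_of_cyclic_abelianization p hP hcyc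

/-- a finite `p`-group whose centre has index at most `p` is commutative -/
theorem comm_of_center_index_le {P : Type u} [Group P] [Finite P] (p : ℕ) [Fact p.Prime]
    (hP : IsPGroup p P) (hi : (Subgroup.center P).index ≤ p) : ∀ g h : P, g * h = h * g := by
  have hpp : p.Prime := Fact.out
  have hQp : IsPGroup p (P ⧸ Subgroup.center P) := hP.to_quotient _
  haveI hcyc : IsCyclic (P ⧸ Subgroup.center P) := by
    obtain ⟨c, hc⟩ := hQp.exists_card_eq
    rw [Subgroup.index_eq_card, hc] at hi
    have hc1 : c ≤ 1 := by
      by_contra h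
      push Not at h
      have h2 : p ^ 2 ≤ p ^ c := Nat.pow_le_pow_right hpp.pos h
      nlinarith [hpp.two_le]
    interval_cases c
    · rw [pow_zero] at hc
      haveI : Subsingleton (P ⧸ Subgroup.center P) := (Nat.card_eq_one_iff_unique.mp hc).1
      exact isCyclic_of_subsingleton
    · rw [pow_one] at hc
      exact isCyclic_of_prime_card hc
  exact commutative_of_cyclic_center_quotient (QuotientGroup.mk' (Subgroup.center P))
    (by rw [QuotientGroup.ker_mk'])

/-- Let p be a prime and P a group of order p^4. Then P' has index p^2 in P if and only if P has maximal nilpotency class, that is, nilpotency class exactly 3. -/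
theorem result {P : Type*} [Group P] [Finite P] (p : ℕ) [Fact p.Prime] (hP : Nat.card P = p ^ 4) :
    (commutator P).index = p ^ 2 ↔ Group.nilpotencyClass P = 3 := by
  classical
  have hpp : p.Prime := Fact.out
  have hPG : IsPGroup p P := IsPGroup.of_card hP
  haveI : Group.IsNilpotent P := hPG.isNilpotent
  have hL0 : Subgroup.lowerCentralSeries (⊤ : Subgroup P) 0 = ⊤ := rfl
  have hL1 : Subgroup.lowerCentralSeries (⊤ : Subgroup P) 1 = commutator P := by
    rw [Subgroup.lowerCentralSeries_succ, hL0, commutator_def]
  have hcard1 := Subgroup.card_mul_index (commutator P)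
  rw [hP] at hcard1
  constructor
  · intro hi
    have hc2 : Nat.card (commutator P) = p ^ 2 := by
      rw [hi] at hcard1
      have : Nat.card (commutator P) * p ^ 2 = p ^ 2 * p ^ 2 := by rw [hcard1]; ring
      exact Nat.eq_of_mul_eq_mul_right (pow_pos hpp.pos 2) this
    -- non-commutative
    have hna : ¬ ∀ g h : P, g * h = h * g := by
      intro h
      have : commutator P = ⊥ := by
        rw [commutator_def, eq_bot_iff, Subgroup.commutator_le]
        intro g _ k _
        rw [Subgroup.mem_bot, commutatorElement_eq_one_iff_mul_comm]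
        exact h g k
      rw [this, Subgroup.card_bot] at hc2
      have : 1 < p ^ 2 := Nat.one_lt_pow (by norm_num) hpp.one_lt
      omega
    -- class at least 3
    have h3 : ¬ Group.nilpotencyClass P ≤ 2 := by
      intro hle
      have hb := Subgroup.lowerCentralSeries_eq_bot_iff_nilpotencyClass_le.mpr hle
      rw [Subgroup.lowerCentralSeries_succ, hL1,
        Subgroup.commutator_top_right_eq_bot_iff_le_center] at hb
      -- `P' ≤ Z(P)`
      have hZge : p ^ 2 ≤ Nat.card (Subgroup.center P) := hc2 ▸ Subgroup.card_le_of_le hb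
      have hZmul := Subgroup.card_mul_index (Subgroup.center P)
      obtain ⟨a, ha⟩ := (hPG.to_subgroup (Subgroup.center P)).exists_card_eq
      rw [ha, hP] at hZmul
      rw [ha] at hZge
      have ha2 : 2 ≤ a := (Nat.pow_le_pow_iff_right hpp.one_lt).mp hZge
      have ha4 : a ≤ 4 := by
        have : p ^ a ≤ p ^ 4 := by
          rw [← ha, ← hP]; exact Subgroup.card_le_card_group _
        exact (Nat.pow_le_pow_iff_right hpp.one_lt).mp this
      have hidx : (Subgroup.center P).index = p ^ (4 - a) := by
        have : p ^ a * (Subgroup.center P).index = p ^ a * p ^ (4 - a) := by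
          rw [hZmul, ← pow_add]; congr 1; omega
        exact Nat.eq_of_mul_eq_mul_left (pow_pos hpp.pos a) this
      by_cases ha' : a = 2
      · rw [ha'] at hidx
        have := (Cfsg.Agent.S4584.result p hP).mpr hidx
        rw [hc2] at this
        have h1 : p ^ 2 = p * p := by ring
        rw [h1] at this
        have := Nat.eq_of_mul_eq_mul_left hpp.pos (this.trans (mul_one p).symm)
        exact hpp.one_lt.ne' this
      · -- centre of index ≤ p: abelian
        apply hna
        apply comm_of_center_index_le p hPG
        rw [hidx]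
        have : 4 - a ≤ 1 := by omega
        calc p ^ (4 - a) ≤ p ^ 1 := Nat.pow_le_pow_right hpp.pos this
          _ = p := pow_one p
    -- class at most 3
    have h4 : Group.nilpotencyClass P ≤ 3 := by
      by_contra hgt
      push Not at hgt
      have e1 := mul_card_lcs_le p hPG 1 (by omega)
      have e2 := mul_card_lcs_le p hPG 2 (by omega)
      have e3 := mul_card_lcs_le p hPG 3 (by omega)
      rw [hL1, hc2] at e1
      have e4 : 1 ≤ Nat.card (Subgroup.lowerCentralSeries (⊤ : Subgroup P) (3 + 1)) :=
        Nat.card_pos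
      have hp2 := hpp.two_le
      have f3 : p ≤ Nat.card (Subgroup.lowerCentralSeries (⊤ : Subgroup P) 3) := by
        calc p = p * 1 := (mul_one p).symm
          _ ≤ p * Nat.card (Subgroup.lowerCentralSeries (⊤ : Subgroup P) (3 + 1)) :=
            Nat.mul_le_mul_left _ e4
          _ ≤ _ := e3
      have f2 : p * p ≤ Nat.card (Subgroup.lowerCentralSeries (⊤ : Subgroup P) 2) :=
        (Nat.mul_le_mul_left _ f3).trans e2
      have f1 : p * (p * p) ≤ p ^ 2 := (Nat.mul_le_mul_left _ f2).trans e1
      nlinarith [f1, hp2]
    omega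
  · intro hc
    have hna : ¬ ∀ g h : P, g * h = h * g := by
      intro h
      have hb : Subgroup.lowerCentralSeries (⊤ : Subgroup P) 1 = ⊥ := by
        rw [hL1, commutator_def, eq_bot_iff, Subgroup.commutator_le]
        intro g _ k _
        rw [Subgroup.mem_bot, commutatorElement_eq_one_iff_mul_comm]
        exact h g k
      have := Subgroup.lowerCentralSeries_eq_bot_iff_nilpotencyClass_le.mp hb
      omega
    have hgt : p < (commutator P).index := by
      by_contra h
      push Not at h
      exact hna (comm_of_index_le p hPG h)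
    have e1 := mul_card_lcs_le p hPG 1 (by omega)
    have e2 := mul_card_lcs_le p hPG 2 (by omega)
    rw [hL1] at e1
    have e3 : 1 ≤ Nat.card (Subgroup.lowerCentralSeries (⊤ : Subgroup P) (2 + 1)) :=
      Nat.card_pos
    have f2 : p ≤ Nat.card (Subgroup.lowerCentralSeries (⊤ : Subgroup P) 2) := by
      calc p = p * 1 := (mul_one p).symm
        _ ≤ p * Nat.card (Subgroup.lowerCentralSeries (⊤ : Subgroup P) (2 + 1)) :=
          Nat.mul_le_mul_left _ e3
        _ ≤ _ := e2
    have f1 : p * p ≤ Nat.card (commutator P) := (Nat.mul_le_mul_left _ f2).trans e1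
    -- index is a power of p
    obtain ⟨j, hj⟩ : ∃ j, (commutator P).index = p ^ j := by
      have hd : (commutator P).index ∣ p ^ 4 := hP ▸ Subgroup.index_dvd_card _
      obtain ⟨j, _, hj⟩ := (Nat.dvd_prime_pow hpp).mp hd
      exact ⟨j, hj⟩
    rw [hj] at hgt hcard1 ⊢
    have hj2 : 2 ≤ j := by
      by_contra h
      push Not at h
      have : p ^ j ≤ p ^ 1 := Nat.pow_le_pow_right hpp.pos (by omega)
      rw [pow_one] at this
      omega
    have hj2' : j ≤ 2 := by
      by_contra h
      push Not at h
      have h3 : p ^ 3 ≤ p ^ j := Nat.pow_le_pow_right hpp.pos (by omega)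
      have h4 : p * p * p ^ 3 ≤ p ^ 4 := by
        calc p * p * p ^ 3 ≤ Nat.card (commutator P) * p ^ j := Nat.mul_le_mul f1 h3
          _ = p ^ 4 := hcard1
      have h5 : p * p * p ^ 3 = p * p ^ 4 := by ring
      rw [h5] at h4
      have h6 : 0 < p ^ 4 := pow_pos hpp.pos 4
      nlinarith [hpp.two_le]
    have : j = 2 := le_antisymm hj2' hj2
    rw [this]

end Cfsg.Agent.S4585
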