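import Cfsg.Statements.S4586
import Mathlib
import Cfsg.Agent.Lib.Helper4.AbelianIndexP

set_option autoImplicit false
set_option linter.style.haveILetI false
open Cfsg
open Cfsg.Agent.Lib.Helper4.AbelianIndexP
open scoped commutatorElement

namespace Cfsg.Agent.S4586

/-- the key identity -/
theorem key {P : Type*} [Group P] [Finite P] (p : ℕ) [hp : Fact p.Prime] (N : Subgroup P)
    [hNn : N.Normal] (hN : N.index = p) (x : P) (hx : x ∉ N) :
    (commutator P).index * Nat.card (commutator N) =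
      p * Nat.card {n : N // x * n * x⁻¹ * (n : P)⁻¹ ∈ (commutator N).map N.subtype} := by
  classical
  have hpp : p.Prime := hp.out
  rw [Subgroup.map_subtype_commutator]
  have hMcard : Nat.card (commutator N) = Nat.card ↥⁅N, N⁆ := by
    rw [← Subgroup.map_subtype_commutator]
    exact Nat.card_congr (Subgroup.equivMapOfInjective _ _ N.subtype_injective).toEquiv
  rw [hMcard]
  haveI hMn : (⁅N, N⁆ : Subgroup P).Normal := inferInstance
  have hMN : ⁅N, N⁆ ≤ N := Subgroup.commutator_le_left N N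
  have hπs : Function.Surjective (QuotientGroup.mk' ⁅N, N⁆) := QuotientGroup.mk'_surjective _
  have hπker : (QuotientGroup.mk' ⁅N, N⁆).ker = ⁅N, N⁆ := QuotientGroup.ker_mk' _
  have hmemN : ∀ g : P, (QuotientGroup.mk' ⁅N, N⁆) g ∈ N.map (QuotientGroup.mk' ⁅N, N⁆) ↔ g ∈ N := by
    intro g
    constructor
    · rintro ⟨n, hn, hng⟩
      have : n⁻¹ * g ∈ ⁅N, N⁆ := by
        rw [← hπker, MonoidHom.mem_ker, map_mul, map_inv, hng, inv_mul_cancel]
      have e : g = n * (n⁻¹ * g) := by group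
      rw [e]; exact mul_mem hn (hMN this)
    · intro hg; exact ⟨g, hg, rfl⟩
  haveI hNbn : (N.map (QuotientGroup.mk' ⁅N, N⁆)).Normal := Subgroup.Normal.map hNn _ hπs
  have hNbab : ∀ a ∈ N.map (QuotientGroup.mk' ⁅N, N⁆), ∀ b ∈ N.map (QuotientGroup.mk' ⁅N, N⁆),
      a * b = b * a := by
    rintro _ ⟨a, ha, rfl⟩ _ ⟨b, hb, rfl⟩
    rw [← commutatorElement_eq_one_iff_mul_comm, ← map_commutatorElement]
    exact (QuotientGroup.eq_one_iff _).mpr (Subgroup.commutator_mem_commutator ha hb)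
  have hNbi : (N.map (QuotientGroup.mk' ⁅N, N⁆)).index = p := by
    rw [Subgroup.index_map_eq _ hπs (by rw [hπker]; exact hMN), hN]
  have hxb : (QuotientGroup.mk' ⁅N, N⁆) x ∉ N.map (QuotientGroup.mk' ⁅N, N⁆) := by
    rw [hmemN]; exact hx
  have hlem := card_commutator_mul (N.map (QuotientGroup.mk' ⁅N, N⁆)) hNbab (hNbi ▸ hpp) _ hxb
  -- the derived subgroup of the quotient
  have hcq : commutator (P ⧸ ⁅N, N⁆) = (commutator P).map (QuotientGroup.mk' ⁅N, N⁆) := by
    rw [commutator_def, commutator_def, Subgroup.map_commutator,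
      Subgroup.map_top_of_surjective _ hπs]
  have hMP : ⁅N, N⁆ ≤ commutator P := by
    rw [commutator_def]; exact Subgroup.commutator_mono le_top le_top
  have hcqi : (commutator (P ⧸ ⁅N, N⁆)).index = (commutator P).index := by
    rw [hcq]; exact Subgroup.index_map_eq _ hπs (by rw [hπker]; exact hMP)
  -- cardinalities
  have hQ := Subgroup.card_eq_card_quotient_mul_card_subgroup (⁅N, N⁆ : Subgroup P)
  have h1 := Subgroup.card_mul_index (N.map (QuotientGroup.mk' ⁅N, N⁆))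
  rw [hNbi] at h1
  have h2 := Subgroup.card_mul_index (commutator (P ⧸ ⁅N, N⁆))
  rw [hcqi] at h2
  -- the comap of the centralizer
  have h3 := Subgroup.card_mul_index
    ((N.map (QuotientGroup.mk' ⁅N, N⁆) ⊓ Subgroup.centralizer
      ({(QuotientGroup.mk' ⁅N, N⁆) x} : Set (P ⧸ ⁅N, N⁆))).comap (QuotientGroup.mk' ⁅N, N⁆))
  rw [Subgroup.index_comap_of_surjective _ hπs] at h3
  have h4 := Subgroup.card_mul_index
    (N.map (QuotientGroup.mk' ⁅N, N⁆) ⊓ Subgroup.centralizer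
      ({(QuotientGroup.mk' ⁅N, N⁆) x} : Set (P ⧸ ⁅N, N⁆)))
  have hR : Nat.card {n : N // x * n * x⁻¹ * (n : P)⁻¹ ∈ (⁅N, N⁆ : Subgroup P)} =
      Nat.card ↥((N.map (QuotientGroup.mk' ⁅N, N⁆) ⊓ Subgroup.centralizer
      ({(QuotientGroup.mk' ⁅N, N⁆) x} : Set (P ⧸ ⁅N, N⁆))).comap (QuotientGroup.mk' ⁅N, N⁆)) := by
    have hiff : ∀ g : P, (QuotientGroup.mk' ⁅N, N⁆) g ∈ Subgroup.centralizer
        ({(QuotientGroup.mk' ⁅N, N⁆) x} : Set (P ⧸ ⁅N, N⁆)) ↔ x * g * x⁻¹ * g⁻¹ ∈ ⁅N, N⁆ := by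
      intro g
      rw [Subgroup.mem_centralizer_singleton_iff, ← QuotientGroup.eq_one_iff (N := ⁅N, N⁆)]
      have e : ((x * g * x⁻¹ * g⁻¹ : P) : P ⧸ ⁅N, N⁆) =
          ⁅(QuotientGroup.mk' ⁅N, N⁆) x, (QuotientGroup.mk' ⁅N, N⁆) g⁆ := by
        rw [commutatorElement_def]; rfl
      rw [e, commutatorElement_eq_one_iff_mul_comm]
      exact eq_comm
    apply Nat.card_congr
    refine ⟨fun n => ⟨n.1.1, ?_⟩, fun c => ⟨⟨c.1, ?_⟩, ?_⟩, fun n => rfl, fun c => rfl⟩
    · rw [Subgroup.mem_comap]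
      exact Subgroup.mem_inf.mpr ⟨(hmemN _).mpr n.1.2, (hiff _).mpr n.2⟩
    · exact (hmemN _).mp (Subgroup.mem_inf.mp (Subgroup.mem_comap.mp c.2)).1
    · exact (hiff _).mp (Subgroup.mem_inf.mp (Subgroup.mem_comap.mp c.2)).2
  rw [hR]
  -- arithmetic
  set cQ' := Nat.card (commutator (P ⧸ ⁅N, N⁆)) with hcQ'
  set cC := Nat.card ↥(N.map (QuotientGroup.mk' ⁅N, N⁆) ⊓ Subgroup.centralizer
      ({(QuotientGroup.mk' ⁅N, N⁆) x} : Set (P ⧸ ⁅N, N⁆))) with hcC
  set iC := (N.map (QuotientGroup.mk' ⁅N, N⁆) ⊓ Subgroup.centralizer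
      ({(QuotientGroup.mk' ⁅N, N⁆) x} : Set (P ⧸ ⁅N, N⁆))).index with hiC
  set cNb := Nat.card ↥(N.map (QuotientGroup.mk' ⁅N, N⁆)) with hcNb
  set cQ := Nat.card (P ⧸ ⁅N, N⁆) with hcQ
  set cM := Nat.card ↥(⁅N, N⁆ : Subgroup P) with hcM
  set cCt := Nat.card ↥((N.map (QuotientGroup.mk' ⁅N, N⁆) ⊓ Subgroup.centralizer
      ({(QuotientGroup.mk' ⁅N, N⁆) x} : Set (P ⧸ ⁅N, N⁆))).comap (QuotientGroup.mk' ⁅N, N⁆))
    with hcCt
  set idx := (commutator P).index with hidx
  -- hlem : cQ' * cC = cNb ; h1 : cNb * p = cQ ; h2 : cQ' * idx = cQ ; h3 : cCt * iC = card P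
  -- h4 : cC * iC = cQ ; hQ : card P = cQ * cM
  have hNbpos : 0 < cNb := Nat.card_pos
  have hiCpos : 0 < iC := Nat.pos_of_ne_zero Subgroup.index_ne_zero_of_finite
  have e1 : idx = p * cC := by
    apply Nat.eq_of_mul_eq_mul_left hNbpos
    calc cNb * idx = cQ' * cC * idx := by rw [hlem]
      _ = (cQ' * idx) * cC := by ring
      _ = cQ * cC := by rw [h2]
      _ = cNb * p * cC := by rw [h1]
      _ = cNb * (p * cC) := by ring
  have e2 : cCt = cC * cM := by
    apply Nat.eq_of_mul_eq_mul_right hiCpos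
    calc cCt * iC = Nat.card P := h3
      _ = cQ * cM := hQ
      _ = cC * iC * cM := by rw [h4]
      _ = cC * cM * iC := by ring
  rw [e1, e2]; ring

/-- Let p be a prime, P a finite p-group and N a normal subgroup of P of index p. For x ∈ P write c(x) for the number of elements n of N whose commutator x n x⁻¹ n⁻¹ lies in the derived subgroup N' (so c(x)/#N' is the order of the centralizer of x acting on N/N'). Then [P : P'] = p² if and only if c(x) = p·#N' for every x ∈ P outside N, and also if and only if c(x) = p·#N' for some x ∈ P outside N. -/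
theorem result {P : Type*} [Group P] [Finite P] (p : ℕ) [Fact p.Prime] (hP : IsPGroup p P) (N : Subgroup P) [N.Normal] (hN : N.index = p) :
    ((commutator P).index = p ^ 2 ↔ ∀ x : P, x ∉ N →
        Nat.card {n : N // x * n * x⁻¹ * (n : P)⁻¹ ∈ (commutator N).map N.subtype} = p * Nat.card (commutator N)) ∧
    ((commutator P).index = p ^ 2 ↔ ∃ x : P, x ∉ N ∧
        Nat.card {n : N // x * n * x⁻¹ * (n : P)⁻¹ ∈ (commutator N).map N.subtype} = p * Nat.card (commutator N)) := by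
  have hpp : p.Prime := Fact.out
  have hcpos : 0 < Nat.card (commutator N) := Nat.card_pos
  obtain ⟨x₀, hx₀⟩ : ∃ x : P, x ∉ N := by
    by_contra h
    push Not at h
    have : N = ⊤ := eq_top_iff.mpr (fun g _ => h g)
    rw [this, Subgroup.index_top] at hN
    exact hpp.one_lt.ne hN
  have hfwd : (commutator P).index = p ^ 2 → ∀ x : P, x ∉ N →
      Nat.card {n : N // x * n * x⁻¹ * (n : P)⁻¹ ∈ (commutator N).map N.subtype} =
        p * Nat.card (commutator N) := by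
    intro hi x hx
    have h := key p N hN x hx
    rw [hi] at h
    apply Nat.eq_of_mul_eq_mul_left hpp.pos
    rw [← h]; ring
  have hbwd : ∀ x : P, x ∉ N →
      Nat.card {n : N // x * n * x⁻¹ * (n : P)⁻¹ ∈ (commutator N).map N.subtype} =
        p * Nat.card (commutator N) → (commutator P).index = p ^ 2 := by
    intro x hx hc
    have h := key p N hN x hx
    rw [hc] at h
    apply Nat.eq_of_mul_eq_mul_right hcpos
    rw [h]; ring
  refine ⟨⟨hfwd, fun h => hbwd x₀ hx₀ (h x₀ hx₀)⟩, ⟨fun hi => ⟨x₀, hx₀, hfwd hi x₀ hx₀⟩, ?_⟩⟩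
  rintro ⟨x, hx, hc⟩
  exact hbwd x hx hc

end Cfsg.Agent.S4586
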