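import Cfsg.Statements.S4593
import Cfsg.Agent.Lib.Lead.AbSylAut

set_option autoImplicit false
open Cfsg

namespace Cfsg.Agent.S4593

open Cfsg.Agent.Lib.Lead.AbSylAut

/-- Let G be a finite group with trivial centre and no nontrivial normal subgroup of odd order, whose Sylow 2-subgroups are abelian, and let P be a Sylow 2-subgroup. Every automorphism of G of 2-power order that fixes P elementwise is inner. -/
theorem result {G : Type*} [Group G] [Finite G] (hZ : Subgroup.center G = ⊥) (hcore : Cfsg.pPrimeCore 2 G = ⊥) (P : Sylow 2 G) (hab : IsMulCommutative (P : Subgroup G))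
    (α : MulAut G) (h2 : ∃ j : ℕ, orderOf α = 2 ^ j) (hfix : ∀ x ∈ (P : Subgroup G), α x = x) :
    ∃ g : G, ∀ x : G, α x = g * x * g⁻¹ := by
  have : Fact (Nat.Prime 2) := ⟨Nat.prime_two⟩
  -- conjugation formula
  have hconj : ∀ (φ : MulAut G) (g : G), φ * MulAut.conj g * φ⁻¹ = MulAut.conj (φ g) := by
    intro φ g
    ext x
    simp [MulAut.mul_apply, MulAut.conj_apply, map_mul, map_inv]
  have hcinj : Function.Injective (MulAut.conj : G →* MulAut G) := by
    rw [injective_iff_map_eq_one]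
    intro g hg
    have hgc : g ∈ Subgroup.center G := by
      rw [Subgroup.mem_center_iff]
      intro x
      have := congrArg (fun φ : MulAut G => φ x) hg
      simp only [MulAut.conj_apply, MulAut.one_apply] at this
      calc x * g = (g * x * g⁻¹) * g := by rw [this]
        _ = g * x := by group
    rw [hZ, Subgroup.mem_bot] at hgc
    exact hgc
  have hnorm : ((MulAut.conj : G →* MulAut G).range).Normal := by
    constructor
    rintro _ ⟨g, rfl⟩ φ
    exact ⟨φ g, (hconj φ g).symm⟩
  obtain ⟨H0, hH0⟩ : ∃ H0 : Subgroup (MulAut G), H0 = (MulAut.conj : G →* MulAut G).range ⊔ Subgroup.zpowers α :=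
    ⟨_, rfl⟩
  have hrange_le : (MulAut.conj : G →* MulAut G).range ≤ H0 := hH0 ▸ le_sup_left
  have hαH0 : α ∈ H0 := hH0 ▸ (le_sup_right : Subgroup.zpowers α ≤ _) (Subgroup.mem_zpowers α)
  -- decomposition of elements of `H0`
  have hdec : ∀ h ∈ H0, ∃ (g : G) (k : ℤ), h = MulAut.conj g * α ^ k := by
    intro h hh
    rw [hH0, ← SetLike.mem_coe, Subgroup.normal_mul, Set.mem_mul] at hh
    obtain ⟨_, ⟨g, rfl⟩, b, hb, rfl⟩ := hh
    obtain ⟨k, rfl⟩ := Subgroup.mem_zpowers_iff.mp hb
    exact ⟨g, k, rfl⟩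
  -- the embedding of `G`
  let ι : G →* ↥H0 := (MulAut.conj : G →* MulAut G).codRestrict H0 (fun g => hrange_le ⟨g, rfl⟩)
  have hι : ∀ g : G, ((ι g : ↥H0) : MulAut G) = MulAut.conj g := fun g => rfl
  have hιinj : Function.Injective ι := by
    intro x y hxy
    apply hcinj
    have := congrArg Subtype.val hxy
    simpa [hι] using this
  let a : ↥H0 := ⟨α, hαH0⟩
  have hacoe : ((a : ↥H0) : MulAut G) = α := rfl
  -- conjugating `ι g` by `h`
  have hconjH : ∀ (h : ↥H0) (g : G), h * ι g * h⁻¹ = ι ((h : MulAut G) g) := by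
    intro h g
    apply Subtype.ext
    simp only [Subgroup.coe_mul, Subgroup.coe_inv, hι]
    exact hconj _ g
  -- an element of `H0` fixing all of `G` is trivial
  have htriv : ∀ h : ↥H0, (∀ g : G, (h : MulAut G) g = g) → h = 1 := by
    intro h hh
    apply Subtype.ext
    ext g
    simpa using hh g
  have hdecH : ∀ h : ↥H0, ∃ (g : G) (k : ℤ), h = ι g * a ^ k := by
    intro h
    obtain ⟨g, k, hgk⟩ := hdec (h : MulAut G) h.2
    refine ⟨g, k, Subtype.ext ?_⟩
    rw [hgk]
    simp [hι, hacoe]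
  -- `a` commutes with `ι x` for `x ∈ P`
  have hapow : ∀ (k : ℤ), ∀ x ∈ (P : Subgroup G), ((a ^ k : ↥H0) : MulAut G) x = x := by
    intro k x hx
    have h1 : ((a ^ k : ↥H0) : MulAut G) = α ^ k := by simp [hacoe]
    rw [h1]
    -- direct argument via the stabilizer subgroup
    have hstab : α ∈ MulAction.stabilizer (MulAut G) x := by
      rw [MulAction.mem_stabilizer_iff]
      exact hfix x hx
    have := Subgroup.zpow_mem _ hstab k
    rw [MulAction.mem_stabilizer_iff] at this
    exact this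
  have hacomm : ∀ (k : ℤ), ∀ x ∈ (P : Subgroup G), a ^ k * ι x = ι x * a ^ k := by
    intro k x hx
    have := hconjH (a ^ k) x
    rw [hapow k x hx] at this
    calc a ^ k * ι x = (a ^ k * ι x * (a ^ k)⁻¹) * a ^ k := by group
      _ = ι x * a ^ k := by rw [this]
  -- the 2-group generated by `ι P` and `a`
  have hT0 : IsPGroup 2 ↥(Subgroup.zpowers a ⊔ (P : Subgroup G).map ι) := by
    apply IsPGroup.to_sup_of_normal_right'
    · obtain ⟨j, hj⟩ := h2
      rw [IsPGroup.iff_card]
      refine ⟨j, ?_⟩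
      rw [Nat.card_zpowers, ← hj]
      exact (Subgroup.orderOf_mk α hαH0)
    · exact P.isPGroup'.map ι
    · intro b hb
      obtain ⟨k, hk⟩ := Subgroup.mem_zpowers_iff.mp hb
      rw [Subgroup.mem_normalizer_iff]
      intro y
      have hcomm : ∀ w ∈ (P : Subgroup G).map ι, b * w = w * b := by
        rintro _ ⟨x, hx, rfl⟩
        rw [← hk]
        exact hacomm k x hx
      constructor
      · intro hy
        rw [hcomm y hy, mul_inv_cancel_right]; exact hy
      · intro hy
        have := hcomm _ hy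
        have h3 : y = b * y * b⁻¹ := by
          calc y = b⁻¹ * ((b * y * b⁻¹) * b) := by group
            _ = b⁻¹ * (b * (b * y * b⁻¹)) := by rw [this]
            _ = b * y * b⁻¹ := by group
        rw [h3]; exact hy
  obtain ⟨T, hT0T⟩ := hT0.exists_le_sylow
  have haT : a ∈ (T : Subgroup ↥H0) :=
    hT0T ((le_sup_left : Subgroup.zpowers a ≤ _) (Subgroup.mem_zpowers a))
  have hιPT : ∀ x ∈ (P : Subgroup G), ι x ∈ (T : Subgroup ↥H0) := fun x hx =>
    hT0T ((le_sup_right : (P : Subgroup G).map ι ≤ _) (Subgroup.mem_map_of_mem ι hx))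
  have hcomap : (T : Subgroup ↥H0).comap ι = (P : Subgroup G) := by
    apply P.is_maximal' (T.isPGroup'.comap_of_injective ι hιinj)
    intro x hx
    exact hιPT x hx
  have hTstr : ∀ t ∈ (T : Subgroup ↥H0), ∃ x ∈ (P : Subgroup G), ∃ k : ℤ, t = ι x * a ^ k := by
    intro t ht
    obtain ⟨g, k, rfl⟩ := hdecH t
    have hak : a ^ k ∈ (T : Subgroup ↥H0) := Subgroup.zpow_mem _ haT k
    have hιg : ι g ∈ (T : Subgroup ↥H0) := by
      have := Subgroup.mul_mem _ ht (Subgroup.inv_mem _ hak)
      rwa [mul_inv_cancel_right] at this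
    have hgP : g ∈ (P : Subgroup G) := by rw [← hcomap]; exact hιg
    exact ⟨g, hgP, k, rfl⟩
  have hTcomm : IsMulCommutative (T : Subgroup ↥H0) := by
    refine ⟨⟨?_⟩⟩
    rintro ⟨t1, ht1⟩ ⟨t2, ht2⟩
    apply Subtype.ext
    show t1 * t2 = t2 * t1
    obtain ⟨x, hx, k, rfl⟩ := hTstr t1 ht1
    obtain ⟨y, hy, l, rfl⟩ := hTstr t2 ht2
    have hxy : ι x * ι y = ι y * ι x := by
      rw [← map_mul, ← map_mul]
      congr 1
      have := hab.is_comm.comm ⟨x, hx⟩ ⟨y, hy⟩
      exact congrArg Subtype.val this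
    have hkl : a ^ k * a ^ l = a ^ l * a ^ k := by rw [← zpow_add, ← zpow_add, add_comm]
    calc ι x * a ^ k * (ι y * a ^ l) = ι x * (a ^ k * ι y) * a ^ l := by simp only [mul_assoc]
      _ = ι x * (ι y * a ^ k) * a ^ l := by rw [hacomm k y hy]
      _ = (ι x * ι y) * (a ^ k * a ^ l) := by simp only [mul_assoc]
      _ = (ι y * ι x) * (a ^ l * a ^ k) := by rw [hxy, hkl]
      _ = ι y * (ι x * a ^ l) * a ^ k := by simp only [mul_assoc]
      _ = ι y * (a ^ l * ι x) * a ^ k := by rw [hacomm l x hx]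
      _ = ι y * a ^ l * (ι x * a ^ k) := by simp only [mul_assoc]
  have hIn : (ι.range).Normal := by
    constructor
    rintro _ ⟨g, rfl⟩ h
    exact ⟨_, (hconjH h g).symm⟩
  have hI : ∀ x y : ↥H0, x * y * x⁻¹ * y⁻¹ ∈ ι.range := by
    intro x y
    rw [← QuotientGroup.eq_one_iff]
    obtain ⟨g, k, rfl⟩ := hdecH x
    obtain ⟨g', l, rfl⟩ := hdecH y
    have h1 : ∀ g : G, ((ι g : ↥H0) : ↥H0 ⧸ ι.range) = 1 := fun g =>
      (QuotientGroup.eq_one_iff _).mpr ⟨g, rfl⟩
    simp only [QuotientGroup.mk_mul, QuotientGroup.mk_inv, QuotientGroup.mk_zpow, h1, one_mul]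
    group
  have hO : ∀ N : Subgroup ↥H0, N.Normal → Odd (Nat.card N) → N = ⊥ := by
    intro N hN hodd
    have hcomapN : N.comap ι = ⊥ := by
      have hnorm' : (N.comap ι).Normal := hN.comap ι
      have hcard : Nat.card (N.comap ι) ∣ Nat.card N := by
        let f : ↥(N.comap ι) →* ↥N := (ι.comp (N.comap ι).subtype).codRestrict N (fun x => x.2)
        apply Subgroup.card_dvd_of_injective f
        intro x y hxy
        apply Subtype.ext
        apply hιinj
        exact congrArg Subtype.val hxy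
      have hodd' : Odd (Nat.card (N.comap ι)) := Odd.of_dvd_nat hodd hcard
      have hle : N.comap ι ≤ Cfsg.pPrimeCore 2 G := by
        apply le_sSup
        exact ⟨hnorm', (Nat.coprime_two_left.mpr hodd').symm⟩
      rw [hcore] at hle
      exact le_bot_iff.mp hle
    rw [eq_bot_iff]
    intro n hn
    rw [Subgroup.mem_bot]
    apply htriv
    intro g
    have h1 : n * ι g * n⁻¹ * (ι g)⁻¹ ∈ N := by
      have := hN.conj_mem n⁻¹ (N.inv_mem hn) (ι g)
      have h2 := N.mul_mem hn this
      convert h2 using 1; group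
    rw [hconjH n g, ← map_inv, ← map_mul] at h1
    have h3 : (n : MulAut G) g * g⁻¹ ∈ N.comap ι := h1
    rw [hcomapN, Subgroup.mem_bot] at h3
    exact mul_inv_eq_one.mp h3
  have hZ' : Subgroup.center ↥H0 = ⊥ := by
    rw [eq_bot_iff]
    intro z hz
    rw [Subgroup.mem_bot]
    apply htriv
    intro g
    rw [Subgroup.mem_center_iff] at hz
    have h1 := hconjH z g
    rw [← hz (ι g), mul_inv_cancel_right] at h1
    exact (hιinj h1).symm
  obtain ⟨g, hg⟩ := sylow_le_of_commutators T hTcomm ι.range hI hO hZ' haT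
  refine ⟨g, fun x => ?_⟩
  have h1 : α = MulAut.conj g := by
    have := congrArg Subtype.val hg
    rw [hι] at this
    exact this.symm
  rw [h1, MulAut.conj_apply]

end Cfsg.Agent.S4593
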