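import Mathlib
import Cfsg.Statements.S4604
import Cfsg.Agent.Lib.helper3.LocalM3
import Cfsg.Agent.S0876

set_option autoImplicit false
open Cfsg

set_option linter.style.haveILetI false

namespace Cfsg.Agent.S4604

open Cfsg.Agent.Lib.helper3.LocalM Cfsg.Agent.Lib.helper3.Irr Cfsg.Agent.Lib.helper3.CharBasic Cfsg.Agent.Lib.helper3.Lin

/-- Let G be a finite group, p a prime and p^a the p-part of the order of G. Let x, y ∈ G and let x′, y′ be their p-regular parts: x′ has order prime to p, commutes with x·x′⁻¹, and x·x′⁻¹ has p-power order (likewise for y). Then x′ and y′ are conjugate in G if and only if for every irreducible character χ of G the algebraic integer χ(x)^(p^a) − χ(y)^(p^a) is p times an algebraic integer. -/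
theorem result {G : Type*} [Group G] [Finite G] (p : ℕ) [Fact p.Prime] (x y x' y' : G)
    (hx : (∃ k : ℕ, orderOf (x * x'⁻¹) = p ^ k) ∧ Commute (x * x'⁻¹) x' ∧ ¬ p ∣ orderOf x')
    (hy : (∃ k : ℕ, orderOf (y * y'⁻¹) = p ^ k) ∧ Commute (y * y'⁻¹) y' ∧ ¬ p ∣ orderOf y') :
    IsConj x' y' ↔ ∀ χ : Cfsg.IrrCharacter G, ∃ γ : Cfsg.AlgInt,
      (χ : G → ℂ) x ^ (p ^ (Nat.card G).factorization p) - (χ : G → ℂ) y ^ (p ^ (Nat.card G).factorization p) = (p : ℂ) * (γ : ℂ) := by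
  classical
  have hp : p.Prime := Fact.out
  obtain ⟨⟨kx, hkx⟩, hcx, hrx⟩ := hx
  obtain ⟨⟨ky, hky⟩, hcy, hry⟩ := hy
  obtain ⟨a, ha⟩ : ∃ a : ℕ, a = (Nat.card G).factorization p := ⟨_, rfl⟩
  rw [← ha]
  have hpow : ∀ (u : G) (k : ℕ), orderOf u = p ^ k → u ^ p ^ a = 1 := by
    intro u k hk
    apply orderOf_dvd_iff_pow_eq_one.mp
    rw [hk]
    have h1 : p ^ k ∣ Nat.card G := hk ▸ orderOf_dvd_natCard u
    rw [ha]
    exact pow_dvd_pow p ((hp.pow_dvd_iff_le_factorization (Nat.card_pos.ne')).mp h1)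
  have hxe : x * x'⁻¹ * x' = x := by group
  have hye : y * y'⁻¹ * y' = y := by group
  constructor
  · intro hconj χ
    have hχc := isCharacter_of_isIrrCharacter χ.2
    obtain ⟨γ1, h1⟩ := exists_pow_sub_pow_eq hχc p (x * x'⁻¹) x' a (hpow _ kx hkx) hcx.eq
    obtain ⟨γ2, h2⟩ := exists_pow_sub_pow_eq hχc p (y * y'⁻¹) y' a (hpow _ ky hky) hcy.eq
    rw [hxe] at h1
    rw [hye] at h2
    have hxy : (χ : G → ℂ) x' = (χ : G → ℂ) y' := by
      obtain ⟨c, hc⟩ := isConj_iff.mp hconj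
      rw [← hc]
      exact (isClassFunction_of_isCharacter hχc x' c).symm
    refine ⟨γ1 - γ2, ?_⟩
    push_cast
    rw [hxy] at h1
    linear_combination h1 - h2
  · intro h
    obtain ⟨M, hM⟩ := exists_isPModular p hp
    have hax : Cfsg.IsPPart p x (x * x'⁻¹) := ⟨x', hxe, hcx, ⟨kx, hkx⟩, hrx⟩
    have hay : Cfsg.IsPPart p y (y * y'⁻¹) := ⟨y', hye, hcy, ⟨ky, hky⟩, hry⟩
    have key := (Cfsg.Agent.S0876.result p M hM x y (x * x'⁻¹) (y * y'⁻¹) hax hay).mpr (by
      intro χ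
      have hχc := isCharacter_of_isIrrCharacter χ.2
      obtain ⟨γ, hγ⟩ := h χ
      obtain ⟨X, hX⟩ : ∃ X : Cfsg.AlgInt, (X : ℂ) = (χ : G → ℂ) x :=
        ⟨⟨_, isIntegral_of_isCharacter hχc x⟩, rfl⟩
      obtain ⟨Y, hY⟩ : ∃ Y : Cfsg.AlgInt, (Y : ℂ) = (χ : G → ℂ) y :=
        ⟨⟨_, isIntegral_of_isCharacter hχc y⟩, rfl⟩
      have hmem : X ^ p ^ a - Y ^ p ^ a ∈ M := by
        have h1 : X ^ p ^ a - Y ^ p ^ a = (p : Cfsg.AlgInt) * γ := by
          apply Subtype.ext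
          push_cast
          rw [hX, hY]
          exact hγ
        rw [h1]
        exact M.mul_mem_right _ hM.2.2
      have h2 := sub_mem_of_pow_sub_pow_mem hM X Y a hmem
      have h3 := memLocalIdeal_of_mem h2 hM.2.1.ne_top
      push_cast at h3
      rw [hX, hY] at h3
      exact h3)
    have e1 : (x * x'⁻¹)⁻¹ * x = x' := by group
    have e2 : (y * y'⁻¹)⁻¹ * y = y' := by group
    rw [e1, e2] at key
    exact key

end Cfsg.Agent.S4604
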