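import Mathlib
import Cfsg.Statements.S4611
import Cfsg.Agent.S4487
import Cfsg.Agent.S0921
import Cfsg.Agent.S1264
import Cfsg.Agent.H2.PPrimeCore
import Cfsg.Agent.H1.Cores
import Cfsg.Agent.Lib.helper3.BlockPGroup
import Cfsg.Agent.Lib.helper3.Inflate2
import Cfsg.Agent.Lib.helper3.NormalInv
import Cfsg.Agent.Lib.helper3.Irr7
import Cfsg.Agent.Lib.helper3.Irr11

set_option autoImplicit false
open Cfsg

namespace Cfsg.Agent.S4611

open Cfsg.Agent.Lib.helper3.Block Cfsg.Agent.Lib.helper3.LocalM Cfsg.Agent.Lib.helper3.Irr Cfsg.Agent.Lib.helper3.Central Cfsg.Agent.Lib.helper3.CharBasic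

set_option linter.style.haveILetI false

theorem iSup_pPrimeCore_normal {G : Type*} [Group G] [Finite G] (π : Set ℕ) :
    (⨆ p ∈ π, Cfsg.pPrimeCore p G : Subgroup G).Normal := by
  have h : (⨆ p ∈ π, Cfsg.pPrimeCore p G : Subgroup G)
      = sSup {N : Subgroup G | ∃ p ∈ π, N = Cfsg.pPrimeCore p G} := by
    apply le_antisymm
    · apply iSup₂_le
      intro p hp
      exact le_sSup ⟨p, hp, rfl⟩
    · apply sSup_le
      rintro N ⟨p, hp, rfl⟩
      exact le_iSup₂ (f := fun p (_ : p ∈ π) => Cfsg.pPrimeCore p G) p hp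
  rw [h]
  apply Subgroup.sSup_normal
  rintro N ⟨p, hp, rfl⟩
  exact Cfsg.Agent.H1.pPrimeCore_normal p

theorem exists_irr_ne_one (H : Type*) [Group H] [Finite H] [Nontrivial H] :
    ∃ ψ : Cfsg.IrrCharacter H, (ψ : H → ℂ) ≠ fun _ => 1 := by
  have h1 := card_irr_eq_card_conjClasses (G := H)
  haveI : Nontrivial (ConjClasses H) := by
    obtain ⟨g, hg⟩ := exists_ne (1 : H)
    refine ⟨⟨ConjClasses.mk 1, ConjClasses.mk g, ?_⟩⟩
    rw [Ne, ConjClasses.mk_eq_mk_iff_isConj, isConj_one_right]
    exact hg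
  haveI : Finite (Cfsg.IrrCharacter H) := by
    apply Nat.finite_of_card_ne_zero
    rw [h1]
    exact Nat.card_pos.ne'
  have h2 : 1 < Nat.card (Cfsg.IrrCharacter H) := by
    rw [h1]
    exact Finite.one_lt_card
  haveI : Nontrivial (Cfsg.IrrCharacter H) := Finite.one_lt_card_iff_nontrivial.1 h2
  obtain ⟨ψ, hψ⟩ := exists_ne (⟨fun _ => 1, isIrrCharacter_one⟩ : Cfsg.IrrCharacter H)
  refine ⟨ψ, ?_⟩
  intro h
  exact hψ (Subtype.ext h)

/-- A finite solvable group with trivial `p'`-core has a single `p`-block. -/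
theorem single_block_of_solvable {H : Type*} [Group H] [Finite H] [Group.IsSolvable H] (p : ℕ)
    [Fact p.Prime] (M : Ideal Cfsg.AlgInt) (hM : Cfsg.IsPModular p M)
    (hcore : Cfsg.pPrimeCore p H = ⊥) (χ ψ : Cfsg.IrrCharacter H) :
    Cfsg.SameBlock M (χ : H → ℂ) (ψ : H → ℂ) := by
  have hp : p.Prime := Fact.out
  apply Cfsg.Agent.S4487.result p M hM hcore
  have hF : Cfsg.fittingSubgroup H = Cfsg.pCore p H := by
    apply le_antisymm
    · rw [Cfsg.Agent.H1.fittingSubgroup_eq_iSup_pCore]
      apply iSup_le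
      intro q
      by_cases hq : (q : ℕ) = p
      · rw [hq]
      · have h1 := Cfsg.Agent.H1.le_pPrimeCore (G := H) (p := p) (N := Cfsg.pCore (q : ℕ) H)
          inferInstance (Cfsg.Agent.H1.pCore_coprime_of_ne hp q.2 hq)
        rw [hcore] at h1
        exact le_trans h1 bot_le
    · exact Cfsg.Agent.H1.le_fittingSubgroup inferInstance
        (Cfsg.Agent.H1.pCore_isPGroup (G := H) p).isNilpotent
  rw [← hF]
  have h1 := Cfsg.Agent.S1264.result (G := H)
    (Subgroup.centralizer (Cfsg.fittingSubgroup H : Set H)) le_rfl Subgroup.le_normalizer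
    inferInstance
  refine le_trans h1 ?_
  exact Subgroup.map_subtype_le _

/-- Let G be a finite solvable group and π a nonempty set of primes, each dividing the order of G; fix for each p in π a maximal ideal M p of the algebraic integers containing p. Then the only irreducible character lying in the principal p-block for every p in π is the principal character if and only if G is generated by the subgroups O_{p'}(G), p in π (the largest normal subgroups of order prime to p). -/
theorem result {G : Type*} [Group G] [Finite G] [Group.IsSolvable G] (π : Set ℕ) (hπ : ∀ p ∈ π, p.Prime ∧ p ∣ Nat.card G) (hne : π.Nonempty) (M : ℕ → Ideal Cfsg.AlgInt) (hM : ∀ p ∈ π, Cfsg.IsPModular p (M p)) :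
    (∀ χ : Cfsg.IrrCharacter G, (∀ p ∈ π, χ ∈ Cfsg.principalBlock (M p) G) → (χ : G → ℂ) = fun _ => 1) ↔
      ⨆ p ∈ π, Cfsg.pPrimeCore p G = ⊤ := by
  classical
  letI : Fintype G := Fintype.ofFinite G
  constructor
  · -- if the `p'`-cores do not generate, inflate a non-principal character of the quotient
    intro H
    by_contra hK
    obtain ⟨K, hKdef⟩ : ∃ K : Subgroup G, K = ⨆ p ∈ π, Cfsg.pPrimeCore p G := ⟨_, rfl⟩
    rw [← hKdef] at hK
    haveI hKn : K.Normal := by
      rw [hKdef]
      exact iSup_pPrimeCore_normal π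
    haveI : Nontrivial (G ⧸ K) := by
      rw [QuotientGroup.nontrivial_iff]
      exact hK
    obtain ⟨ψ, hψ⟩ := exists_irr_ne_one (G ⧸ K)
    obtain ⟨χ, hχ⟩ : ∃ χ : Cfsg.IrrCharacter G, (χ : G → ℂ) = inflate K (ψ : G ⧸ K → ℂ) :=
      ⟨⟨_, isIrrCharacter_inflate K ψ.2⟩, rfl⟩
    apply hψ
    apply inflate_injective K
    rw [← hχ]
    have h1 := H χ ?_
    · rw [h1]
      rfl
    intro p hp
    haveI : Fact p.Prime := ⟨(hπ p hp).1⟩
    haveI hNn : (Cfsg.pPrimeCore p G).Normal := Cfsg.Agent.H1.pPrimeCore_normal p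
    have hle : Cfsg.pPrimeCore p G ≤ K := by
      rw [hKdef]
      exact le_iSup₂ (f := fun p (_ : p ∈ π) => Cfsg.pPrimeCore p G) p hp
    have hconst : ∀ g n : G, n ∈ Cfsg.pPrimeCore p G → (χ : G → ℂ) (g * n) = (χ : G → ℂ) g := by
      intro g n hn
      rw [hχ, inflate_apply, inflate_apply]
      have h1 : ((g * n : G) : G ⧸ K) = (g : G ⧸ K) := by
        rw [eq_comm, QuotientGroup.eq, inv_mul_cancel_left]
        exact hle hn
      rw [h1]
    obtain ⟨χ', hχ', hχeq⟩ := exists_eq_inflate χ.2 (Cfsg.pPrimeCore p G) hconst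
    have hsame := single_block_of_solvable (H := G ⧸ Cfsg.pPrimeCore p G) p (M p) (hM p hp)
      (Cfsg.Agent.H2.pPrimeCore_quotient_eq_bot p) ⟨fun _ => 1, isIrrCharacter_one⟩ ⟨χ', hχ'⟩
    have h2 := sameBlock_inflate (M := M p) (Cfsg.pPrimeCore p G) _ _ hsame
    unfold Cfsg.principalBlock Cfsg.blockOf
    rw [Set.mem_ofPred_eq]
    convert h2 using 1
    · rfl
    · rw [hχeq]
      rfl
  · intro htop χ hχ
    obtain ⟨n, ρ, hirr, hρ, hker⟩ := exists_rep_ker_iff χ.2
    have hall : ∀ g : G, (χ : G → ℂ) g = (χ : G → ℂ) 1 := by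
      have hkertop : (ρ.asGroupHom.ker : Subgroup G) = ⊤ := by
        rw [eq_top_iff, ← htop]
        apply iSup₂_le
        intro p hp x hx
        haveI : Fact p.Prime := ⟨(hπ p hp).1⟩
        haveI hNn : (Cfsg.pPrimeCore p G).Normal := Cfsg.Agent.H1.pPrimeCore_normal p
        letI : Fintype (Cfsg.pPrimeCore p G) := Fintype.ofFinite _
        rw [MonoidHom.mem_ker]
        have h1 : χ ∈ irrOver (Cfsg.pPrimeCore p G) (fun _ : Cfsg.pPrimeCore p G => (1 : ℂ)) := by
          unfold irrOver
          rw [Set.mem_ofPred_eq]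
          have h2 := Cfsg.Agent.S0921.result p (M p) (hM p hp)
            (⟨fun _ => 1, isIrrCharacter_one⟩ : Cfsg.IrrCharacter G) χ (hχ p hp)
            (⟨fun _ => 1, isIrrCharacter_one⟩ : Cfsg.IrrCharacter (Cfsg.pPrimeCore p G))
          apply h2.1
          rw [irr_classInner_self isIrrCharacter_one]
          exact one_ne_zero
        have h3 := apply_eq_of_irrOver_one (Cfsg.pPrimeCore p G) χ h1 x hx
        have h4 := (hker x).1 h3
        apply Units.ext
        rw [Representation.asGroupHom_apply]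
        exact h4
      intro g
      rw [hker g]
      have hg : g ∈ (ρ.asGroupHom.ker : Subgroup G) := by
        rw [hkertop]
        exact Subgroup.mem_top g
      rw [MonoidHom.mem_ker] at hg
      have := congrArg Units.val hg
      rw [Representation.asGroupHom_apply] at this
      exact this
    -- a character that is constant is the principal character
    have hone : Cfsg.IsIrrCharacter G (fun _ : G => (1 : ℂ)) := isIrrCharacter_one
    by_contra hne
    have h5 := irr_classInner_eq_zero χ.2 hone hne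
    unfold Cfsg.classInner at h5
    have h6 : (Nat.card G : ℂ) ≠ 0 := by
      exact_mod_cast Nat.card_pos.ne'
    have h7 := (mul_eq_zero.1 h5).resolve_left (inv_ne_zero h6)
    have h8 : ∑ g : G, (χ : G → ℂ) g * (starRingEnd ℂ) 1 = (Nat.card G : ℂ) * (χ : G → ℂ) 1 := by
      rw [Finset.sum_congr rfl (fun g _ => by rw [hall g, map_one, mul_one]),
        Finset.sum_const, Finset.card_univ, nsmul_eq_mul, Nat.card_eq_fintype_card]
    rw [h8] at h7
    have h9 := (mul_eq_zero.1 h7).resolve_left h6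
    exact apply_one_ne_zero χ.2 h9

end Cfsg.Agent.S4611
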