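import Mathlib
import Cfsg.Statements.S4619

set_option autoImplicit false
open scoped Pointwise
open Cfsg

namespace Cfsg.Agent.S4619

/-- Let P be a Sylow p-subgroup of the finite group G that is a trivial-intersection set: P meets each conjugate g P g⁻¹ with g outside N_G(P) trivially. Then for every nontrivial subgroup Q of P the normalizer of Q lies in the normalizer of P, and any g ∈ G conjugating Q into P lies in N_G(P). -/
theorem result {G : Type*} [Group G] [Finite G] (p : ℕ) [Fact p.Prime] (P : Sylow p G) (hTI : (∀ g : G, g ∉ Subgroup.normalizer ((P : Subgroup G) : Set G) → (P : Subgroup G) ⊓ (MulAut.conj g • (P : Subgroup G)) = ⊥)) (Q : Subgroup G) (hQ : Q ≤ (P : Subgroup G)) (hQ1 : Q ≠ ⊥) :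
    Subgroup.normalizer (Q : Set G) ≤ Subgroup.normalizer ((P : Subgroup G) : Set G) ∧
      ∀ g : G, MulAut.conj g • Q ≤ (P : Subgroup G) → g ∈ Subgroup.normalizer ((P : Subgroup G) : Set G) := by
  have hb : ∀ g : G, MulAut.conj g • Q ≤ (P : Subgroup G) →
      g ∈ Subgroup.normalizer ((P : Subgroup G) : Set G) := by
    intro g hg
    by_contra hgn
    have hgn' : g⁻¹ ∉ Subgroup.normalizer ((P : Subgroup G) : Set G) := by
      intro h
      apply hgn
      have := (Subgroup.normalizer ((P : Subgroup G) : Set G)).inv_mem h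
      simpa using this
    have hbot := hTI g⁻¹ hgn'
    apply hQ1
    rw [eq_bot_iff, ← hbot]
    intro q hq
    refine ⟨hQ hq, ?_⟩
    show q ∈ MulAut.conj g⁻¹ • (P : Subgroup G)
    rw [Subgroup.mem_pointwise_smul_iff_inv_smul_mem]
    have h1 : MulAut.conj g • q ∈ MulAut.conj g • Q := Subgroup.smul_mem_pointwise_smul q _ Q hq
    have h2 := hg h1
    simpa using h2
  refine ⟨?_, hb⟩
  intro g hg
  apply hb
  intro y hy
  rw [Subgroup.mem_pointwise_smul_iff_inv_smul_mem] at hy
  have h1 : (MulAut.conj g)⁻¹ • y = g⁻¹ * y * g := by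
    simp [MulAut.smul_def]
  rw [h1] at hy
  have h2 := (Subgroup.mem_set_normalizer_iff.mp hg (g⁻¹ * y * g)).mp hy
  have h3 : g * (g⁻¹ * y * g) * g⁻¹ = y := by group
  rw [h3] at h2
  exact hQ h2

end Cfsg.Agent.S4619
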