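import Cfsg.Statements.S4620
import Mathlib
import Cfsg.Agent.Lib.Helper4.MinNormal
import Cfsg.Agent.H1.Basic
import Cfsg.Agent.H1.Cores
import Cfsg.Agent.H1.FrattiniExtra
import Cfsg.Agent.S4497

set_option autoImplicit false
set_option linter.style.haveILetI false

open Cfsg

namespace Cfsg.Agent.S4620

open Cfsg.Agent.Lib.Helper4.MinNormal Cfsg.Agent.H1
open scoped Pointwise

variable {H : Type*} [Group H] [Finite H] {p : ℕ} [Fact p.Prime]

/-- the `p`-core of a normal subgroup is normal in the whole group -/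
theorem pCore_map_normal (D : Subgroup H) [hD : D.Normal] :
    ((Cfsg.pCore p D).map D.subtype).Normal := by
  constructor
  intro r hr g
  obtain ⟨r₀, hr₀, rfl⟩ := Subgroup.mem_map.mp hr
  let φ : D ≃* D := MulAut.conjNormal g
  have hn : ((Cfsg.pCore p D).map φ.toMonoidHom).Normal :=
    Subgroup.Normal.map inferInstance _ φ.surjective
  have hc : IsPGroup p ((Cfsg.pCore p D).map φ.toMonoidHom) :=
    (pCore_isPGroup p).map φ.toMonoidHom
  have hle := le_pCore hn hc
  have h1 : φ r₀ ∈ Cfsg.pCore p D := hle (Subgroup.mem_map_of_mem _ hr₀)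
  refine Subgroup.mem_map.mpr ⟨φ r₀, h1, ?_⟩
  simp [φ]

/-- in a TI Sylow subgroup, centralizers of nontrivial elements normalize -/
theorem mem_normalizer_of_comm (P : Sylow p H)
    (hTI : ∀ g : H, g ∉ Subgroup.normalizer ((P : Subgroup H) : Set H) →
      (P : Subgroup H) ⊓ (MulAut.conj g • (P : Subgroup H)) = ⊥)
    {a g : H} (ha : a ∈ (P : Subgroup H)) (ha1 : a ≠ 1) (hc : g * a = a * g) :
    g ∈ Subgroup.normalizer ((P : Subgroup H) : Set H) := by
  by_contra hg
  have h1 := hTI g hg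
  have h2 : a ∈ (P : Subgroup H) ⊓ (MulAut.conj g • (P : Subgroup H)) := by
    refine Subgroup.mem_inf.mpr ⟨ha, ?_⟩
    rw [mem_conj_smul]
    have : g⁻¹ * a * g = a := by
      calc g⁻¹ * a * g = g⁻¹ * (a * g) := by group
        _ = g⁻¹ * (g * a) := by rw [hc]
        _ = a := by group
    rw [this]
    exact ha
  rw [h1, Subgroup.mem_bot] at h2
  exact ha1 h2

/-- `p`-elements of the normalizer of a Sylow subgroup lie in it -/
theorem mem_of_pElement (P : Sylow p H) {x : H}
    (hx : x ∈ Subgroup.normalizer ((P : Subgroup H) : Set H)) (k : ℕ) (hxp : orderOf x = p ^ k) :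
    x ∈ (P : Subgroup H) := by
  have hz : IsPGroup p (Subgroup.zpowers x) :=
    IsPGroup.of_card (n := k) (by rw [Nat.card_zpowers, hxp])
  have hle : Subgroup.zpowers x ≤ Subgroup.normalizer ((P : Subgroup H) : Set H) := by
    rw [Subgroup.zpowers_le]; exact hx
  have hsup : IsPGroup p (Subgroup.zpowers x ⊔ (P : Subgroup H) : Subgroup H) :=
    IsPGroup.to_sup_of_normal_right' hz P.isPGroup' hle
  have := P.is_maximal' hsup le_sup_right
  rw [← this]
  exact Subgroup.mem_sup_left (Subgroup.mem_zpowers x)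

theorem orderOf_conj_eq (h x : H) : orderOf (h * x * h⁻¹) = orderOf x := by
  have : h * x * h⁻¹ = MulAut.conj h x := rfl
  rw [this, MulEquiv.orderOf_eq]

/-- a normal subgroup inside the normalizer of `P` is trivial -/
theorem eq_bot_of_le_normalizer (hOp : Cfsg.pCore p H = ⊥) (hOp' : Cfsg.pPrimeCore p H = ⊥)
    (P : Sylow p H) (K : Subgroup H) [hK : K.Normal]
    (hKN : K ≤ Subgroup.normalizer ((P : Subgroup H) : Set H)) : K = ⊥ := by
  have hp : p.Prime := Fact.out
  have hQn : ((P : Subgroup H) ⊓ K).Normal := by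
    constructor
    intro x hx h
    rw [Subgroup.mem_inf] at hx
    have h1 : h * x * h⁻¹ ∈ K := hK.conj_mem x hx.2 h
    refine Subgroup.mem_inf.mpr ⟨?_, h1⟩
    obtain ⟨k, hk⟩ := (IsPGroup.iff_orderOf.mp P.isPGroup') ⟨x, hx.1⟩
    rw [Subgroup.orderOf_mk] at hk
    exact mem_of_pElement P (hKN h1) k (by rw [orderOf_conj_eq, hk])
  have hQp : IsPGroup p ((P : Subgroup H) ⊓ K : Subgroup H) := P.isPGroup'.to_le inf_le_left
  have hQ : (P : Subgroup H) ⊓ K = ⊥ := by
    have := le_pCore hQn hQp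
    rw [hOp] at this
    exact le_bot_iff.mp this
  have hcop : (Nat.card K).Coprime p := by
    rw [Nat.coprime_comm, Nat.Prime.coprime_iff_not_dvd hp]
    intro hdvd
    obtain ⟨x, hx⟩ := exists_prime_orderOf_dvd_card' (G := K) p hdvd
    have hx' : orderOf (x : H) = p ^ 1 := by rw [Subgroup.orderOf_coe, hx, pow_one]
    have h1 : (x : H) ∈ (P : Subgroup H) := mem_of_pElement P (hKN x.2) 1 hx'
    have h2 : (x : H) ∈ (P : Subgroup H) ⊓ K := Subgroup.mem_inf.mpr ⟨h1, x.2⟩
    rw [hQ, Subgroup.mem_bot] at h2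
    rw [h2, orderOf_one, pow_one] at hx'
    exact hp.one_lt.ne hx'
  have := le_pPrimeCore hK hcop
  rw [hOp'] at this
  exact le_bot_iff.mp this

/-- every nontrivial normal subgroup meets `P` nontrivially -/
theorem exists_mem_inf (hOp' : Cfsg.pPrimeCore p H = ⊥) (P : Sylow p H) (K : Subgroup H)
    [hK : K.Normal] (hK1 : K ≠ ⊥) : ∃ a ∈ (P : Subgroup H), a ∈ K ∧ a ≠ 1 := by
  have hp : p.Prime := Fact.out
  have hdvd : p ∣ Nat.card K := by
    by_contra hnd
    have hcop : (Nat.card K).Coprime p := by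
      rw [Nat.coprime_comm, Nat.Prime.coprime_iff_not_dvd hp]; exact hnd
    have := le_pPrimeCore hK hcop
    rw [hOp'] at this
    exact hK1 (le_bot_iff.mp this)
  obtain ⟨x, hx⟩ := exists_prime_orderOf_dvd_card' (G := K) p hdvd
  have hx' : orderOf (x : H) = p := by rw [Subgroup.orderOf_coe, hx]
  have hz : IsPGroup p (Subgroup.zpowers (x : H)) :=
    IsPGroup.of_card (n := 1) (by rw [Nat.card_zpowers, hx', pow_one])
  obtain ⟨Q, hQ⟩ := hz.exists_le_sylow
  obtain ⟨g, hg⟩ := MulAction.exists_smul_eq H Q P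
  have hxQ : (x : H) ∈ Q := hQ (Subgroup.mem_zpowers _)
  refine ⟨g * x * g⁻¹, ?_, hK.conj_mem _ x.2 g, ?_⟩
  · have := (conj_mem_sylow_smul g (x : H) Q).mpr hxQ
    rw [hg] at this
    exact this
  · intro h1
    have : (x : H) = 1 := by
      calc (x : H) = g⁻¹ * (g * x * g⁻¹) * g := by group
        _ = 1 := by rw [h1]; group
    rw [this, orderOf_one] at hx'
    exact hp.one_lt.ne hx'

/-- two normal subgroups meeting trivially: one of them is trivial -/
theorem eq_bot_of_inf_eq_bot (hOp : Cfsg.pCore p H = ⊥) (hOp' : Cfsg.pPrimeCore p H = ⊥)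
    (P : Sylow p H)
    (hTI : ∀ g : H, g ∉ Subgroup.normalizer ((P : Subgroup H) : Set H) →
      (P : Subgroup H) ⊓ (MulAut.conj g • (P : Subgroup H)) = ⊥)
    (N K : Subgroup H) [hN : N.Normal] [hK : K.Normal] (hN1 : N ≠ ⊥) (hd : N ⊓ K = ⊥) :
    K = ⊥ := by
  obtain ⟨a, haP, haN, ha1⟩ := exists_mem_inf hOp' P N hN1
  apply eq_bot_of_le_normalizer hOp hOp' P K
  intro g hg
  apply mem_normalizer_of_comm P hTI haP ha1
  have := Subgroup.commute_of_normal_of_disjoint N K hN hK (disjoint_iff.mpr hd) a g haN hg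
  exact this.eq.symm

/-- Let H be a finite group with no nontrivial normal p-subgroup and no nontrivial normal subgroup of order prime to p, whose Sylow p-subgroup P is nontrivial and a trivial-intersection set (P meets its conjugates by elements outside N_H(P) trivially). Then H has a unique minimal normal subgroup N; N is non-abelian simple with trivial centralizer in H (so H embeds in Aut(N)), and a Sylow p-subgroup of N is again a nontrivial trivial-intersection set in N. -/
theorem result {H : Type*} [Group H] [Finite H] (p : ℕ) [Fact p.Prime] (hOp : Cfsg.pCore p H = ⊥) (hOp' : Cfsg.pPrimeCore p H = ⊥) (P : Sylow p H) (hP1 : (P : Subgroup H) ≠ ⊥)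
    (hTI : ∀ g : H, g ∉ Subgroup.normalizer ((P : Subgroup H) : Set H) → (P : Subgroup H) ⊓ (MulAut.conj g • (P : Subgroup H)) = ⊥) :
    ∃ N : Subgroup H, N.Normal ∧ N ≠ ⊥ ∧ (∀ K : Subgroup H, K.Normal → K ≠ ⊥ → N ≤ K) ∧
      IsSimpleGroup N ∧ ¬ IsMulCommutative N ∧ Subgroup.centralizer (N : Set H) = ⊥ ∧
      ∀ Q : Sylow p N, (Q : Subgroup N) ≠ ⊥ ∧
        ∀ n : N, n ∉ Subgroup.normalizer ((Q : Subgroup N) : Set N) → (Q : Subgroup N) ⊓ (MulAut.conj n • (Q : Subgroup N)) = ⊥ := by
  have hp : p.Prime := Fact.out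
  have htop : (⊤ : Subgroup H) ≠ ⊥ := fun h => hP1 (le_bot_iff.mp (h ▸ le_top))
  obtain ⟨N, hNn, hN1, -, hmin⟩ := exists_minimal_normal_le (⊤ : Subgroup H) htop
  haveI := hNn
  -- `N` is not abelian
  have hnab : ¬ ∀ x ∈ N, ∀ y ∈ N, x * y = y * x := by
    intro hab
    obtain ⟨a, haP, haN, ha1⟩ := exists_mem_inf hOp' P N hN1
    apply hN1
    apply eq_bot_of_le_normalizer hOp hOp' P N
    intro g hg
    exact mem_normalizer_of_comm P hTI haP ha1 (hab g hg a haN)
  -- uniqueness
  have huniq : ∀ K : Subgroup H, K.Normal → K ≠ ⊥ → N ≤ K := by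
    intro K hK hK1
    haveI := hK
    rcases hmin (N ⊓ K) inferInstance inf_le_left with h | h
    · exact absurd (eq_bot_of_inf_eq_bot hOp hOp' P hTI N K hN1 h) hK1
    · exact inf_eq_left.mp h
  -- cores of `N`
  have hcoreN' : Cfsg.pPrimeCore p N = ⊥ := by
    have hn := Cfsg.Agent.S4497.pPrimeCore_map_normal p N
    have hc : (Nat.card ((Cfsg.pPrimeCore p N).map N.subtype)).Coprime p := by
      rw [Subgroup.card_map_of_injective N.subtype_injective]
      exact pPrimeCore_coprime p
    have := le_pPrimeCore hn hc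
    rw [hOp', le_bot_iff] at this
    exact (Subgroup.map_eq_bot_iff_of_injective _ N.subtype_injective).mp this
  have hcoreN : Cfsg.pCore p N = ⊥ := by
    have hn := pCore_map_normal (p := p) N
    have hc : IsPGroup p ((Cfsg.pCore p N).map N.subtype) :=
      (pCore_isPGroup p).map N.subtype
    have := le_pCore hn hc
    rw [hOp, le_bot_iff] at this
    exact (Subgroup.map_eq_bot_iff_of_injective _ N.subtype_injective).mp this
  -- `N`-normal subgroups of `N`
  have hsubN : ∀ S : Subgroup H, S ≤ N → N ≤ Subgroup.normalizer (S : Set H) → S ≠ ⊥ →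
      p ∣ Nat.card S ∧ ¬ IsPGroup p S := by
    intro S hSN hSn hS1
    haveI hnor : (S.subgroupOf N).Normal :=
      (Subgroup.normal_subgroupOf_iff_le_normalizer hSN).mpr hSn
    have hne : S.subgroupOf N ≠ ⊥ := by
      intro h
      rw [Subgroup.subgroupOf_eq_bot, disjoint_iff, inf_eq_left.mpr hSN] at h
      exact hS1 h
    have hcard : Nat.card (S.subgroupOf N) = Nat.card S :=
      Nat.card_congr (Subgroup.subgroupOfEquivOfLe hSN).toEquiv
    constructor
    · by_contra hnd
      have hcop : (Nat.card (S.subgroupOf N)).Coprime p := by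
        rw [hcard, Nat.coprime_comm, Nat.Prime.coprime_iff_not_dvd hp]; exact hnd
      have := le_pPrimeCore hnor hcop
      rw [hcoreN', le_bot_iff] at this
      exact hne this
    · intro hpg
      have hpg' : IsPGroup p (S.subgroupOf N) := hpg.comap_subtype
      have := le_pCore hnor hpg'
      rw [hcoreN, le_bot_iff] at this
      exact hne this
  -- a minimal `N`-normal subgroup meeting `P`
  obtain ⟨S₀, hS₀⟩ := exists_minNormalIn N hN1
  obtain ⟨S, hS, a, haP, haS, ha1⟩ : ∃ S, MinNormalIn N S ∧ ∃ a ∈ (P : Subgroup H), a ∈ S ∧ a ≠ 1 := by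
    obtain ⟨hdvd, -⟩ := hsubN S₀ hS₀.1 hS₀.2.2.1 hS₀.2.1
    obtain ⟨x, hx⟩ := exists_prime_orderOf_dvd_card' (G := S₀) p hdvd
    have hx' : orderOf (x : H) = p := by rw [Subgroup.orderOf_coe, hx]
    have hz : IsPGroup p (Subgroup.zpowers (x : H)) :=
      IsPGroup.of_card (n := 1) (by rw [Nat.card_zpowers, hx', pow_one])
    obtain ⟨Q, hQ⟩ := hz.exists_le_sylow
    obtain ⟨g, hg⟩ := MulAction.exists_smul_eq H Q P
    have hxQ : (x : H) ∈ Q := hQ (Subgroup.mem_zpowers _)
    refine ⟨S₀.map (MulAut.conj g).toMonoidHom, hS₀.map_conj g, g * x * g⁻¹, ?_, ?_, ?_⟩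
    · have := (conj_mem_sylow_smul g (x : H) Q).mpr hxQ
      rw [hg] at this
      exact this
    · rw [mem_map_conj]
      have : g⁻¹ * (g * ↑x * g⁻¹) * g = (x : H) := by group
      rw [this]
      exact x.2
    · intro h1
      have : (x : H) = 1 := by
        calc (x : H) = g⁻¹ * (g * x * g⁻¹) * g := by group
          _ = 1 := by rw [h1]; group
      rw [this, orderOf_one] at hx'
      exact hp.one_lt.ne hx'
  -- `S = N`
  have hSN : S = N := by
    by_contra hne
    have hex : ∃ h₀ : H, ¬ S.map (MulAut.conj h₀).toMonoidHom ≤ S := by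
      by_contra hcon
      push Not at hcon
      have hSnor : S.Normal := by
        constructor
        intro x hx h
        apply hcon h
        exact ⟨x, hx, rfl⟩
      rcases hmin S hSnor hS.1 with h | h
      · exact hS.2.1 h
      · exact hne h
    obtain ⟨h₀, hle⟩ := hex
    set T : Subgroup H := S.map (MulAut.conj h₀).toMonoidHom with hT
    have hTm : MinNormalIn N T := hS.map_conj h₀
    have hd := hTm.disjoint_of_not_le hS.2.2.1 hle
    have hc := commute_of_disjoint hTm.1 hS.1 hTm.2.2.1 hS.2.2.1 hd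
    have hTN : T ≤ Subgroup.normalizer ((P : Subgroup H) : Set H) := by
      intro g hg
      exact mem_normalizer_of_comm P hTI haP ha1 (hc g hg a haS)
    obtain ⟨hdvdT, hnpT⟩ := hsubN T hTm.1 hTm.2.2.1 hTm.2.1
    have hQn : N ≤ Subgroup.normalizer (((P : Subgroup H) ⊓ T : Subgroup H) : Set H) := by
      have key : ∀ n ∈ N, ∀ x ∈ (P : Subgroup H) ⊓ T, n * x * n⁻¹ ∈ (P : Subgroup H) ⊓ T := by
        intro n hn x hx
        rw [Subgroup.mem_inf] at hx
        have h1 : n * x * n⁻¹ ∈ T :=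
          (Subgroup.mem_normalizer_iff.mp (hTm.2.2.1 hn) x).mp hx.2
        refine Subgroup.mem_inf.mpr ⟨?_, h1⟩
        obtain ⟨k, hk⟩ := (IsPGroup.iff_orderOf.mp P.isPGroup') ⟨x, hx.1⟩
        rw [Subgroup.orderOf_mk] at hk
        exact mem_of_pElement P (hTN h1) k (by rw [orderOf_conj_eq, hk])
      intro n hn
      rw [Subgroup.mem_normalizer_iff]
      intro x
      constructor
      · exact key n hn x
      · intro hx
        have := key n⁻¹ (N.inv_mem hn) _ hx
        have e : n⁻¹ * (n * x * n⁻¹) * n⁻¹⁻¹ = x := by group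
        rw [e] at this
        exact this
    rcases hTm.2.2.2 _ inf_le_right hQn with hQ | hQ
    · obtain ⟨y, hy⟩ := exists_prime_orderOf_dvd_card' (G := T) p hdvdT
      have hy' : orderOf (y : H) = p ^ 1 := by rw [Subgroup.orderOf_coe, hy, pow_one]
      have h1 : (y : H) ∈ (P : Subgroup H) := mem_of_pElement P (hTN y.2) 1 hy'
      have h2 : (y : H) ∈ (P : Subgroup H) ⊓ T := Subgroup.mem_inf.mpr ⟨h1, y.2⟩
      rw [hQ, Subgroup.mem_bot] at h2
      rw [h2, orderOf_one, pow_one] at hy'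
      exact hp.one_lt.ne hy'
    · apply hnpT
      have hTP : T ≤ (P : Subgroup H) := by
        rw [← hQ]; exact inf_le_left
      exact P.isPGroup'.to_le hTP
  have hsimple : IsSimpleGroup N := by
    have := hS.isSimpleGroup N hmin
    rw [hSN] at this
    exact this
  refine ⟨N, hNn, hN1, huniq, hsimple, ?_, ?_, ?_⟩
  · intro hcomm
    apply hnab
    intro x hx y hy
    have := hcomm.is_comm.comm (⟨x, hx⟩ : N) ⟨y, hy⟩
    exact congrArg Subtype.val this
  · by_contra hC
    have hle := huniq (Subgroup.centralizer (N : Set H)) inferInstance hC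
    apply hnab
    intro x hx y hy
    have := Subgroup.mem_centralizer_iff.mp (hle hx) y hy
    exact this.symm
  · intro Q
    have hdvdN : p ∣ Nat.card N := (hsubN N le_rfl Subgroup.le_normalizer hN1).1
    refine ⟨Q.ne_bot_of_dvd_card hdvdN, ?_⟩
    intro n hn
    -- a Sylow subgroup of `H` containing `Q`
    have hQp : IsPGroup p ((Q : Subgroup N).map N.subtype) := Q.isPGroup'.map N.subtype
    obtain ⟨P', hP'⟩ := hQp.exists_le_sylow
    obtain ⟨g, hg⟩ := MulAction.exists_smul_eq H P P'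
    -- `Q = P' ⊓ N`
    have hQeq : ((P' : Subgroup H).subgroupOf N) = (Q : Subgroup N) := by
      apply Q.is_maximal' ((P'.isPGroup').comap_subtype)
      intro y hy
      show (y : H) ∈ (P' : Subgroup H)
      exact hP' ⟨y, hy, rfl⟩
    -- `n` does not normalize `P'`
    have hnP' : (n : H) ∉ Subgroup.normalizer ((P' : Subgroup H) : Set H) := by
      intro hmem
      apply hn
      rw [Subgroup.mem_normalizer_iff]
      intro y
      rw [← hQeq, Subgroup.mem_subgroupOf, Subgroup.mem_subgroupOf]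
      have := Subgroup.mem_normalizer_iff.mp hmem (y : H)
      simpa using this
    -- transport to `P`
    have hgn : g⁻¹ * (n : H) * g ∉ Subgroup.normalizer ((P : Subgroup H) : Set H) := by
      intro hmem
      apply hnP'
      rw [Subgroup.mem_normalizer_iff]
      intro y
      have h1 := Subgroup.mem_normalizer_iff.mp hmem (g⁻¹ * y * g)
      have e1 : ∀ z : H, z ∈ (P' : Subgroup H) ↔ g⁻¹ * z * g ∈ (P : Subgroup H) := by
        intro z
        rw [← hg]
        exact mem_sylow_smul g z P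
      rw [e1 y, e1 (↑n * y * (↑n)⁻¹), h1]
      have e2 : g⁻¹ * ↑n * g * (g⁻¹ * y * g) * (g⁻¹ * ↑n * g)⁻¹ = g⁻¹ * (↑n * y * (↑n)⁻¹) * g := by
        group
      rw [e2]
    have hti := hTI _ hgn
    rw [eq_bot_iff]
    intro y hy
    rw [Subgroup.mem_inf] at hy
    obtain ⟨hy1, hy2⟩ := hy
    rw [Subgroup.mem_bot]
    have e1 : ∀ z : H, z ∈ (P' : Subgroup H) ↔ g⁻¹ * z * g ∈ (P : Subgroup H) := by
      intro z
      rw [← hg]
      exact mem_sylow_smul g z P
    have hyP' : (y : H) ∈ (P' : Subgroup H) := hP' ⟨y, hy1, rfl⟩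
    have hy2' : n⁻¹ * y * n ∈ (Q : Subgroup N) := by
      rw [mem_conj_smul] at hy2
      exact hy2
    have hyP'2 : (n : H)⁻¹ * y * n ∈ (P' : Subgroup H) := hP' ⟨n⁻¹ * y * n, hy2', by simp⟩
    have h3 : g⁻¹ * (y : H) * g ∈ (P : Subgroup H) ⊓
        (MulAut.conj (g⁻¹ * (n : H) * g) • (P : Subgroup H)) := by
      refine Subgroup.mem_inf.mpr ⟨(e1 _).mp hyP', ?_⟩
      rw [mem_conj_smul]
      have e3 : (g⁻¹ * ↑n * g)⁻¹ * (g⁻¹ * ↑y * g) * (g⁻¹ * ↑n * g) =
          g⁻¹ * ((n : H)⁻¹ * y * n) * g := by group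
      rw [e3]
      exact (e1 _).mp hyP'2
    rw [hti, Subgroup.mem_bot] at h3
    apply Subtype.ext
    calc (y : H) = g * (g⁻¹ * y * g) * g⁻¹ := by group
      _ = 1 := by rw [h3]; group

end Cfsg.Agent.S4620
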