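import Mathlib
import Cfsg.Statements.S4626
import Cfsg.Agent.Lib.helper3.BlockBasic
import Cfsg.Agent.Lib.helper3.Inflate2
import Cfsg.Agent.Lib.helper3.Degrees
import Cfsg.Agent.Lib.helper3.Lin

set_option autoImplicit false
open Cfsg

set_option linter.style.haveILetI false

namespace Cfsg.Agent.S4626

open Cfsg.Agent.Lib.helper3.LocalM Cfsg.Agent.Lib.helper3.Block Cfsg.Agent.Lib.helper3.Irr Cfsg.Agent.Lib.helper3.CharBasic Cfsg.Agent.Lib.helper3.Lin Cfsg.Agent.Lib.helper3.Central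

/-- Let G be a finite group, p a prime, M a maximal ideal of the algebraic integers containing p, P a Sylow p-subgroup of G and N a normal subgroup of index prime to p containing the centralizer C_G(P). Then every irreducible character of G whose kernel contains N lies in the principal p-block of G. -/
theorem result {G : Type*} [Group G] [Finite G] (p : ℕ) [Fact p.Prime] (M : Ideal Cfsg.AlgInt) (hM : Cfsg.IsPModular p M) (P : Sylow p G) (N : Subgroup G) [N.Normal] (hidx : ¬ p ∣ N.index)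
    (hC : Subgroup.centralizer ((P : Subgroup G) : Set G) ≤ N) (χ : Cfsg.IrrCharacter G) (hker : ∀ n ∈ N, (χ : G → ℂ) n = (χ : G → ℂ) 1) :
    χ ∈ Cfsg.principalBlock M G := by
  classical
  letI : Fintype G := Fintype.ofFinite G
  have hp : p.Prime := Fact.out
  haveI hMp : M.IsPrime := hM.2.1.isPrime
  have hMtop : M ≠ ⊤ := hM.2.1.ne_top
  have hχc := isCharacter_of_isIrrCharacter χ.2
  show Cfsg.SameBlock M (fun _ : G => (1 : ℂ)) (χ : G → ℂ)
  intro g
  rw [centralChar_one_fun]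
  obtain ⟨idx, hidxdef⟩ : ∃ idx : ℕ, idx = (Subgroup.centralizer ({g} : Set G)).index := ⟨_, rfl⟩
  rw [← hidxdef]
  by_cases hpi : p ∣ idx
  · -- both terms lie in `M`
    have hconst : ∀ g n : G, n ∈ N → (χ : G → ℂ) (g * n) = (χ : G → ℂ) g :=
      fun g n hn => apply_mul_of_apply_eq_one hχc (hker n hn) g
    obtain ⟨ψ, hψ, hχψ⟩ := exists_eq_inflate χ.2 N hconst
    letI : Fintype (G ⧸ N) := Fintype.ofFinite _
    obtain ⟨d, hd, hddvd, hdpos⟩ := irr_degree_dvd_card hψ
    have hχ1 : (χ : G → ℂ) 1 = d := by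
      rw [hχψ, inflate_apply]
      exact hd
    have hdN : d ∣ N.index := by
      rw [Subgroup.index_eq_card]
      exact hddvd
    have hpd : ¬ p ∣ d := fun h => hidx (dvd_trans h hdN)
    obtain ⟨w, hw⟩ : ∃ w : Cfsg.AlgInt, (w : ℂ) = Cfsg.centralChar (χ : G → ℂ) g :=
      ⟨⟨_, isIntegral_centralChar χ.2 g⟩, rfl⟩
    obtain ⟨X, hX⟩ : ∃ X : Cfsg.AlgInt, (X : ℂ) = (χ : G → ℂ) g :=
      ⟨⟨_, isIntegral_of_isCharacter hχc g⟩, rfl⟩
    have hidxM : (idx : Cfsg.AlgInt) ∈ M := (natCast_mem_iff hM idx).mpr hpi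
    have hdM : (d : Cfsg.AlgInt) ∉ M := fun h => hpd ((natCast_mem_iff hM d).mp h)
    have hd0 : (d : ℂ) ≠ 0 := by exact_mod_cast hdpos.ne'
    have hwd : w * (d : Cfsg.AlgInt) = (idx : Cfsg.AlgInt) * X := by
      apply Subtype.ext
      push_cast
      rw [hw, hX]
      unfold Cfsg.centralChar
      rw [hχ1, ← hidxdef]
      field_simp
    have hwM : w ∈ M := by
      have : w * (d : Cfsg.AlgInt) ∈ M := hwd ▸ M.mul_mem_right _ hidxM
      rcases hMp.mem_or_mem this with h | h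
      · exact h
      · exact absurd h hdM
    have := memLocalIdeal_of_mem (M.sub_mem hidxM hwM) hMtop
    push_cast at this
    rw [hw] at this
    exact this
  · -- `g ∈ N`
    have hfix := (P.2).nonempty_fixed_point_of_prime_not_dvd_card
      (G ⧸ Subgroup.centralizer ({g} : Set G)) (by rw [← Subgroup.index_eq_card, ← hidxdef]; exact hpi)
    obtain ⟨q, hq⟩ := hfix
    obtain ⟨t, rfl⟩ := QuotientGroup.mk_surjective q
    have hcent : t * g * t⁻¹ ∈ Subgroup.centralizer ((P : Subgroup G) : Set G) := by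
      rw [Subgroup.mem_centralizer_iff]
      intro x hx
      have h1 := hq ⟨x, hx⟩
      have h2 : ((x * t : G) : G ⧸ Subgroup.centralizer ({g} : Set G)) = (t : G ⧸ _) := h1
      rw [QuotientGroup.eq, Subgroup.mem_centralizer_iff] at h2
      have h3 := h2 g (Set.mem_singleton g)
      -- g * ((x t)⁻¹ t) = ((x t)⁻¹ t) * g
      have h4 : (x * t)⁻¹ * t = t⁻¹ * x⁻¹ * t := by group
      rw [h4] at h3
      calc x * (t * g * t⁻¹) = t * ((t⁻¹ * x⁻¹ * t)⁻¹ * g) * t⁻¹ := by group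
        _ = t * (g * (t⁻¹ * x⁻¹ * t)⁻¹) * t⁻¹ := by
            congr 2
            have h5 := congrArg (fun z => (t⁻¹ * x⁻¹ * t)⁻¹ * z * (t⁻¹ * x⁻¹ * t)⁻¹) h3
            beta_reduce at h5
            have e1 : (t⁻¹ * x⁻¹ * t)⁻¹ * (g * (t⁻¹ * x⁻¹ * t)) * (t⁻¹ * x⁻¹ * t)⁻¹
                = (t⁻¹ * x⁻¹ * t)⁻¹ * g := by group
            have e2 : (t⁻¹ * x⁻¹ * t)⁻¹ * (t⁻¹ * x⁻¹ * t * g) * (t⁻¹ * x⁻¹ * t)⁻¹
                = g * (t⁻¹ * x⁻¹ * t)⁻¹ := by group
            rw [e1, e2] at h5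
            exact h5
        _ = t * g * t⁻¹ * x := by group
    have hgN : g ∈ N := by
      have h1 : t * g * t⁻¹ ∈ N := hC hcent
      have h2 := (inferInstance : N.Normal).conj_mem _ h1 t⁻¹
      have h3 : t⁻¹ * (t * g * t⁻¹) * t⁻¹⁻¹ = g := by group
      rwa [h3] at h2
    have h1 : Cfsg.centralChar (χ : G → ℂ) g = (idx : ℂ) := by
      unfold Cfsg.centralChar
      rw [hker g hgN, ← hidxdef]
      have := apply_one_ne_zero χ.2
      field_simp
    rw [h1, sub_self]
    exact memLocalIdeal_zero hMtop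

end Cfsg.Agent.S4626
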