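import Cfsg.Statements.S4627
import Mathlib
import Cfsg.Agent.S4628

set_option autoImplicit false
open Cfsg

namespace Cfsg.Agent.S4627

open Cfsg.Agent.S4624 Cfsg.Agent.Helper4.Wreath Cfsg.Agent.Helper4.EAK
open Cfsg.Agent.Helper4.GLWreath Cfsg.Agent.Helper4.GLUtil Cfsg.Agent.Helper4.GLOrders
open scoped commutatorElement Pointwise
open Matrix

section Step
variable {F : Type*} [Field F] [Fintype F]

/-- the embedding of `GL_e ≀ S_m` into `GL_{em}` -/
def PhiFin (e m : ℕ) : Wr (Fin m) (GL (Fin e) F) →* GL (Fin (e * m)) F :=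
  (glReindex finProdFinEquiv).toMonoidHom.comp Phi

theorem PhiFin_injective (e m : ℕ) (he : 1 ≤ e) : Function.Injective (PhiFin (F := F) e m) := by
  haveI : Nonempty (Fin e) := ⟨⟨0, he⟩⟩
  intro x y hxy
  apply Phi_injective
  exact (glReindex finProdFinEquiv).injective hxy

theorem det_PhiFin (e m : ℕ) (he : Even e) (w : Wr (Fin m) (GL (Fin e) F)) :
    Matrix.det ((PhiFin e m w : GL (Fin (e * m)) F) : Matrix (Fin (e * m)) (Fin (e * m)) F)
      = ∏ i, Matrix.det ((w.left i : GL (Fin e) F) : Matrix (Fin e) (Fin e) F) := by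
  show Matrix.det ((glReindex finProdFinEquiv (Phi w) : GL (Fin (e * m)) F) :
    Matrix (Fin (e * m)) (Fin (e * m)) F) = _
  rw [det_glReindex, det_Phi_of_even (by rw [Fintype.card_fin]; exact he)]

theorem comap_slSub (e m : ℕ) (he : Even e) :
    (slSub (Fin (e * m)) F).comap (PhiFin e m)
      = (deltaWr (ι := Fin m) (Matrix.GeneralLinearGroup.det : GL (Fin e) F →* Fˣ)).ker := by
  ext w
  rw [Subgroup.mem_comap, mem_slSub, det_PhiFin e m he, MonoidHom.mem_ker, deltaWr_apply,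
    Units.ext_iff, Units.coe_prod]
  rfl

/-- the inductive step -/
theorem step (e m : ℕ) (he : Even e) (he1 : 1 ≤ e)
    (hv : (Nat.card (Wr (Fin m) (GL (Fin e) F))).factorization 2
      = (Nat.card (GL (Fin (e * m)) F)).factorization 2)
    (hSL : EA2 (Matrix.SpecialLinearGroup (Fin e) F))
    (Q : Sylow 2 (GL (Fin e) F)) (T : Sylow 2 (Equiv.Perm (Fin m)))
    (R : Set (GL (Fin e) F)) (hRQ : ∀ r ∈ R, r ∈ (Q : Subgroup (GL (Fin e) F)))
    (hR : ∀ y ∈ (Q : Subgroup (GL (Fin e) F)), ∃ r ∈ R,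
      Matrix.GeneralLinearGroup.det r = Matrix.GeneralLinearGroup.det y)
    (hpair : ∀ i j : Fin m, i ≠ j → ∀ r ∈ R,
      (pairEl i j r) ^ 2 ∈
        ⁅kerSub (Matrix.GeneralLinearGroup.det : GL (Fin e) F →* Fˣ) (Q : Subgroup (GL (Fin e) F))
            (T : Subgroup (Equiv.Perm (Fin m))),
          kerSub (Matrix.GeneralLinearGroup.det : GL (Fin e) F →* Fˣ) (Q : Subgroup (GL (Fin e) F))
            (T : Subgroup (Equiv.Perm (Fin m)))⁆) :
    EA2 (Matrix.SpecialLinearGroup (Fin (e * m)) F) := by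
  classical
  haveI : Finite (Wr (Fin m) (GL (Fin e) F)) := Cfsg.Agent.S2250.finite_Wr
  have h1 : EA2 ↥(slSub (Fin e) F) := EA2_of_mulEquiv slEquiv hSL
  have h2 : SqIn ((Q : Subgroup (GL (Fin e) F)) ⊓ slSub (Fin e) F) := sqIn_inf_of_EA2 _ h1 Q
  have h3 : SqIn (T : Subgroup (Equiv.Perm (Fin m))) := EA2_all (EA2_perm m) T
  have h4 := sqIn_kerSub (Matrix.GeneralLinearGroup.det : GL (Fin e) F →* Fˣ)
    (Q : Subgroup (GL (Fin e) F)) (T : Subgroup (Equiv.Perm (Fin m))) h2 h3 R hRQ hR hpair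
  have hcard : Nat.card (wrSub (Q : Subgroup (GL (Fin e) F)) (T : Subgroup (Equiv.Perm (Fin m))))
      = 2 ^ (Nat.card (Wr (Fin m) (GL (Fin e) F))).factorization 2 := by
    rw [card_wrSub]
    exact card_aux Q T
  have h5 : EA2 ↥(slSub (Fin (e * m)) F) := by
    apply EA2_of_sqIn_inf_comap (PhiFin e m) (PhiFin_injective e m he1) hv (slSub (Fin (e * m)) F)
      (Sylow.ofCard _ hcard)
    rw [Sylow.coe_ofCard, comap_slSub e m he]
    exact h4
  exact EA2_of_mulEquiv slEquiv.symm h5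

end Step

open Cfsg.Agent.S4624 Cfsg.Agent.Helper4.Wreath Cfsg.Agent.Helper4.EAK
open Cfsg.Agent.Helper4.GLWreath Cfsg.Agent.Helper4.GLUtil Cfsg.Agent.Helper4.GLOrders
open Cfsg.Agent.S4628
open scoped commutatorElement Pointwise
open Matrix

section CaseA
variable {F : Type*} [Field F] [Fintype F]

theorem hq3_of_odd (hodd : Odd (Fintype.card F)) : 3 ≤ Fintype.card F := by
  have hq1 : 1 < Fintype.card F := Fintype.one_lt_card
  rcases hodd with ⟨k, hk⟩
  omega

theorem v2_two_mul (hodd : Odd (Fintype.card F)) (m : ℕ) :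
    padicValNat 2 (Nat.card (GL (Fin (2 * m)) F))
      = m * (2 * padicValNat 2 (Fintype.card F - 1) + padicValNat 2 (Fintype.card F + 1))
        + padicValNat 2 m.factorial := by
  rw [v2_card_GL hodd (2 * m), v2_sum_even _ (hq3_of_odd hodd) hodd m]

theorem v2_GL2 (hodd : Odd (Fintype.card F)) :
    padicValNat 2 (Nat.card (GL (Fin 2) F))
      = 2 * padicValNat 2 (Fintype.card F - 1) + padicValNat 2 (Fintype.card F + 1) := by
  have := v2_two_mul (F := F) hodd 1
  simpa using this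

theorem hv_A (hodd : Odd (Fintype.card F)) (m : ℕ) :
    (Nat.card (Wr (Fin m) (GL (Fin 2) F))).factorization 2
      = (Nat.card (GL (Fin (2 * m)) F)).factorization 2 := by
  rw [Nat.factorization_def _ Nat.prime_two, Nat.factorization_def _ Nat.prime_two, v2_Wr,
    v2_two_mul hodd m, v2_GL2 hodd]

theorem det_sg : Matrix.GeneralLinearGroup.det (sg : GL (Fin 2) F) = -1 := by
  apply Units.ext
  show Matrix.det ((sg : GL (Fin 2) F) : Matrix (Fin 2) (Fin 2) F) = _
  rw [sg_coe, sm, Matrix.det_fin_two]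
  simp

theorem caseA (hodd : Odd (Fintype.card F)) (h4 : Fintype.card F % 4 = 3) (m : ℕ) :
    EA2 (Matrix.SpecialLinearGroup (Fin (2 * m)) F) := by
  classical
  have hsp : IsPGroup 2 (Subgroup.zpowers (sg : GL (Fin 2) F)) :=
    Cfsg.Agent.S2648.isPGroup_zpowers 2 1 sg (by rw [pow_one, pow_two, sg_mul_sg])
  obtain ⟨Q, hQ⟩ := hsp.exists_le_sylow
  have hsQ : (sg : GL (Fin 2) F) ∈ (Q : Subgroup (GL (Fin 2) F)) := hQ (Subgroup.mem_zpowers _)
  obtain ⟨T⟩ : Nonempty (Sylow 2 (Equiv.Perm (Fin m))) := inferInstance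
  apply step 2 m even_two (by norm_num) (hv_A hodd m) (EA2_SL2 hodd) Q T
    ({1, sg} : Set (GL (Fin 2) F))
  · rintro r (rfl | rfl)
    · exact Subgroup.one_mem _
    · exact hsQ
  · intro y hy
    obtain ⟨k, hk⟩ := Q.isPGroup' ⟨y, hy⟩
    have hk' : y ^ (2 ^ k) = 1 := by
      have := congrArg Subtype.val hk
      simpa using this
    have hdet : Matrix.det ((y : GL (Fin 2) F) : Matrix (Fin 2) (Fin 2) F) ^ (2 ^ k) = 1 := by
      have := congrArg (fun g : GL (Fin 2) F => Matrix.det (g : Matrix (Fin 2) (Fin 2) F)) hk'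
      simp only [Units.val_pow_eq_pow_val, Matrix.det_pow, Units.val_one, Matrix.det_one] at this
      exact this
    rcases eq_one_or_neg_one h4 _ k hdet with h | h
    · refine ⟨1, Or.inl rfl, ?_⟩
      rw [map_one]
      apply Units.ext
      exact h.symm
    · refine ⟨sg, Or.inr rfl, ?_⟩
      rw [det_sg]
      apply Units.ext
      rw [Units.val_neg, Units.val_one]
      exact h.symm
  · rintro i j hij r (rfl | rfl)
    · rw [pairEl_sq_of_sq hij (one_pow 2)]
      exact Subgroup.one_mem _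
    · rw [pairEl_sq_of_sq hij (by rw [pow_two, sg_mul_sg])]
      exact Subgroup.one_mem _

end CaseA

open Cfsg.Agent.S4624 Cfsg.Agent.Helper4.Wreath Cfsg.Agent.Helper4.EAK
open Cfsg.Agent.Helper4.GLWreath Cfsg.Agent.Helper4.GLUtil Cfsg.Agent.Helper4.GLOrders
open Cfsg.Agent.S4628
open scoped commutatorElement Pointwise
open Matrix

section CaseB
variable {F : Type*} [Field F] [Fintype F]

theorem sylow_perm_two (T : Sylow 2 (Equiv.Perm (Fin 2))) :
    (T : Subgroup (Equiv.Perm (Fin 2))) = ⊤ := by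
  apply Subgroup.eq_top_of_card_eq
  rw [T.card_eq_multiplicity, Nat.card_perm, Nat.card_fin]
  simp [Nat.Prime.factorization_self Nat.prime_two]

theorem hv_B (hodd : Odd (Fintype.card F)) (k : ℕ) :
    (Nat.card (Wr (Fin 2) (GL (Fin (2 ^ (k + 1))) F))).factorization 2
      = (Nat.card (GL (Fin (2 ^ (k + 1) * 2)) F)).factorization 2 := by
  rw [Nat.factorization_def _ Nat.prime_two, Nat.factorization_def _ Nat.prime_two, v2_Wr]
  have e1 : 2 ^ (k + 1) = 2 * 2 ^ k := pow_succ' 2 k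
  have e2 : 2 ^ (k + 1) * 2 = 2 * 2 ^ (k + 1) := mul_comm _ _
  rw [e2, v2_two_mul hodd (2 ^ (k + 1)), v2_factorial_two_pow]
  have h1 : padicValNat 2 (Nat.card (GL (Fin (2 ^ (k + 1))) F))
      = 2 ^ k * (2 * padicValNat 2 (Fintype.card F - 1) + padicValNat 2 (Fintype.card F + 1))
        + (2 ^ k - 1) := by
    rw [e1, v2_two_mul hodd (2 ^ k), v2_factorial_two_pow]
  rw [h1, e1, mul_assoc]
  have hpos : 1 ≤ 2 ^ k := Nat.one_le_two_pow
  have h2 : padicValNat 2 (Nat.factorial 2) = 1 := by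
    rw [show Nat.factorial 2 = 2 from rfl, padicValNat_self]
  rw [h2]
  generalize 2 ^ k * (2 * padicValNat 2 (Fintype.card F - 1)
    + padicValNat 2 (Fintype.card F + 1)) = b
  omega

theorem caseB_step (hodd : Odd (Fintype.card F)) (k : ℕ)
    (h : EA2 (Matrix.SpecialLinearGroup (Fin (2 ^ (k + 1))) F)) :
    EA2 (Matrix.SpecialLinearGroup (Fin (2 ^ (k + 1) * 2)) F) := by
  classical
  obtain ⟨Q⟩ : Nonempty (Sylow 2 (GL (Fin (2 ^ (k + 1))) F)) := inferInstance
  obtain ⟨T⟩ : Nonempty (Sylow 2 (Equiv.Perm (Fin 2))) := inferInstance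
  apply step (2 ^ (k + 1)) 2 (Nat.even_pow.2 ⟨even_two, Nat.succ_ne_zero k⟩) Nat.one_le_two_pow
    (hv_B hodd k) h Q T ((Q : Subgroup (GL (Fin (2 ^ (k + 1))) F)) : Set (GL (Fin (2 ^ (k + 1))) F))
  · intro r hr
    exact hr
  · intro y hy
    exact ⟨y, hy, rfl⟩
  · intro i j _ r hr
    apply pairEl_sq_mem_of_swap _ _ _ _ hr
    rw [sylow_perm_two T]
    exact Subgroup.mem_top _

theorem caseB (hodd : Odd (Fintype.card F)) :
    ∀ k : ℕ, EA2 (Matrix.SpecialLinearGroup (Fin (2 ^ (k + 1))) F) := by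
  intro k
  induction k with
  | zero => exact EA2_SL2 hodd
  | succ k ih =>
    have := caseB_step hodd k ih
    rw [← pow_succ] at this
    exact this

end CaseB

/-- Let F be a finite field of odd order q and m ≥ 1. If 4 divides q + 1, or if 4 divides q − 1 and m is a power of 2, then a Sylow 2-subgroup P of SL_{2m}(F) has P/P' elementary abelian: the square of every element of P lies in the derived subgroup of P. -/
theorem result {F : Type*} [Field F] [Fintype F] (hF : Odd (Fintype.card F)) (m : ℕ) (hm : 1 ≤ m)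
    (hq : 4 ∣ Fintype.card F + 1 ∨ (4 ∣ Fintype.card F - 1 ∧ ∃ j : ℕ, m = 2 ^ j)) (P : Sylow 2 (Matrix.SpecialLinearGroup (Fin (2 * m)) F)) :
    ∀ x : (P : Subgroup (Matrix.SpecialLinearGroup (Fin (2 * m)) F)), x ^ 2 ∈ commutator (P : Subgroup (Matrix.SpecialLinearGroup (Fin (2 * m)) F)) := by
  have hE : EA2 (Matrix.SpecialLinearGroup (Fin (2 * m)) F) := by
    rcases hq with hq | ⟨_, j, rfl⟩
    · exact caseA hF (by omega) m
    · have := caseB (F := F) hF j
      rw [pow_succ'] at this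
      exact this
  intro x
  apply mem_commutator_subtype
  have h := EA2_all hE P x.1 x.2
  simpa using h

end Cfsg.Agent.S4627
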