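import Mathlib
import Cfsg.Statements.S4633
import Cfsg.Agent.Lib.helper3.SP36
import Cfsg.Agent.S4437

set_option autoImplicit false
open Cfsg

namespace Cfsg.Agent.S4633

set_option linter.style.haveILetI false

open Cfsg Cfsg.Agent.Lib.helper3.Block Cfsg.Agent.Lib.helper3.LocalM

/-- Let B be a block of the finite group G relative to a maximal ideal M of the algebraic integers containing the prime p, with a nontrivial cyclic defect group P. Let c be a block of C_G(P) inducing B and T the stabilizer of c in N_G(P) (the elements of N_G(P) conjugating c to itself); T contains C_G(P). Then T/C_G(P) is cyclic of order dividing p − 1, and it acts freely on the non-identity elements of P: an element of T fixing some non-identity element of P under conjugation lies in C_G(P). -/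
theorem result {G : Type*} [Group G] [Finite G] (p : ℕ) [Fact p.Prime] (M : Ideal Cfsg.AlgInt) (hM : Cfsg.IsPModular p M) (B : Set (Cfsg.IrrCharacter G)) (hB : Cfsg.IsPBlock M B) (P : Subgroup G) (hPD : Cfsg.IsDefectGroup p M B P) (hP1 : P ≠ ⊥) (hcyc : IsCyclic P) (c : Set (Cfsg.IrrCharacter (Subgroup.centralizer (P : Set G)))) (hc : Cfsg.IsInducedBlock M (Subgroup.centralizer (P : Set G)) c B) (T : Subgroup G) (hT : ∀ g : G, g ∈ T ↔ (g ∈ Subgroup.normalizer (P : Set G) ∧ Cfsg.StabilizesBlock (Subgroup.centralizer (P : Set G)) c g)) [hn : ((Subgroup.centralizer (P : Set G)).subgroupOf T).Normal] : IsCyclic (T ⧸ (Subgroup.centralizer (P : Set G)).subgroupOf T) ∧ (Subgroup.centralizer (P : Set G)).relIndex T ∣ p - 1 ∧ ∀ g ∈ T, ∀ x ∈ P, x ≠ 1 → g * x * g⁻¹ = x → g ∈ Subgroup.centralizer (P : Set G) := by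
  classical
  haveI : Fintype G := Fintype.ofFinite G
  haveI : Fintype ↥(Subgroup.centralizer (P : Set G)) := Fintype.ofFinite _
  haveI hMp := isPrime_of_isPModular hM
  have hp : Fact p.Prime := inferInstance
  have hP : IsPGroup p P := isPGroup_of_isDefectGroup hPD
  have hPC : P ≤ Subgroup.centralizer (P : Set G) := by
    intro x hx
    rw [Subgroup.mem_centralizer_iff]
    intro y hy
    have h1 := hcyc.commutative
    have h2 := h1.is_comm.comm (⟨y, hy⟩ : ↥P) ⟨x, hx⟩
    have := congrArg (fun z : ↥P => (z : G)) h2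
    simpa using this
  have hCN : Subgroup.centralizer (P : Set G) ≤ Subgroup.normalizer (P : Set G) :=
    Subgroup.centralizer_le_normalizer _
  have hcP := isDefectGroup_of_induced_le_normalizer hM P (Subgroup.centralizer (P : Set G)) hP hPC
    hCN B hB hPD c hc
  have hH : Subgroup.centralizer (P : Set G) = P ⊔ Subgroup.centralizer (P : Set G) :=
    (sup_eq_right.mpr hPC).symm
  have hT' : ∀ g : G, g ∈ T ↔ (g ∈ Subgroup.normalizer (P : Set G) ∧ ∀ θ ∈ c,
      ∀ θ' : Cfsg.IrrCharacter (Subgroup.centralizer (P : Set G)),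
      (∀ h h' : (Subgroup.centralizer (P : Set G)), (h' : G) = g * h * g⁻¹ →
        (θ' : (Subgroup.centralizer (P : Set G)) → ℂ) h'
          = (θ : (Subgroup.centralizer (P : Set G)) → ℂ) h) → θ' ∈ c) := by
    intro g
    rw [hT g]
    constructor
    · rintro ⟨h1, h2⟩
      exact ⟨h1, (stabilizesBlock_iff_forall _ c g h2.1).mp h2⟩
    · rintro ⟨h1, h2⟩
      exact ⟨h1, (stabilizesBlock_iff_forall _ c g
        (normalizer_le_normalizer_centralizer P h1)).mpr h2⟩
  have hndvd := (Cfsg.Agent.S4437.result p M hM P hP (Subgroup.centralizer (P : Set G)) hH c hc.1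
    hcP B hc T hT').mp hPD
  have hCT : Subgroup.centralizer (P : Set G) ≤ T := fun x hx =>
    (hT x).mpr ⟨hCN hx, stabilizesBlock_of_mem_self _ c x hx⟩
  have hTN : T ≤ Subgroup.normalizer (P : Set G) := fun g hg => ((hT g).mp hg).1
  have hcop : Nat.Coprime ((Subgroup.centralizer (P : Set G)).relIndex T) p :=
    ((Nat.Prime.coprime_iff_not_dvd hp.out).mpr hndvd).symm
  have hpow : ∀ g ∈ T, g ^ ((Subgroup.centralizer (P : Set G)).relIndex T)
      ∈ Subgroup.centralizer (P : Set G) := by
    intro g hg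
    have := Subgroup.pow_index_mem ((Subgroup.centralizer (P : Set G)).subgroupOf T) (⟨g, hg⟩ : ↥T)
    rw [Subgroup.mem_subgroupOf] at this
    show g ^ ((Subgroup.centralizer (P : Set G)).subgroupOf T).index ∈ _
    simpa using this
  have hfree : ∀ g ∈ T, ∀ x ∈ P, x ≠ 1 → g * x * g⁻¹ = x →
      g ∈ Subgroup.centralizer (P : Set G) :=
    fun g hg x hx hx1 hgx => mem_centralizer_of_fix_cyclic p P hP hcyc g (hTN hg) _ hcop
      (hpow g hg) x hx hx1 hgx
  -- an element of order `p`
  obtain ⟨n, hnc⟩ := hP.exists_card_eq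
  have hn0 : n ≠ 0 := by
    rintro rfl
    rw [pow_zero] at hnc
    exact hP1 (Subgroup.eq_bot_of_card_eq P hnc)
  have hpdvd : p ∣ Nat.card ↥P := by
    rw [hnc]
    exact dvd_pow_self p hn0
  obtain ⟨y, hy⟩ := exists_prime_orderOf_dvd_card' p hpdvd
  have hyG : orderOf (y : G) = p := by rw [Subgroup.orderOf_coe, hy]
  have hy1 : (y : G) ≠ 1 := by
    intro h
    rw [h, orderOf_one] at hyG
    exact hp.out.one_lt.ne hyG
  have hΩP : Subgroup.zpowers (y : G) ≤ P := by
    rw [Subgroup.zpowers_le]
    exact y.2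
  have hconj : ∀ g ∈ T, ∀ h ∈ Subgroup.zpowers (y : G), g * h * g⁻¹ ∈ Subgroup.zpowers (y : G) := by
    intro g hg h hh
    obtain ⟨k, hk⟩ := exists_pow_of_mem_normalizer_cyclic P hcyc g (hTN hg)
    rw [hk h (hΩP hh)]
    exact Subgroup.pow_mem _ hh k
  have hTΩ : T ≤ Subgroup.normalizer ((Subgroup.zpowers (y : G) : Subgroup G) : Set G) := by
    intro g hg
    rw [Subgroup.mem_normalizer_iff]
    intro h
    constructor
    · exact hconj g hg h
    · intro hh
      have := hconj g⁻¹ (T.inv_mem hg) _ hh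
      have h2 : g⁻¹ * (g * h * g⁻¹) * g⁻¹⁻¹ = h := by group
      rwa [h2] at this
  have hker : (conjAut (Subgroup.zpowers (y : G)) T hTΩ).ker
      = (Subgroup.centralizer (P : Set G)).subgroupOf T := by
    ext t
    rw [conjAut_ker, Subgroup.mem_subgroupOf, Subgroup.mem_subgroupOf]
    constructor
    · intro ht
      apply hfree (t : G) t.2 (y : G) y.2 hy1
      rw [Subgroup.mem_centralizer_iff] at ht
      have := ht (y : G) (Subgroup.mem_zpowers _)
      rw [← this]
      group
    · intro ht
      exact Subgroup.centralizer_le hΩP ht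
  haveI hcycΩ : IsCyclic ↥(Subgroup.zpowers (y : G)) := inferInstance
  have hcardΩ : Nat.card ↥(Subgroup.zpowers (y : G)) = p := by
    rw [Nat.card_zpowers, hyG]
  haveI : Fact (Nat.card ↥(Subgroup.zpowers (y : G))).Prime := ⟨by rw [hcardΩ]; exact hp.out⟩
  haveI hcycA : IsCyclic (MulAut ↥(Subgroup.zpowers (y : G))) :=
    isCyclic_of_injective (IsCyclic.mulAutMulEquiv ↥(Subgroup.zpowers (y : G))).toMonoidHom
      (IsCyclic.mulAutMulEquiv ↥(Subgroup.zpowers (y : G))).injective
  have hcardA : Nat.card (MulAut ↥(Subgroup.zpowers (y : G))) = p - 1 := by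
    rw [IsCyclic.card_mulAut, hcardΩ, Nat.totient_prime hp.out]
  refine ⟨?_, ?_, hfree⟩
  · revert hn
    rw [← hker]
    intro hn
    exact isCyclic_of_injective (QuotientGroup.kerLift (conjAut (Subgroup.zpowers (y : G)) T hTΩ))
      (QuotientGroup.kerLift_injective _)
  · show ((Subgroup.centralizer (P : Set G)).subgroupOf T).index ∣ p - 1
    rw [← hker, Subgroup.index_ker, ← hcardA]
    exact Subgroup.card_subgroup_dvd_card _

end Cfsg.Agent.S4633
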