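import Mathlib
import Cfsg.Statements.S4636

set_option autoImplicit false
open scoped Pointwise
open Cfsg

set_option linter.style.haveILetI false

namespace Cfsg.Agent.S4636

/-- Let P be a nontrivial cyclic p-subgroup of the finite group G and Z its subgroup of order p. For every x outside N_G(Z), P meets its conjugate xPx⁻¹ trivially; consequently N_G(Q) ≤ N_G(Z) for every nontrivial subgroup Q of P. -/
theorem result {G : Type*} [Group G] [Finite G] (p : ℕ) [Fact p.Prime] (P : Subgroup G) (hP : IsPGroup p P) (hP1 : P ≠ ⊥) (hcyc : IsCyclic P) (Z : Subgroup G) (hZ : Z ≤ P) (hZcard : Nat.card Z = p) : (∀ x : G, x ∉ Subgroup.normalizer (Z : Set G) → P ⊓ MulAut.conj x • P = ⊥) ∧ ∀ Q : Subgroup G, Q ≤ P → Q ≠ ⊥ → Subgroup.normalizer (Q : Set G) ≤ Subgroup.normalizer (Z : Set G) := by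
  classical
  have hp : p.Prime := Fact.out
  haveI : Fintype ↥P := Fintype.ofFinite _
  haveI : Fintype ↥Z := Fintype.ofFinite _
  -- (F1) elements of `P` of order dividing `p` lie in `Z`
  have F1 : ∀ a ∈ P, a ^ p = 1 → a ∈ Z := by
    intro a haP hap
    haveI := hcyc
    have hle := IsCyclic.card_pow_eq_one_le (α := ↥P) (n := p) hp.pos
    set S : Finset ↥P := Finset.univ.filter (fun b : ↥P => b ^ p = 1) with hS
    set Z' : Finset ↥P := Finset.univ.filter (fun b : ↥P => (b : G) ∈ Z) with hZ'
    have hZ'card : Z'.card = p := by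
      rw [← hZcard, Nat.card_eq_fintype_card, ← Fintype.card_coe]
      apply Fintype.card_congr
      refine ⟨fun b => ⟨b.1.1, (Finset.mem_filter.mp b.2).2⟩,
        fun z => ⟨⟨z.1, hZ z.2⟩, Finset.mem_filter.mpr ⟨Finset.mem_univ _, z.2⟩⟩, ?_, ?_⟩
      · intro b; rfl
      · intro z; rfl
    have hsub : Z' ⊆ S := by
      intro b hb
      rw [hZ', Finset.mem_filter] at hb
      rw [hS, Finset.mem_filter]
      refine ⟨Finset.mem_univ _, ?_⟩
      have : (⟨b.1, hb.2⟩ : Z) ^ p = 1 := by
        rw [← hZcard]
        exact pow_card_eq_one'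
      apply Subtype.ext
      have h2 := congrArg Subtype.val this
      simpa using h2
    have heq : Z' = S := Finset.eq_of_subset_of_card_le hsub (by rw [hZ'card]; exact hle)
    have hmem : (⟨a, haP⟩ : ↥P) ∈ S := by
      rw [hS, Finset.mem_filter]
      refine ⟨Finset.mem_univ _, ?_⟩
      apply Subtype.ext
      simpa using hap
    rw [← heq, hZ', Finset.mem_filter] at hmem
    exact hmem.2
  have hZpow : ∀ z ∈ Z, z ^ p = 1 := by
    intro z hz
    have : (⟨z, hz⟩ : Z) ^ p = 1 := by
      rw [← hZcard]
      exact pow_card_eq_one'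
    have h2 := congrArg Subtype.val this
    simpa using h2
  -- (F2) nontrivial subgroups of `P` contain `Z`
  have F2 : ∀ Q : Subgroup G, Q ≤ P → Q ≠ ⊥ → Z ≤ Q := by
    intro Q hQ hQ1
    have hQp : IsPGroup p Q := hP.to_le hQ
    haveI : Nontrivial Q := (Subgroup.nontrivial_iff_ne_bot Q).mpr hQ1
    obtain ⟨n, hn⟩ := IsPGroup.iff_card.mp hQp
    have hn0 : n ≠ 0 := by
      rintro rfl
      rw [pow_zero] at hn
      have := Finite.one_lt_card (α := Q)
      omega
    have hdvd : p ∣ Nat.card Q := by rw [hn]; exact dvd_pow_self p hn0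
    obtain ⟨h, hh⟩ := exists_prime_orderOf_dvd_card' p hdvd
    have hhp : (h : G) ^ p = 1 := by
      have := pow_orderOf_eq_one h
      rw [hh] at this
      have h2 := congrArg Subtype.val this
      simpa using h2
    have hhZ : (h : G) ∈ Z := F1 h (hQ h.2) hhp
    have hh1 : (h : G) ≠ 1 := by
      intro h1
      have : h = 1 := Subtype.ext h1
      rw [this, orderOf_one] at hh
      exact hp.one_lt.ne hh
    -- `Z` is generated by `h`
    haveI : Fact (Nat.card Z).Prime := ⟨by rw [hZcard]; exact hp⟩
    have hgen : Subgroup.zpowers (⟨h, hhZ⟩ : Z) = ⊤ := by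
      apply zpowers_eq_top_of_prime_card (p := p) hZcard
      intro h1
      apply hh1
      exact congrArg Subtype.val h1
    intro z hz
    have : (⟨z, hz⟩ : Z) ∈ Subgroup.zpowers (⟨h, hhZ⟩ : Z) := by rw [hgen]; trivial
    obtain ⟨k, hk⟩ := this
    have h2 : (h : G) ^ k = z := by
      have := congrArg Subtype.val hk
      simpa using this
    rw [← h2]
    exact Q.zpow_mem h.2 k
  -- (F3)
  have F3 : ∀ x : G, (∀ z ∈ Z, x * z * x⁻¹ ∈ P) → x ∈ Subgroup.normalizer (Z : Set G) := by
    intro x hx
    have hfwd : ∀ z ∈ Z, x * z * x⁻¹ ∈ Z := by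
      intro z hz
      apply F1 _ (hx z hz)
      rw [conj_pow, hZpow z hz]
      simp
    let f : Z → Z := fun z => ⟨x * z * x⁻¹, hfwd z z.2⟩
    have hinj : Function.Injective f := by
      intro a b hab
      have := congrArg Subtype.val hab
      simp only [f] at this
      apply Subtype.ext
      simpa using this
    have hsurj : Function.Surjective f := Finite.injective_iff_surjective.mp hinj
    rw [Subgroup.mem_set_normalizer_iff]
    intro h
    constructor
    · intro hh
      exact hfwd h hh
    · intro hh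
      obtain ⟨z, hz⟩ := hsurj ⟨x * h * x⁻¹, hh⟩
      have h2 : x * (z : G) * x⁻¹ = x * h * x⁻¹ := congrArg Subtype.val hz
      have h3 : (z : G) = h := by
        have := mul_left_cancel (mul_right_cancel h2)
        exact this
      rw [← h3]
      exact z.2
  constructor
  · intro x hx
    by_contra hne
    apply hx
    set R := P ⊓ MulAut.conj x • P with hR
    -- the conjugate of `R` back into `P`
    set R' : Subgroup G := (MulAut.conj x)⁻¹ • R with hR'
    have hR'P : R' ≤ P := by
      intro y hy
      rw [hR', Subgroup.mem_pointwise_smul_iff_inv_smul_mem, inv_inv] at hy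
      have h1 : MulAut.conj x • y ∈ MulAut.conj x • P := hy.2
      rw [Subgroup.smul_mem_pointwise_smul_iff] at h1
      exact h1
    have hR'1 : R' ≠ ⊥ := by
      intro h
      apply hne
      rw [hR'] at h
      have := congrArg (fun K : Subgroup G => MulAut.conj x • K) h
      simp only [smul_inv_smul, Subgroup.smul_bot] at this
      exact this
    have hZR' := F2 R' hR'P hR'1
    apply F3
    intro z hz
    have h1 := hZR' hz
    rw [hR', Subgroup.mem_pointwise_smul_iff_inv_smul_mem, inv_inv] at h1
    have h2 : MulAut.conj x • z = x * z * x⁻¹ := by simp [MulAut.smul_def]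
    rw [h2] at h1
    exact h1.1
  · intro Q hQ hQ1 g hg
    apply F3
    intro z hz
    have hzQ := F2 Q hQ hQ1 hz
    exact hQ ((Subgroup.mem_set_normalizer_iff.mp hg z).mp hzQ)

end Cfsg.Agent.S4636
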