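import Mathlib
import Cfsg.Statements.S4663
import Cfsg.Agent.Lib.helper3.BrauerHom
import Cfsg.Agent.Lib.helper3.PrincIdem3
import Cfsg.Agent.S4657

set_option autoImplicit false
open Cfsg

namespace Cfsg.Agent.S4663

set_option linter.style.haveILetI false

open Cfsg Cfsg.Agent.Lib.helper3.Block Cfsg.Agent.Lib.helper3.LocalM Cfsg.Agent.Lib.helper3.Irr Cfsg.Agent.Lib.helper3.CharBasic Cfsg.Agent.Lib.helper3.HallNilp

/-- Fix a prime p and a maximal ideal M of the algebraic integers containing p. Brauer's Third Main Theorem in the language of Brauer pairs: for the principal p-block B₀ of the finite group G and any p-subgroup Q, a p-block e of C_G(Q) makes (Q, e) a Brauer pair of B₀ if and only if e is the principal p-block of C_G(Q). Equivalently, modulo M the truncation to C_G(Q) of the idempotent of B₀ is the idempotent of the principal block of C_G(Q). -/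
theorem result {G : Type*} [Group G] [Fintype G] (p : ℕ) [Fact p.Prime] (M : Ideal Cfsg.AlgInt) (hM : Cfsg.IsPModular p M) (Q : Subgroup G) (hQ : IsPGroup p Q) (e : Set (Cfsg.IrrCharacter (Subgroup.centralizer (Q : Set G)))) (he : Cfsg.IsPBlock M e) : Cfsg.IsBrauerPairOf p M (Cfsg.principalBlock M G) Q e ↔ e = Cfsg.principalBlock M (Subgroup.centralizer (Q : Set G)) := by
  classical
  haveI : Fintype (Subgroup.centralizer (Q : Set G)) := Fintype.ofFinite _
  haveI hMp := isPrime_of_isPModular hM
  have hMtop : M ≠ ⊤ := hM.2.1.ne_top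
  have hBG : IsPBlock M (principalBlock M G) := ⟨Cfsg.Agent.Lib.helper3.PrincOnly.one G, rfl⟩
  have hBC : IsPBlock M (principalBlock M (Subgroup.centralizer (Q : Set G))) :=
    ⟨Cfsg.Agent.Lib.helper3.PrincOnly.one _, rfl⟩
  have key : ∀ (B : Set (IrrCharacter G)), IsPBlock M B →
      ∀ ξ : IrrCharacter (Subgroup.centralizer (Q : Set G)),
      MemLocalIdeal M (brauerOmega Q (blockCoeff B)
        (ξ : Subgroup.centralizer (Q : Set G) → ℂ) - 1) →
      ∀ χ ∈ B, MemLocalIdeal M (regOmega p (ξ : Subgroup.centralizer (Q : Set G) → ℂ)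
        - regOmega p (χ : G → ℂ)) := by
    intro B hB ξ hΛ χ hχ
    have h := memLocalIdeal_brauerOmega_sub_centralChar hM Q hQ B hB ξ hΛ
      (fun g : G => if p ∣ orderOf g then (0 : ℂ) else 1)
      (fun g => by
        split_ifs
        · exact memLocalRing_of_integral isIntegral_zero
        · exact memLocalRing_of_integral isIntegral_one)
      (fun g x => by simp only [orderOf_conj']) χ hχ
    rw [brauerOmega_eq_sum] at h
    unfold regOmega
    convert h using 3
    rw [Subgroup.orderOf_coe]
  constructor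
  · rintro ⟨hpair, hB, hΛ⟩
    obtain ⟨ξ, hξ⟩ : ∃ ξ, ξ ∈ e := by
      obtain ⟨ξ, hξ⟩ := he
      exact ⟨ξ, by rw [hξ]; exact sameBlock_refl hMtop _⟩
    have h1G : Cfsg.Agent.Lib.helper3.PrincOnly.one G ∈ principalBlock M G :=
      sameBlock_refl hMtop _
    have h1 := key _ hBG ξ (hΛ ξ hξ) _ h1G
    have h2 := not_memLocalIdeal_regOmega hM _ h1G
    have h3 : ¬ MemLocalIdeal M (regOmega p (ξ : Subgroup.centralizer (Q : Set G) → ℂ)) := by
      intro h
      apply h2
      have := memLocalIdeal_sub h h1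
      rwa [sub_sub_cancel] at this
    have h4 := mem_principalBlock_of_regOmega hM ξ h3
    exact isPBlock_eq_of_mem he hBC ξ hξ h4
  · intro he'
    obtain ⟨B, ⟨hpair, hB, hΛ⟩, -⟩ := Cfsg.Agent.S4657.result p M hM Q e ⟨hQ, he⟩
    have hξ : Cfsg.Agent.Lib.helper3.PrincOnly.one (Subgroup.centralizer (Q : Set G)) ∈ e := by
      rw [he']
      exact sameBlock_refl hMtop _
    obtain ⟨χ, hχ⟩ : ∃ χ, χ ∈ B := by
      obtain ⟨χ, hχ⟩ := hB
      exact ⟨χ, by rw [hχ]; exact sameBlock_refl hMtop _⟩
    have h1 := key B hB _ (hΛ _ hξ) χ hχ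
    have h2 := not_memLocalIdeal_regOmega hM
      (Cfsg.Agent.Lib.helper3.PrincOnly.one (Subgroup.centralizer (Q : Set G)))
      (sameBlock_refl hMtop _)
    have h3 : ¬ MemLocalIdeal M (regOmega p (χ : G → ℂ)) := by
      intro h
      apply h2
      have := memLocalIdeal_add h1 h
      rwa [sub_add_cancel] at this
    have h4 := mem_principalBlock_of_regOmega hM χ h3
    have hBeq : B = principalBlock M G := isPBlock_eq_of_mem hB hBG χ hχ h4
    rw [← hBeq]
    exact ⟨hpair, hB, hΛ⟩


end Cfsg.Agent.S4663
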