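import Mathlib
import Cfsg.Statements.S4691
import Cfsg.Agent.S4663
import Cfsg.Agent.Lib.Lead.NormalPComplement
import Cfsg.Agent.Lib.helper3.AutBlock3

set_option autoImplicit false
open Cfsg

namespace Cfsg.Agent.S4691

set_option linter.style.haveILetI false

open Cfsg Cfsg.Agent.Lib.helper3.Block Cfsg.Agent.Lib.helper3.LocalM Cfsg.Agent.Lib.helper3.Irr Cfsg.Agent.Lib.helper3.CharBasic

/-- Fix a prime p and a maximal ideal M of the algebraic integers containing p. A finite group G has a normal p-complement if and only if its principal p-block is nilpotent. -/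
theorem result {G : Type*} [Group G] [Fintype G] (p : ℕ) [Fact p.Prime] (M : Ideal Cfsg.AlgInt) (hM : Cfsg.IsPModular p M) : Cfsg.HasNormalPComplement p G ↔ Cfsg.IsNilpotentBlock p M (Cfsg.principalBlock M G) := by
  classical
  haveI hMp := isPrime_of_isPModular hM
  have hMtop : M ≠ ⊤ := hM.2.1.ne_top
  have hBG : IsPBlock M (principalBlock M G) := ⟨Cfsg.Agent.Lib.helper3.PrincOnly.one G, rfl⟩
  constructor
  · intro h
    obtain ⟨N, hN, hc, k, hk⟩ :=
      Cfsg.Agent.Lib.Lead.NormalPComplement.exists_normal_of_hasNormalPComplement h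
    haveI := hN
    refine ⟨hBG, ?_⟩
    intro Q e hpair x hx hstab hreg
    apply Cfsg.Agent.Lib.Lead.NormalPComplement.centralizes_of_normal N hc hk Q hpair.1.1 x hx
    exact ((Nat.Prime.coprime_iff_not_dvd (Fact.out : p.Prime)).mpr hreg).symm
  · intro h
    obtain ⟨P⟩ : Nonempty (Sylow p G) := inferInstance
    apply Cfsg.Agent.Lib.Lead.NormalPComplement.hasNormalPComplement_of_p'_centralize P
    intro Q hQP g hg hcop
    haveI : Fintype (Subgroup.centralizer (Q : Set G)) := Fintype.ofFinite _
    have hQ : IsPGroup p Q := P.isPGroup'.to_le hQP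
    have hBC : IsPBlock M (principalBlock M (Subgroup.centralizer (Q : Set G))) :=
      ⟨Cfsg.Agent.Lib.helper3.PrincOnly.one _, rfl⟩
    have hpair := (Cfsg.Agent.S4663.result p M hM Q hQ _ hBC).mpr rfl
    have hreg : IsPRegular p g := by
      intro hd
      exact (Fact.out : p.Prime).one_lt.ne' (Nat.Coprime.eq_one_of_dvd hcop.symm hd)
    apply h.2 Q _ hpair g hg _ hreg
    -- g stabilizes the principal block of the centralizer
    have hgN : g ∈ Subgroup.normalizer ((Subgroup.centralizer (Q : Set G) : Subgroup G) : Set G) := by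
      rw [Subgroup.mem_normalizer_iff]
      intro x
      have key : ∀ (a : G), a ∈ Subgroup.normalizer (Q : Set G) →
          ∀ x ∈ Subgroup.centralizer (Q : Set G), a * x * a⁻¹ ∈ Subgroup.centralizer (Q : Set G) := by
        intro a ha x hx
        rw [Subgroup.mem_centralizer_iff] at hx ⊢
        intro q hq
        have hq' : a⁻¹ * q * a ∈ Q := by
          have := (Subgroup.mem_normalizer_iff.mp (Subgroup.inv_mem _ ha) q).mp hq
          rwa [inv_inv] at this
        have h1 := hx _ hq'
        calc q * (a * x * a⁻¹) = a * ((a⁻¹ * q * a) * x) * a⁻¹ := by group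
          _ = a * (x * (a⁻¹ * q * a)) * a⁻¹ := by rw [h1]
          _ = a * x * a⁻¹ * q := by group
      constructor
      · exact key g hg x
      · intro hx
        have := key g⁻¹ (Subgroup.inv_mem _ hg) _ hx
        rwa [show g⁻¹ * (g * x * g⁻¹) * g⁻¹⁻¹ = x by group] at this
    have hst := (stabilizesBlock_iff (Subgroup.centralizer (Q : Set G))
      (principalBlock M (Subgroup.centralizer (Q : Set G))) hBC ⟨g, hgN⟩).mpr (by
        have := image_autIrr_blockOf (M := M)
          ((Subgroup.centralizer (Q : Set G)).normalizerMonoidHom ⟨g, hgN⟩)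
          (Cfsg.Agent.Lib.helper3.PrincOnly.one (Subgroup.centralizer (Q : Set G)))
        have h1 : autIrr ((Subgroup.centralizer (Q : Set G)).normalizerMonoidHom ⟨g, hgN⟩)
            (Cfsg.Agent.Lib.helper3.PrincOnly.one (Subgroup.centralizer (Q : Set G)))
            = Cfsg.Agent.Lib.helper3.PrincOnly.one (Subgroup.centralizer (Q : Set G)) := by
          apply Subtype.ext
          rfl
        rw [h1] at this
        exact this)
    exact hst


end Cfsg.Agent.S4691
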