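import Mathlib
import Cfsg.Statements.S4650
import Cfsg.Agent.Lib.helper3.SP38

set_option autoImplicit false
open Cfsg

namespace Cfsg.Agent.S4650

set_option linter.style.haveILetI false

open Cfsg Cfsg.Agent.Lib.helper3.Block Cfsg.Agent.Lib.helper3.LocalM

/-- Let B be a block of the finite group G relative to a maximal ideal M of the algebraic integers containing the prime p, with a nontrivial commutative defect group P; let c be a block of C_G(P) inducing B and T the stabilizer of c in N_G(P). Then T/C_G(P) acts freely on the non-identity elements of P (an element of T fixing a non-identity element of P under conjugation lies in C_G(P)) if and only if, for every nontrivial subgroup Q of P, the block of C_G(Q) induced by c inside C_G(Q) is a nilpotent block of C_G(Q). -/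
theorem result {G : Type*} [Group G] [Finite G] (p : ℕ) [Fact p.Prime] (M : Ideal Cfsg.AlgInt) (hM : Cfsg.IsPModular p M) (B : Set (Cfsg.IrrCharacter G)) (hB : Cfsg.IsPBlock M B) (P : Subgroup G) (hPD : Cfsg.IsDefectGroup p M B P) (hPab : ∀ x ∈ P, ∀ y ∈ P, x * y = y * x) (hP1 : P ≠ ⊥) (c : Set (Cfsg.IrrCharacter (Subgroup.centralizer (P : Set G)))) (hc : Cfsg.IsInducedBlock M (Subgroup.centralizer (P : Set G)) c B) (T : Subgroup G) (hT : ∀ g : G, g ∈ T ↔ (g ∈ Subgroup.normalizer (P : Set G) ∧ Cfsg.StabilizesBlock (Subgroup.centralizer (P : Set G)) c g)) : (∀ g ∈ T, ∀ x ∈ P, x ≠ 1 → g * x * g⁻¹ = x → g ∈ Subgroup.centralizer (P : Set G)) ↔ ∀ Q : Subgroup G, Q ≤ P → Q ≠ ⊥ → ∀ f : Set (Cfsg.IrrCharacter (Subgroup.centralizer (Q : Set G))), Cfsg.IsInducedBlockIn M (Subgroup.centralizer (Q : Set G)) (Subgroup.centralizer (P : Set G)) c f → Cfsg.IsNilpotentBlock p M f := by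
  classical
  haveI : Fintype G := Fintype.ofFinite G
  haveI hMp := isPrime_of_isPModular hM
  have hP : IsPGroup p P := isPGroup_of_isDefectGroup hPD
  have key : ∀ Q : Subgroup G, Q ≤ P →
      (∃ f : Set (Cfsg.IrrCharacter (Subgroup.centralizer (Q : Set G))),
        Cfsg.IsInducedBlockIn M (Subgroup.centralizer (Q : Set G))
          (Subgroup.centralizer (P : Set G)) c f) ∧
      ∀ f : Set (Cfsg.IrrCharacter (Subgroup.centralizer (Q : Set G))),
        Cfsg.IsInducedBlockIn M (Subgroup.centralizer (Q : Set G))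
          (Subgroup.centralizer (P : Set G)) c f →
        (Cfsg.IsNilpotentBlock p M f ↔ ∀ g : G, g ∈ Subgroup.centralizer (Q : Set G) →
          g ∈ Subgroup.normalizer (P : Set G) →
          Cfsg.StabilizesBlock (Subgroup.centralizer (P : Set G)) c g →
          g ∈ Subgroup.centralizer (P : Set G)) := by
    intro Q hQP
    have hPH : P ≤ Subgroup.centralizer (Q : Set G) := by
      intro x hx
      rw [Subgroup.mem_centralizer_iff]
      intro y hy
      exact hPab y (hQP hy) x hx
    have hXP : Subgroup.centralizer (P : Set G) ≤ Subgroup.centralizer (Q : Set G) :=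
      Subgroup.centralizer_le hQP
    obtain ⟨D', hD'⟩ : ∃ D' : Subgroup ↥(Subgroup.centralizer (Q : Set G)),
        P = D'.map (Subgroup.centralizer (Q : Set G)).subtype :=
      ⟨P.subgroupOf _, (Subgroup.map_subgroupOf_eq_of_le hPH).symm⟩
    subst hD'
    exact ⟨exists_isInducedBlockIn hM _ D' hXP hP c hc.1,
      fun f hf => isNilpotentBlock_local_iff hM B hB _ D' hXP hPD hPab c hc f hf⟩
  constructor
  · intro hfree Q hQP hQ1 f hf
    rw [(key Q hQP).2 f hf]
    intro g hgQ hgN hgst
    obtain ⟨⟨x, hxQ⟩, hx1⟩ := (Subgroup.ne_bot_iff_exists_ne_one).mp hQ1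
    have hx1' : x ≠ 1 := fun h => hx1 (Subtype.ext h)
    have hgT : g ∈ T := (hT g).mpr ⟨hgN, hgst⟩
    apply hfree g hgT x (hQP hxQ) hx1'
    have := (Subgroup.mem_centralizer_iff.mp hgQ) x hxQ
    rw [← this]
    group
  · intro hnil g hgT x hxP hx1 hgx
    have hQP : Subgroup.zpowers x ≤ P := by
      rw [Subgroup.zpowers_le]
      exact hxP
    have hQ1 : Subgroup.zpowers x ≠ ⊥ := by
      rw [Ne, Subgroup.zpowers_eq_bot]
      exact hx1
    obtain ⟨⟨f, hf⟩, hiff⟩ := key _ hQP
    have h1 := (hiff f hf).mp (hnil _ hQP hQ1 f hf)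
    obtain ⟨hgN, hgst⟩ := (hT g).mp hgT
    apply h1 g _ hgN hgst
    rw [Subgroup.mem_centralizer_iff]
    intro y hy
    obtain ⟨k, rfl⟩ := Subgroup.mem_zpowers_iff.mp hy
    have hc' : Commute g x := by
      show g * x = x * g
      calc g * x = (g * x * g⁻¹) * g := by group
        _ = x * g := by rw [hgx]
    exact (hc'.zpow_right k).eq.symm

end Cfsg.Agent.S4650
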