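import Mathlib
import Cfsg.Statements.S4652
import Cfsg.Agent.Lib.helper3.BlockIdem2
import Cfsg.Agent.Lib.helper3.Irr11

set_option autoImplicit false
open Cfsg

set_option linter.style.haveILetI false

namespace Cfsg.Agent.S4652

open scoped Pointwise
open Cfsg.Agent.Lib.helper3.LocalM Cfsg.Agent.Lib.helper3.Block Cfsg.Agent.Lib.helper3.Irr Cfsg.Agent.Lib.helper3.CharBasic Cfsg.Agent.Lib.helper3.Central

/-- Fix a prime p and a maximal ideal M of the algebraic integers containing p. The defect groups of the principal p-block of a finite group G are exactly the Sylow p-subgroups of G: a subgroup D is a defect group of the principal block if and only if D is a Sylow p-subgroup. -/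
theorem result {G : Type*} [Group G] [Fintype G] (p : ℕ) [Fact p.Prime] (M : Ideal Cfsg.AlgInt) (hM : Cfsg.IsPModular p M) (D : Subgroup G) : Cfsg.IsDefectGroup p M (Cfsg.principalBlock M G) D ↔ ∃ S : Sylow p G, (S : Subgroup G) = D := by
  classical
  have hp : p.Prime := Fact.out
  haveI hMp : M.IsPrime := hM.2.1.isPrime
  have hMtop : M ≠ ⊤ := hM.2.1.ne_top
  obtain ⟨B, hBdef⟩ : ∃ B, B = Cfsg.principalBlock M G := ⟨_, rfl⟩
  rw [← hBdef]
  obtain ⟨one, hone⟩ : ∃ one : IrrCharacter G, one = ⟨fun _ => 1, isIrrCharacter_one⟩ := ⟨_, rfl⟩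
  have hB : Cfsg.IsPBlock M B := ⟨one, by rw [hBdef, hone]; rfl⟩
  have honeB : one ∈ B := by
    rw [hBdef, hone]
    exact sameBlock_refl hMtop _
  have key : ∀ g : G, Cfsg.IsDefectClass M B g →
      ¬ p ∣ (Subgroup.centralizer ({g} : Set G)).index := by
    intro g hg hdiv
    have h1 := hg.2.2 one honeB
    have h2 : Cfsg.centralChar ((one : IrrCharacter G) : G → ℂ) g
        = (((Subgroup.centralizer ({g} : Set G)).index : Cfsg.AlgInt) : ℂ) := by
      rw [hone]
      show Cfsg.centralChar (fun _ : G => (1 : ℂ)) g = _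
      rw [centralChar_one_fun]
      push_cast
      rfl
    rw [h2] at h1
    exact h1 (memLocalIdeal_of_mem ((natCast_mem_iff hM _).mpr hdiv) hMtop)
  have hidx_conj : ∀ g x : G, (Subgroup.centralizer ({x * g * x⁻¹} : Set G)).index
      = (Subgroup.centralizer ({g} : Set G)).index := by
    intro g x
    rw [← card_class_eq_index, ← card_class_eq_index]
    congr 1
    ext y
    simp only [Finset.mem_filter, Finset.mem_univ, true_and]
    have : IsConj g (x * g * x⁻¹) := isConj_iff.mpr ⟨x, rfl⟩
    exact ⟨fun h => this.trans h, fun h => this.symm.trans h⟩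
  have hdc_conj : ∀ g x : G, Cfsg.IsDefectClass M B g → Cfsg.IsDefectClass M B (x * g * x⁻¹) := by
    intro g x hg
    have e1 : Cfsg.blockCoeff B (x * g * x⁻¹) = Cfsg.blockCoeff B g := by
      rw [blockCoeff_eq_coef, blockCoeff_eq_coef, coef_conj]
    have e2 : ∀ χ : IrrCharacter G, Cfsg.centralChar (χ : G → ℂ) (x * g * x⁻¹)
        = Cfsg.centralChar (χ : G → ℂ) g := by
      intro χ
      unfold Cfsg.centralChar
      rw [hidx_conj, isClassFunction_of_isCharacter (isCharacter_of_isIrrCharacter χ.2) g x]
    refine ⟨?_, ?_, ?_⟩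
    · rw [e1]; exact hg.1
    · rw [e1]; exact hg.2.1
    · intro χ hχ
      rw [e2]
      exact hg.2.2 χ hχ
  constructor
  · rintro ⟨g, hg, P, rfl⟩
    have hnd := key g hg
    have hP1 : IsPGroup p ((P : Subgroup (Subgroup.centralizer ({g} : Set G))).map
        (Subgroup.centralizer ({g} : Set G)).subtype) := P.2.map _
    have hP2 : ¬ p ∣ ((P : Subgroup (Subgroup.centralizer ({g} : Set G))).map
        (Subgroup.centralizer ({g} : Set G)).subtype).index := by
      rw [Subgroup.index_map_subtype]
      intro h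
      rcases (Nat.Prime.dvd_mul hp).mp h with h | h
      · exact P.not_dvd_index h
      · exact hnd h
    exact ⟨hP1.toSylow hP2, IsPGroup.toSylow_coe hP1 hP2⟩
  · rintro ⟨S, rfl⟩
    obtain ⟨g, hg⟩ := exists_defectClass hM B hB
    have hnd := key g hg
    obtain ⟨P₀⟩ : Nonempty (Sylow p (Subgroup.centralizer ({g} : Set G))) := inferInstance
    have hP1 : IsPGroup p ((P₀ : Subgroup (Subgroup.centralizer ({g} : Set G))).map
        (Subgroup.centralizer ({g} : Set G)).subtype) := P₀.2.map _
    have hP2 : ¬ p ∣ ((P₀ : Subgroup (Subgroup.centralizer ({g} : Set G))).map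
        (Subgroup.centralizer ({g} : Set G)).subtype).index := by
      rw [Subgroup.index_map_subtype]
      intro h
      rcases (Nat.Prime.dvd_mul hp).mp h with h | h
      · exact P₀.not_dvd_index h
      · exact hnd h
    obtain ⟨Q, hQ⟩ : ∃ Q : Sylow p G, (Q : Subgroup G)
        = (P₀ : Subgroup (Subgroup.centralizer ({g} : Set G))).map
          (Subgroup.centralizer ({g} : Set G)).subtype :=
      ⟨hP1.toSylow hP2, IsPGroup.toSylow_coe hP1 hP2⟩
    obtain ⟨x, hx⟩ := MulAction.exists_smul_eq G Q S
    have hSle : (S : Subgroup G) ≤ Subgroup.centralizer ({x * g * x⁻¹} : Set G) := by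
      intro s hs
      rw [← hx] at hs
      have hs' : s ∈ MulAut.conj x • (Q : Subgroup G) := by
        have e : ((x • Q : Sylow p G) : Subgroup G) = MulAut.conj x • (Q : Subgroup G) := by
          rw [Sylow.smul_def]; rfl
        rw [← e]
        exact hs
      rw [Subgroup.mem_smul_pointwise_iff_exists] at hs'
      replace hs := hs'
      obtain ⟨q, hq, rfl⟩ := hs
      rw [hQ, Subgroup.mem_map] at hq
      obtain ⟨c, -, rfl⟩ := hq
      have hc := c.2
      rw [Subgroup.mem_centralizer_iff] at hc ⊢
      intro b hb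
      rw [Set.mem_singleton_iff] at hb
      subst hb
      have h1 := hc g (Set.mem_singleton g)
      simp only [MulAut.smul_def, MulAut.conj_apply, Subgroup.coe_subtype]
      calc x * g * x⁻¹ * (x * (c : G) * x⁻¹) = x * (g * (c : G)) * x⁻¹ := by group
        _ = x * ((c : G) * g) * x⁻¹ := by rw [h1]
        _ = x * (c : G) * x⁻¹ * (x * g * x⁻¹) := by group
    refine ⟨x * g * x⁻¹, hdc_conj g x hg, S.subtype hSle, ?_⟩
    rw [Sylow.coe_subtype, Subgroup.map_subgroupOf_eq_of_le hSle]

end Cfsg.Agent.S4652
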