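import Mathlib
import Cfsg.Statements.S4664
import Cfsg.Agent.Lib.helper3.ProjVanish6
import Cfsg.Agent.Lib.helper3.BlockBasic
import Cfsg.Agent.Lib.helper3.CharBasic

set_option autoImplicit false
open Cfsg

namespace Cfsg.Agent.S4664

open Cfsg.Agent.Lib.helper3.Block Cfsg.Agent.Lib.helper3.LocalM Cfsg.Agent.Lib.helper3.Central
open Cfsg.Agent.Lib.helper3.Irr Cfsg.Agent.Lib.helper3.CharBasic
set_option linter.style.haveILetI false

/-- Fix a prime p and a maximal ideal M of the algebraic integers containing p, and let B be a p-block of the finite group G. Let m be the p'-part of the order of G and η = exp(2πi/m). Then every coefficient of the idempotent of B lies in the cyclotomic field ℚ(η). -/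
theorem result {G : Type*} [Group G] [Fintype G] (p : ℕ) [Fact p.Prime] (M : Ideal Cfsg.AlgInt) (hM : Cfsg.IsPModular p M) (B : Set (Cfsg.IrrCharacter G)) (hB : Cfsg.IsPBlock M B) (g : G) : Cfsg.blockCoeff B g ∈ IntermediateField.adjoin ℚ ({Complex.exp (2 * Real.pi * Complex.I / ((Nat.card G / p ^ (Nat.card G).factorization p : ℕ) : ℂ))} : Set ℂ) := by
  classical
  haveI hMp := isPrime_of_isPModular hM
  have hp : p.Prime := hM.1
  obtain ⟨χ₀, rfl⟩ := hB
  have hS : ∀ θ ∈ Cfsg.blockOf M (χ₀ : G → ℂ),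
      Cfsg.blockOf M (θ : G → ℂ) ⊆ Cfsg.blockOf M (χ₀ : G → ℂ) := by
    intro θ hθ ψ hψ
    exact sameBlock_trans hθ hψ
  obtain ⟨m, hm⟩ : ∃ m : ℕ, m = Nat.card G / p ^ (Nat.card G).factorization p := ⟨_, rfl⟩
  rw [← hm]
  have hdvd : p ^ (Nat.card G).factorization p ∣ Nat.card G := Nat.ordProj_dvd _ _
  have hGm : Nat.card G = p ^ (Nat.card G).factorization p * m := by
    rw [hm, Nat.mul_div_cancel' hdvd]
  have hm0 : m ≠ 0 := by
    intro h
    rw [h, mul_zero] at hGm
    exact Nat.card_pos.ne' hGm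
  have hprim := Complex.isPrimitiveRoot_exp m hm0
  obtain ⟨η, hη⟩ : ∃ η : ℂ, η = Complex.exp (2 * Real.pi * Complex.I / (m : ℂ)) := ⟨_, rfl⟩
  rw [← hη] at hprim ⊢
  obtain ⟨F, hF⟩ : ∃ F : IntermediateField ℚ ℂ, F = IntermediateField.adjoin ℚ ({η} : Set ℂ) :=
    ⟨_, rfl⟩
  rw [← hF]
  have hηF : η ∈ F := by
    rw [hF]
    exact IntermediateField.subset_adjoin ℚ _ (Set.mem_singleton η)
  haveI : NeZero m := ⟨hm0⟩
  rw [blockCoeff_eq_coef]
  unfold coef
  beta_reduce
  by_cases hg : p ∣ orderOf g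
  · have h1 := weak_block_orthogonality hM (Cfsg.blockOf M (χ₀ : G → ℂ)) hS 1 g
      (by rw [orderOf_one]; exact hp.one_lt.ne' ∘ Nat.dvd_one.mp) hg
    have h2 : ∑ χ : Cfsg.IrrCharacter G, (if χ ∈ Cfsg.blockOf M (χ₀ : G → ℂ) then (1 : ℂ) else 0)
        * (χ : G → ℂ) 1 * (starRingEnd ℂ) ((χ : G → ℂ) g) = 0 := by
      refine Eq.trans (Finset.sum_congr rfl ?_) h1
      intro χ _
      ring
    rw [h2, mul_zero]
    exact F.zero_mem
  · have hog : orderOf g ∣ m := by
      have h1 : orderOf g ∣ p ^ (Nat.card G).factorization p * m := by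
        rw [← hGm]
        exact orderOf_dvd_natCard g
      have h2 : Nat.Coprime (orderOf g) (p ^ (Nat.card G).factorization p) :=
        Nat.Coprime.pow_right _ ((Nat.Prime.coprime_iff_not_dvd hp).mpr hg).symm
      exact h2.dvd_of_dvd_mul_left h1
    apply F.mul_mem
    · apply F.inv_mem
      exact natCast_mem F _
    · apply F.sum_mem
      intro χ _
      apply F.mul_mem
      · apply F.mul_mem
        · split_ifs
          · exact F.one_mem
          · exact F.zero_mem
        · obtain ⟨n, -, hn⟩ := exists_pos_nat_apply_one χ.2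
          rw [hn]
          exact natCast_mem F _
      · obtain ⟨n, ρ, hirr, hρ⟩ := χ.2
        rw [← hρ, ← character_inv ρ g]
        obtain ⟨I, _, v, μ, hf, hμ⟩ := exists_eigenbasis ρ g⁻¹
        rw [character_eq_sum_of_eigenbasis ρ g⁻¹ v μ hf]
        apply F.sum_mem
        intro i _
        have h3 : μ i ^ m = 1 := by
          obtain ⟨k, hk⟩ := hog
          rw [hk, pow_mul, ← orderOf_inv g, hμ i, one_pow]
        obtain ⟨j, -, hj⟩ := hprim.eq_pow_of_pow_eq_one h3
        rw [← hj]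
        exact F.pow_mem hηF j

end Cfsg.Agent.S4664
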