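import Mathlib
import Cfsg.Statements.S4665
import Cfsg.Agent.Lib.helper3.BrauerChar
import Cfsg.Agent.Lib.helper3.NormTwo
import Cfsg.Agent.Lib.helper3.Gallagher3

set_option autoImplicit false
open Cfsg

set_option linter.style.haveILetI false

namespace Cfsg.Agent.S4665

open Cfsg.Agent.Lib.helper3.BrauerInd Cfsg.Agent.Lib.helper3.Irr Cfsg.Agent.Lib.helper3.CharBasic Cfsg.Agent.Lib.helper3.Lin

/-- Fix a prime p, a maximal ideal M of the algebraic integers containing p, and a p-block B of the finite group G, and let p^a be the p-part of the order of G. Let χ be an integer combination of the irreducible characters in B. If the function that agrees with χ on p-regular elements and vanishes on p-singular elements is again an integer combination of the irreducible characters in B, then p^a divides χ(1). -/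
theorem result {G : Type*} [Group G] [Fintype G] (p : ℕ) [Fact p.Prime] (M : Ideal Cfsg.AlgInt) (hM : Cfsg.IsPModular p M) (B : Set (Cfsg.IrrCharacter G)) (hB : Cfsg.IsPBlock M B) (χ : G → ℂ) (hχ : (∃ n : Cfsg.IrrCharacter G → ℤ, ∀ g : G, χ g = ∑ᶠ ψ ∈ B, (n ψ : ℂ) * (ψ : G → ℂ) g)) (h0 : (∃ n : Cfsg.IrrCharacter G → ℤ, ∀ g : G, Cfsg.pRegularPart p χ g = ∑ᶠ ψ ∈ B, (n ψ : ℂ) * (ψ : G → ℂ) g)) : ∃ k : ℤ, χ 1 = (p ^ (Nat.card G).factorization p : ℂ) * k := by
  classical
  obtain ⟨n, hn⟩ := h0
  obtain ⟨φ, hφdef⟩ : ∃ φ : G → ℂ, φ = Cfsg.pRegularPart p χ := ⟨_, rfl⟩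
  have hφ : φ = ∑ ψ : Cfsg.IrrCharacter G, ((if ψ ∈ B then n ψ else 0 : ℤ) : ℂ) • (ψ : G → ℂ) := by
    funext g
    rw [hφdef, hn g, finsum_mem_def, finsum_eq_sum_of_fintype, Finset.sum_apply]
    apply Finset.sum_congr rfl
    intro ψ _
    rw [Pi.smul_apply, smul_eq_mul]
    by_cases h : ψ ∈ B
    · rw [Set.indicator_of_mem h, if_pos h]
    · rw [Set.indicator_of_notMem h, if_neg h]; simp
  have hgen : Cfsg.IsGeneralizedCharacter G φ := by
    rw [← mem_genChars, hφ]
    apply AddSubgroup.sum_mem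
    intro ψ _
    rw [Int.cast_smul_eq_zsmul]
    apply AddSubgroup.zsmul_mem
    exact ⟨ψ, 0, isCharacter_of_isIrrCharacter ψ.2, isCharacter_zero, (sub_zero _).symm⟩
  obtain P : Sylow p G := default
  letI : Fintype (P : Subgroup G) := Fintype.ofFinite _
  have hgenP : Cfsg.IsGeneralizedCharacter (P : Subgroup G) (fun x : (P : Subgroup G) => φ x) := by
    obtain ⟨a, b, ha, hb, rfl⟩ := hgen
    exact ⟨_, _, isCharacter_restrict ha _, isCharacter_restrict hb _, rfl⟩
  obtain ⟨z, hz⟩ := exists_int_decomposition hgenP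
  have hone : Cfsg.IsIrrCharacter (P : Subgroup G) (fun _ => (1 : ℂ)) :=
    isIrrCharacter_of_linear isCharacter_one rfl
  have h1 := classInner_decomposition_left (fun ψ => (z ψ : ℂ)) ⟨_, hone⟩
  rw [← hz] at h1
  unfold Cfsg.classInner at h1
  have hsum : ∑ x : (P : Subgroup G), φ x * (starRingEnd ℂ) (1 : ℂ) = χ 1 := by
    rw [Finset.sum_eq_single (1 : (P : Subgroup G))]
    · rw [hφdef]
      unfold Cfsg.pRegularPart
      simp [Cfsg.IsPRegular, (Fact.out : p.Prime).one_lt.ne']
    · intro x _ hx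
      have hpx : p ∣ orderOf (x : G) := by
        obtain ⟨k, hk⟩ := (IsPGroup.iff_orderOf.mp P.2) x
        rw [Subgroup.orderOf_coe, hk]
        rcases Nat.eq_zero_or_pos k with h0 | hpos
        · exfalso
          rw [h0, pow_zero, orderOf_eq_one_iff] at hk
          exact hx hk
        · exact dvd_pow_self p hpos.ne'
      have : φ (x : G) = 0 := by
        rw [hφdef]
        unfold Cfsg.pRegularPart
        have hnr : ¬ Cfsg.IsPRegular p (x : G) := fun h => h hpx
        simp only [if_neg hnr]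
      rw [this, zero_mul]
    · intro h; exact absurd (Finset.mem_univ _) h
  rw [hsum] at h1
  refine ⟨z ⟨_, hone⟩, ?_⟩
  have hcard : (Nat.card (P : Subgroup G) : ℂ) = (p ^ (Nat.card G).factorization p : ℂ) := by
    rw [Sylow.card_eq_multiplicity]
    push_cast
    rfl
  have hP0 : (Nat.card (P : Subgroup G) : ℂ) ≠ 0 := by
    have : Nat.card (P : Subgroup G) ≠ 0 := Nat.card_pos.ne'
    exact_mod_cast this
  rw [← hcard, ← h1]
  field_simp

end Cfsg.Agent.S4665
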