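import Mathlib
import Cfsg.Statements.S4666
import Cfsg.Agent.Lib.helper3.ProjVanish8
import Cfsg.Agent.Lib.helper3.BlockBasic
import Cfsg.Agent.S4425
import Cfsg.Agent.Lib.helper3.NormTwo
import Cfsg.Agent.Lib.helper3.Irr5
import Cfsg.Agent.Lib.helper3.Degrees

set_option autoImplicit false
open Cfsg

namespace Cfsg.Agent.S4666

open Cfsg.Agent.Lib.helper3.Block Cfsg.Agent.Lib.helper3.LocalM Cfsg.Agent.Lib.helper3.Central
open Cfsg.Agent.Lib.helper3.Irr Cfsg.Agent.Lib.helper3.CharBasic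
set_option linter.style.haveILetI false

/-- Fix a prime p and a maximal ideal M of the algebraic integers containing p, and a p-block B of the finite group G of defect d. For every integer combination χ of the irreducible characters in B, p^d times the function that agrees with χ on p-regular elements and vanishes elsewhere is again an integer combination of the irreducible characters in B. -/
theorem result {G : Type*} [Group G] [Fintype G] (p : ℕ) [Fact p.Prime] (M : Ideal Cfsg.AlgInt) (hM : Cfsg.IsPModular p M) (B : Set (Cfsg.IrrCharacter G)) (hB : Cfsg.IsPBlock M B) (χ : G → ℂ) (hχ : (∃ n : Cfsg.IrrCharacter G → ℤ, ∀ g : G, χ g = ∑ᶠ ψ ∈ B, (n ψ : ℂ) * (ψ : G → ℂ) g)) : (∃ n : Cfsg.IrrCharacter G → ℤ, ∀ g : G, (p ^ Cfsg.blockDefect p B : ℂ) * Cfsg.pRegularPart p χ g = ∑ᶠ ψ ∈ B, (n ψ : ℂ) * (ψ : G → ℂ) g) := by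
  classical
  haveI hMp := isPrime_of_isPModular hM
  have hp : p.Prime := hM.1
  obtain ⟨χ₀, hBeq⟩ := hB
  have hS : ∀ θ ∈ B, Cfsg.blockOf M (θ : G → ℂ) ⊆ B := by
    intro θ hθ ψ hψ
    rw [hBeq] at hθ ⊢
    exact sameBlock_trans hθ hψ
  obtain ⟨n, hn⟩ := hχ
  obtain ⟨a, ha⟩ : ∃ a, a = (Nat.card G).factorization p := ⟨_, rfl⟩
  obtain ⟨mn, hmn⟩ : ∃ mn, mn = sInf ((fun χ : Cfsg.IrrCharacter G =>
      (Cfsg.charDegree (χ : G → ℂ)).factorization p) '' B) := ⟨_, rfl⟩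
  have hdef : Cfsg.blockDefect p B = a - mn := by
    unfold Cfsg.blockDefect
    rw [ha, hmn]
  rw [hdef]
  have hp0 : (p : ℂ) ≠ 0 := by
    have : p ≠ 0 := hp.ne_zero
    exact_mod_cast this
  have key : ∀ ψ : Cfsg.IrrCharacter G, ∃ c : Cfsg.IrrCharacter G → ℤ, ψ ∈ B →
      (∀ ψ' : Cfsg.IrrCharacter G, ψ' ∉ B → c ψ' = 0) ∧
      ∀ g : G, (p ^ (a - mn) : ℂ) * truncReg p (ψ : G → ℂ) g
        = ∑ ψ' : Cfsg.IrrCharacter G, (c ψ' : ℂ) * (ψ' : G → ℂ) g := by
    intro ψ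
    by_cases hψ : ψ ∈ B
    swap
    · exact ⟨0, fun h => absurd h hψ⟩
    obtain ⟨b, hb⟩ : ∃ b, b = (Cfsg.charDegree (ψ : G → ℂ)).factorization p := ⟨_, rfl⟩
    have hmnb : mn ≤ b := by
      rw [hmn, hb]
      exact Nat.sInf_le ⟨ψ, hψ, rfl⟩
    obtain ⟨d, hd, hdvd, hpos⟩ := irr_degree_dvd_card ψ.2
    have hcd : Cfsg.charDegree (ψ : G → ℂ) = d := by
      unfold Cfsg.charDegree
      rw [hd, Complex.natCast_re, Nat.floor_natCast]
    have hba : b ≤ a := by
      rw [ha, hb, hcd]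
      exact (Nat.factorization_le_iff_dvd hpos.ne' Nat.card_pos.ne').mpr hdvd p
    have h1 := (Cfsg.Agent.S4425.result p ψ).1
    rw [← ha, ← hb] at h1
    obtain ⟨w, hw⟩ := exists_int_decomposition h1
    refine ⟨fun ψ' => (p : ℤ) ^ (b - mn) * w ψ', fun _ => ⟨?_, ?_⟩⟩
    · intro ψ' hψ'
      have hne : ¬ Cfsg.SameBlock M (ψ : G → ℂ) (ψ' : G → ℂ) := by
        intro h
        exact hψ' (hS ψ hψ h)
      have h2 := classInner_decomposition_left (fun φ => (w φ : ℂ)) ψ'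
      rw [← hw, Cfsg.Agent.Lib.helper3.IndFun.classInner_apply] at h2
      have h3 := regular_orthogonality hM ψ ψ' hne
      have h4 : ∑ g : G, (if p ∣ orderOf g then (0 : ℂ)
          else ((p ^ (a - b) : ℕ) : ℂ) * (ψ : G → ℂ) g)
            * (starRingEnd ℂ) ((ψ' : G → ℂ) g) = 0 := by
        have h5 : ∀ g : G, (if p ∣ orderOf g then (0 : ℂ)
            else ((p ^ (a - b) : ℕ) : ℂ) * (ψ : G → ℂ) g)
              * (starRingEnd ℂ) ((ψ' : G → ℂ) g)
            = ((p ^ (a - b) : ℕ) : ℂ) * ((if p ∣ orderOf g then (0 : ℂ) else 1)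
              * ((ψ : G → ℂ) g * (starRingEnd ℂ) ((ψ' : G → ℂ) g))) := by
          intro g
          split_ifs
          · ring
          · ring
        rw [Finset.sum_congr rfl (fun g _ => h5 g), ← Finset.mul_sum, h3, mul_zero]
      rw [h4, mul_zero] at h2
      have h6 : w ψ' = 0 := by exact_mod_cast h2.symm
      beta_reduce
      rw [h6, mul_zero]
    · intro g
      have h2 := congrFun hw g
      rw [Finset.sum_apply] at h2
      have h3 : (p ^ (a - mn) : ℂ) * truncReg p (ψ : G → ℂ) g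
          = (p : ℂ) ^ (b - mn) * (if p ∣ orderOf g then (0 : ℂ)
            else ((p ^ (a - b) : ℕ) : ℂ) * (ψ : G → ℂ) g) := by
        rw [truncReg_apply]
        split_ifs
        · ring
        · have : a - mn = (b - mn) + (a - b) := by omega
          rw [this, pow_add]
          push_cast
          ring
      rw [h3, h2, Finset.mul_sum]
      apply Finset.sum_congr rfl
      intro ψ' _
      rw [Pi.smul_apply, smul_eq_mul]
      push_cast
      ring
  choose c hc using key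
  refine ⟨fun ψ' => ∑ ψ : Cfsg.IrrCharacter G, (if ψ ∈ B then n ψ else 0) * c ψ ψ', ?_⟩
  intro g
  have h1 : ∀ ψ' : Cfsg.IrrCharacter G, ψ' ∉ B →
      ∑ ψ : Cfsg.IrrCharacter G, (if ψ ∈ B then n ψ else 0) * c ψ ψ' = 0 := by
    intro ψ' hψ'
    apply Finset.sum_eq_zero
    intro ψ _
    by_cases hψ : ψ ∈ B
    · rw [(hc ψ hψ).1 ψ' hψ', mul_zero]
    · rw [if_neg hψ, zero_mul]
  have h2 : ∑ᶠ ψ' ∈ B, ((∑ ψ : Cfsg.IrrCharacter G, (if ψ ∈ B then n ψ else 0) * c ψ ψ' : ℤ) : ℂ)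
      * (ψ' : G → ℂ) g
      = ∑ ψ' : Cfsg.IrrCharacter G,
        ((∑ ψ : Cfsg.IrrCharacter G, (if ψ ∈ B then n ψ else 0) * c ψ ψ' : ℤ) : ℂ)
          * (ψ' : G → ℂ) g := by
    rw [finsum_mem_def, finsum_eq_sum_of_fintype]
    apply Finset.sum_congr rfl
    intro ψ' _
    rw [Set.indicator_apply]
    by_cases hψ' : ψ' ∈ B
    · rw [if_pos hψ']
    · rw [if_neg hψ', h1 ψ' hψ', Int.cast_zero, zero_mul]
  rw [h2, pRegularPart_eq_truncReg, truncReg_apply, hn g, finsum_mem_def,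
    finsum_eq_sum_of_fintype]
  have h3 : ∀ ψ : Cfsg.IrrCharacter G, (p ^ (a - mn) : ℂ) * ((if p ∣ orderOf g then (0 : ℂ) else 1)
      * Set.indicator B (fun ψ => (n ψ : ℂ) * (ψ : G → ℂ) g) ψ)
      = ∑ ψ' : Cfsg.IrrCharacter G, (((if ψ ∈ B then n ψ else 0) * c ψ ψ' : ℤ) : ℂ)
          * (ψ' : G → ℂ) g := by
    intro ψ
    rw [Set.indicator_apply]
    by_cases hψ : ψ ∈ B
    · rw [if_pos hψ, if_pos hψ]
      have h4 := (hc ψ hψ).2 g
      rw [truncReg_apply] at h4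
      calc (p ^ (a - mn) : ℂ) * ((if p ∣ orderOf g then (0 : ℂ) else 1)
            * ((n ψ : ℂ) * (ψ : G → ℂ) g))
          = (n ψ : ℂ) * ((p ^ (a - mn) : ℂ) * ((if p ∣ orderOf g then (0 : ℂ) else 1)
            * (ψ : G → ℂ) g)) := by ring
        _ = _ := by
          rw [h4, Finset.mul_sum]
          apply Finset.sum_congr rfl
          intro ψ' _
          push_cast
          ring
    · rw [if_neg hψ, if_neg hψ, mul_zero, mul_zero]
      symm
      apply Finset.sum_eq_zero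
      intro ψ' _
      rw [zero_mul, Int.cast_zero, zero_mul]
  rw [Finset.mul_sum, Finset.mul_sum, Finset.sum_congr rfl (fun ψ _ => h3 ψ), Finset.sum_comm]
  apply Finset.sum_congr rfl
  intro ψ' _
  rw [← Finset.sum_mul]
  push_cast
  rfl

end Cfsg.Agent.S4666
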