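import Mathlib
import Cfsg.Statements.S4668
import Cfsg.Agent.S4653
import Cfsg.Agent.Lib.helper3.DefectOrder3
import Cfsg.Agent.Lib.Helper7.PQLemma

set_option autoImplicit false
open Cfsg

namespace Cfsg.Agent.S4668

open Cfsg.Agent.Lib.helper3.Block

set_option linter.style.haveILetI false

/-- Fix a prime p and a maximal ideal M of the algebraic integers containing p. Let Q₀ < Q₁ < ⋯ < Q_m be a strictly increasing chain of p-subgroups of the finite group G and N the intersection of their normalizers. Then every block idempotent of N is supported on C_G(Q_m): for every p-block E of N, the idempotent coefficient of E vanishes at every element of N outside C_G(Q_m). -/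
theorem result {G : Type*} [Group G] [Fintype G] (p : ℕ) [Fact p.Prime] (M : Ideal Cfsg.AlgInt) (hM : Cfsg.IsPModular p M) (m : ℕ) (Q : Fin (m + 1) → Subgroup G) (hQ : StrictMono Q) (hQp : ∀ i, IsPGroup p (Q i)) (N : Subgroup G) (hN : ∀ g : G, g ∈ N ↔ ∀ i, g ∈ Subgroup.normalizer (Q i : Set G)) (E : Set (Cfsg.IrrCharacter N)) (hE : Cfsg.IsPBlock M E) (n : N) (hn : (n : G) ∉ Subgroup.centralizer (Q (Fin.last m) : Set G)) : Cfsg.blockCoeff E n = 0 := by
  classical
  by_contra hne
  haveI : Fintype N := Fintype.ofFinite _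
  have hp : p.Prime := Fact.out
  have hreg : ¬ p ∣ orderOf n := fun h => hne (blockCoeff_eq_zero_of_dvd hM E hE n h)
  obtain ⟨R, hRdef⟩ : ∃ R : Subgroup N, R = (Q (Fin.last m)).subgroupOf N := ⟨_, rfl⟩
  have hRmem : ∀ x : N, x ∈ R ↔ (x : G) ∈ Q (Fin.last m) := by
    intro x
    rw [hRdef, Subgroup.mem_subgroupOf]
  haveI hRn : R.Normal := by
    constructor
    intro x hx g
    rw [hRmem] at hx ⊢
    have hg := (hN (g : G)).mp g.2 (Fin.last m)
    have := (Subgroup.mem_normalizer_iff.mp hg (x : G)).mp hx
    simpa using this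
  have hRp : IsPGroup p R := by
    rw [hRdef]
    exact (hQp (Fin.last m)).comap_subtype
  have hcent : n ∈ Subgroup.centralizer (R : Set N) := by
    by_contra h
    exact hne (Cfsg.Agent.S4653.result p M hM R hRp E hE n h)
  have hmono : Monotone Q := hQ.monotone
  have key : ∀ x ∈ Q (Fin.last m), (∀ i, x ∈ Subgroup.normalizer (Q i : Set G)) →
      Commute (n : G) x := by
    intro x hx hnorm
    have hxN : x ∈ N := (hN x).mpr hnorm
    have h1 := Subgroup.mem_centralizer_iff.mp hcent ⟨x, hxN⟩ ((hRmem _).mpr hx)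
    have h2 := congrArg Subtype.val h1
    exact h2.symm
  obtain ⟨Z, hZ⟩ : ∃ Z : Subgroup G, Z = Subgroup.zpowers (n : G) := ⟨_, rfl⟩
  have hZcard : (Nat.card Z).Coprime p := by
    rw [hZ, Nat.card_zpowers, Subgroup.orderOf_coe]
    exact ((Nat.Prime.coprime_iff_not_dvd hp).mpr hreg).symm
  have hcentZ : ∀ x : G, Commute (n : G) x → x ∈ Subgroup.centralizer (Z : Set G) := by
    intro x hx
    rw [Subgroup.mem_centralizer_iff]
    intro h hh
    rw [hZ] at hh
    obtain ⟨k, rfl⟩ := Subgroup.mem_zpowers_iff.mp hh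
    exact (hx.zpow_left k)
  have hind : ∀ j : ℕ, ∀ hj : j < m + 1, Z ≤ Subgroup.centralizer (Q ⟨j, hj⟩ : Set G) := by
    intro j
    induction j with
    | zero =>
      intro hj
      rw [hZ, Subgroup.zpowers_le, Subgroup.mem_centralizer_iff]
      intro x hx
      have hxi : ∀ i, x ∈ Q i := fun i => hmono (Fin.zero_le i) hx
      exact (key x (hxi _) (fun i => Subgroup.le_normalizer (hxi i))).symm
    | succ j ih =>
      intro hj
      have hj' : j < m + 1 := by omega
      have ihj := ih hj'
      have hle : Q ⟨j, hj'⟩ ≤ Q ⟨j + 1, hj⟩ := hmono (by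
        rw [Fin.le_def]
        simp)
      apply Cfsg.Agent.Lib.Helper7.pq_lemma p (Q ⟨j, hj'⟩) Z (hQp _) hZcard
        (Subgroup.le_centralizer_iff.mp ihj) (Nat.card (Q ⟨j + 1, hj⟩)) (Q ⟨j + 1, hj⟩) rfl (hQp _)
        (hle.trans Subgroup.le_normalizer)
      · rw [hZ, Subgroup.zpowers_le]
        exact (hN (n : G)).mp n.2 _
      · rintro x ⟨hx1, hx2⟩
        apply hcentZ
        apply key
        · exact hmono (Fin.le_last _) hx1
        · intro i
          by_cases hi : (i : ℕ) ≤ j
          · have hle2 : Q i ≤ Q ⟨j, hj'⟩ := hmono (by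
              rw [Fin.le_def]
              exact hi)
            have h3 : x ∈ Subgroup.centralizer (Q i : Set G) :=
              Subgroup.centralizer_le hle2 hx2
            exact Subgroup.centralizer_le_normalizer _ h3
          · have hle2 : Q ⟨j + 1, hj⟩ ≤ Q i := hmono (by
              rw [Fin.le_def]
              show j + 1 ≤ (i : ℕ)
              omega)
            exact Subgroup.le_normalizer (hle2 hx1)
  apply hn
  have h1 := hind m (by omega)
  have h2 : (n : G) ∈ Z := by
    rw [hZ]
    exact Subgroup.mem_zpowers _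
  exact h1 h2


end Cfsg.Agent.S4668
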