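import Mathlib
import Cfsg.Statements.S4671
import Cfsg.Agent.Lib.helper3.GrAlg11
import Cfsg.Agent.Lib.helper3.FR5

set_option autoImplicit false
open Cfsg

namespace Cfsg.Agent.S4671

set_option linter.style.haveILetI false

open Cfsg.Agent.Lib.helper3.LocalM Cfsg.Agent.Lib.helper3.Block Cfsg.Agent.Lib.helper3.GrAlg
open Cfsg.Agent.Lib.helper3.CharBasic Cfsg.Agent.Lib.helper3.Irr Cfsg.Agent.Lib.helper3.Lin
open Cfsg.Agent.Lib.helper3.IndFun Cfsg.Agent.Lib.helper3.GalPow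
open scoped ComplexConjugate

/-- Fix a prime p and a maximal ideal M of the algebraic integers containing p. Let N be a normal subgroup of the finite group G, B a p-block of G and P a defect group of B. Then there is a p-block c of N, stable under conjugation by P and covered by B (some member of B has a constituent in c on restriction to N), such that P ∩ N is a defect group of c. -/
theorem result {G : Type*} [Group G] [Fintype G] (p : ℕ) [Fact p.Prime] (M : Ideal Cfsg.AlgInt) (hM : Cfsg.IsPModular p M) (N : Subgroup G) [N.Normal] [Fintype N] (B : Set (Cfsg.IrrCharacter G)) (hB : Cfsg.IsPBlock M B) (P : Subgroup G) (hP : Cfsg.IsDefectGroup p M B P) : ∃ c : Set (Cfsg.IrrCharacter N), Cfsg.IsPBlock M c ∧ (∀ x ∈ P, Cfsg.StabilizesBlock N c x) ∧ (∃ χ ∈ B, ∃ θ ∈ c, Cfsg.classInner (fun n : N => (χ : G → ℂ) n) (θ : N → ℂ) ≠ 0) ∧ Cfsg.IsDefectGroup p M c ((P ⊓ N).subgroupOf N) := by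
  classical
  haveI hMp := isPrime_of_isPModular hM
  have hMtop : M ≠ ⊤ := hM.2.1.ne_top
  obtain ⟨χ₀, hχ₀⟩ : ∃ χ₀, χ₀ ∈ B := by
    obtain ⟨χ, rfl⟩ := hB
    exact ⟨χ, sameBlock_refl hMtop _⟩
  have hres : IsCharacter N (fun n : N => (χ₀ : G → ℂ) n) :=
    isCharacter_restrict (isCharacter_of_isIrrCharacter χ₀.2) N
  have hres0 : (fun n : N => (χ₀ : G → ℂ) n) ≠ 0 := by
    intro h
    have := congrFun h 1
    exact apply_one_ne_zero χ₀.2 (by simpa using this)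
  obtain ⟨θ₀, hθ₀⟩ := exists_constituent hres hres0
  obtain ⟨b, hbdef⟩ : ∃ b : Set (IrrCharacter N), b = blockOf M (θ₀ : N → ℂ) := ⟨_, rfl⟩
  have hb : IsPBlock M b := ⟨θ₀, hbdef⟩
  have hθ₀b : θ₀ ∈ b := by
    rw [hbdef]
    exact sameBlock_refl hMtop _
  have hcov : ∃ χ ∈ B, ∃ θ ∈ b, classInner (fun n : N => (χ : G → ℂ) n) (θ : N → ℂ) ≠ 0 :=
    ⟨χ₀, hχ₀, θ₀, hθ₀b, hθ₀⟩
  obtain ⟨T, hTdef⟩ : ∃ T : Subgroup G, T = blockStab N b := ⟨_, rfl⟩
  letI : Fintype T := Fintype.ofFinite _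
  have hT : IsBlockStab N T b := by
    rw [hTdef]
    exact isBlockStab_blockStab N b hb
  have hNT : N ≤ T := le_of_isBlockStab N b hb T hT
  obtain ⟨B', hB', hcov', hind⟩ := fong_reynolds_iii N T hM hb hT hNT B hB hcov
  letI : Fintype (N.subgroupOf T) := Fintype.ofFinite _
  obtain ⟨ι, hι⟩ : ∃ ι : N.subgroupOf T ≃* N, ι = Subgroup.subgroupOfEquivOfLe hNT := ⟨_, rfl⟩
  have hb' : IsPBlock M (irrCongr ι '' b) := isPBlock_image_irrCongr ι b hb
  have hcovT : ∃ χ ∈ B', ∃ θ' ∈ irrCongr ι '' b,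
      classInner (fun n : N.subgroupOf T => (χ : T → ℂ) n) (θ' : N.subgroupOf T → ℂ) ≠ 0 := by
    obtain ⟨ψ, hψ, θ, hθ, hne⟩ := hcov'
    refine ⟨ψ, hψ, irrCongr ι θ, ⟨θ, hθ, rfl⟩, ?_⟩
    rw [hι, classInner_sub_irrCongr N T hNT _ θ]
    exact hne
  obtain ⟨Q₁, P₁, hQ₁, hP₁, heq⟩ :=
    exists_defectGroup_inf_eq (N.subgroupOf T) hM B' hB' (irrCongr ι '' b) hb' hcovT
  have hQ₁' : IsDefectGroup p M b (Q₁.map ι.toMonoidHom) := isDefectGroup_of_irrCongr ι b Q₁ hQ₁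
  have hP₁' : IsDefectGroup p M B (P₁.map T.subtype) :=
    fong_reynolds_defectGroup N T hM hb hT hNT B' hB' hcov' B hind P₁ hP₁
  obtain ⟨x, hx⟩ := defectGroup_conj_eq hM hB hP hP₁'
  have hmemP : ∀ g : G, g ∈ P ↔ ∃ t : T, t ∈ P₁ ∧ g = x * (t : G) * x⁻¹ := by
    intro g
    rw [← hx]
    constructor
    · rintro ⟨_, ⟨t, ht, rfl⟩, rfl⟩
      exact ⟨t, ht, rfl⟩
    · rintro ⟨t, ht, rfl⟩
      exact ⟨_, ⟨t, ht, rfl⟩, rfl⟩
  obtain ⟨κ, hκ⟩ : ∃ κ : N ≃* N, κ = (MulAut.conjNormal x⁻¹ : N ≃* N) := ⟨_, rfl⟩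
  have hκc : ∀ n : N, ((κ n : N) : G) = x⁻¹ * (n : G) * x := by
    intro n
    rw [hκ, MulAut.conjNormal_apply, inv_inv]
  have hκs : ∀ n : N, ((κ.symm n : N) : G) = x * (n : G) * x⁻¹ := by
    intro n
    rw [hκ, MulAut.conjNormal_symm_apply, inv_inv]
  have hιc : ∀ q : N.subgroupOf T, ((ι q : N) : G) = ((q : T) : G) := by
    intro q
    rw [hι]
    rfl
  refine ⟨irrCongr κ '' b, isPBlock_image_irrCongr κ b hb, ?_, ?_, ?_⟩
  · intro y hy
    obtain ⟨t, ht, rfl⟩ := (hmemP y).mp hy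
    refine ⟨?_, ?_⟩
    · rw [Subgroup.normalizer_eq_top]
      exact Subgroup.mem_top _
    · rintro _ ⟨θ, hθ, rfl⟩
      have htinv : (t : G)⁻¹ ∈ T := T.inv_mem t.2
      refine ⟨irrCongr κ (conjIrr N (t : G)⁻¹ θ), ⟨_, conjIrr_mem_of_mem N T hT htinv hθ, rfl⟩, ?_⟩
      intro k k' hk
      rw [irrCongr_apply, irrCongr_apply, coe_conjIrr]
      show (θ : N → ℂ) ⟨(t : G)⁻¹ * ((κ k' : N) : G) * (t : G)⁻¹⁻¹, _⟩ = _
      apply congrArg
      apply Subtype.ext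
      show (t : G)⁻¹ * ((κ k' : N) : G) * (t : G)⁻¹⁻¹ = ((κ k : N) : G)
      rw [hκc, hκc, hk]
      group
  · refine ⟨χ₀, hχ₀, irrCongr κ θ₀, ⟨θ₀, hθ₀b, rfl⟩, ?_⟩
    have e : classInner (fun n : N => (χ₀ : G → ℂ) n) (irrCongr κ θ₀ : N → ℂ)
        = classInner (fun n : N => (χ₀ : G → ℂ) n) (θ₀ : N → ℂ) := by
      rw [classInner_apply, classInner_apply]
      congr 1
      apply Fintype.sum_equiv κ.toEquiv
      intro n
      show (χ₀ : G → ℂ) n * _ = (χ₀ : G → ℂ) ((κ n : N) : G) * _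
      rw [hκc]
      have hcf := isClassFunction_of_isCharacter (isCharacter_of_isIrrCharacter χ₀.2) (n : G) x⁻¹
      rw [inv_inv] at hcf
      rw [hcf]
      rfl
    rw [e]
    exact hθ₀
  · have hfinal : (P ⊓ N).subgroupOf N = (Q₁.map ι.toMonoidHom).map κ.symm.toMonoidHom := by
      ext n
      rw [Subgroup.mem_subgroupOf]
      constructor
      · rintro ⟨hnP, -⟩
        obtain ⟨t, ht, hnt⟩ := (hmemP _).mp hnP
        have htN : (t : G) ∈ N := by
          have h1 : (t : G) = x⁻¹ * (n : G) * x := by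
            rw [hnt]
            group
          rw [h1]
          have := (inferInstance : N.Normal).conj_mem _ n.2 x⁻¹
          rwa [inv_inv] at this
        have ht' : t ∈ P₁ ⊓ N.subgroupOf T := ⟨ht, Subgroup.mem_subgroupOf.mpr htN⟩
        rw [← heq] at ht'
        obtain ⟨q, hq, rfl⟩ := Subgroup.mem_map.mp ht'
        refine ⟨ι q, ⟨q, hq, rfl⟩, ?_⟩
        apply Subtype.ext
        show ((κ.symm (ι q) : N) : G) = (n : G)
        rw [hκs, hιc, hnt]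
        rfl
      · rintro ⟨_, ⟨q, hq, rfl⟩, rfl⟩
        have hq' : ((N.subgroupOf T).subtype q) ∈ P₁ ⊓ N.subgroupOf T := by
          rw [← heq]
          exact Subgroup.mem_map_of_mem _ hq
        refine ⟨?_, (κ.symm (ι q) : N).2⟩
        apply (hmemP _).mpr
        refine ⟨(q : T), hq'.1, ?_⟩
        show ((κ.symm (ι q) : N) : G) = _
        rw [hκs, hιc]
    rw [hfinal]
    exact isDefectGroup_irrCongr_image κ b _ hQ₁'

end Cfsg.Agent.S4671
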