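import Mathlib
import Cfsg.Statements.S4673
import Cfsg.Agent.Lib.helper3.GrAlg12

set_option autoImplicit false
open Cfsg

namespace Cfsg.Agent.S4673

set_option linter.style.haveILetI false

open Cfsg.Agent.Lib.helper3.LocalM Cfsg.Agent.Lib.helper3.Block Cfsg.Agent.Lib.helper3.GrAlg
open Cfsg.Agent.Lib.helper3.CharBasic Cfsg.Agent.Lib.helper3.Irr Cfsg.Agent.Lib.helper3.Lin
open Cfsg.Agent.Lib.helper3.IndFun Cfsg.Agent.Lib.helper3.GalPow
open scoped ComplexConjugate

/-- Fix a prime p and a maximal ideal M of the algebraic integers containing p. Let N ≤ L be normal subgroups of the finite group G with L/N a p-group, let B be a p-block of G covering the p-block c of N (some member of B has a constituent in c on restriction to N), and suppose that N contains a defect group of B. Then the stabilizer T of c in G satisfies T ∩ L = N. -/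
theorem result {G : Type*} [Group G] [Fintype G] (p : ℕ) [Fact p.Prime] (M : Ideal Cfsg.AlgInt) (hM : Cfsg.IsPModular p M) (N L : Subgroup G) [N.Normal] [L.Normal] [Fintype N] (hNL : N ≤ L) (hLN : ∃ k : ℕ, (N.subgroupOf L).index = p ^ k) (B : Set (Cfsg.IrrCharacter G)) (hB : Cfsg.IsPBlock M B) (c : Set (Cfsg.IrrCharacter N)) (hc : Cfsg.IsPBlock M c) (hcov : (∃ χ ∈ B, ∃ θ ∈ c, Cfsg.classInner (fun n : N => (χ : G → ℂ) n) (θ : N → ℂ) ≠ 0)) (hD : ∃ D : Subgroup G, Cfsg.IsDefectGroup p M B D ∧ D ≤ N) (T : Subgroup G) (hT : ∀ x : G, x ∈ T ↔ Cfsg.StabilizesBlock N c x) : T ⊓ L = N := by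
  classical
  haveI hMp := isPrime_of_isPModular hM
  have hp : p.Prime := Fact.out
  have hMtop : M ≠ ⊤ := hM.2.1.ne_top
  letI : Fintype L := Fintype.ofFinite _
  letI : Fintype T := Fintype.ofFinite _
  letI : Fintype (N.subgroupOf L) := Fintype.ofFinite _
  letI : Fintype (T.subgroupOf L) := Fintype.ofFinite _
  have hTs : IsBlockStab N T c := isBlockStab_of_stabilizes N c hc T hT
  have hNT : N ≤ T := le_of_isBlockStab N c hc T hTs
  obtain ⟨χ, hχ, θ, hθ, hne⟩ := hcov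
  obtain ⟨η, hη1, hη2⟩ := exists_intermediate N L hNL (isCharacter_of_isIrrCharacter χ.2)
    (θ : N → ℂ) hne
  obtain ⟨bL, hbLdef⟩ : ∃ bL : Set (IrrCharacter L), bL = blockOf M (η : L → ℂ) := ⟨_, rfl⟩
  have hbL : IsPBlock M bL := ⟨η, hbLdef⟩
  have hηbL : η ∈ bL := by
    rw [hbLdef]
    exact sameBlock_refl hMtop _
  obtain ⟨ι, hι⟩ : ∃ ι : N.subgroupOf L ≃* N, ι = Subgroup.subgroupOfEquivOfLe hNL := ⟨_, rfl⟩
  have hc' : IsPBlock M (irrCongr ι '' c) := isPBlock_image_irrCongr ι c hc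
  have hcovL : ∃ χ' ∈ bL, ∃ θ' ∈ irrCongr ι '' c,
      classInner (fun n : N.subgroupOf L => (χ' : L → ℂ) n) (θ' : N.subgroupOf L → ℂ) ≠ 0 := by
    refine ⟨η, hηbL, irrCongr ι θ, ⟨θ, hθ, rfl⟩, ?_⟩
    rw [hι, classInner_sub_irrCongr N L hNL _ θ]
    exact hη2
  have huniq : ∀ β' : Set (IrrCharacter L), IsPBlock M β' →
      (∃ χ' ∈ β', ∃ θ' ∈ irrCongr ι '' c,
        classInner (fun n : N.subgroupOf L => (χ' : L → ℂ) n) (θ' : N.subgroupOf L → ℂ) ≠ 0) →
      β' = bL := by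
    intro β' hβ' hcov'
    exact unique_cover_of_index_pow hM (N.subgroupOf L) hLN (irrCongr ι '' c) hc' bL β' hbL hβ'
      hcovL hcov'
  have hS : IsBlockStab (N.subgroupOf L) (T.subgroupOf L) (irrCongr ι '' c) := by
    rw [hι]
    exact isBlockStab_subgroupOf_of_le N L T hNL c hTs
  have hle : N.subgroupOf L ≤ T.subgroupOf L := by
    intro x hx
    rw [Subgroup.mem_subgroupOf] at hx ⊢
    exact hNT hx
  have hdef := blockDefect_of_unique_cover (N.subgroupOf L) (T.subgroupOf L) hM hc' hS hle bL huniq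
  rw [blockDefect_image_irrCongr] at hdef
  obtain ⟨D, hD, hDN⟩ := hD
  have hall : ∀ P : Subgroup G, IsDefectGroup p M B P → P ≤ N := by
    intro P hP
    obtain ⟨x, hx⟩ := defectGroup_conj_eq hM hB hP hD
    rw [← hx]
    rintro _ ⟨d, hd, rfl⟩
    exact (inferInstance : N.Normal).conj_mem d (hDN hd) x
  have hcovBL : ∃ χ' ∈ B, ∃ η' ∈ bL,
      classInner (fun l : L => (χ' : G → ℂ) l) (η' : L → ℂ) ≠ 0 := ⟨χ, hχ, η, hηbL, hη1⟩
  obtain ⟨Q₂, P₂, hQ₂, hP₂, heq₂⟩ := exists_defectGroup_inf_eq L hM B hB bL hbL hcovBL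
  obtain ⟨Q₁, P₁, hQ₁, hP₁, heq₁⟩ :=
    exists_defectGroup_inf_eq N hM B hB c hc ⟨χ, hχ, θ, hθ, hne⟩
  have hd1 : blockDefect p c = blockDefect p B := by
    have h1 : P₁ ⊓ N = P₁ := inf_of_le_left (hall P₁ hP₁)
    rw [h1] at heq₁
    have c1 := card_of_isDefectGroup hM c hc Q₁ hQ₁
    have c2 := card_of_isDefectGroup hM B hB P₁ hP₁
    have c3 : Nat.card (Q₁.map N.subtype) = Nat.card Q₁ :=
      Subgroup.card_map_of_injective N.subtype_injective
    rw [heq₁, c2, c1] at c3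
    exact (Nat.pow_right_injective hp.two_le c3).symm
  have hd2 : blockDefect p bL = blockDefect p B := by
    have h1 : P₂ ⊓ L = P₂ := inf_of_le_left ((hall P₂ hP₂).trans hNL)
    rw [h1] at heq₂
    have c1 := card_of_isDefectGroup hM bL hbL Q₂ hQ₂
    have c2 := card_of_isDefectGroup hM B hB P₂ hP₂
    have c3 : Nat.card (Q₂.map L.subtype) = Nat.card Q₂ :=
      Subgroup.card_map_of_injective L.subtype_injective
    rw [heq₂, c2, c1] at c3
    exact (Nat.pow_right_injective hp.two_le c3).symm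
  have hfac : ((N.subgroupOf L).relIndex (T.subgroupOf L)).factorization p = 0 := by omega
  have hdvd := Subgroup.relIndex_dvd_index_of_normal (N.subgroupOf L) (T.subgroupOf L)
  obtain ⟨k, hk⟩ := hLN
  rw [hk] at hdvd
  obtain ⟨j, hj, hjeq⟩ := (Nat.dvd_prime_pow hp).mp hdvd
  rw [hjeq, Nat.Prime.factorization_pow hp, Finsupp.single_eq_same] at hfac
  rw [hfac, pow_zero] at hjeq
  have hle' : T.subgroupOf L ≤ N.subgroupOf L := Subgroup.relIndex_eq_one.mp hjeq
  apply le_antisymm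
  · rintro g ⟨hgT, hgL⟩
    have h1 : (⟨g, hgL⟩ : L) ∈ T.subgroupOf L := Subgroup.mem_subgroupOf.mpr hgT
    exact Subgroup.mem_subgroupOf.mp (hle' h1)
  · exact le_inf hNT hNL

end Cfsg.Agent.S4673
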