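import Mathlib
import Cfsg.Statements.S4677
import Cfsg.Agent.Lib.helper3.SP35

set_option autoImplicit false
open Cfsg

namespace Cfsg.Agent.S4677

set_option linter.style.haveILetI false

open Cfsg Cfsg.Agent.Lib.helper3.Block Cfsg.Agent.Lib.helper3.LocalM

/-- Fix a prime p and a maximal ideal M of the algebraic integers containing p, a p-block B of the finite group G and a maximal Brauer pair (P, e) of B. Then the fusion system of B on (P, e) exists and is saturated: there is a saturated fusion system over P, with ambient group G, whose maps with source a subgroup Q of P are exactly the conjugation maps by elements g of G that carry the Brauer pair (Q, e_Q) below (P, e) to a Brauer pair again below (P, e). -/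
theorem result {G : Type*} [Group G] [Fintype G] (p : ℕ) [Fact p.Prime] (M : Ideal Cfsg.AlgInt) (hM : Cfsg.IsPModular p M) (B : Set (Cfsg.IrrCharacter G)) (P : Subgroup G) (e : Set (Cfsg.IrrCharacter (Subgroup.centralizer (P : Set G)))) (hmax : Cfsg.IsMaximalBrauerPair p M B P e) : ∃ F : Cfsg.FusionSystem P, Cfsg.IsBlockFusionSystemOn p M B P e F ∧ F.IsSaturated p := by
  classical
  haveI hMp := isPrime_of_isPModular hM
  obtain ⟨hBe, -⟩ := id hmax
  obtain ⟨hPe, hB, -⟩ := id hBe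
  have hF := isBlockFusionSystemOn_blockFusion hM B P e hmax
  refine ⟨blockFusion hM P e hmax.1.1, hF, ?_⟩
  intro Q₀ hQ₀P
  obtain ⟨f₀, hf₀, hle₀⟩ := exists_subpair hM P e hPe _ Q₀ hQ₀P rfl
  obtain ⟨x, hlex, hTx⟩ :=
    exists_conj_normalizerIn_isDefectGroup hM B P Q₀ e f₀ hmax hQ₀P hf₀ hle₀
  have hlex' : Relation.ReflTransGen (Cfsg.NormalSubpairRel p M)
    (conjIdx x (⟨Q₀, f₀⟩ : Cfsg.BrauerPairIdx G)) ⟨P, e⟩ := hlex
  have hQP : Q₀.map (MulAut.conj x).toMonoidHom ≤ P := fst_le_of_reflTransGen hlex'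
  haveI : Fintype ↥(Subgroup.centralizer
    ((Q₀.map (MulAut.conj x).toMonoidHom : Subgroup G) : Set G)) := Fintype.ofFinite _
  have hfx : Cfsg.IsPBlock M (Cfsg.conjBlock Q₀ x f₀) := isPBlock_conjBlock Q₀ x f₀ hf₀
  obtain ⟨T₁, hT₁⟩ := exists_stabilizer_subgroup (Subgroup.centralizer
    ((Q₀.map (MulAut.conj x).toMonoidHom : Subgroup G) : Set G)) (Cfsg.conjBlock Q₀ x f₀) hfx
  obtain ⟨T', hT'def⟩ : ∃ T' : Subgroup G,
      T' = Subgroup.normalizer ((Q₀.map (MulAut.conj x).toMonoidHom : Subgroup G) : Set G) ⊓ T₁ :=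
    ⟨_, rfl⟩
  have hT' : ∀ y : G, y ∈ T' ↔
      y ∈ Subgroup.normalizer ((Q₀.map (MulAut.conj x).toMonoidHom : Subgroup G) : Set G) ∧
      Cfsg.StabilizesBlock (Subgroup.centralizer
        ((Q₀.map (MulAut.conj x).toMonoidHom : Subgroup G) : Set G))
        (Cfsg.conjBlock Q₀ x f₀) y := by
    intro y
    rw [hT'def, Subgroup.mem_inf, hT₁]
  obtain ⟨F', hF', hF'f, hD⟩ := hTx T' hT'
  refine ⟨Q₀.map (MulAut.conj x).toMonoidHom, ⟨Cfsg.conjHom Q₀ x, ?_, ?_⟩, ?_, ?_⟩
  · exact (hF.2 Q₀ _).mpr ⟨hQ₀P, x, fun u => rfl, hQP, f₀, hle₀, hlex⟩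
  · exact range_eq_map_conj Q₀ _ x (fun u => rfl)
  · exact isFullyAutomized_of_isDefectGroup hM B P e hmax _ hF _ (Cfsg.conjBlock Q₀ x f₀) hQP hfx
      hlex T' hT' F' hF' hF'f hD
  · exact isReceptive_of_isDefectGroup hM B P e hmax _ hF _ (Cfsg.conjBlock Q₀ x f₀) hQP hfx
      hlex T' hT' F' hF' hF'f hD

end Cfsg.Agent.S4677
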