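import Mathlib
import Cfsg.Statements.S4678
import Cfsg.Agent.Lib.helper3.SP7

set_option autoImplicit false
open Cfsg

namespace Cfsg.Agent.S4678

set_option linter.style.haveILetI false

open Cfsg Cfsg.Agent.Lib.helper3.Block Cfsg.Agent.Lib.helper3.LocalM

/-- Fix a prime p and a maximal ideal M of the algebraic integers containing p, a p-block B of the finite group G with maximal Brauer pair (P, e), its fusion system F on P, and a Brauer pair (Q, f) ≤ (P, e). Then Q is fully centralized in F if and only if C_P(Q) is a defect group of f as a block of C_G(Q). -/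
theorem result {G : Type*} [Group G] [Fintype G] (p : ℕ) [Fact p.Prime] (M : Ideal Cfsg.AlgInt) (hM : Cfsg.IsPModular p M) (B : Set (Cfsg.IrrCharacter G)) (P : Subgroup G) (e : Set (Cfsg.IrrCharacter (Subgroup.centralizer (P : Set G)))) (hmax : Cfsg.IsMaximalBrauerPair p M B P e) (F : Cfsg.FusionSystem P) (hF : Cfsg.IsBlockFusionSystemOn p M B P e F) (Q : Subgroup G) (f : Set (Cfsg.IrrCharacter (Subgroup.centralizer (Q : Set G)))) (hQP : Q ≤ P) (hf : Cfsg.IsPBlock M f) (hle : Cfsg.SubpairLE p M Q f P e) : F.IsFullyCentralized Q ↔ Cfsg.IsDefectGroup p M f ((P ⊓ Subgroup.centralizer (Q : Set G)).subgroupOf (Subgroup.centralizer (Q : Set G))) := by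
  classical
  haveI hMp := isPrime_of_isPModular hM
  haveI : Fintype ↥(Subgroup.centralizer (Q : Set G)) := Fintype.ofFinite _
  obtain ⟨hBe, -⟩ := id hmax
  obtain ⟨hPe, hB, -⟩ := id hBe
  have hcardsub : ∀ Q₂ : Subgroup G,
      Nat.card ((P ⊓ Subgroup.centralizer (Q₂ : Set G)).subgroupOf
        (Subgroup.centralizer (Q₂ : Set G)))
      = Nat.card (FusionSystem.centralizerIn P Q₂) :=
    fun Q₂ => Nat.card_congr (Subgroup.subgroupOfEquivOfLe inf_le_right).toEquiv
  have hrange : ∀ (φ : Q →* G) (g : G), (∀ u : Q, φ u = g * (u : G) * g⁻¹) →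
      φ.range = Q.map (MulAut.conj g).toMonoidHom := by
    intro φ g h
    ext y
    constructor
    · rintro ⟨u, rfl⟩
      exact ⟨u, u.2, (h u).symm⟩
    · rintro ⟨q, hq, rfl⟩
      exact ⟨⟨q, hq⟩, h _⟩
  -- cardinality of the defect groups of a conjugate
  have hcardconj : ∀ (g : G) (D₁ : Subgroup ↥(Subgroup.centralizer
      ((Q.map (MulAut.conj g).toMonoidHom : Subgroup G) : Set G))),
      IsDefectGroup p M (conjBlock Q g f) D₁ → Nat.card D₁ = p ^ blockDefect p f := by
    intro g D₁ hD₁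
    haveI : Fintype ↥(Subgroup.centralizer
      ((Q.map (MulAut.conj g).toMonoidHom : Subgroup G) : Set G)) := Fintype.ofFinite _
    have hfx : IsPBlock M (conjBlock Q g f) := isPBlock_conjBlock Q g f hf
    have hc₁ := Cfsg.Agent.S0908.result p M hM (conjBlock Q g f) hfx D₁ hD₁
    have hdef : blockDefect p (conjBlock Q g f) = blockDefect p f := by
      rw [conjBlock_eq_image]
      exact blockDefect_image_irrCongr _ f
    rw [hc₁, hdef]
  obtain ⟨D, hD, hleD⟩ := exists_isDefectGroup_ge_centralizerIn hM P Q e f hPe hQP hle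
  have hcD := Cfsg.Agent.S0908.result p M hM f hf D hD
  constructor
  · rintro ⟨-, hfc⟩
    obtain ⟨x, hlex, hDx⟩ := exists_conj_centralizerIn_isDefectGroup hM B P Q e f hmax hQP hf hle
    have hQxP : Q.map (MulAut.conj x).toMonoidHom ≤ P := fst_le_of_reflTransGen hlex
    have hφ : Cfsg.conjHom Q x ∈ F.Hom Q := by
      rw [hF.2 Q _]
      exact ⟨hQP, x, fun u => rfl, hQxP, f, hle, hlex⟩
    have hconj : F.IsConj Q (Q.map (MulAut.conj x).toMonoidHom) :=
      ⟨_, hφ, hrange _ x (fun u => rfl)⟩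
    have h1 := hfc _ hconj
    have h2 := hcardconj x _ hDx
    rw [hcardsub] at h2
    have hEq := Subgroup.eq_of_le_of_card_ge hleD (by
      rw [hcD, ← h2, hcardsub]
      exact h1)
    rw [hEq]
    exact hD
  · intro hdef
    refine ⟨hQP, ?_⟩
    rintro Q₂ ⟨φ, hφ, hφr⟩
    rw [hF.2 Q φ] at hφ
    obtain ⟨-, g, hφg, hQgP, f', hle', hleg⟩ := hφ
    have heq := subpair_unique hM _ ⟨P, e⟩ rfl ⟨Q, f'⟩ ⟨Q, f⟩ hle' hle rfl
    have hff : f' = f := eq_of_heq (Sigma.mk.inj_iff.mp heq).2
    rw [hff] at hleg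
    have hQ₂ : Q₂ = Q.map (MulAut.conj g).toMonoidHom := by
      rw [← hφr]
      exact hrange φ g hφg
    rw [hQ₂]
    obtain ⟨D₁, hD₁, hle₁⟩ := exists_isDefectGroup_ge_centralizerIn hM P
      (Q.map (MulAut.conj g).toMonoidHom) e (conjBlock Q g f) hPe hQgP hleg
    have h1 := hcardconj g D₁ hD₁
    have h2 := Cfsg.Agent.S0908.result p M hM f hf _ hdef
    rw [hcardsub] at h2
    rw [h2, ← h1, ← hcardsub]
    exact Subgroup.card_le_of_le hle₁

end Cfsg.Agent.S4678
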