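import Mathlib
import Cfsg.Statements.S4679
import Cfsg.Agent.Lib.helper3.SP11

set_option autoImplicit false
open Cfsg

namespace Cfsg.Agent.S4679

set_option linter.style.haveILetI false

open Cfsg Cfsg.Agent.Lib.helper3.Block Cfsg.Agent.Lib.helper3.LocalM

/-- Fix a prime p and a maximal ideal M of the algebraic integers containing p, a p-block B of the finite group G with maximal Brauer pair (P, e), its fusion system F on P, a Brauer pair (Q, f) ≤ (P, e), and let T be the stabilizer of f in N_G(Q). Then Q is fully normalized in F if and only if N_P(Q) is a defect group of the block of T whose idempotent is that of f. -/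
theorem result {G : Type*} [Group G] [Fintype G] (p : ℕ) [Fact p.Prime] (M : Ideal Cfsg.AlgInt) (hM : Cfsg.IsPModular p M) (B : Set (Cfsg.IrrCharacter G)) (P : Subgroup G) (e : Set (Cfsg.IrrCharacter (Subgroup.centralizer (P : Set G)))) (hmax : Cfsg.IsMaximalBrauerPair p M B P e) (F : Cfsg.FusionSystem P) (hF : Cfsg.IsBlockFusionSystemOn p M B P e F) (Q : Subgroup G) (f : Set (Cfsg.IrrCharacter (Subgroup.centralizer (Q : Set G)))) (hQP : Q ≤ P) (hf : Cfsg.IsPBlock M f) (hle : Cfsg.SubpairLE p M Q f P e) (T : Subgroup G) (hT : ∀ y : G, y ∈ T ↔ y ∈ Subgroup.normalizer (Q : Set G) ∧ Cfsg.StabilizesBlock (Subgroup.centralizer (Q : Set G)) f y) : F.IsFullyNormalized Q ↔ ∃ F' : Set (Cfsg.IrrCharacter T), Cfsg.IsPBlock M F' ∧ (∀ t : T, Cfsg.blockCoeff F' t = Cfsg.subgroupBlockCoeff (Subgroup.centralizer (Q : Set G)) f (t : G)) ∧ Cfsg.IsDefectGroup p M F' ((P ⊓ Subgroup.normalizer (Q : Set G)).subgroupOf T) := by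
  classical
  haveI hMp := isPrime_of_isPModular hM
  haveI : Fintype ↥T := Fintype.ofFinite _
  haveI : Fintype ↥(Subgroup.centralizer (Q : Set G)) := Fintype.ofFinite _
  obtain ⟨hBe, -⟩ := id hmax
  obtain ⟨hPe, hB, -⟩ := id hBe
  have hQp : IsPGroup p Q := hPe.1.to_le hQP
  have hrange : ∀ (φ : Q →* G) (g : G), (∀ u : Q, φ u = g * (u : G) * g⁻¹) →
      φ.range = Q.map (MulAut.conj g).toMonoidHom := by
    intro φ g h
    ext y
    constructor
    · rintro ⟨u, rfl⟩
      exact ⟨u, u.2, (h u).symm⟩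
    · rintro ⟨q, hq, rfl⟩
      exact ⟨⟨q, hq⟩, h _⟩
  obtain ⟨F₀, hF₀, hF₀f⟩ := exists_block_of_normalizer_stabilizer hM Q hQp f hf T hT
  obtain ⟨hRT, b, hb, hleb⟩ :=
    exists_maximal_ge_normalizerIn hM P Q e f hPe hQP hle T hT F₀ hF₀ hF₀f
  have hD : IsDefectGroup p M F₀ b.1 := Cfsg.Agent.S4659.result p M hM F₀ b.1 b.2 hb
  have hcD := Cfsg.Agent.S0908.result p M hM F₀ hF₀ b.1 hD
  have hcardsubT : Nat.card ((P ⊓ Subgroup.normalizer (Q : Set G)).subgroupOf T)
      = Nat.card ↥(P ⊓ Subgroup.normalizer (Q : Set G)) :=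
    Nat.card_congr (Subgroup.subgroupOfEquivOfLe hRT).toEquiv
  -- the stabilizer of a conjugate
  have hstab : ∀ g : G, ∃ T' : Subgroup G, ∀ y : G, y ∈ T' ↔
      y ∈ Subgroup.normalizer ((Q.map (MulAut.conj g).toMonoidHom) : Set G) ∧
      StabilizesBlock (Subgroup.centralizer ((Q.map (MulAut.conj g).toMonoidHom) : Set G))
        (conjBlock Q g f) y := by
    intro g
    haveI : Fintype ↥(Subgroup.centralizer
      ((Q.map (MulAut.conj g).toMonoidHom : Subgroup G) : Set G)) := Fintype.ofFinite _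
    obtain ⟨T₁, hT₁⟩ := exists_stabilizer_subgroup (Subgroup.centralizer
      ((Q.map (MulAut.conj g).toMonoidHom : Subgroup G) : Set G)) (conjBlock Q g f)
      (isPBlock_conjBlock Q g f hf)
    refine ⟨Subgroup.normalizer ((Q.map (MulAut.conj g).toMonoidHom) : Set G) ⊓ T₁, ?_⟩
    intro y
    rw [Subgroup.mem_inf, hT₁]
  have hconjbound : ∀ g : G, Q.map (MulAut.conj g).toMonoidHom ≤ P →
      SubpairLE p M (Q.map (MulAut.conj g).toMonoidHom) (conjBlock Q g f) P e →
      Nat.card ↥(P ⊓ Subgroup.normalizer ((Q.map (MulAut.conj g).toMonoidHom) : Set G))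
        ≤ p ^ blockDefect p F₀ := by
    intro g hQgP hleg
    obtain ⟨T', hT'⟩ := hstab g
    haveI : Fintype ↥T' := Fintype.ofFinite _
    have hfx : IsPBlock M (conjBlock Q g f) := isPBlock_conjBlock Q g f hf
    obtain ⟨F', hF', hF'f⟩ := exists_block_of_normalizer_stabilizer hM
      (Q.map (MulAut.conj g).toMonoidHom) (hQp.map _) (conjBlock Q g f) hfx T' hT'
    obtain ⟨hR'T', b₁, hb₁, hleb₁⟩ := exists_maximal_ge_normalizerIn hM P
      (Q.map (MulAut.conj g).toMonoidHom) e (conjBlock Q g f) hPe hQgP hleg T' hT' F' hF' hF'f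
    have hD₁ : IsDefectGroup p M F' b₁.1 := Cfsg.Agent.S4659.result p M hM F' b₁.1 b₁.2 hb₁
    have hc₁ := Cfsg.Agent.S0908.result p M hM F' hF' b₁.1 hD₁
    have hdef := blockDefect_stabilizer_conj (p := p) Q f g T hT T' hT' F₀ hF₀f F' hF'f
    have h1 := Subgroup.card_le_of_le hleb₁
    rw [Nat.card_congr (Subgroup.subgroupOfEquivOfLe hR'T').toEquiv, hc₁, hdef] at h1
    exact h1
  constructor
  · rintro ⟨-, hfn⟩
    obtain ⟨x, hlex, hall⟩ := exists_conj_normalizerIn_isDefectGroup hM B P Q e f hmax hQP hf hle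
    have hQxP : Q.map (MulAut.conj x).toMonoidHom ≤ P := fst_le_of_reflTransGen hlex
    obtain ⟨T', hT'⟩ := hstab x
    haveI : Fintype ↥T' := Fintype.ofFinite _
    obtain ⟨F', hF', hF'f, hDx⟩ := hall T' hT'
    have hfx : IsPBlock M (conjBlock Q x f) := isPBlock_conjBlock Q x f hf
    obtain ⟨hR'T', -, -, -⟩ := exists_maximal_ge_normalizerIn hM P
      (Q.map (MulAut.conj x).toMonoidHom) e (conjBlock Q x f) hPe hQxP hlex T' hT' F' hF' hF'f
    have hcx := Cfsg.Agent.S0908.result p M hM F' hF' _ hDx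
    have hdef := blockDefect_stabilizer_conj (p := p) Q f x T hT T' hT' F₀ hF₀f F' hF'f
    rw [Nat.card_congr (Subgroup.subgroupOfEquivOfLe hR'T').toEquiv, hdef] at hcx
    have hφ : Cfsg.conjHom Q x ∈ F.Hom Q := by
      rw [hF.2 Q _]
      exact ⟨hQP, x, fun u => rfl, hQxP, f, hle, hlex⟩
    have hconj : F.IsConj Q (Q.map (MulAut.conj x).toMonoidHom) :=
      ⟨_, hφ, hrange _ x (fun u => rfl)⟩
    have h1 : Nat.card ↥(P ⊓ Subgroup.normalizer ((Q.map (MulAut.conj x).toMonoidHom) : Set G))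
        ≤ Nat.card ↥(P ⊓ Subgroup.normalizer (Q : Set G)) := hfn _ hconj
    have hEq := Subgroup.eq_of_le_of_card_ge hleb (by
      rw [hcD, ← hcx, hcardsubT]
      exact h1)
    refine ⟨F₀, hF₀, hF₀f, ?_⟩
    rw [hEq]
    exact hD
  · rintro ⟨F', hF', hF'f, hdefF'⟩
    have hFF : F' = F₀ := by
      apply eq_of_blockCoeff_eq
      intro t
      rw [hF'f, hF₀f]
    rw [hFF] at hdefF'
    have hc := Cfsg.Agent.S0908.result p M hM F₀ hF₀ _ hdefF'
    rw [hcardsubT] at hc
    refine ⟨hQP, ?_⟩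
    rintro Q₂ ⟨φ, hφ, hφr⟩
    rw [hF.2 Q φ] at hφ
    obtain ⟨-, g, hφg, hQgP, f', hle', hleg⟩ := hφ
    have heq := subpair_unique hM _ ⟨P, e⟩ rfl ⟨Q, f'⟩ ⟨Q, f⟩ hle' hle rfl
    have hff : f' = f := eq_of_heq (Sigma.mk.inj_iff.mp heq).2
    rw [hff] at hleg
    have hQ₂ : Q₂ = Q.map (MulAut.conj g).toMonoidHom := by
      rw [← hφr]
      exact hrange φ g hφg
    rw [hQ₂]
    show Nat.card ↥(P ⊓ Subgroup.normalizer ((Q.map (MulAut.conj g).toMonoidHom) : Set G))
      ≤ Nat.card ↥(P ⊓ Subgroup.normalizer (Q : Set G))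
    rw [hc]
    exact hconjbound g hQgP hleg

end Cfsg.Agent.S4679
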