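import Mathlib
import Cfsg.Statements.S4681
import Cfsg.Agent.Lib.helper3.SP3
import Cfsg.Agent.S4663
import Cfsg.Agent.S4658

set_option autoImplicit false
open Cfsg

namespace Cfsg.Agent.S4681

set_option linter.style.haveILetI false

open Cfsg Cfsg.Agent.Lib.helper3.Block Cfsg.Agent.Lib.helper3.LocalM

/-- Fix a prime p and a maximal ideal M of the algebraic integers containing p. Let B₀ be the principal p-block of the finite group G, P a Sylow p-subgroup and e₀ the principal p-block of C_G(P). Then (P, e₀) is a maximal Brauer pair of B₀, and the fusion system of B₀ on (P, e₀) is the fusion system of G on P: its maps from each subgroup of P are exactly the conjugation maps into P by elements of G. -/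
theorem result {G : Type*} [Group G] [Fintype G] (p : ℕ) [Fact p.Prime] (M : Ideal Cfsg.AlgInt) (hM : Cfsg.IsPModular p M) (S : Sylow p G) : Cfsg.IsMaximalBrauerPair p M (Cfsg.principalBlock M G) (S : Subgroup G) (Cfsg.principalBlock M (Subgroup.centralizer ((S : Subgroup G) : Set G))) ∧ ∀ F : Cfsg.FusionSystem (S : Subgroup G), Cfsg.IsBlockFusionSystemOn p M (Cfsg.principalBlock M G) (S : Subgroup G) (Cfsg.principalBlock M (Subgroup.centralizer ((S : Subgroup G) : Set G))) F → ∀ Q : Subgroup G, F.Hom Q = (Cfsg.groupFusionSystem (S : Subgroup G)).Hom Q := by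
  classical
  haveI hMp := isPrime_of_isPModular hM
  have hSp : IsPGroup p (S : Subgroup G) := S.isPGroup'
  have hprinc : ∀ Q : Subgroup G, IsPGroup p Q →
      IsBrauerPairOf p M (principalBlock M G) Q
        (principalBlock M (Subgroup.centralizer (Q : Set G))) := by
    intro Q hQ
    haveI : Fintype (Subgroup.centralizer (Q : Set G)) := Fintype.ofFinite _
    exact (Cfsg.Agent.S4663.result p M hM Q hQ _ (isPBlock_principalBlock _)).mpr rfl
  have hmax : IsMaximalBrauerPair p M (principalBlock M G) (S : Subgroup G)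
      (principalBlock M (Subgroup.centralizer ((S : Subgroup G) : Set G))) := by
    refine ⟨hprinc _ hSp, ?_⟩
    intro R g hRg hle
    have h1 : (S : Subgroup G) ≤ R := fst_le_of_reflTransGen hle
    exact S.is_maximal' hRg.1.1 h1
  -- the pairs below
  have hbelow : ∀ Q : Subgroup G, Q ≤ (S : Subgroup G) →
      SubpairLE p M Q (principalBlock M (Subgroup.centralizer (Q : Set G))) (S : Subgroup G)
        (principalBlock M (Subgroup.centralizer ((S : Subgroup G) : Set G))) := by
    intro Q hQS
    have hQp : IsPGroup p Q := hSp.to_le hQS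
    obtain ⟨f, hf, hle⟩ := exists_subpair hM (S : Subgroup G) _ (hprinc _ hSp).1 _ Q hQS rfl
    have h1 := (Cfsg.Agent.S4658.result p M hM (S : Subgroup G) Q _ f (hprinc _ hSp).1 ⟨hQp, hf⟩ hle
      (principalBlock M G) (isPBlock_principalBlock _)).mp (hprinc _ hSp)
    have h2 := (Cfsg.Agent.S4663.result p M hM Q hQp f hf).mp h1
    rw [← h2]
    exact hle
  refine ⟨hmax, ?_⟩
  intro F hF Q
  ext φ
  rw [hF.2 Q φ]
  constructor
  · rintro ⟨hQS, g, hφ, hmap, -⟩
    refine ⟨hQS, fun x => ?_, g, hφ⟩
    rw [hφ x]
    exact hmap ⟨x, x.2, rfl⟩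
  · rintro ⟨hQS, hφS, g, hφ⟩
    have hmap : Q.map (MulAut.conj g).toMonoidHom ≤ (S : Subgroup G) := by
      rintro _ ⟨q, hq, rfl⟩
      have := hφS ⟨q, hq⟩
      rw [hφ] at this
      exact this
    refine ⟨hQS, g, hφ, hmap, principalBlock M (Subgroup.centralizer (Q : Set G)),
      hbelow Q hQS, ?_⟩
    rw [conjBlock_principalBlock]
    exact hbelow _ hmap

end Cfsg.Agent.S4681
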