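import Mathlib
import Cfsg.Statements.S4682
import Cfsg.Agent.Lib.helper3.SP19

set_option autoImplicit false
open Cfsg

namespace Cfsg.Agent.S4682

set_option linter.style.haveILetI false

open Cfsg Cfsg.Agent.Lib.helper3.Block Cfsg.Agent.Lib.helper3.LocalM

/-- Fix a prime p and a maximal ideal M of the algebraic integers containing p, a p-block B of the finite group G with maximal Brauer pair (P, e), P abelian, and a Brauer pair (Q, f) ≤ (P, e). Let T_Q be the stabilizer of f in N_G(Q) and T_P the stabilizer of e in N_G(P). Then every element of T_Q is a product of an element of T_P and an element of C_G(Q); and the index of C_G(Q) in T_Q equals the index of T_P ∩ C_G(Q) in T_P ∩ N_G(Q). -/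
theorem result {G : Type*} [Group G] [Fintype G] (p : ℕ) [Fact p.Prime] (M : Ideal Cfsg.AlgInt) (hM : Cfsg.IsPModular p M) (B : Set (Cfsg.IrrCharacter G)) (P : Subgroup G) (e : Set (Cfsg.IrrCharacter (Subgroup.centralizer (P : Set G)))) (hmax : Cfsg.IsMaximalBrauerPair p M B P e) (hab : ∀ x ∈ P, ∀ y ∈ P, x * y = y * x) (Q : Subgroup G) (f : Set (Cfsg.IrrCharacter (Subgroup.centralizer (Q : Set G)))) (hQP : Q ≤ P) (hf : Cfsg.IsPBlock M f) (hle : Cfsg.SubpairLE p M Q f P e) (TQ : Subgroup G) (hTQ : ∀ y : G, y ∈ TQ ↔ y ∈ Subgroup.normalizer (Q : Set G) ∧ Cfsg.StabilizesBlock (Subgroup.centralizer (Q : Set G)) f y) (TP : Subgroup G) (hTP : ∀ y : G, y ∈ TP ↔ y ∈ Subgroup.normalizer (P : Set G) ∧ Cfsg.StabilizesBlock (Subgroup.centralizer (P : Set G)) e y) : (∀ x ∈ TQ, ∃ y ∈ TP, ∃ c ∈ Subgroup.centralizer (Q : Set G), x = y * c) ∧ ((Subgroup.centralizer (Q : Set G)).subgroupOf TQ).index = ((TP ⊓ Subgroup.centralizer (Q : Set G)).subgroupOf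 (TP ⊓ Subgroup.normalizer (Q : Set G))).index := by
  classical
  haveI hMp := isPrime_of_isPModular hM
  haveI : Fintype ↥(Subgroup.centralizer (Q : Set G)) := Fintype.ofFinite _
  obtain ⟨hBe, -⟩ := id hmax
  obtain ⟨hPe, hB, -⟩ := id hBe
  have hle' : Relation.ReflTransGen (NormalSubpairRel p M) (⟨Q, f⟩ : BrauerPairIdx G) ⟨P, e⟩ := hle
  have part1 : ∀ x ∈ TQ, ∃ y ∈ TP, ∃ c ∈ Subgroup.centralizer (Q : Set G), x = y * c := by
    intro x hx
    obtain ⟨hxN, hxst⟩ := (hTQ x).mp hx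
    obtain ⟨c₀, hc₀, hcN, hcst⟩ :=
      exists_centralizer_mul_of_abelian hM B P e hmax hab Q f hf hle x hxN hxst
    refine ⟨c₀ * x, (hTP _).mpr ⟨hcN, hcst⟩, x⁻¹ * c₀⁻¹ * x, ?_, by group⟩
    have hxNC := normalizer_le_normalizer_centralizer Q hxN
    have h1 : x⁻¹ ∈ Subgroup.normalizer
        ((Subgroup.centralizer (Q : Set G) : Subgroup G) : Set G) := Subgroup.inv_mem _ hxNC
    have h2 := (Subgroup.mem_normalizer_iff.mp h1 c₀⁻¹).mp (Subgroup.inv_mem _ hc₀)
    rwa [inv_inv] at h2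
  refine ⟨part1, ?_⟩
  have hCTQ : Subgroup.centralizer (Q : Set G) ≤ TQ := fun c hc =>
    (hTQ c).mpr ⟨Subgroup.centralizer_le_normalizer _ hc, stabilizesBlock_of_mem_self _ f c hc⟩
  have hKTQ : TP ⊓ Subgroup.normalizer (Q : Set G) ≤ TQ := by
    rintro y ⟨hyTP, hyN⟩
    obtain ⟨hyNP, hyst⟩ := (hTP y).mp hyTP
    rw [hTQ]
    refine ⟨hyN, ?_⟩
    have h1 : conjIdx y (⟨P, e⟩ : BrauerPairIdx G) = ⟨P, e⟩ :=
      conjIdx_eq_of_stabilizesBlock P e hPe.2 y hyNP hyst
    have h2 := reflTransGen_conjIdx (M := M) (p := p) y hle'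
    rw [h1] at h2
    have h3 : (conjIdx y (⟨Q, f⟩ : BrauerPairIdx G)).1 = Q :=
      map_conj_eq_of_mem_normalizer Q y hyN
    have h4 := subpair_unique hM _ ⟨P, e⟩ rfl _ _ h2 hle' h3
    exact (stabilizesBlock_of_conjIdx_eq Q f y h4).2
  have hsup : (TP ⊓ Subgroup.normalizer (Q : Set G)).subgroupOf TQ
      ⊔ (Subgroup.centralizer (Q : Set G)).subgroupOf TQ = ⊤ := by
    rw [eq_top_iff]
    rintro ⟨x, hx⟩ -
    obtain ⟨y, hy, c, hc, hxyc⟩ := part1 x hx
    have hyN : y ∈ Subgroup.normalizer (Q : Set G) := by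
      have hy' : y = x * c⁻¹ := by
        rw [hxyc]
        group
      rw [hy']
      exact Subgroup.mul_mem _ ((hTQ x).mp hx).1
        (Subgroup.inv_mem _ (Subgroup.centralizer_le_normalizer _ hc))
    have hyK : y ∈ TP ⊓ Subgroup.normalizer (Q : Set G) := ⟨hy, hyN⟩
    have hxe : (⟨x, hx⟩ : TQ) = ⟨y, hKTQ hyK⟩ * ⟨c, hCTQ hc⟩ := Subtype.ext hxyc
    rw [hxe]
    exact Subgroup.mul_mem _ (Subgroup.mem_sup_left (Subgroup.mem_subgroupOf.mpr hyK))
      (Subgroup.mem_sup_right (Subgroup.mem_subgroupOf.mpr hc))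
  haveI hnorm : ((Subgroup.centralizer (Q : Set G)).subgroupOf TQ).Normal := by
    rw [Subgroup.normal_subgroupOf_iff hCTQ]
    intro h k hh hk
    have hkN := normalizer_le_normalizer_centralizer Q ((hTQ k).mp hk).1
    exact (Subgroup.mem_normalizer_iff.mp hkN h).mp hh
  have h1 := Subgroup.relIndex_sup_right
    ((TP ⊓ Subgroup.normalizer (Q : Set G)).subgroupOf TQ)
    ((Subgroup.centralizer (Q : Set G)).subgroupOf TQ)
  rw [hsup, Subgroup.relIndex_top_right, Subgroup.relIndex_subgroupOf hKTQ] at h1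
  rw [h1]
  show (Subgroup.centralizer (Q : Set G)).relIndex (TP ⊓ Subgroup.normalizer (Q : Set G))
    = (TP ⊓ Subgroup.centralizer (Q : Set G)).relIndex (TP ⊓ Subgroup.normalizer (Q : Set G))
  rw [← Subgroup.inf_relIndex_right (Subgroup.centralizer (Q : Set G))
    (TP ⊓ Subgroup.normalizer (Q : Set G))]
  congr 1
  ext z
  simp only [Subgroup.mem_inf]
  constructor
  · rintro ⟨hzC, hzT, -⟩
    exact ⟨hzT, hzC⟩
  · rintro ⟨hzT, hzC⟩
    exact ⟨hzC, hzT, Subgroup.centralizer_le_normalizer _ hzC⟩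

end Cfsg.Agent.S4682
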