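import Mathlib
import Cfsg.Statements.S4686
import Cfsg.Agent.Lib.helper3.SP18
import Cfsg.Agent.S4660

set_option autoImplicit false
open Cfsg

namespace Cfsg.Agent.S4686

set_option linter.style.haveILetI false

open Cfsg Cfsg.Agent.Lib.helper3.Block Cfsg.Agent.Lib.helper3.LocalM

/-- Fix a prime p and a maximal ideal M of the algebraic integers containing p, a p-block B of the finite group G with maximal Brauer pair (P, e) and fusion system F on P. Then B is nilpotent (for every Brauer pair (Q, f) of B the stabilizer of f in N_G(Q) is C_G(Q) extended by a p-group) if and only if F is the inner fusion system of P: its maps from each subgroup of P are exactly the conjugations by elements of P. -/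
theorem result {G : Type*} [Group G] [Fintype G] (p : ℕ) [Fact p.Prime] (M : Ideal Cfsg.AlgInt) (hM : Cfsg.IsPModular p M) (B : Set (Cfsg.IrrCharacter G)) (P : Subgroup G) (e : Set (Cfsg.IrrCharacter (Subgroup.centralizer (P : Set G)))) (hmax : Cfsg.IsMaximalBrauerPair p M B P e) (F : Cfsg.FusionSystem P) (hF : Cfsg.IsBlockFusionSystemOn p M B P e F) : Cfsg.IsNilpotentBlock p M B ↔ ∀ Q : Subgroup G, F.Hom Q = (Cfsg.innerFusionSystem P).Hom Q := by
  classical
  haveI hMp := isPrime_of_isPModular hM
  obtain ⟨hBe, -⟩ := id hmax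
  obtain ⟨hPe, hB, -⟩ := id hBe
  constructor
  · intro hnil Q
    ext φ
    constructor
    · intro hφ
      rw [hF.2 Q φ] at hφ
      obtain ⟨hQP, g, hφg, -, f', hle', hleg⟩ := hφ
      have hf' : IsPBlock M f' :=
        (isBrauerPair_of_reflTransGen_left
          (show Relation.ReflTransGen (NormalSubpairRel p M) (⟨Q, f'⟩ : BrauerPairIdx G) ⟨P, e⟩
            from hle') hPe).2
      obtain ⟨v, hvP, hv⟩ :=
        exists_conj_of_nilpotent hM B P e hmax hnil _ Q f' rfl hQP hf' hle' g hleg
      exact ⟨hQP, v, hvP, fun x => (hφg x).trans (hv x x.2)⟩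
    · rintro ⟨hQP, u, huP, hφu⟩
      have h1 : Cfsg.conjHom Q u ∈ F.Hom Q := F.conj_mem hQP huP
      have h2 : φ = Cfsg.conjHom Q u := by
        ext x
        rw [hφu x]
        rfl
      rw [h2]
      exact h1
  · intro hinner
    refine ⟨hB, ?_⟩
    intro Q f hQf x hxN hxst hxreg
    haveI : Fintype ↥(Subgroup.centralizer (Q : Set G)) := Fintype.ofFinite _
    have hf : IsPBlock M f := hQf.1.2
    obtain ⟨y, hy⟩ := Cfsg.Agent.S4660.result p M hM B P Q e f hmax hQf
    have hQ₁P : Q.map (MulAut.conj y).toMonoidHom ≤ P := fst_le_of_reflTransGen hy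
    have hx₁N : y * x * y⁻¹ ∈ Subgroup.normalizer
        ((Q.map (MulAut.conj y).toMonoidHom : Subgroup G) : Set G) := by
      rw [mem_normalizer_map_conj_iff]
      have e1 : y⁻¹ * (y * x * y⁻¹) * y = x := by group
      rw [e1]
      exact hxN
    have hx₁st := stabilizesBlock_conjBlock Q y f x hxst
    have hfix := conjIdx_eq_of_stabilizesBlock (M := M) _ _ (isPBlock_conjBlock Q y f hf)
      (y * x * y⁻¹) hx₁N hx₁st
    have hφ : Cfsg.conjHom (Q.map (MulAut.conj y).toMonoidHom) (y * x * y⁻¹)
        ∈ F.Hom (Q.map (MulAut.conj y).toMonoidHom) := by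
      rw [hF.2 _ _]
      refine ⟨hQ₁P, y * x * y⁻¹, fun u => rfl, ?_, conjBlock Q y f, hy, ?_⟩
      · have h1 : (Q.map (MulAut.conj y).toMonoidHom).map (MulAut.conj (y * x * y⁻¹)).toMonoidHom
            = Q.map (MulAut.conj y).toMonoidHom := congrArg Sigma.fst hfix
        rw [h1]
        exact hQ₁P
      · show Relation.ReflTransGen (NormalSubpairRel p M)
          (conjIdx (y * x * y⁻¹) (⟨Q.map (MulAut.conj y).toMonoidHom, conjBlock Q y f⟩
            : BrauerPairIdx G)) ⟨P, e⟩
        rw [hfix]
        exact hy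
    rw [hinner] at hφ
    obtain ⟨-, u, huP, hu⟩ := hφ
    obtain ⟨k, hk⟩ := hPe.1 ⟨u, huP⟩
    have hk' : u ^ (p ^ k) = 1 := congrArg Subtype.val hk
    have hreg₁ : ¬ p ∣ orderOf (y * x * y⁻¹) := by
      have h1 : orderOf ((MulAut.conj y).toMonoidHom x) = orderOf x :=
        orderOf_injective _ (MulAut.conj y).injective x
      have h2 : (MulAut.conj y).toMonoidHom x = y * x * y⁻¹ := rfl
      rw [← h2, h1]
      exact hxreg
    have hcen := mem_centralizer_of_conj_eq (Q.map (MulAut.conj y).toMonoidHom) (y * x * y⁻¹) u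
      hx₁N hreg₁ k hk' (fun q hq => hu ⟨q, hq⟩)
    have h3 := (mem_centralizer_map_conj_iff Q y _).mp hcen
    have e1 : y⁻¹ * (y * x * y⁻¹) * y = x := by group
    rwa [e1] at h3

end Cfsg.Agent.S4686
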