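import Mathlib
import Cfsg.Statements.S4688
import Cfsg.Agent.Lib.helper3.SP18
import Cfsg.Agent.S4658
import Cfsg.Agent.S0908
import Cfsg.Agent.Lib.helper3.SP7

set_option autoImplicit false
open Cfsg

namespace Cfsg.Agent.S4688

set_option linter.style.haveILetI false

open Cfsg Cfsg.Agent.Lib.helper3.Block Cfsg.Agent.Lib.helper3.LocalM

theorem mem_normalizer_of_map_conj_eq {G : Type*} [Group G] (R : Subgroup G) (n : G)
    (h : R.map (MulAut.conj n).toMonoidHom = R) : n ∈ Subgroup.normalizer (R : Set G) := by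
  rw [Subgroup.mem_normalizer_iff]
  intro r
  constructor
  · intro hr
    rw [← h]
    exact ⟨r, hr, rfl⟩
  · intro hr
    rw [← h] at hr
    obtain ⟨r', hr', he⟩ := hr
    have he' : n * r' * n⁻¹ = n * r * n⁻¹ := he
    have : r' = r := by
      have := congrArg (fun z => n⁻¹ * z * n) he'
      beta_reduce at this
      have e1 : n⁻¹ * (n * r' * n⁻¹) * n = r' := by group
      have e2 : n⁻¹ * (n * r * n⁻¹) * n = r := by group
      rw [e1, e2] at this
      exact this
    rw [← this]
    exact hr'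


/-- Fix a prime p and a maximal ideal M of the algebraic integers containing p, and a nilpotent p-block B of the finite group G with maximal Brauer pair (P, e). Then for every Brauer pair (Q, f) of B, f is a nilpotent block of C_G(Q); and if moreover (Q, f) ≤ (P, e), then C_P(Q) is a defect group of f as a block of C_G(Q). -/
theorem result {G : Type*} [Group G] [Fintype G] (p : ℕ) [Fact p.Prime] (M : Ideal Cfsg.AlgInt) (hM : Cfsg.IsPModular p M) (B : Set (Cfsg.IrrCharacter G)) (P : Subgroup G) (e : Set (Cfsg.IrrCharacter (Subgroup.centralizer (P : Set G)))) (hmax : Cfsg.IsMaximalBrauerPair p M B P e) (hnil : Cfsg.IsNilpotentBlock p M B) (Q : Subgroup G) (f : Set (Cfsg.IrrCharacter (Subgroup.centralizer (Q : Set G)))) (hQf : Cfsg.IsBrauerPairOf p M B Q f) : Cfsg.IsNilpotentBlock p M f ∧ (Cfsg.SubpairLE p M Q f P e → Cfsg.IsDefectGroup p M f ((P ⊓ Subgroup.centralizer (Q : Set G)).subgroupOf (Subgroup.centralizer (Q : Set G)))) := by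
  classical
  haveI hMp := isPrime_of_isPModular hM
  haveI : Fintype ↥(Subgroup.centralizer (Q : Set G)) := Fintype.ofFinite _
  obtain ⟨hBe, -⟩ := id hmax
  obtain ⟨hPe, hB, -⟩ := id hBe
  obtain ⟨hQf', -, -⟩ := id hQf
  have hf : IsPBlock M f := hQf'.2
  refine ⟨⟨hf, ?_⟩, ?_⟩
  · intro D' h' hDh' t htN htst htreg
    haveI : Fintype ↥(Subgroup.centralizer (D' : Set ↥(Subgroup.centralizer (Q : Set G)))) :=
      Fintype.ofFinite _
    haveI : Fintype ↥(Subgroup.centralizer ((supIn Q D' : Subgroup G) : Set G)) :=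
      Fintype.ofFinite _
    obtain ⟨h, hh⟩ : ∃ h, h = irrCongr (cInEquiv Q D').symm '' h' := ⟨_, rfl⟩
    have hh' : irrCongr (cInEquiv Q D') '' h = h' := by
      rw [hh]
      exact image_irrCongr_image_symm _ _
    have hhblk : IsPBlock M h := by
      rw [hh]
      exact isPBlock_image_irrCongr _ h' hDh'.1.2
    have hn : IsNormalSubpair p M Q f (supIn Q D') h :=
      isNormalSubpair_of_isBrauerPairOf hM Q hQf'.1 D' f h hhblk (by rw [hh']; exact hDh')
    have hRh : IsBrauerPairOf p M B (supIn Q D') h :=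
      (Cfsg.Agent.S4658.result p M hM (supIn Q D') Q h f hn.2.1 hQf'
        (Relation.ReflTransGen.single hn) B hB).mpr hQf
    have htG : ((t : ↥(Subgroup.centralizer (Q : Set G))) : G)
        ∈ Subgroup.normalizer ((supIn Q D' : Subgroup G) : Set G) := by
      apply mem_normalizer_of_map_conj_eq
      rw [Subgroup.map_sup]
      congr 1
      · apply map_conj_eq_of_mem_normalizer
        exact Subgroup.centralizer_le_normalizer _ t.2
      · ext y
        constructor
        · rintro ⟨_, ⟨d, hd, rfl⟩, rfl⟩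
          exact ⟨t * d * t⁻¹, (Subgroup.mem_normalizer_iff.mp htN d).mp hd, rfl⟩
        · rintro ⟨d, hd, rfl⟩
          refine ⟨((t⁻¹ * d * t : ↥(Subgroup.centralizer (Q : Set G))) : G), ⟨t⁻¹ * d * t, ?_, rfl⟩, ?_⟩
          · show t⁻¹ * d * t ∈ D'
            apply (Subgroup.mem_normalizer_iff.mp htN (t⁻¹ * d * t)).mpr
            have e : t * (t⁻¹ * d * t) * t⁻¹ = d := by group
            rw [e]
            exact hd
          · show (t : G) * ((t : G)⁻¹ * (d : G) * (t : G)) * (t : G)⁻¹ = (d : G)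
            group
    have hst : StabilizesBlock (Subgroup.centralizer ((supIn Q D' : Subgroup G) : Set G)) h
        ((t : ↥(Subgroup.centralizer (Q : Set G))) : G) := by
      refine ⟨normalizer_le_normalizer_centralizer _ htG, ?_⟩
      intro ξ hξ
      have hξ' : irrCongr (cInEquiv Q D') ξ ∈ h' := by
        rw [← hh']
        exact ⟨ξ, hξ, rfl⟩
      obtain ⟨χ', hχ', hconj⟩ := htst.2 _ hξ'
      rw [← hh'] at hχ'
      obtain ⟨ξ', hξ'h, rfl⟩ := hχ'
      refine ⟨ξ', hξ'h, ?_⟩
      intro c c' hcc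
      have := hconj ((cInEquiv Q D').symm c) ((cInEquiv Q D').symm c') (by
        apply Subtype.ext
        exact hcc)
      rw [irrCongr_apply, irrCongr_apply, MulEquiv.apply_symm_apply,
        MulEquiv.apply_symm_apply] at this
      exact this
    have hreg : IsPRegular p ((t : ↥(Subgroup.centralizer (Q : Set G))) : G) := by
      unfold IsPRegular at htreg ⊢
      rwa [Subgroup.orderOf_coe]
    have hfin := hnil.2 (supIn Q D') h hRh _ htG hst hreg
    obtain ⟨hc, hcD⟩ := (mem_centralizer_supIn_iff Q D' _).mp hfin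
    exact hcD
  · intro hle
    have hQP : Q ≤ P := fst_le_of_reflTransGen hle
    have hcardsub : ∀ Q₂ : Subgroup G,
        Nat.card ((P ⊓ Subgroup.centralizer (Q₂ : Set G)).subgroupOf
          (Subgroup.centralizer (Q₂ : Set G)))
        = Nat.card ↥(P ⊓ Subgroup.centralizer (Q₂ : Set G)) :=
      fun Q₂ => Nat.card_congr (Subgroup.subgroupOfEquivOfLe inf_le_right).toEquiv
    obtain ⟨D, hD, hleD⟩ := exists_isDefectGroup_ge_centralizerIn hM P Q e f hPe hQP hle
    have hcD := Cfsg.Agent.S0908.result p M hM f hf D hD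
    obtain ⟨x, hlex, hDx⟩ := exists_conj_centralizerIn_isDefectGroup hM B P Q e f hmax hQP hf hle
    obtain ⟨v, hvP, hv⟩ := exists_conj_of_nilpotent hM B P e hmax hnil _ Q f rfl hQP hf hle x hlex
    haveI : Fintype ↥(Subgroup.centralizer
      ((Q.map (MulAut.conj x).toMonoidHom : Subgroup G) : Set G)) := Fintype.ofFinite _
    have hfx : IsPBlock M (conjBlock Q x f) := isPBlock_conjBlock Q x f hf
    have hc₁ := Cfsg.Agent.S0908.result p M hM (conjBlock Q x f) hfx _ hDx
    have hdef : blockDefect p (conjBlock Q x f) = blockDefect p f := by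
      rw [conjBlock_eq_image]
      exact blockDefect_image_irrCongr _ f
    rw [hdef, hcardsub] at hc₁
    -- conjugating by v⁻¹ maps C_P(xQx⁻¹) into C_P(Q)
    have hmap : (P ⊓ Subgroup.centralizer
        ((Q.map (MulAut.conj x).toMonoidHom : Subgroup G) : Set G)).map
          (MulAut.conj v⁻¹).toMonoidHom ≤ P ⊓ Subgroup.centralizer (Q : Set G) := by
      rintro _ ⟨y, ⟨hyP, hyC⟩, rfl⟩
      refine ⟨?_, ?_⟩
      · show v⁻¹ * y * v⁻¹⁻¹ ∈ P
        exact P.mul_mem (P.mul_mem (P.inv_mem hvP) hyP) (P.inv_mem (P.inv_mem hvP))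
      · show v⁻¹ * y * v⁻¹⁻¹ ∈ Subgroup.centralizer (Q : Set G)
        have hyC' : y ∈ Subgroup.centralizer
          ((Q.map (MulAut.conj x).toMonoidHom : Subgroup G) : Set G) := hyC
        rw [Subgroup.mem_centralizer_iff]
        intro q hq
        have hq' : v * q * v⁻¹ ∈ Q.map (MulAut.conj x).toMonoidHom := by
          rw [← hv q hq]
          exact ⟨q, hq, rfl⟩
        have hcomm := (Subgroup.mem_centralizer_iff.mp hyC') _ hq'
        show q * (v⁻¹ * y * v⁻¹⁻¹) = v⁻¹ * y * v⁻¹⁻¹ * q
        have e1 : q * (v⁻¹ * y * v⁻¹⁻¹) = v⁻¹ * (v * q * v⁻¹ * y) * v := by group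
        have e2 : v⁻¹ * y * v⁻¹⁻¹ * q = v⁻¹ * (y * (v * q * v⁻¹)) * v := by group
        rw [e1, e2, hcomm]
    have hcard : Nat.card ↥(P ⊓ Subgroup.centralizer
        ((Q.map (MulAut.conj x).toMonoidHom : Subgroup G) : Set G))
        ≤ Nat.card ↥(P ⊓ Subgroup.centralizer (Q : Set G)) := by
      rw [← Subgroup.card_map_of_injective (f := (MulAut.conj v⁻¹).toMonoidHom)
        (MulAut.conj v⁻¹).injective]
      exact Subgroup.card_le_of_le hmap
    have hEq := Subgroup.eq_of_le_of_card_ge hleD (by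
      rw [hcD, ← hc₁, hcardsub]
      exact hcard)
    rw [hEq]
    exact hD

end Cfsg.Agent.S4688
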