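import Mathlib
import Cfsg.Statements.S4692
import Cfsg.Agent.Lib.helper3.SP28
import Cfsg.Agent.Lib.helper3.SP29
import Cfsg.Agent.S4658

set_option autoImplicit false
open Cfsg

namespace Cfsg.Agent.S4692

set_option linter.style.haveILetI false

open Cfsg Cfsg.Agent.Lib.helper3.Block Cfsg.Agent.Lib.helper3.LocalM

/-- Fix a prime p and a maximal ideal M of the algebraic integers containing p. Let N be a normal subgroup of p-power index in the finite group G and c a p-block of N stable under conjugation by G, and let B be the p-block of G whose idempotent is that of c (it exists and is unique). Then c is nilpotent as a block of N if and only if B is nilpotent as a block of G. -/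
theorem result {G : Type*} [Group G] [Fintype G] (p : ℕ) [Fact p.Prime] (M : Ideal Cfsg.AlgInt) (hM : Cfsg.IsPModular p M) (N : Subgroup G) [N.Normal] (hN : ∃ k : ℕ, N.index = p ^ k) (c : Set (Cfsg.IrrCharacter N)) (hc : Cfsg.IsPBlock M c) (hst : ∀ x : G, Cfsg.StabilizesBlock N c x) (B : Set (Cfsg.IrrCharacter G)) (hB : Cfsg.IsPBlock M B) (hBc : ∀ g : G, Cfsg.blockCoeff B g = Cfsg.subgroupBlockCoeff N c g) : Cfsg.IsNilpotentBlock p M c ↔ Cfsg.IsNilpotentBlock p M B := by
  classical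
  haveI : Fintype N := Fintype.ofFinite N
  haveI hMp := isPrime_of_isPModular hM
  have hMtop : M ≠ ⊤ := hM.2.1.ne_top
  have hp1 := (Fact.out : p.Prime)
  constructor
  · -- from `c` to `B`
    intro hnil
    refine ⟨hB, ?_⟩
    intro Q f hpair x hxN hxst hxreg
    obtain ⟨⟨hQp, hfb⟩, -, hω⟩ := id hpair
    -- the stabilizer as a predicate closed under powers
    have hPpow : ∀ (y : G) (k : ℕ),
        conjIdx y (⟨Q, f⟩ : Cfsg.BrauerPairIdx G) = ⟨Q, f⟩ →
        conjIdx (y ^ k) (⟨Q, f⟩ : Cfsg.BrauerPairIdx G) = ⟨Q, f⟩ := by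
      intro y k hy
      induction k with
      | zero => rw [pow_zero, conjIdx_one]
      | succ k ih => rw [pow_succ, ← conjIdx_mul, hy, ih]
    have hPx : conjIdx x (⟨Q, f⟩ : Cfsg.BrauerPairIdx G) = ⟨Q, f⟩ :=
      conjIdx_eq_of_stabilizesBlock Q f hfb x hxN hxst
    apply forall_mem_of_prime_pow p
      (fun y => conjIdx y (⟨Q, f⟩ : Cfsg.BrauerPairIdx G) = ⟨Q, f⟩) hPpow
      (Subgroup.centralizer (Q : Set G)) ?_ x hPx hxreg
    -- the prime power case
    intro q a hq hqp y hy hya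
    haveI : Fact q.Prime := ⟨hq⟩
    obtain ⟨hyN, hyst⟩ := stabilizesBlock_of_conjIdx_eq Q f y hy
    -- `y ∈ N`
    obtain ⟨k, hk⟩ := id hN
    have hyNmem : y ∈ N := by
      apply mem_of_pow_eq_one_of_coprime_index N y (q ^ a) hya
      rw [hk]
      apply Nat.Coprime.pow
      exact (Nat.coprime_primes hq hp1).mpr hqp
    obtain ⟨R', hR'⟩ : ∃ R' : Subgroup ↥N, R' = Q.subgroupOf N := ⟨_, rfl⟩
    have hRQ : R'.map N.subtype ≤ Q := by
      rw [hR', Subgroup.subgroupOf_map_subtype]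
      exact inf_le_left
    have hmemR : ∀ z, z ∈ Q → z ∈ N → z ∈ R'.map N.subtype := by
      intro z hzQ hzN
      rw [hR', Subgroup.subgroupOf_map_subtype]
      exact ⟨hzQ, hzN⟩
    obtain ⟨fR, hfRb, hle⟩ := exists_subpair hM Q f ⟨hQp, hfb⟩ _ (R'.map N.subtype) hRQ rfl
    have hRp : IsPGroup p (R'.map N.subtype : Subgroup G) := hQp.to_le hRQ
    have hpairR : Cfsg.IsBrauerPairOf p M B (R'.map N.subtype) fR :=
      (Cfsg.Agent.S4658.result p M hM Q (R'.map N.subtype) f fR ⟨hQp, hfb⟩ ⟨hRp, hfRb⟩ hle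
        B hB).mp hpair
    -- `y` normalizes `R`
    have hyNR : y ∈ Subgroup.normalizer ((R'.map N.subtype : Subgroup G) : Set G) := by
      rw [hR', Subgroup.subgroupOf_map_subtype, Subgroup.mem_normalizer_iff]
      intro z
      have h1 := Subgroup.mem_normalizer_iff.mp hyN z
      constructor
      · rintro ⟨hzQ, hzN⟩
        exact ⟨h1.mp hzQ, ‹N.Normal›.conj_mem z hzN y⟩
      · rintro ⟨hzQ, hzN⟩
        refine ⟨h1.mpr hzQ, ?_⟩
        have := ‹N.Normal›.conj_mem _ hzN y⁻¹
        have e : y⁻¹ * (y * z * y⁻¹) * y⁻¹⁻¹ = z := by group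
        rwa [e] at this
    -- `y` stabilizes `fR`
    have hfix : conjIdx y (⟨R'.map N.subtype, fR⟩ : Cfsg.BrauerPairIdx G)
        = ⟨R'.map N.subtype, fR⟩ := by
      have h1 := reflTransGen_conjIdx (M := M) (p := p) y hle
      rw [hy] at h1
      apply subpair_unique hM _ (⟨Q, f⟩ : Cfsg.BrauerPairIdx G) rfl _ _ h1 hle
      exact map_conj_eq_of_mem_normalizer _ y hyNR
    obtain ⟨-, hystR⟩ := stabilizesBlock_of_conjIdx_eq _ fR y hfix
    -- apply the key lemma
    have ht' : (⟨y, hyNmem⟩ : ↥N) ∈ Subgroup.normalizer (R' : Set ↥N) :=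
      (coe_mem_normalizer_map_iff N R' ⟨y, hyNmem⟩).mpr hyNR
    have hord : (⟨y, hyNmem⟩ : ↥N) ^ (q ^ a) = 1 := by
      apply Subtype.ext
      rw [Subgroup.coe_pow]
      exact hya
    have hcent := mem_centralizer_of_nilpotent_under hqp hM N hN c hc B hB hBc hnil R' fR
      hpairR ⟨y, hyNmem⟩ ht' hystR hord
    have hcentG : y ∈ Subgroup.centralizer ((R'.map N.subtype : Subgroup G) : Set G) :=
      (coe_mem_centralizer_map_iff N R' ⟨y, hyNmem⟩).mp hcent
    -- conclude
    apply mem_centralizer_of_commutator_mem (p := p) Q (R'.map N.subtype) hQp hRQ y (q ^ a) hya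
      (Nat.Coprime.pow_left a ((Nat.coprime_primes hq hp1).mpr hqp)) hcentG
    intro u hu
    apply hmemR
    · have h1 := (Subgroup.mem_normalizer_iff.mp hyN u).mp hu
      exact Q.mul_mem h1 (Q.inv_mem hu)
    · have h1 : u * y⁻¹ * u⁻¹ ∈ N := ‹N.Normal›.conj_mem _ (N.inv_mem hyNmem) u
      have e : y * u * y⁻¹ * u⁻¹ = y * (u * y⁻¹ * u⁻¹) := by group
      rw [e]
      exact N.mul_mem hyNmem h1
  · -- from `B` to `c`
    intro hnil
    refine ⟨hc, ?_⟩
    intro R' g' hpair t' ht' hst' hreg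
    exact mem_centralizer_of_nilpotent_over hM N hN c hc B hB hBc hnil R' g' hpair t' ht' hst'
      hreg

end Cfsg.Agent.S4692
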