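import Mathlib
import Cfsg.Statements.S4693
import Cfsg.Agent.Lib.helper3.SP20
import Cfsg.Agent.S4654

set_option autoImplicit false
open Cfsg

namespace Cfsg.Agent.S4693

set_option linter.style.haveILetI false

open Cfsg Cfsg.Agent.Lib.helper3.Block Cfsg.Agent.Lib.helper3.LocalM

/-- Fix a prime p and a maximal ideal M of the algebraic integers containing p, a p-block B of the finite group G with maximal Brauer pair (P, e) and fusion system F on P, and a Brauer pair (Q, f) ≤ (P, e) with Q centric in F. Suppose every element of G normalizes Q and stabilizes f. Then the idempotent of B agrees with that of f modulo M at every element of G, and f is the idempotent of a nilpotent block of Q·C_G(Q): some p-block of Q·C_G(Q) has the idempotent coefficients of f and is nilpotent. -/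
theorem result {G : Type*} [Group G] [Fintype G] (p : ℕ) [Fact p.Prime] (M : Ideal Cfsg.AlgInt) (hM : Cfsg.IsPModular p M) (B : Set (Cfsg.IrrCharacter G)) (P : Subgroup G) (e : Set (Cfsg.IrrCharacter (Subgroup.centralizer (P : Set G)))) (hmax : Cfsg.IsMaximalBrauerPair p M B P e) (F : Cfsg.FusionSystem P) (hF : Cfsg.IsBlockFusionSystemOn p M B P e F) (Q : Subgroup G) (f : Set (Cfsg.IrrCharacter (Subgroup.centralizer (Q : Set G)))) (hQP : Q ≤ P) (hf : Cfsg.IsPBlock M f) (hle : Cfsg.SubpairLE p M Q f P e) (hcen : F.IsCentric Q) (hG : ∀ x : G, x ∈ Subgroup.normalizer (Q : Set G) ∧ Cfsg.StabilizesBlock (Subgroup.centralizer (Q : Set G)) f x) : (∀ g : G, Cfsg.MemLocalIdeal M (Cfsg.blockCoeff B g - Cfsg.subgroupBlockCoeff (Subgroup.centralizer (Q : Set G)) f g)) ∧ ∃ F' : Set (Cfsg.IrrCharacter ↥(Q ⊔ Subgroup.centralizer (Q : Set G))), Cfsg.IsPBlock M F' ∧ (∀ t : ↥(Q ⊔ Subgroup.centralizer (Q : Set G)), Cfsg.blockCoeff F' t = Cfsg.subgroupBlockCoeff (Subgroup.centralizer (Q :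 Set G)) f (t : G)) ∧ Cfsg.IsNilpotentBlock p M F' := by
  classical
  haveI hMp := isPrime_of_isPModular hM
  have hMtop : M ≠ ⊤ := hM.2.1.ne_top
  haveI : Fintype ↥(Subgroup.centralizer (Q : Set G)) := Fintype.ofFinite _
  obtain ⟨hBe, -⟩ := id hmax
  obtain ⟨hPe, hB, -⟩ := id hBe
  have hle' : Relation.ReflTransGen (NormalSubpairRel p M) (⟨Q, f⟩ : BrauerPairIdx G) ⟨P, e⟩ := hle
  have hQp : IsPGroup p Q := hPe.1.to_le hQP
  have hQf : IsBrauerPair p M Q f := ⟨hQp, hf⟩
  have hQfB : IsBrauerPairOf p M B Q f :=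
    (Cfsg.Agent.S4658.result p M hM P Q e f hPe hQf hle B hB).mp hBe
  haveI hQn : Q.Normal := by
    rw [← Subgroup.normalizer_eq_top_iff, eq_top_iff]
    intro x _
    exact (hG x).1
  haveI hCn : (Subgroup.centralizer (Q : Set G)).Normal := by
    constructor
    intro c hc g
    have h1 := normalizer_le_normalizer_centralizer Q (hG g).1
    exact (Subgroup.mem_normalizer_iff.mp h1 c).mp hc
  -- centric: `C_P(Q) ≤ Q`
  have hcenQ : P ⊓ Subgroup.centralizer (Q : Set G) ≤ Q := by
    apply hcen.2 Q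
    refine ⟨Cfsg.conjHom Q 1, F.conj_mem hQP P.one_mem, ?_⟩
    ext y
    constructor
    · rintro ⟨u, rfl⟩
      show (1 : G) * (u : G) * (1 : G)⁻¹ ∈ Q
      simpa using u.2
    · intro hy
      refine ⟨⟨y, hy⟩, ?_⟩
      show (1 : G) * y * (1 : G)⁻¹ = y
      simp
  refine ⟨?_, ?_⟩
  · -- the idempotents agree
    intro g
    obtain ⟨-, h2⟩ := Cfsg.Agent.S4654.result p M hM Q hQp B f hQfB ⊤
      (fun x => ⟨fun _ => (hG x).2, fun _ => Subgroup.mem_top x⟩)
    have h3 : ∑ x : G, subgroupBlockCoeff (Subgroup.centralizer (Q : Set G)) f (x⁻¹ * g * x)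
        = (Nat.card G : ℂ) * subgroupBlockCoeff (Subgroup.centralizer (Q : Set G)) f g := by
      rw [Nat.card_eq_fintype_card, ← Finset.card_univ, ← nsmul_eq_mul, ← Finset.sum_const]
      apply Finset.sum_congr rfl
      intro x _
      have := subgroupBlockCoeff_conj_of_stabilizes (M := M) (Subgroup.centralizer (Q : Set G)) f hf
        x⁻¹ (hG x⁻¹).2 g
      rwa [inv_inv] at this
    have h4 : blockCoeff B g = subgroupBlockCoeff (Subgroup.centralizer (Q : Set G)) f g := by
      rw [h2 g, h3, Subgroup.card_top]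
      have hne : (Nat.card G : ℂ) ≠ 0 := by
        have : 0 < Nat.card G := Nat.card_pos
        exact_mod_cast this.ne'
      field_simp
    rw [h4, sub_self]
    exact memLocalIdeal_zero hMtop
  · -- the block of `Q C_G(Q)`
    obtain ⟨L, hLdef⟩ : ∃ L : Subgroup G, L = Q ⊔ Subgroup.centralizer (Q : Set G) := ⟨_, rfl⟩
    rw [← hLdef]
    haveI : Fintype ↥L := Fintype.ofFinite _
    have hQL : Q ≤ L := by
      rw [hLdef]
      exact le_sup_left
    have hCL : Subgroup.centralizer (Q : Set G) ≤ L := by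
      rw [hLdef]
      exact le_sup_right
    haveI hLn : L.Normal := by
      rw [hLdef]
      infer_instance
    obtain ⟨F', hF', hFf⟩ := exists_block_of_le_stabilizer hM Q hQp
      (Subgroup.centralizer (Q : Set G)) f hf L (fun x _ => (hG x).2) hCL (by
        intro t _ h
        rw [Subgroup.mem_centralizer_iff]
        intro q hq
        exact h q hq (hQL hq))
    refine ⟨F', hF', hFf, hF', ?_⟩
    -- the pair `(Q, f)` seen in `L`
    obtain ⟨Q', hQ'def⟩ : ∃ Q' : Subgroup ↥L, Q' = Q.subgroupOf L := ⟨_, rfl⟩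
    have hmapQ : Q'.map L.subtype = Q := by
      rw [hQ'def]
      exact Subgroup.map_subgroupOf_eq_of_le hQL
    have hXQ : Subgroup.centralizer ((Q'.map L.subtype : Subgroup G) : Set G) ≤ L := by
      rw [hmapQ]
      exact hCL
    obtain ⟨f₀, hf₀⟩ := exists_snd_of_fst_eq (⟨Q, f⟩ : BrauerPairIdx G) _ hmapQ.symm
    have hn₀ : NormalSubpairRel p M (⟨Q, f⟩ : BrauerPairIdx G) ⟨Q'.map L.subtype, f₀⟩ := by
      rw [← hf₀]
      exact isNormalSubpair_refl hMtop Q f hQf
    have hb₀ := isBrauerPairOf_downT Q f L Q' hXQ F' hF' hFf f₀ hn₀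
    obtain ⟨b₀, hb₀def⟩ : ∃ b₀ : BrauerPairIdx ↥L, b₀ = downT L Q' hXQ f₀ := ⟨_, rfl⟩
    have hb₀1 : b₀.1 = Q' := by
      rw [hb₀def]
      rfl
    have hupb₀ : upT L b₀ = ⟨Q, f⟩ := by
      rw [hb₀def, upT_downT, hf₀]
    rw [← hb₀def] at hb₀
    -- membership in `P ⊓ L`
    have hPL : P ⊓ L ≤ Q := by
      rintro y ⟨hyP, hyL⟩
      rw [hLdef] at hyL
      obtain ⟨q, c, hqc⟩ := exists_mul_of_mem_sup_centralizer Q y hyL
      have hcP : (c : G) ∈ P := by
        have hc' : (c : G) = (q : G)⁻¹ * y := by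
          rw [hqc]
          group
        rw [hc']
        exact P.mul_mem (P.inv_mem (hQP q.2)) hyP
      rw [hqc]
      exact Q.mul_mem q.2 (hcenQ ⟨hcP, c.2⟩)
    -- maximality
    have hmaxb₀ : IsMaximalBrauerPair p M F' b₀.1 b₀.2 := by
      refine ⟨hb₀, ?_⟩
      intro R' r' hR'r' hleR
      have hleR' : Relation.ReflTransGen (NormalSubpairRel p M) b₀ ⟨R', r'⟩ := hleR
      have hXb₀ : Subgroup.centralizer ((b₀.1.map L.subtype : Subgroup G) : Set G) ≤ L := by
        rw [hb₀1]
        exact hXQ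
      have hup := reflTransGen_upT (M := M) (p := p) L b₀ ⟨R', r'⟩ hXb₀ hleR'
      rw [hupb₀] at hup
      obtain ⟨R, r, hRr⟩ : ∃ (R : Subgroup G)
          (r : Set (IrrCharacter (Subgroup.centralizer (R : Set G)))),
          upT L (⟨R', r'⟩ : BrauerPairIdx ↥L) = ⟨R, r⟩ := ⟨_, _, rfl⟩
      have hRmap : R = R'.map L.subtype := by
        have := upT_fst L (⟨R', r'⟩ : BrauerPairIdx ↥L)
        rw [hRr] at this
        exact this
      rw [hRr] at hup
      have hRr' : IsBrauerPair p M R r := isBrauerPair_of_reflTransGen hup hQf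
      have hRB : IsBrauerPairOf p M B R r :=
        (Cfsg.Agent.S4658.result p M hM R Q r f hRr' hQf hup B hB).mpr hQfB
      obtain ⟨x, hx⟩ := Cfsg.Agent.S4660.result p M hM B P R e r hmax hRB
      have hx' : Relation.ReflTransGen (NormalSubpairRel p M)
          (conjIdx x (⟨R, r⟩ : BrauerPairIdx G)) ⟨P, e⟩ := hx
      have hfix : conjIdx x (⟨Q, f⟩ : BrauerPairIdx G) = ⟨Q, f⟩ :=
        conjIdx_eq_of_stabilizesBlock Q f hf x (hG x).1 (hG x).2
      have hQR : Q ≤ R := fst_le_of_reflTransGen hup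
      have hRxP : R.map (MulAut.conj x).toMonoidHom ≤ P := fst_le_of_reflTransGen hx'
      have hRL : R ≤ L := by
        rw [hRmap]
        rintro _ ⟨y, -, rfl⟩
        exact y.2
      have hRxL : R.map (MulAut.conj x).toMonoidHom ≤ L := by
        rintro _ ⟨y, hy, rfl⟩
        exact hLn.conj_mem y (hRL hy) x
      have hRxQ : R.map (MulAut.conj x).toMonoidHom ≤ Q :=
        fun y hy => hPL ⟨hRxP hy, hRxL hy⟩
      have hcard : Nat.card R ≤ Nat.card Q := by
        rw [← Subgroup.card_map_of_injective (f := (MulAut.conj x).toMonoidHom)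
          (MulAut.conj x).injective]
        exact Subgroup.card_le_of_le hRxQ
      have hRQ : Q = R := Subgroup.eq_of_le_of_card_ge hQR hcard
      have h5 : R'.map L.subtype = Q'.map L.subtype := by
        rw [← hRmap, hmapQ, hRQ]
      rw [hb₀1]
      exact Subgroup.map_injective (Subgroup.subtype_injective L) h5
    -- nilpotency
    intro R' r' hR'r' t' ht'N ht'st ht'reg
    obtain ⟨x', hx'⟩ := Cfsg.Agent.S4660.result p M hM F' b₀.1 R' b₀.2 r' hmaxb₀ hR'r'
    have hx'' : Relation.ReflTransGen (NormalSubpairRel p M)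
        (conjIdx x' (⟨R', r'⟩ : BrauerPairIdx ↥L)) b₀ := hx'
    have hR₁Q : R'.map (MulAut.conj x').toMonoidHom ≤ Q' := by
      have := fst_le_of_reflTransGen hx''
      rwa [hb₀1] at this
    have ht₁N : x' * t' * x'⁻¹ ∈ Subgroup.normalizer
        ((R'.map (MulAut.conj x').toMonoidHom : Subgroup ↥L) : Set ↥L) := by
      rw [mem_normalizer_map_conj_iff]
      have e1 : x'⁻¹ * (x' * t' * x'⁻¹) * x' = t' := by group
      rw [e1]
      exact ht'N
    have hreg₁ : ¬ p ∣ orderOf (x' * t' * x'⁻¹) := by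
      have h1 : orderOf ((MulAut.conj x').toMonoidHom t') = orderOf t' :=
        orderOf_injective _ (MulAut.conj x').injective t'
      have h2 : (MulAut.conj x').toMonoidHom t' = x' * t' * x'⁻¹ := rfl
      rw [← h2, h1]
      exact ht'reg
    have ht₁L : ((x' * t' * x'⁻¹ : ↥L) : G) ∈ Q ⊔ Subgroup.centralizer (Q : Set G) := by
      rw [← hLdef]
      exact (x' * t' * x'⁻¹ : ↥L).2
    obtain ⟨q, c, hqc⟩ := exists_mul_of_mem_sup_centralizer Q _ ht₁L
    obtain ⟨k, hk⟩ := hQp q
    have hk' : ((⟨(q : G), hQL q.2⟩ : ↥L)) ^ (p ^ k) = 1 := by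
      apply Subtype.ext
      have := congrArg Subtype.val hk
      simpa using this
    have hcen₁ := mem_centralizer_of_conj_eq (R'.map (MulAut.conj x').toMonoidHom)
      (x' * t' * x'⁻¹) (⟨(q : G), hQL q.2⟩ : ↥L) ht₁N hreg₁ k hk' (by
        intro y hy
        have hyQ : ((y : ↥L) : G) ∈ Q := by
          have := hR₁Q hy
          rw [hQ'def, Subgroup.mem_subgroupOf] at this
          exact this
        apply Subtype.ext
        show ((x' * t' * x'⁻¹ : ↥L) : G) * (y : G) * ((x' * t' * x'⁻¹ : ↥L) : G)⁻¹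
          = (q : G) * (y : G) * (q : G)⁻¹
        rw [hqc]
        have hcy : (y : G) * (c : G) = (c : G) * (y : G) :=
          (Subgroup.mem_centralizer_iff.mp c.2) _ hyQ
        calc (q : G) * (c : G) * (y : G) * ((q : G) * (c : G))⁻¹
            = (q : G) * ((c : G) * (y : G)) * (c : G)⁻¹ * (q : G)⁻¹ := by group
          _ = (q : G) * ((y : G) * (c : G)) * (c : G)⁻¹ * (q : G)⁻¹ := by rw [hcy]
          _ = (q : G) * (y : G) * (q : G)⁻¹ := by group)
    have h3 := (mem_centralizer_map_conj_iff R' x' _).mp hcen₁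
    have e1 : x'⁻¹ * (x' * t' * x'⁻¹) * x' = t' := by group
    rwa [e1] at h3

end Cfsg.Agent.S4693
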