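import Mathlib
import Cfsg.Statements.S4694
import Cfsg.Agent.Lib.helper3.Weight3
import Cfsg.Agent.Lib.helper3.CentralDefect5
import Cfsg.Agent.Lib.helper3.BlockSection

set_option autoImplicit false
open Cfsg

namespace Cfsg.Agent.S4694

set_option linter.style.haveILetI false

open Cfsg Cfsg.Agent.Lib.helper3.Block Cfsg.Agent.Lib.helper3.LocalM Cfsg.Agent.Lib.helper3.Irr Cfsg.Agent.Lib.helper3.CharBasic Cfsg.Agent.Lib.helper3.Central

/-- Fix a prime p and a maximal ideal M of the algebraic integers containing p, a p-block B of the finite group G and a Brauer pair (Q, e) of B. Let T be the stabilizer of e in N_G(Q) and suppose that (Q, e) carries a weight: the block of T whose idempotent is that of e contains an irreducible character χ that is constant on the cosets of Q and whose degree has p-part equal to the p-part of the index of Q in T. Then Z(Q) is a defect group of e as a block of C_G(Q), and Q is the largest normal p-subgroup of T: every p-subgroup of T normalized by T lies in Q. -/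
theorem result {G : Type*} [Group G] [Fintype G] (p : ℕ) [Fact p.Prime] (M : Ideal Cfsg.AlgInt) (hM : Cfsg.IsPModular p M) (B : Set (Cfsg.IrrCharacter G)) (Q : Subgroup G) (e : Set (Cfsg.IrrCharacter (Subgroup.centralizer (Q : Set G)))) (hQe : Cfsg.IsBrauerPairOf p M B Q e) (T : Subgroup G) (hT : ∀ y : G, y ∈ T ↔ y ∈ Subgroup.normalizer (Q : Set G) ∧ Cfsg.StabilizesBlock (Subgroup.centralizer (Q : Set G)) e y) (F' : Set (Cfsg.IrrCharacter T)) (hF' : Cfsg.IsPBlock M F') (hF'e : ∀ t : T, Cfsg.blockCoeff F' t = Cfsg.subgroupBlockCoeff (Subgroup.centralizer (Q : Set G)) e (t : G)) (χ : Cfsg.IrrCharacter T) (hχ : χ ∈ F') (hχQ : ∀ q : G, q ∈ Q → ∀ t : T, ∀ t' : T, (t' : G) = q * (t : G) → (χ : T → ℂ) t' = (χ : T → ℂ) t) (hdeg : (Cfsg.charDegree (χ : T → ℂ)).factorization p + (Nat.card Q).factorization p = (Nat.card T).factorization p) : Cfsg.IsDefectGroup p M e ((Q ⊓ Subgroup.centralizer (Q : Set G)).subgroupOf (Subgroup.centralizer (Q : Set G))) ∧ ∀ R : Subgroup G, R ≤ T → IsPGroup p R → (∀ t ∈ T, t ∈ Subgroup.normalizer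 (R : Set G)) → R ≤ Q := by
  classical
  haveI hMp := isPrime_of_isPModular hM
  obtain ⟨⟨hQp, he⟩, hB, hBr⟩ := hQe
  -- inclusions
  have hCT : Subgroup.centralizer (Q : Set G) ≤ T := by
    intro c hc
    exact (hT c).mpr ⟨Subgroup.centralizer_le_normalizer _ hc,
      stabilizesBlock_of_mem_self _ e c hc⟩
  have hQT : Q ≤ T := by
    intro q hq
    exact (hT q).mpr ⟨Subgroup.le_normalizer hq, stabilizesBlock_of_mem_base Q e q hq⟩
  have hTN : T ≤ Subgroup.normalizer (Q : Set G) := fun t ht => ((hT t).mp ht).1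
  letI : Fintype T := Fintype.ofFinite _
  letI : Fintype (Subgroup.centralizer (Q : Set G)) := Fintype.ofFinite _
  -- the quotient by `Q`
  obtain ⟨Qt, hQt⟩ : ∃ Qt : Subgroup T, Qt = Q.subgroupOf T := ⟨_, rfl⟩
  have hQtmem : ∀ t : T, t ∈ Qt ↔ (t : G) ∈ Q := by
    intro t; rw [hQt, Subgroup.mem_subgroupOf]
  haveI hQtn : Qt.Normal := by
    rw [hQt]
    exact (Subgroup.normal_subgroupOf_iff_le_normalizer hQT).mpr hTN
  letI : Fintype (T ⧸ Qt) := Fintype.ofFinite _
  have hconst : ∀ g n : T, n ∈ Qt → (χ : T → ℂ) (g * n) = (χ : T → ℂ) g := by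
    intro g n hn
    have h1 : g * n * g⁻¹ ∈ Qt := hQtn.conj_mem n hn g
    apply hχQ ((g * n * g⁻¹ : T) : G) ((hQtmem _).mp h1) g (g * n)
    push_cast
    group
  obtain ⟨χb, hχb, hχeq⟩ := exists_eq_inflate χ.2 Qt hconst
  -- full `p`-part degree
  obtain ⟨c, hc0, hc⟩ := exists_pos_nat_apply_one χ.2
  have hcb : χb 1 = c := by
    rw [← hc, hχeq, inflate_apply]
    rfl
  have hcardX : Nat.card T = Nat.card Q * Nat.card (T ⧸ Qt) := by
    rw [← Subgroup.index_eq_card, ← Subgroup.card_mul_index Qt, hQt,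
      Nat.card_congr (Subgroup.subgroupOfEquivOfLe hQT).toEquiv]
  have hfull : (charDegree ((⟨χb, hχb⟩ : IrrCharacter (T ⧸ Qt)) : T ⧸ Qt → ℂ)).factorization p
      = (Nat.card (T ⧸ Qt)).factorization p := by
    show (charDegree χb).factorization p = _
    rw [charDegree_eq hcb]
    rw [charDegree_eq hc, hcardX, Nat.factorization_mul Nat.card_pos.ne' Nat.card_pos.ne',
      Finsupp.add_apply] at hdeg
    omega
  refine ⟨?_, ?_⟩
  · -- the image of the centralizer in the quotient
    obtain ⟨φ, hφ⟩ : ∃ φ : ↥(Subgroup.centralizer (Q : Set G)) →* T ⧸ Qt,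
        φ = (QuotientGroup.mk' Qt).comp (Subgroup.inclusion hCT) := ⟨_, rfl⟩
    have hφapp : ∀ x : ↥(Subgroup.centralizer (Q : Set G)),
        φ x = ((⟨(x : G), hCT x.2⟩ : T) : T ⧸ Qt) := by
      intro x; rw [hφ]; rfl
    haveI hNn : φ.range.Normal := by
      refine ⟨?_⟩
      rintro _ ⟨x, rfl⟩ y
      obtain ⟨t, rfl⟩ := QuotientGroup.mk_surjective y
      have hmem : (t : G) * (x : G) * (t : G)⁻¹ ∈ Subgroup.centralizer (Q : Set G) := by
        have hn := hTN t.2
        have hxc := x.2
        rw [Subgroup.mem_centralizer_iff] at hxc ⊢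
        intro u hu
        have hu' : (t : G)⁻¹ * u * (t : G) ∈ Q := by
          have := (Subgroup.mem_normalizer_iff.mp (Subgroup.inv_mem _ hn) u).mp hu
          rwa [inv_inv] at this
        have h1 := hxc _ hu'
        calc u * ((t : G) * (x : G) * (t : G)⁻¹)
            = (t : G) * (((t : G)⁻¹ * u * (t : G)) * (x : G)) * (t : G)⁻¹ := by group
          _ = (t : G) * ((x : G) * ((t : G)⁻¹ * u * (t : G))) * (t : G)⁻¹ := by rw [h1]
          _ = (t : G) * (x : G) * (t : G)⁻¹ * u := by group
      refine ⟨⟨_, hmem⟩, ?_⟩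
      rw [hφapp, hφapp, ← QuotientGroup.mk_inv, ← QuotientGroup.mk_mul, ← QuotientGroup.mk_mul]
      congr 1
    letI : Fintype φ.range := Fintype.ofFinite _
    have hsurj : Function.Surjective φ.rangeRestrict := φ.rangeRestrict_surjective
    -- a constituent of the restriction
    have hres : IsCharacter φ.range (fun n : φ.range => χb n) :=
      isCharacter_restrict (isCharacter_of_isIrrCharacter hχb) φ.range
    have hne : (fun n : φ.range => χb n) ≠ 0 := by
      intro h0
      have := congrFun h0 1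
      exact apply_one_ne_zero hχb this
    obtain ⟨ξb, hξb⟩ := exists_constituent hres hne
    have hfac := factorization_degree_of_full p ⟨χb, hχb⟩ hfull φ.range ξb hξb
    obtain ⟨ξ, hξdef⟩ : ∃ ξ : IrrCharacter ↥(Subgroup.centralizer (Q : Set G)),
        (ξ : ↥(Subgroup.centralizer (Q : Set G)) → ℂ)
          = fun x => (ξb : φ.range → ℂ) (φ.rangeRestrict x) :=
      ⟨⟨_, isIrrCharacter_comp_surjective φ.rangeRestrict hsurj ξb.2⟩, rfl⟩
    have hξe : ξ ∈ e := by
      apply mem_of_constituent_restrict _ T hCT e F' hF'e χ hχ ξ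
      rw [hξdef]
      have : (fun x : ↥(Subgroup.centralizer (Q : Set G)) => (χ : T → ℂ) ⟨x, hCT x.2⟩)
          = fun x => (fun n : φ.range => χb n) (φ.rangeRestrict x) := by
        funext x
        rw [hχeq, inflate_apply]
        show χb _ = χb (φ x)
        rw [hφapp]
      rw [this]
      have h5 := classInner_comp_surjective φ.rangeRestrict hsurj (fun n : φ.range => χb n)
        (ξb : φ.range → ℂ)
      rw [h5]
      exact hξb
    -- the kernel
    have hker : φ.rangeRestrict.ker
        = (Q ⊓ Subgroup.centralizer (Q : Set G)).subgroupOf (Subgroup.centralizer (Q : Set G)) := by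
      ext x
      rw [MonoidHom.mem_ker, Subgroup.mem_subgroupOf]
      constructor
      · intro hx
        have h1 : φ x = 1 := by
          have := congrArg (fun n : φ.range => (n : T ⧸ Qt)) hx
          exact this
        rw [hφapp, QuotientGroup.eq_one_iff, hQtmem] at h1
        exact Subgroup.mem_inf.mpr ⟨h1, x.2⟩
      · intro hx
        apply Subtype.ext
        show φ x = 1
        rw [hφapp, QuotientGroup.eq_one_iff, hQtmem]
        exact (Subgroup.mem_inf.mp hx).1
    obtain ⟨Z, hZ⟩ : ∃ Z : Subgroup ↥(Subgroup.centralizer (Q : Set G)),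
        Z = (Q ⊓ Subgroup.centralizer (Q : Set G)).subgroupOf (Subgroup.centralizer (Q : Set G)) :=
      ⟨_, rfl⟩
    rw [← hZ] at hker ⊢
    have hZmem : ∀ x : ↥(Subgroup.centralizer (Q : Set G)), x ∈ Z ↔ (x : G) ∈ Q := by
      intro x
      rw [hZ, Subgroup.mem_subgroupOf]
      constructor
      · intro h; exact (Subgroup.mem_inf.mp h).1
      · intro h; exact Subgroup.mem_inf.mpr ⟨h, x.2⟩
    have hZp : IsPGroup p Z := by
      have hinj : Function.Injective (fun z : Z => (⟨(z : G), (hZmem z).mp z.2⟩ : Q)) := by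
        intro a b hab
        apply Subtype.ext; apply Subtype.ext
        exact congrArg (fun q : Q => (q : G)) hab
      let f : Z →* Q :=
        { toFun := fun z => ⟨(z : G), (hZmem z).mp z.2⟩
          map_one' := rfl
          map_mul' := fun _ _ => rfl }
      exact hQp.of_injective f hinj
    have hZc : Z ≤ Subgroup.center ↥(Subgroup.centralizer (Q : Set G)) := by
      intro z hz
      rw [Subgroup.mem_center_iff]
      intro y
      apply Subtype.ext
      have hy := y.2
      rw [Subgroup.mem_centralizer_iff] at hy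
      exact (hy _ ((hZmem z).mp hz)).symm
    have hindex : Nat.card φ.range = Z.index := by
      have h1 := card_eq_card_ker_mul φ.rangeRestrict hsurj
      rw [hker, ← Subgroup.card_mul_index Z] at h1
      exact (Nat.eq_of_mul_eq_mul_left Nat.card_pos h1).symm
    have hdegξ : (charDegree (ξ : ↥(Subgroup.centralizer (Q : Set G)) → ℂ)).factorization p
        = Z.index.factorization p := by
      rw [← hindex, ← hfac]
      congr 2
      unfold charDegree
      rw [hξdef]
      simp only [map_one]
    have hD := isDefectGroup_of_central_defect hM Z hZp hZc ξ hdegξ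
    obtain ⟨θ, hθ⟩ := he
    rw [hθ] at hξe ⊢
    rw [← blockOf_eq_of_mem θ ξ hξe]
    exact hD
  · intro R hRT hRp hRn
    obtain ⟨Rt, hRt⟩ : ∃ Rt : Subgroup T, Rt = R.subgroupOf T := ⟨_, rfl⟩
    haveI hRtn : Rt.Normal := by
      rw [hRt]
      exact (Subgroup.normal_subgroupOf_iff_le_normalizer hRT).mpr (fun t ht => hRn t ht)
    have hRtp : IsPGroup p Rt := by
      rw [hRt]
      exact hRp.of_equiv (Subgroup.subgroupOfEquivOfLe hRT).symm
    haveI hmapn : (Rt.map (QuotientGroup.mk' Qt)).Normal :=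
      hRtn.map _ (QuotientGroup.mk'_surjective Qt)
    have hmapp : IsPGroup p (Rt.map (QuotientGroup.mk' Qt)) := hRtp.map _
    have hbot := eq_bot_of_full p ⟨χb, hχb⟩ hfull (Rt.map (QuotientGroup.mk' Qt)) hmapp
    intro r hr
    have h1 : (⟨r, hRT hr⟩ : T) ∈ Rt := by
      rw [hRt, Subgroup.mem_subgroupOf]
      exact hr
    have h2 : QuotientGroup.mk' Qt ⟨r, hRT hr⟩ ∈ Rt.map (QuotientGroup.mk' Qt) :=
      Subgroup.mem_map_of_mem _ h1
    rw [hbot, Subgroup.mem_bot, QuotientGroup.mk'_apply, QuotientGroup.eq_one_iff, hQtmem] at h2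
    exact h2

end Cfsg.Agent.S4694
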