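import Cfsg.Statements.S4706
import Cfsg.Agent.Lib.Helper7.PrD12
import Cfsg.Agent.Lib.Helper7.PrD13

set_option autoImplicit false
open Cfsg

namespace Cfsg.Agent.S4706

/-- Let p > 2 be a prime and G a permutation group on p letters whose Sylow p-subgroup P has normalizer of order 2p. Then either P is normal in G, or p − 1 = 2^a for some a and G is isomorphic to SL(2, 2^a). -/
theorem result {α : Type*} [Fintype α] [DecidableEq α] {p : ℕ} [Fact p.Prime] (hp : 2 < p) (hα : Fintype.card α = p) (G : Subgroup (Equiv.Perm α)) (P : Sylow p G) (hN : Nat.card (Subgroup.normalizer ((P : Subgroup G) : Set G)) = 2 * p) : (P : Subgroup G).Normal ∨ ∃ (a : ℕ) (F : Type) (_ : Field F) (_ : Fintype F), p = 2 ^ a + 1 ∧ Fintype.card F = 2 ^ a ∧ Nonempty (G ≃* Matrix.SpecialLinearGroup (Fin 2) F) := by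
  have hprime : p.Prime := Fact.out
  have hdvd : p ∣ Nat.card G := by
    have h1 : Nat.card (Subgroup.normalizer ((P : Subgroup G) : Set G)) ∣ Nat.card G :=
      Subgroup.card_subgroup_dvd_card _
    rw [hN] at h1
    exact (Dvd.intro_left 2 rfl).trans h1
  by_cases h5 : 5 ≤ p
  · by_cases hPn : (P : Subgroup G).Normal
    · left; exact hPn
    · right
      rcases Cfsg.Agent.Lib.Helper7.PrD.perm_main h5 hα G P hN with h | ⟨h3, hsharp⟩
      · exact absurd h hPn
      · exact Cfsg.Agent.Lib.Helper7.PrD.perm_final h5 hα G P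
          (Cfsg.Agent.Lib.Helper7.PrD.card_sylow_eq hα G P hdvd) hPn h3 hsharp
  · left
    have hp3 : p = 3 := by
      have h4 : p ≠ 4 := by
        intro h
        rw [h] at hprime
        norm_num at hprime
      omega
    subst hp3
    have h1 : Nat.card G ∣ Nat.card (Equiv.Perm α) := Subgroup.card_subgroup_dvd_card _
    rw [Nat.card_eq_fintype_card (α := Equiv.Perm α), Fintype.card_perm, hα] at h1
    have h2 : Nat.card G ≤ 6 := Nat.le_of_dvd (by norm_num) h1
    have h3 : Nat.card (Subgroup.normalizer ((P : Subgroup G) : Set G)) ≤ Nat.card G :=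
      Nat.le_of_dvd Nat.card_pos (Subgroup.card_subgroup_dvd_card _)
    have h4 : Nat.card (Subgroup.normalizer ((P : Subgroup G) : Set G)) = Nat.card G := by
      rw [hN] at h3 ⊢
      omega
    rw [Subgroup.card_eq_iff_eq_top] at h4
    exact Subgroup.normalizer_eq_top_iff.mp h4

end Cfsg.Agent.S4706
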