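import Mathlib
import Cfsg.Statements.S4708
import Cfsg.Agent.Lib.helper3.PrincNormal
import Cfsg.Agent.Lib.helper3.RankOne2
import Cfsg.Agent.Lib.helper3.Irr5

set_option autoImplicit false
open Cfsg

namespace Cfsg.Agent.S4708

set_option linter.style.haveILetI false

open Cfsg Cfsg.Agent.Lib.helper3.Block Cfsg.Agent.Lib.helper3.LocalM Cfsg.Agent.Lib.helper3.Irr Cfsg.Agent.Lib.helper3.CharBasic Cfsg.Agent.Lib.helper3.IndFun

/-- Let p be a prime, M a maximal ideal of the algebraic integers containing p, G a finite group and H a normal subgroup. Write λ(X) for the sum of the squares of the degrees of the irreducible characters in the principal p-block of a group X. Then λ(H) ≤ λ(G) ≤ [G : H]·λ(H). -/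
theorem result {G : Type*} [Group G] [Finite G] (p : ℕ) [Fact p.Prime] (M : Ideal Cfsg.AlgInt) (hM : Cfsg.IsPModular p M) (H : Subgroup G) [H.Normal] : (∑ᶠ θ ∈ Cfsg.principalBlock M H, Cfsg.charDegree (θ : H → ℂ) ^ 2) ≤ (∑ᶠ χ ∈ Cfsg.principalBlock M G, Cfsg.charDegree (χ : G → ℂ) ^ 2) ∧ (∑ᶠ χ ∈ Cfsg.principalBlock M G, Cfsg.charDegree (χ : G → ℂ) ^ 2) ≤ H.index * ∑ᶠ θ ∈ Cfsg.principalBlock M H, Cfsg.charDegree (θ : H → ℂ) ^ 2 := by
  classical
  haveI : Fintype G := Fintype.ofFinite G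
  haveI : Fintype H := Fintype.ofFinite H
  haveI hMp := isPrime_of_isPModular hM
  -- multiplicities
  have hnat : ∀ (χ : IrrCharacter G) (θ : IrrCharacter H), ∃ n : ℕ,
      classInner (fun n : H => (χ : G → ℂ) n) (θ : H → ℂ) = n := fun χ θ =>
    exists_nat_classInner_of_isCharacter
      (isCharacter_restrict (isCharacter_of_isIrrCharacter χ.2) H) θ
  choose m hm using hnat
  obtain ⟨d, hd⟩ : ∃ d : IrrCharacter G → ℕ, d = fun χ : IrrCharacter G => charDegree (χ : G → ℂ) := ⟨_, rfl⟩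
  obtain ⟨e, he⟩ : ∃ e : IrrCharacter H → ℕ, e = fun θ : IrrCharacter H => charDegree (θ : H → ℂ) := ⟨_, rfl⟩
  have hdapp : ∀ χ : IrrCharacter G, (χ : G → ℂ) 1 = (d χ : ℂ) := by
    intro χ
    rw [hd]
    exact apply_one_eq_charDegree χ
  have heapp : ∀ θ : IrrCharacter H, (θ : H → ℂ) 1 = (e θ : ℂ) := by
    intro θ
    rw [he]
    exact apply_one_eq_charDegree θ
  have hF1 : ∀ χ : IrrCharacter G, d χ = ∑ θ : IrrCharacter H, m χ θ * e θ := by
    intro χ
    have h1 := isCharacter_eq_sum_classInner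
      (isCharacter_restrict (isCharacter_of_isIrrCharacter χ.2) H)
    have h2 := congrFun h1 1
    simp only [Finset.sum_apply, Pi.smul_apply, smul_eq_mul] at h2
    rw [OneMemClass.coe_one, hdapp] at h2
    have h3 : ((d χ : ℕ) : ℂ) = ((∑ θ : IrrCharacter H, m χ θ * e θ : ℕ) : ℂ) := by
      rw [h2]
      push_cast
      apply Finset.sum_congr rfl
      intro θ _
      rw [hm, heapp]
    exact_mod_cast h3
  have hF2 : ∀ θ : IrrCharacter H, H.index * e θ = ∑ χ : IrrCharacter G, m χ θ * d χ := by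
    intro θ
    have h1 := classFunction_eq_sum (indFun H (θ : H → ℂ)) (indFun_isClassFunction H _)
    have h2 := congrFun h1 1
    simp only [Finset.sum_apply, Pi.smul_apply, smul_eq_mul] at h2
    rw [indFun_apply_one, heapp] at h2
    have h3 : ((H.index * e θ : ℕ) : ℂ) = ((∑ χ : IrrCharacter G, m χ θ * d χ : ℕ) : ℂ) := by
      push_cast
      rw [h2]
      apply Finset.sum_congr rfl
      intro χ _
      rw [frobenius_reciprocity H _ _
        (isClassFunction_of_isCharacter (isCharacter_of_isIrrCharacter χ.2)),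
        ← classInner_conj_symm, hm, map_natCast, hdapp]
    exact_mod_cast h3
  have hA : ∀ χ ∈ principalBlock M G, ∀ θ : IrrCharacter H, m χ θ ≠ 0 →
      θ ∈ principalBlock M H := by
    intro χ hχ θ hne
    apply constituent_mem_principalBlock hM H χ hχ θ
    rw [hm]
    exact_mod_cast hne
  have hB : ∀ θ ∈ principalBlock M H, ∃ χ ∈ principalBlock M G, m χ θ ≠ 0 := by
    intro θ hθ
    obtain ⟨χ, hχ, hne⟩ := exists_over_mem_principalBlock hM H θ hθ
    refine ⟨χ, hχ, ?_⟩
    intro h0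
    apply hne
    rw [hm, h0, Nat.cast_zero]
  rw [finsum_mem_eq_sum_filter_irr, finsum_mem_eq_sum_filter_irr]
  obtain ⟨FB, hFB⟩ : ∃ FB : Finset (IrrCharacter G),
    FB = Finset.univ.filter (fun χ : IrrCharacter G => χ ∈ principalBlock M G) := ⟨_, rfl⟩
  obtain ⟨Fb, hFb⟩ : ∃ Fb : Finset (IrrCharacter H),
    Fb = Finset.univ.filter (fun θ : IrrCharacter H => θ ∈ principalBlock M H) := ⟨_, rfl⟩
  have hFBmem : ∀ χ, χ ∈ FB ↔ χ ∈ principalBlock M G := by
    intro χ
    rw [hFB, Finset.mem_filter]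
    simp
  have hFbmem : ∀ θ, θ ∈ Fb ↔ θ ∈ principalBlock M H := by
    intro θ
    rw [hFb, Finset.mem_filter]
    simp
  rw [← hFB, ← hFb]
  show ∑ θ ∈ Fb, (fun θ : IrrCharacter H => charDegree (θ : H → ℂ)) θ ^ 2
      ≤ ∑ χ ∈ FB, (fun χ : IrrCharacter G => charDegree (χ : G → ℂ)) χ ^ 2 ∧
    ∑ χ ∈ FB, (fun χ : IrrCharacter G => charDegree (χ : G → ℂ)) χ ^ 2
      ≤ H.index * ∑ θ ∈ Fb, (fun θ : IrrCharacter H => charDegree (θ : H → ℂ)) θ ^ 2
  rw [← hd, ← he]
  constructor
  · -- lower bound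
    have hchoice : ∀ θ : IrrCharacter H, ∃ χ : IrrCharacter G,
        θ ∈ Fb → (χ ∈ FB ∧ m χ θ ≠ 0) := by
      intro θ
      by_cases hθ : θ ∈ Fb
      · obtain ⟨χ, hχ, hne⟩ := hB θ ((hFbmem θ).mp hθ)
        exact ⟨χ, fun _ => ⟨(hFBmem χ).mpr hχ, hne⟩⟩
      · exact ⟨Cfsg.Agent.Lib.helper3.PrincOnly.one G, fun h => absurd h hθ⟩
    choose c hc using hchoice
    rw [← Finset.sum_fiberwise_of_maps_to (s := Fb) (t := FB) (g := c)
      (fun θ hθ => (hc θ hθ).1)]
    apply Finset.sum_le_sum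
    intro χ _
    calc ∑ θ ∈ Fb with c θ = χ, e θ ^ 2
        ≤ ∑ θ ∈ Fb with c θ = χ, (m χ θ * e θ) ^ 2 := by
          apply Finset.sum_le_sum
          intro θ hθ
          rw [Finset.mem_filter] at hθ
          have h1 : m χ θ ≠ 0 := by
            have := (hc θ hθ.1).2
            rwa [hθ.2] at this
          have h2 : 1 ≤ m χ θ := Nat.one_le_iff_ne_zero.mpr h1
          apply Nat.pow_le_pow_left
          calc e θ = 1 * e θ := (one_mul _).symm
            _ ≤ m χ θ * e θ := Nat.mul_le_mul_right _ h2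
      _ ≤ ∑ θ : IrrCharacter H, (m χ θ * e θ) ^ 2 := by
          apply Finset.sum_le_sum_of_subset
          exact Finset.subset_univ _
      _ ≤ (∑ θ : IrrCharacter H, m χ θ * e θ) ^ 2 :=
          Finset.sum_sq_le_sq_sum_of_nonneg (fun _ _ => Nat.zero_le _)
      _ = d χ ^ 2 := by rw [← hF1]
  · -- upper bound
    calc ∑ χ ∈ FB, d χ ^ 2
        = ∑ χ ∈ FB, ∑ θ ∈ Fb, d χ * (m χ θ * e θ) := by
          apply Finset.sum_congr rfl
          intro χ hχ
          rw [sq]
          have h1 : d χ * d χ = d χ * ∑ θ : IrrCharacter H, m χ θ * e θ := by rw [← hF1 χ]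
          rw [h1, Finset.mul_sum]
          symm
          apply Finset.sum_subset (Finset.subset_univ _)
          intro θ _ hθ
          have : m χ θ = 0 := by
            by_contra hne
            exact hθ ((hFbmem θ).mpr (hA χ ((hFBmem χ).mp hχ) θ hne))
          rw [this, zero_mul, mul_zero]
      _ = ∑ θ ∈ Fb, ∑ χ ∈ FB, d χ * (m χ θ * e θ) := Finset.sum_comm
      _ ≤ ∑ θ ∈ Fb, ∑ χ : IrrCharacter G, d χ * (m χ θ * e θ) := by
          apply Finset.sum_le_sum
          intro θ _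
          apply Finset.sum_le_sum_of_subset
          exact Finset.subset_univ _
      _ = ∑ θ ∈ Fb, H.index * e θ ^ 2 := by
          apply Finset.sum_congr rfl
          intro θ _
          have : ∀ χ : IrrCharacter G, d χ * (m χ θ * e θ) = e θ * (m χ θ * d χ) := by
            intro χ
            ring
          simp only [this]
          rw [← Finset.mul_sum, ← hF2]
          ring
      _ = H.index * ∑ θ ∈ Fb, e θ ^ 2 := by rw [Finset.mul_sum]


end Cfsg.Agent.S4708
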