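import Mathlib
import Cfsg.Statements.S4714
import Cfsg.Agent.Lib.helper3.CProd8

set_option autoImplicit false
open Cfsg

namespace Cfsg.Agent.S4714

set_option linter.style.haveILetI false

open Cfsg Cfsg.Agent.Lib.helper3.Block Cfsg.Agent.Lib.helper3.LocalM Cfsg.Agent.Lib.helper3.Irr Cfsg.Agent.Lib.helper3.CharBasic

/-- Let p be a prime, M a maximal ideal of the algebraic integers containing p, D a p-subgroup of the finite group G with G = D·C_G(D), and B a p-block with defect group D. Let χ be a member of B having D in its kernel (there is exactly one, the canonical character of B). Then the irreducible characters in B are exactly the functions θ on G for which there is an irreducible character ζ of D such that θ(yx) = ζ(y)χ(x) whenever y ∈ D, x has order prime to p and x commutes with y, and θ(z) = 0 whenever the p-part of z does not lie in D. -/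
theorem result {G : Type*} [Group G] [Finite G] (p : ℕ) [Fact p.Prime] (M : Ideal Cfsg.AlgInt) (hM : Cfsg.IsPModular p M) (D : Subgroup G) (hD : IsPGroup p D) (hG : D ⊔ Subgroup.centralizer (D : Set G) = ⊤) (B : Set (Cfsg.IrrCharacter G)) (hB : Cfsg.IsPBlock M B) (hBD : Cfsg.IsDefectGroup p M B D) (χ : Cfsg.IrrCharacter G) (hχ : χ ∈ B) (hχD : ∀ y ∈ D, (χ : G → ℂ) y = (χ : G → ℂ) 1) : (∀ θ : Cfsg.IrrCharacter G, θ ∈ B ↔ ∃ ζ : Cfsg.IrrCharacter D, (∀ (y : D) (x : G), ¬ p ∣ orderOf x → Commute (y : G) x → (θ : G → ℂ) ((y : G) * x) = (ζ : D → ℂ) y * (χ : G → ℂ) x) ∧ (∀ z : G, (∀ y : G, Cfsg.IsPPart p z y → y ∉ D) → (θ : G → ℂ) z = 0)) ∧ ∀ ζ : Cfsg.IrrCharacter D, ∃ θ ∈ B, (∀ (y : D) (x : G), ¬ p ∣ orderOf x → Commute (y : G) x → (θ : G → ℂ) ((y : G) * x) = (ζ : D → ℂ) y * (χ : G → ℂ) x) ∧ (∀ z : G, (∀ y : G, Cfsg.IsPPart p z y → y ∉ D) → (θ : G → ℂ) z = 0) := by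
  classical
  haveI hMp := isPrime_of_isPModular hM
  have hMtop : M ≠ ⊤ := hMp.ne_top
  letI : Fintype G := Fintype.ofFinite G
  letI : Fintype D := Fintype.ofFinite _
  letI : Fintype ↥(Subgroup.centralizer (D : Set G)) := Fintype.ofFinite _
  obtain ⟨θ₀, hθ₀B, ζ₀, ψ₀, hθ₀, hζ₀, hker, hdeg, hdegψ, hmem⟩ :=
    cprod_structure hM D hD hG B hB hBD
  have hψ₀b := (hmem θ₀ ζ₀ ψ₀ hθ₀).mp hθ₀B
  -- `χ` is the canonical character
  have hχeq : χ = θ₀ := by
    obtain ⟨ζ, ψ, hθ⟩ := exists_prod_decomp D hG χ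
    have hζ := const_one_of_kernel D (χ : G → ℂ) ζ ψ hθ hχD
    have hζeq : ζ₀ = ζ := by
      apply Subtype.ext
      funext d
      rw [hζ d, hζ₀ d]
    rw [hζeq] at hθ₀
    have hψ := (hmem χ ζ ψ hθ).mp hχ
    exact (prod_eq_of_same_factor hM D hD hG ψ₀ hdegψ χ θ₀ ζ ψ ψ₀ hψ hψ₀b hθ hθ₀).1
  have hχC : ∀ (x : G) (hx : x ∈ Subgroup.centralizer (D : Set G)),
      (χ : G → ℂ) x = (ψ₀ : ↥(Subgroup.centralizer (D : Set G)) → ℂ) ⟨x, hx⟩ := by
    intro x hx
    have := hθ₀ 1 ⟨x, hx⟩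
    rw [hζ₀ 1, OneMemClass.coe_one, one_mul, one_mul] at this
    rw [hχeq]
    exact this
  -- the two properties for product characters in the block
  have hprops : ∀ (θ : IrrCharacter G) (ζ : IrrCharacter D)
      (ψ : IrrCharacter ↥(Subgroup.centralizer (D : Set G))),
      ψ ∈ blockOf M (ψ₀ : ↥(Subgroup.centralizer (D : Set G)) → ℂ) →
      (∀ (d : D) (c : ↥(Subgroup.centralizer (D : Set G))),
        (θ : G → ℂ) ((d : G) * (c : G))
          = (ζ : D → ℂ) d * (ψ : ↥(Subgroup.centralizer (D : Set G)) → ℂ) c) →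
      (∀ (y : D) (x : G), ¬ p ∣ orderOf x → Commute (y : G) x →
        (θ : G → ℂ) ((y : G) * x) = (ζ : D → ℂ) y * (χ : G → ℂ) x)
      ∧ (∀ z : G, (∀ y : G, Cfsg.IsPPart p z y → y ∉ D) → (θ : G → ℂ) z = 0) := by
    intro θ ζ ψ hψ hθ
    obtain ⟨h1, h2⟩ := prod_values hM D hD hG ψ₀ hdegψ θ ζ ψ hψ hθ
    refine ⟨?_, h2⟩
    intro y x hx _
    have hxC := mem_centralizer_of_pregular D hD hG x hx
    rw [h1 y x hxC hx, hχC x hxC]
  refine ⟨?_, ?_⟩
  · intro θ
    constructor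
    · intro hθB
      obtain ⟨ζ, ψ, hθ⟩ := exists_prod_decomp D hG θ
      have hψ := (hmem θ ζ ψ hθ).mp hθB
      exact ⟨ζ, hprops θ ζ ψ hψ hθ⟩
    · rintro ⟨ζ, h1, -⟩
      obtain ⟨ζ', ψ', hθ⟩ := exists_prod_decomp D hG θ
      apply (hmem θ ζ' ψ' hθ).mpr
      have hψ₀1 := apply_one_ne_zero ψ₀.2
      have hψ'1 := apply_one_ne_zero ψ'.2
      have hζ1 := apply_one_ne_zero ζ.2
      -- values at `p`-regular elements of the centralizer
      have hval : ∀ (y : D) (g : ↥(Subgroup.centralizer (D : Set G))), ¬ p ∣ orderOf g →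
          (ζ' : D → ℂ) y * (ψ' : ↥(Subgroup.centralizer (D : Set G)) → ℂ) g
            = (ζ : D → ℂ) y * (ψ₀ : ↥(Subgroup.centralizer (D : Set G)) → ℂ) g := by
        intro y g hg
        have hg' : ¬ p ∣ orderOf (g : G) := by
          rw [Subgroup.orderOf_coe]
          exact hg
        have e1 := h1 y (g : G) hg' ((Subgroup.mem_centralizer_iff.mp g.2) y y.2)
        rw [hθ y g, hχC (g : G) g.2] at e1
        exact e1
      have h1reg : ¬ p ∣ orderOf (1 : ↥(Subgroup.centralizer (D : Set G))) := by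
        rw [orderOf_one]
        exact (Fact.out : p.Prime).not_dvd_one
      have hζeq : ζ' = ζ := by
        by_contra hne
        have h0 := irr_classInner_eq_zero ζ'.2 ζ.2 (fun h => hne (Subtype.ext h))
        have h2 : (ζ' : D → ℂ) = ((ψ₀ : ↥(Subgroup.centralizer (D : Set G)) → ℂ) 1
            / (ψ' : ↥(Subgroup.centralizer (D : Set G)) → ℂ) 1) • (ζ : D → ℂ) := by
          funext d
          rw [Pi.smul_apply, smul_eq_mul]
          have := hval d 1 h1reg
          field_simp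
          rw [this]
          ring
        rw [h2, classInner_smul_left, irr_classInner_self ζ.2, mul_one] at h0
        exact div_ne_zero hψ₀1 hψ'1 h0
      rw [hζeq] at hval
      have hψeq : ∀ g : ↥(Subgroup.centralizer (D : Set G)), ¬ p ∣ orderOf g →
          (ψ' : ↥(Subgroup.centralizer (D : Set G)) → ℂ) g
            = (ψ₀ : ↥(Subgroup.centralizer (D : Set G)) → ℂ) g := by
        intro g hg
        exact mul_left_cancel₀ hζ1 (hval 1 g hg)
      show SameBlock M (ψ₀ : ↥(Subgroup.centralizer (D : Set G)) → ℂ)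
        (ψ' : ↥(Subgroup.centralizer (D : Set G)) → ℂ)
      apply sameBlock_of_pregular hM
      intro g hg
      unfold centralChar
      rw [hψeq g hg, hψeq 1 h1reg, sub_self]
      exact memLocalIdeal_zero hMtop
  · intro ζ
    obtain ⟨θ, ψ, hψb, hθ⟩ := exists_prod_in_block hM D hD hG ψ₀ ζ
    have hθB : θ ∈ B := (hmem θ ζ ψ hθ).mpr hψb
    exact ⟨θ, hθB, hprops θ ζ ψ hψb hθ⟩

end Cfsg.Agent.S4714
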