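import Mathlib
import Cfsg.Statements.S4717
import Cfsg.Agent.Lib.helper3.DeficiencyClass2
import Cfsg.Agent.Lib.helper3.PrincIdem3
import Cfsg.Agent.Lib.helper3.BlockMinMax3
import Cfsg.Agent.S0908

set_option autoImplicit false
open Cfsg

namespace Cfsg.Agent.S4717

set_option linter.style.haveILetI false

open Cfsg Cfsg.Agent.Lib.helper3.Block Cfsg.Agent.Lib.helper3.LocalM Cfsg.Agent.Lib.helper3.Irr Cfsg.Agent.Lib.helper3.CharBasic

/-- Let p be a prime, M a maximal ideal of the algebraic integers containing p, and r a natural number; say that a finite group X has deficiency class r when X has no non-principal p-block of defect ≥ r. If G has deficiency class r then so does the centralizer of every p-element of G; conversely, if r > 0 and the centralizer of every element of order p has deficiency class r, then G has deficiency class r. -/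
theorem result {G : Type*} [Group G] [Finite G] (p : ℕ) [Fact p.Prime] (M : Ideal Cfsg.AlgInt) (hM : Cfsg.IsPModular p M) (r : ℕ) : ((∀ B' : Set (Cfsg.IrrCharacter G), Cfsg.IsPBlock M B' → B' ≠ Cfsg.principalBlock M G → Cfsg.blockDefect p B' < r) → ∀ y : G, (∃ k : ℕ, orderOf y = p ^ k) → (∀ B' : Set (Cfsg.IrrCharacter ↥(Subgroup.centralizer ({y} : Set G))), Cfsg.IsPBlock M B' → B' ≠ Cfsg.principalBlock M ↥(Subgroup.centralizer ({y} : Set G)) → Cfsg.blockDefect p B' < r)) ∧ (0 < r → (∀ y : G, orderOf y = p → (∀ B' : Set (Cfsg.IrrCharacter ↥(Subgroup.centralizer ({y} : Set G))), Cfsg.IsPBlock M B' → B' ≠ Cfsg.principalBlock M ↥(Subgroup.centralizer ({y} : Set G)) → Cfsg.blockDefect p B' < r)) → (∀ B' : Set (Cfsg.IrrCharacter G), Cfsg.IsPBlock M B' → B' ≠ Cfsg.principalBlock M G → Cfsg.blockDefect p B' < r)) := by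
  classical
  haveI : Fintype G := Fintype.ofFinite G
  haveI hMp := isPrime_of_isPModular hM
  have hMtop : M ≠ ⊤ := hM.2.1.ne_top
  have hp : p.Prime := Fact.out
  constructor
  · -- forward
    intro hG y hy b hb hbne
    obtain ⟨k, hk⟩ := hy
    obtain ⟨B, hind⟩ := inducedBlockDefined_centralizer hM y k hk b hb
    have hBne : B ≠ principalBlock M G := by
      intro h
      exact hbne ((third_main hM _ b B hind).mp h)
    have hlt := hG B hind.2.1 hBne
    -- a defect group of b
    obtain ⟨g, hg⟩ := exists_defectClass hM b hb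
    obtain ⟨P⟩ : Nonempty (Sylow p (Subgroup.centralizer
      ({g} : Set (Subgroup.centralizer ({y} : Set G))))) := inferInstance
    have hD : IsDefectGroup p M b ((P : Subgroup (Subgroup.centralizer
        ({g} : Set (Subgroup.centralizer ({y} : Set G))))).map
        (Subgroup.centralizer ({g} : Set (Subgroup.centralizer ({y} : Set G)))).subtype) :=
      ⟨g, hg, P, rfl⟩
    obtain ⟨E, hE, hle⟩ := exists_defectGroup_ge_of_induced hM _ b B hind _ hD
    have h1 := Cfsg.Agent.S0908.result p M hM b hb _ hD
    have h2 := Cfsg.Agent.S0908.result p M hM B hind.2.1 E hE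
    have h3 : p ^ blockDefect p b ∣ p ^ blockDefect p B := by
      rw [← h1, ← h2, ← Subgroup.card_map_of_injective
        (Subgroup.subtype_injective (Subgroup.centralizer ({y} : Set G)))]
      exact Subgroup.card_dvd_of_le hle
    have h4 : blockDefect p b ≤ blockDefect p B :=
      (Nat.pow_dvd_pow_iff_le_right hp.one_lt).mp h3
    omega
  · -- converse
    intro hr hC B hB hBne
    by_contra hge
    rw [not_lt] at hge
    obtain ⟨g₀, hg₀⟩ := exists_defectClass hM B hB
    obtain ⟨P⟩ : Nonempty (Sylow p (Subgroup.centralizer ({g₀} : Set G))) := inferInstance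
    obtain ⟨D, hDdef⟩ : ∃ D : Subgroup G, D = (P : Subgroup (Subgroup.centralizer
      ({g₀} : Set G))).map (Subgroup.centralizer ({g₀} : Set G)).subtype := ⟨_, rfl⟩
    have hD : IsDefectGroup p M B D := ⟨g₀, hg₀, P, hDdef⟩
    have hDcard := Cfsg.Agent.S0908.result p M hM B hB D hD
    have hDp : IsPGroup p D := IsPGroup.of_card hDcard
    have hDnt : Nontrivial D := by
      rw [← Finite.one_lt_card_iff_nontrivial, hDcard]
      exact Nat.one_lt_pow (by omega) hp.one_lt
    have hZnt : Nontrivial (Subgroup.center D) := hDp.center_nontrivial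
    have hZp : IsPGroup p (Subgroup.center D) := hDp.to_subgroup _
    have hpZ : p ∣ Nat.card (Subgroup.center D) := by
      obtain ⟨n, hn⟩ := IsPGroup.iff_card.mp hZp
      have hn0 : n ≠ 0 := by
        rintro rfl
        rw [pow_zero] at hn
        have := Finite.one_lt_card_iff_nontrivial.mpr hZnt
        omega
      rw [hn]
      exact dvd_pow_self p hn0
    obtain ⟨z, hz⟩ := exists_prime_orderOf_dvd_card' p hpZ
    obtain ⟨y, hydef⟩ : ∃ y : G, y = ((z : D) : G) := ⟨_, rfl⟩
    have hyord : orderOf y = p := by
      rw [hydef, Subgroup.orderOf_coe, Subgroup.orderOf_coe, hz]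
    have hyD : y ∈ D := by
      rw [hydef]
      exact (z : D).2
    have hyZ : ∀ d ∈ D, d * y = y * d := by
      intro d hd
      have h1 := Subgroup.mem_center_iff.mp z.2 ⟨d, hd⟩
      have h2 := congrArg (fun t : D => (t : G)) h1
      rw [hydef]
      exact h2
    obtain ⟨b, hind, hdef⟩ := exists_induced_defect_ge hM B hB D hD y hyD hyZ 1
      (by rw [hyord, pow_one])
    have hbne : b ≠ principalBlock M (Subgroup.centralizer ({y} : Set G)) := by
      intro h
      exact hBne ((third_main hM _ b B hind).mpr h)
    have := hC y hyord b hind.1 hbne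
    omega


end Cfsg.Agent.S4717
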