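import Mathlib
import Cfsg.Statements.S4718
import Cfsg.Agent.Lib.helper3.Landau
import Cfsg.Agent.Lib.helper3.BlockCount
import Cfsg.Agent.Lib.helper3.Irr7
import Cfsg.Agent.Lib.helper3.Irr11

set_option autoImplicit false
universe u
open Cfsg

namespace Cfsg.Agent.S4718

set_option linter.style.haveILetI false

open Cfsg Cfsg.Agent.Lib.helper3.Block Cfsg.Agent.Lib.helper3.LocalM Cfsg.Agent.Lib.helper3.Irr Cfsg.Agent.Lib.helper3.CharBasic

/-- Let p be a prime and a a natural number. There is a bound N such that every finite group whose Sylow p-subgroups have order p^a and whose only p-block (relative to a maximal ideal of the algebraic integers containing p) is the principal block has order at most N. -/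
theorem result (p : ℕ) [Fact p.Prime] (a : ℕ) : ∃ N : ℕ, ∀ (G : Type u) [Group G] [Finite G] (M : Ideal Cfsg.AlgInt), Cfsg.IsPModular p M → (Nat.card G).factorization p = a → (∀ B : Set (Cfsg.IrrCharacter G), Cfsg.IsPBlock M B → B = Cfsg.principalBlock M G) → Nat.card G ≤ N := by
  classical
  obtain ⟨N, hN⟩ := Cfsg.Agent.Lib.helper3.Landau.exists_bound_card_of_conjClasses.{u} (p ^ (2 * a))
  refine ⟨N, ?_⟩
  intro G _ _ M hM ha hall
  haveI : Fintype G := Fintype.ofFinite G
  haveI hMp := isPrime_of_isPModular hM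
  have hMtop : M ≠ ⊤ := hM.2.1.ne_top
  apply hN G
  rw [← card_irr_eq_card_conjClasses, Nat.card_eq_fintype_card, ← Finset.card_univ, ← ha]
  obtain ⟨χ₀⟩ : Nonempty (Cfsg.IrrCharacter G) := ⟨⟨fun _ => (1 : ℂ), isIrrCharacter_one⟩⟩
  have hB₀ : Cfsg.IsPBlock M (Cfsg.principalBlock M G) := by
    rw [← hall _ ⟨χ₀, rfl⟩]
    exact ⟨χ₀, rfl⟩
  apply card_block_le hM (Cfsg.principalBlock M G) hB₀
  intro χ _
  rw [← hall _ ⟨χ, rfl⟩]
  exact sameBlock_refl hMtop _


end Cfsg.Agent.S4718
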