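import Cfsg.Statements.S4721
import Cfsg.Agent.Lib.Helper5.Leon11

set_option autoImplicit false
open Cfsg

namespace Cfsg.Agent.S4721

/-- Let p be a prime, M a maximal ideal of the algebraic integers containing p, and G a finite group with a nontrivial abelian Sylow p-subgroup P, N = N_G(P), C = C_G(P), such that N/C is cyclic of order 3, #P > 4, and C_G(y) ∩ N = C for every non-identity y ∈ P. Then the principal p-block is the disjoint union of a set X of exactly 3 characters containing the principal character and a set Y of (#P − 1)/3 characters, with signs a_χ = ±1 (χ ∈ X, a = 1 at the principal character) and δ = ±1 such that every χ ∈ X takes the value a_χ at every element whose p-part is a non-identity element of P, and there is a map ζ from the non-principal linear characters of P onto Y, constant on N-conjugacy classes, with ζ_ψ(z) = δ·Σ ψ'(y) over the N-orbit of ψ, for z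 with p-part y ≠ 1 in P. If moreover G has an involution lying in no proper normal subgroup of G, then exactly two of the three numbers −δ and a_χ (χ ∈ X non-principal) equal −1, and the product of the degrees of the two non-principal members of X and of any member of Y is a perfect square. -/
theorem result {G : Type*} [Group G] [Finite G] (p : ℕ) [Fact p.Prime] (M : Ideal Cfsg.AlgInt) (hM : Cfsg.IsPModular p M) (P : Sylow p G) (hab : IsMulCommutative P) (hP1 : Nat.card P ≠ 1) (hCN : (Subgroup.centralizer ((P : Subgroup G) : Set G)).relIndex (Subgroup.normalizer ((P : Subgroup G) : Set G)) = 3) (hcyc : ∃ g : G, g ∈ Subgroup.normalizer ((P : Subgroup G) : Set G) ∧ Subgroup.centralizer ((P : Subgroup G) : Set G) ⊔ Subgroup.zpowers g = Subgroup.normalizer ((P : Subgroup G) : Set G)) (hm2 : 3 + 1 < Nat.card P) (hfrob : ∀ y : G, y ∈ (P : Subgroup G) → y ≠ 1 → Subgroup.centralizer ({y}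 : Set G) ⊓ Subgroup.normalizer ((P : Subgroup G) : Set G) = Subgroup.centralizer ((P : Subgroup G) : Set G)) : ∃ (X Y : Set (Cfsg.IrrCharacter G)), Cfsg.principalBlock M G = X ∪ Y ∧ Disjoint X Y ∧ Nat.card X = 3 ∧ Nat.card Y = (Nat.card P - 1) / 3 ∧ (∃ χ₁ ∈ X, (χ₁ : G → ℂ) = fun _ => 1) ∧ ∃ (a : Cfsg.IrrCharacter G → ℤ) (δ : ℤ) (ζ : (↥(P : Subgroup G) →* ℂˣ) → Cfsg.IrrCharacter G), (δ = 1 ∨ δ = -1) ∧ (∀ χ ∈ X, (a χ = 1 ∨ a χ = -1) ∧ ∀ z y : G, Cfsg.IsPPart p z y → y ∈ (P : Subgroup G) → y ≠ 1 → (χ : G → ℂ) z = (a χ : ℂ)) ∧ (∀ ψ : ↥(P : Subgroup G) →* ℂˣ, ψ ≠ 1 → ζ ψ ∈ Y) ∧ (∀ η ∈ Y, ∃ ψ : ↥(P : Subgroup G) →* ℂˣ, ψ ≠ 1 ∧ ζ ψ = η) ∧ (∀ ψ ψ' : ↥(P : Subgroup G) →* ℂˣ, ψ ≠ 1 → (∃ n : G, n ∈ Subgroup.normalizer ((P : Subgroup G) : Set G) ∧ ∀ w w' : ↥(P : Subgroup G), (w' : G) = n * w * n⁻¹ → ψ' w' = ψ w) → ζ ψ' = ζ ψ) ∧ (∀ ψ : ↥(P : Subgroup G) →* ℂˣ, ψ ≠ 1 → ∀ (z : G) (y : ↥(P : Subgroup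 G)), Cfsg.IsPPart p z (y : G) → (y : G) ≠ 1 → (ζ ψ : G → ℂ) z = (δ : ℂ) * ∑ᶠ ψ' ∈ {ψ' : ↥(P : Subgroup G) →* ℂˣ | ∃ n : G, n ∈ Subgroup.normalizer ((P : Subgroup G) : Set G) ∧ ∀ w w' : ↥(P : Subgroup G), (w' : G) = n * w * n⁻¹ → ψ' w' = ψ w}, ((ψ' y : ℂˣ) : ℂ)) ∧ ((∃ t : G, orderOf t = 2 ∧ ∀ K : Subgroup G, K.Normal → t ∈ K → K = ⊤) → Nat.card {χ : Cfsg.IrrCharacter G // χ ∈ X ∧ (χ : G → ℂ) ≠ (fun _ => 1) ∧ a χ = -1} + (if δ = 1 then 1 else 0) = 2 ∧ ∀ η ∈ Y, IsSquare (Cfsg.charDegree (η : G → ℂ) * ∏ᶠ χ ∈ {χ : Cfsg.IrrCharacter G | χ ∈ X ∧ (χ : G → ℂ) ≠ fun _ => 1}, Cfsg.charDegree (χ : G → ℂ))) := by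
  classical
  letI : Fintype G := Fintype.ofFinite G
  obtain ⟨X, Y, hB, hdisj, hXc, hYc, hone, a, δ, ζ, hδ, hV, hζY, hζsurj, hζconst, hζval, hE, hL⟩ :=
    Cfsg.Agent.Lib.Helper5.Leon.part1 p M hM P hab hP1 hCN hcyc hm2 hfrob
  have hdata : Cfsg.Agent.Lib.Helper5.Leon.BData p M P X Y a δ ζ :=
    ⟨hB, hdisj, hXc, hYc, hone, hδ, hV, hζY, hζsurj, hζconst, hζval, hE, hL⟩
  refine ⟨X, Y, hB, hdisj, hXc, hYc, hone, a, δ, ζ, hδ, hV, hζY, hζsurj, hζconst, hζval, ?_⟩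
  rintro ⟨t, ht, htn⟩
  have hab' : ∀ a ∈ (P : Subgroup G), ∀ b ∈ (P : Subgroup G), a * b = b * a :=
    fun a ha b hb => congrArg Subtype.val (hab.is_comm.comm ⟨a, ha⟩ ⟨b, hb⟩)
  have hm2' : 4 < Nat.card (P : Subgroup G) := hm2
  obtain ⟨χ₁, hχ₁X, hχ₁⟩ := hone
  obtain ⟨χ₂, χ₃, h12, h13, h23, hX⟩ :=
    Cfsg.Agent.Lib.Helper5.Leon.exists_three X hXc χ₁ hχ₁X
  have key : ∀ η ∈ Y,
      ((if a χ₂ = -1 then 1 else 0) + (if a χ₃ = -1 then 1 else 0) + (if δ = 1 then 1 else 0) = 2)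
        ∧ IsSquare (Cfsg.charDegree (η : G → ℂ) * Cfsg.charDegree (χ₂ : G → ℂ)
          * Cfsg.charDegree (χ₃ : G → ℂ)) := by
    intro η hη
    by_cases hp2 : p = 2
    · subst hp2
      obtain ⟨g, hg⟩ := Cfsg.Agent.Lib.Helper5.Leon.exists_conj_mem_sylow P t ht
      have ht' : orderOf (g * t * g⁻¹) = 2 := by
        have : g * t * g⁻¹ = MulAut.conj g t := by simp
        rw [this, MulEquiv.orderOf_eq, ht]
      have htn' : ∀ K : Subgroup G, K.Normal → g * t * g⁻¹ ∈ K → K = ⊤ := by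
        intro K hK hmem
        apply htn K hK
        have := hK.conj_mem _ hmem g⁻¹
        have e : g⁻¹ * (g * t * g⁻¹) * g⁻¹⁻¹ = t := by group
        rwa [e] at this
      exact Cfsg.Agent.Lib.Helper5.Leon.part2_two hM hab' hCN hfrob hm2' hdata χ₁ χ₂ χ₃ h12 h13
        h23 hX hχ₁ (g * t * g⁻¹) hg ht' htn' η hη
    · have hPne : (P : Subgroup G) ≠ ⊥ := by
        intro h
        apply hP1
        rw [h]
        exact Subgroup.card_bot
      obtain ⟨y, hy⟩ := (Subgroup.ne_bot_iff_exists_ne_one).mp hPne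
      exact Cfsg.Agent.Lib.Helper5.Leon.part2_odd hp2 hM hab' hCN hfrob hdata χ₁ χ₂ χ₃ h12 h13
        h23 hX hχ₁ y.2 (fun e => hy (Subtype.ext e)) t ht htn η hη
  have hYne : Nonempty Y := by
    by_contra hemp
    rw [not_nonempty_iff] at hemp
    have h0 : Nat.card Y = 0 := Nat.card_of_isEmpty
    rw [hYc] at h0
    have : 1 ≤ (Nat.card (P : Subgroup G) - 1) / 3 := by omega
    omega
  obtain ⟨⟨η₀, hη₀⟩⟩ := hYne
  have hQ₁ : ¬ ((χ₁ : G → ℂ) ≠ fun _ => 1) := fun h => h hχ₁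
  have hQ₂ : (χ₂ : G → ℂ) ≠ fun _ => 1 := by
    intro hh
    apply h12
    apply Subtype.ext
    rw [hχ₁, hh]
  have hQ₃ : (χ₃ : G → ℂ) ≠ fun _ => 1 := by
    intro hh
    apply h13
    apply Subtype.ext
    rw [hχ₁, hh]
  constructor
  · have hc := (key η₀ hη₀).1
    rw [Cfsg.Agent.Lib.Helper5.Leon.card_sub X χ₁ χ₂ χ₃ h23 hX
      (fun χ : Cfsg.IrrCharacter G => (χ : G → ℂ) ≠ fun _ => 1) (fun χ => a χ = -1) hQ₁ hQ₂ hQ₃]
    convert hc
  · intro η hη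
    have hs := (key η hη).2
    rw [Cfsg.Agent.Lib.Helper5.Leon.set_sub X χ₁ χ₂ χ₃ hX
      (fun χ : Cfsg.IrrCharacter G => (χ : G → ℂ) ≠ fun _ => 1) hQ₁ hQ₂ hQ₃,
      finprod_mem_pair h23, ← mul_assoc]
    exact hs

end Cfsg.Agent.S4721
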