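import Mathlib
import Cfsg.Statements.S4723
import Cfsg.Agent.H2.StableHeightZero
import Cfsg.Agent.Lib.helper3.BlockCover2
import Cfsg.Agent.Lib.helper3.IrrCongr
import Cfsg.Agent.Lib.helper3.Ito

set_option autoImplicit false
open Cfsg

namespace Cfsg.Agent.S4723

/-- Let p be a prime, M a maximal ideal of the algebraic integers containing p, H a normal subgroup of the finite group G and b a p-block of H. Let T be the stabilizer of b in G. Then b contains a character θ of height zero whose own stabilizer in G (the elements g with θ(g h g⁻¹) = θ(h) for all h ∈ H) has index prime to p in T, i.e. contains a Sylow p-subgroup of T. -/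
theorem result {G : Type*} [Group G] [Finite G] (p : ℕ) [Fact p.Prime] (M : Ideal Cfsg.AlgInt) (hM : Cfsg.IsPModular p M) (H : Subgroup G) [H.Normal] (b : Set (Cfsg.IrrCharacter ↥H)) (hb : Cfsg.IsPBlock M b) (T : Subgroup G) (hT : (∀ g : G, g ∈ T ↔ ∀ θ ∈ b, ∀ θ' : Cfsg.IrrCharacter ↥H, (∀ h h' : ↥H, (h' : G) = g * h * g⁻¹ → (θ' : ↥H → ℂ) h' = (θ : ↥H → ℂ) h) → θ' ∈ b)) : ∃ θ ∈ b, Cfsg.blockHeight p b (θ : ↥H → ℂ) = 0 ∧ ∃ S : Subgroup G, S ≤ T ∧ (∀ g : G, g ∈ S ↔ (g ∈ T ∧ ∀ h h' : ↥H, (h' : G) = g * h * g⁻¹ → (θ : ↥H → ℂ) h' = (θ : ↥H → ℂ) h)) ∧ ¬ p ∣ S.relIndex T := by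
  classical
  let _ : Fintype G := Fintype.ofFinite G
  have hMp := Cfsg.Agent.Lib.helper3.LocalM.isPrime_of_isPModular hM
  have hHn : H.Normal := inferInstance
  -- `H ≤ T`
  have hHT : H ≤ T := by
    intro h₀ hh₀
    rw [hT]
    intro θ hθ θ' hθ'
    have : θ' = θ := by
      apply Subtype.ext
      funext h'
      have h1 := hθ' (⟨h₀, hh₀⟩⁻¹ * h' * ⟨h₀, hh₀⟩) h' (by
        simp only [Subgroup.coe_mul, Subgroup.coe_inv]
        group)
      rw [h1]
      have h2 := Cfsg.Agent.Lib.helper3.Irr.isClassFunction_of_isCharacter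
        (Cfsg.Agent.Lib.helper3.Irr.isCharacter_of_isIrrCharacter θ.2) h'
          (⟨h₀, hh₀⟩⁻¹ : H)
      rw [inv_inv] at h2
      exact h2
    rw [this]
    exact hθ
  -- a Sylow subgroup of `T`
  obtain ⟨Sy₀⟩ : Nonempty (Sylow p T) := inferInstance
  obtain ⟨Sy, hSy⟩ : ∃ Sy : Subgroup G, Sy = (Sy₀ : Subgroup T).map T.subtype := ⟨_, rfl⟩
  have hSyT : Sy ≤ T := by
    rw [hSy]
    exact Subgroup.map_subtype_le _
  have hSyp : IsPGroup p Sy := by
    rw [hSy]
    exact Sy₀.2.map _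
  obtain ⟨J, hJ⟩ : ∃ J : Subgroup G, J = H ⊔ Sy := ⟨_, rfl⟩
  have hHJ : H ≤ J := by rw [hJ]; exact le_sup_left
  have hSyJ : Sy ≤ J := by rw [hJ]; exact le_sup_right
  have hJT : J ≤ T := by rw [hJ]; exact sup_le hHT hSyT
  have hNn : (H.subgroupOf J).Normal := Subgroup.normal_subgroupOf
  let _ : Fintype J := Fintype.ofFinite J
  let _ : Fintype (H.subgroupOf J) := Fintype.ofFinite _
  let _ : Fintype H := Fintype.ofFinite H
  obtain ⟨ι, hι⟩ : ∃ ι : H.subgroupOf J ≃* H, ι = Subgroup.subgroupOfEquivOfLe hHJ := ⟨_, rfl⟩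
  have hιcoe : ∀ k : H.subgroupOf J, ((ι k : H) : G) = ((k : J) : G) := by
    intro k
    rw [hι]
    rfl
  obtain ⟨c, hcdef⟩ : ∃ c : Set (Cfsg.IrrCharacter (H.subgroupOf J)),
      c = Cfsg.Agent.Lib.helper3.Block.irrCongr ι '' b := ⟨_, rfl⟩
  have hc : Cfsg.IsPBlock M c := by
    rw [hcdef]
    exact Cfsg.Agent.Lib.helper3.Block.isPBlock_image_irrCongr ι b hb
  have hidx : ∃ k : ℕ, (H.subgroupOf J).index = p ^ k := by
    have h1 : (H.subgroupOf J).index = H.relIndex Sy := by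
      show H.relIndex J = H.relIndex Sy
      rw [hJ, Subgroup.relIndex_sup_left]
    have h2 : H.relIndex Sy ∣ Nat.card Sy := Subgroup.relIndex_dvd_card H Sy
    obtain ⟨m, hm⟩ := IsPGroup.iff_card.mp hSyp
    rw [hm] at h2
    obtain ⟨k, -, hk⟩ := (Nat.dvd_prime_pow Fact.out).mp h2
    exact ⟨k, by rw [h1, hk]⟩
  have hst : ∀ x : J, Cfsg.StabilizesBlock (H.subgroupOf J) c x := by
    intro x
    refine ⟨?_, ?_⟩
    · rw [Subgroup.normalizer_eq_top]
      exact Subgroup.mem_top _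
    · intro χ hχ
      rw [hcdef] at hχ
      obtain ⟨θ₀, hθ₀, rfl⟩ := hχ
      have hxT : (x : G) ∈ T := hJT x.2
      obtain ⟨θ₁, hθ₁⟩ : ∃ θ₁ : Cfsg.IrrCharacter H,
          θ₁ = Cfsg.Agent.Lib.helper3.Block.conjIrr H (x : G)⁻¹ θ₀ := ⟨_, rfl⟩
      have hθ₁app : ∀ h' : H, (θ₁ : H → ℂ) h'
          = (θ₀ : H → ℂ) ⟨(x : G)⁻¹ * (h' : G) * (x : G)⁻¹⁻¹, hHn.conj_mem h' h'.2 _⟩ := by
        intro h'
        rw [hθ₁]
        rfl
      have hθ₁b : θ₁ ∈ b := by
        apply (hT (x : G)).mp hxT θ₀ hθ₀ θ₁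
        intro h h' hh'
        rw [hθ₁app]
        apply congrArg (θ₀ : H → ℂ)
        apply Subtype.ext
        simp only [hh']
        group
      refine ⟨Cfsg.Agent.Lib.helper3.Block.irrCongr ι θ₁, ?_, ?_⟩
      · rw [hcdef]
        exact ⟨θ₁, hθ₁b, rfl⟩
      · intro k k' hkk'
        rw [Cfsg.Agent.Lib.helper3.Block.irrCongr_apply,
          Cfsg.Agent.Lib.helper3.Block.irrCongr_apply, hθ₁app]
        apply congrArg (θ₀ : H → ℂ)
        apply Subtype.ext
        simp only [hιcoe]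
        have := congrArg (fun z : J => (z : G)) hkk'
        simp only [Subgroup.coe_mul, Subgroup.coe_inv] at this
        rw [this]
        group
  obtain ⟨θ', hθ'c, hht, hinv⟩ :=
    Cfsg.Agent.H2.StableHeightZero.exists_invariant_heightZero hM (H.subgroupOf J) hidx c hc hst
  rw [hcdef] at hθ'c
  obtain ⟨θ, hθb, rfl⟩ := hθ'c
  have hθinv : ∀ s ∈ J, ∀ h : H, (θ : H → ℂ) ⟨s * h * s⁻¹, hHn.conj_mem h h.2 s⟩ = (θ : H → ℂ) h := by
    intro s hs h
    have h1 := congrFun (hinv ⟨s, hs⟩) (ι.symm h)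
    unfold Cfsg.Agent.Lib.helper3.Irr.conjFun at h1
    rw [Cfsg.Agent.Lib.helper3.Block.irrCongr_apply,
      Cfsg.Agent.Lib.helper3.Block.irrCongr_apply, MulEquiv.apply_symm_apply] at h1
    rw [← h1]
    apply congrArg (θ : H → ℂ)
    apply Subtype.ext
    rw [hιcoe]
    simp only [Subgroup.coe_mul, Subgroup.coe_inv]
    rw [← hιcoe, MulEquiv.apply_symm_apply]
  refine ⟨θ, hθb, ?_, ?_⟩
  · unfold Cfsg.blockHeight at hht ⊢
    rw [Cfsg.Agent.Lib.helper3.Block.charDegree_irrCongr, hcdef, Set.image_image] at hht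
    simp only [Cfsg.Agent.Lib.helper3.Block.charDegree_irrCongr] at hht
    exact hht
  · refine ⟨Cfsg.Agent.Lib.helper3.Irr.inertia H (θ : H → ℂ) ⊓ T, inf_le_right, ?_, ?_⟩
    · intro g
      rw [Subgroup.mem_inf, Cfsg.Agent.Lib.helper3.Irr.mem_inertia_iff, and_comm]
      constructor
      · rintro ⟨hgT, hg⟩
        refine ⟨hgT, ?_⟩
        intro h h' hh'
        rw [← hg h]
        apply congrArg (θ : H → ℂ)
        exact Subtype.ext hh'
      · rintro ⟨hgT, hg⟩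
        exact ⟨hgT, fun h => hg h _ rfl⟩
    · have hSyS : Sy ≤ Cfsg.Agent.Lib.helper3.Irr.inertia H (θ : H → ℂ) ⊓ T := by
        refine le_inf ?_ hSyT
        intro s hs
        rw [Cfsg.Agent.Lib.helper3.Irr.mem_inertia_iff]
        exact hθinv s (hSyJ hs)
      have h1 := Subgroup.relIndex_dvd_of_le_left T hSyS
      have h2 : Sy.relIndex T = (Sy₀ : Subgroup T).index := by
        show (Sy.subgroupOf T).index = _
        rw [hSy]
        congr 1
        exact Subgroup.comap_map_eq_self_of_injective T.subtype_injective _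
      rw [h2] at h1
      intro hp
      exact Sy₀.not_dvd_index (hp.trans h1)

end Cfsg.Agent.S4723
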