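import Mathlib
import Cfsg.Statements.S4726
import Cfsg.Agent.H2.NestedDefect
import Cfsg.Agent.H2.InducedTrans
import Cfsg.Agent.H2.DefectTransport
import Cfsg.Agent.Lib.helper3.BlockIndDef
import Cfsg.Agent.Lib.helper3.ExtFirstMain2
import Cfsg.Agent.Lib.helper3.QuotDefect3

set_option autoImplicit false
open Cfsg

namespace Cfsg.Agent.S4726

/-- Let p be a prime, M a maximal ideal of the algebraic integers containing p, H a subgroup of the finite group G and b a p-block of H with defect group D₀ such that C_G(D₀) ≤ H. Then b induces a block of G, and for every block B of G induced by b there is a defect group D of B with Z(D) ≤ Z(D₀) ≤ D₀ ≤ D (as subgroups of G). In particular, if the defect groups of B are abelian then D₀ is a defect group of B. -/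
theorem result {G : Type*} [Group G] [Finite G] (p : ℕ) [Fact p.Prime] (M : Ideal Cfsg.AlgInt) (hM : Cfsg.IsPModular p M) (H : Subgroup G) (b : Set (Cfsg.IrrCharacter ↥H)) (hb : Cfsg.IsPBlock M b) (D₀ : Subgroup ↥H) (hD₀ : Cfsg.IsDefectGroup p M b D₀) (hC : Subgroup.centralizer ((D₀.map H.subtype : Subgroup G) : Set G) ≤ H) : Cfsg.InducedBlockDefined M H b ∧ ∀ B : Set (Cfsg.IrrCharacter G), Cfsg.IsInducedBlock M H b B → (∃ D : Subgroup G, Cfsg.IsDefectGroup p M B D ∧ (Subgroup.center ↥D).map D.subtype ≤ ((Subgroup.center ↥D₀).map D₀.subtype).map H.subtype ∧ ((Subgroup.center ↥D₀).map D₀.subtype).map H.subtype ≤ D₀.map H.subtype ∧ D₀.map H.subtype ≤ D) ∧ (∀ D : Subgroup G, Cfsg.IsDefectGroup p M B D → IsMulCommutative ↥D → Cfsg.IsDefectGroup p M B (D₀.map H.subtype)) := by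
  classical
  let _ : Fintype G := Fintype.ofFinite G
  have hMp := Cfsg.Agent.Lib.helper3.LocalM.isPrime_of_isPModular hM
  -- step 1: the block of `D₀ C_H(D₀)`
  obtain ⟨b₁, hdef₁, hind₁⟩ :=
    Cfsg.Agent.Lib.helper3.Block.exists_block_sup_centralizer hM b hb D₀ hD₀
  have hb₁ : Cfsg.IsPBlock M b₁ := hind₁.1
  obtain ⟨P, hPdef⟩ : ∃ P : Subgroup G, P = D₀.map H.subtype := ⟨_, rfl⟩
  rw [← hPdef] at hC ⊢
  have hPp : IsPGroup p P := by
    rw [hPdef]
    exact (Cfsg.Agent.Lib.helper3.Block.isPGroup_of_isDefectGroup hD₀).map _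
  have hmap : (D₀ ⊔ Subgroup.centralizer (D₀ : Set ↥H)).map H.subtype
      = P ⊔ Subgroup.centralizer (P : Set G) := by
    rw [Subgroup.map_sup, ← hPdef]
    congr 1
    ext z
    constructor
    · rintro ⟨y, hy, rfl⟩
      rw [Subgroup.mem_centralizer_iff]
      intro w hw
      rw [hPdef] at hw
      obtain ⟨w', hw', rfl⟩ := hw
      have := Subgroup.mem_centralizer_iff.mp hy w' hw'
      exact congrArg (fun t : ↥H => (t : G)) this
    · intro hz
      refine ⟨⟨z, hC hz⟩, ?_, rfl⟩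
      rw [SetLike.mem_coe, Subgroup.mem_centralizer_iff]
      intro w hw
      apply Subtype.ext
      have h4 : (w : G) ∈ P := by
        rw [hPdef]
        exact ⟨w, hw, rfl⟩
      exact Subgroup.mem_centralizer_iff.mp hz _ h4
  obtain ⟨ι, hι⟩ : ∃ ι : ↥(D₀ ⊔ Subgroup.centralizer (D₀ : Set ↥H)) ≃*
      ↥(P ⊔ Subgroup.centralizer (P : Set G)),
      ∀ m, ((ι m : ↥(P ⊔ Subgroup.centralizer (P : Set G))) : G) = ((m : ↥H) : G) :=
    ⟨(Subgroup.equivMapOfInjective _ _ (Subgroup.subtype_injective H)).trans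
      (MulEquiv.subgroupCongr hmap), fun m => rfl⟩
  have hb₀ : Cfsg.IsPBlock M (Cfsg.Agent.Lib.helper3.Block.irrCongr ι.symm '' b₁) :=
    Cfsg.Agent.Lib.helper3.Block.isPBlock_image_irrCongr _ b₁ hb₁
  have hdef₀ : Cfsg.IsDefectGroup p M (Cfsg.Agent.Lib.helper3.Block.irrCongr ι.symm '' b₁)
      (P.subgroupOf (P ⊔ Subgroup.centralizer (P : Set G))) := by
    have := Cfsg.Agent.H2.DefectTransport.isDefectGroup_image_irrCongr (M := M) (p := p)
      ι.symm b₁ _ hdef₁
    convert this using 1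
    ext x
    rw [Subgroup.mem_subgroupOf, Subgroup.mem_comap, Subgroup.mem_subgroupOf,
      SetLike.ext_iff.mp hPdef _]
    constructor
    · rintro ⟨y, hy, hyx⟩
      have h5 : ((ι.symm x : ↥(D₀ ⊔ Subgroup.centralizer (D₀ : Set ↥H))) : ↥H) = y := by
        apply Subtype.ext
        rw [← hι, MulEquiv.apply_symm_apply]
        exact hyx.symm
      show ((ι.symm x : ↥(D₀ ⊔ Subgroup.centralizer (D₀ : Set ↥H))) : ↥H) ∈ D₀
      rw [h5]
      exact hy
    · intro hx
      refine ⟨_, hx, ?_⟩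
      have := hι (ι.symm x)
      rw [MulEquiv.apply_symm_apply] at this
      exact this.symm
  have himg : Cfsg.Agent.Lib.helper3.Block.irrCongr ι ''
      (Cfsg.Agent.Lib.helper3.Block.irrCongr ι.symm '' b₁) = b₁ :=
    Cfsg.Agent.H2.NestedDefect.irrCongr_symm_image ι b₁
  have hind₁' : Cfsg.IsInducedBlock M (D₀ ⊔ Subgroup.centralizer (D₀ : Set ↥H))
      (Cfsg.Agent.Lib.helper3.Block.irrCongr ι ''
        (Cfsg.Agent.Lib.helper3.Block.irrCongr ι.symm '' b₁)) b := by
    rw [himg]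
    exact hind₁
  -- step 2: the induced block is defined
  obtain ⟨B', hB'⟩ := Cfsg.Agent.Lib.helper3.Block.inducedBlockDefined_of_centralizer_le hM P
    (P ⊔ Subgroup.centralizer (P : Set G)) hPp le_sup_left le_sup_right
    (sup_le Subgroup.le_normalizer (Subgroup.centralizer_le_normalizer _)) _ hb₀
  have hHB' : Cfsg.IsInducedBlock M H b B' :=
    Cfsg.Agent.H2.InducedTrans.isInducedBlock_of_trans (P ⊔ Subgroup.centralizer (P : Set G)) H _
      ι hι _ b B' hind₁' hB'
  refine ⟨⟨B', hHB'⟩, ?_⟩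
  intro B hB
  have hBblk : Cfsg.IsPBlock M B := hB.2.1
  have hKB : Cfsg.IsInducedBlock M (P ⊔ Subgroup.centralizer (P : Set G))
      (Cfsg.Agent.Lib.helper3.Block.irrCongr ι.symm '' b₁) B :=
    Cfsg.Agent.Lib.helper3.Block.isInducedBlock_trans (P ⊔ Subgroup.centralizer (P : Set G)) H _
      ι hι _ hb₀ b B hind₁' hB
  obtain ⟨D, hD, hPD, hZ⟩ := Cfsg.Agent.H2.NestedDefect.nested_aux hM B _ P rfl hPp _ hdef₀ hKB
  refine ⟨⟨D, hD, ?_, ?_, hPD⟩, ?_⟩
  · rintro z ⟨c, hc, rfl⟩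
    have hcomm : ∀ d ∈ D, d * (c : G) = (c : G) * d := by
      intro d hd
      have := Subgroup.mem_center_iff.mp hc ⟨d, hd⟩
      exact congrArg (fun t : ↥D => (t : G)) this
    have hzP : (c : G) ∈ P := hZ _ c.2 hcomm
    rw [hPdef] at hzP
    obtain ⟨d₀, hd₀, hd₀c⟩ := hzP
    refine ⟨d₀, ⟨⟨d₀, hd₀⟩, ?_, rfl⟩, hd₀c⟩
    rw [SetLike.mem_coe, Subgroup.mem_center_iff]
    intro u
    apply Subtype.ext
    apply Subtype.ext
    have huP : ((u : ↥H) : G) ∈ P := by
      rw [hPdef]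
      exact ⟨u, u.2, rfl⟩
    have := hcomm _ (hPD huP)
    rw [← hd₀c] at this
    exact this
  · rw [hPdef]
    exact Subgroup.map_mono (f := H.subtype) (Subgroup.map_subtype_le (Subgroup.center ↥D₀))
  · intro D' hD' hab
    obtain ⟨x, hx⟩ := Cfsg.Agent.Lib.helper3.Block.defectGroup_conj_eq hM hBblk hD hD'
    have hDP : D ≤ P := by
      intro z hz
      apply hZ z hz
      intro d hd
      rw [← hx] at hz hd
      obtain ⟨z', hz', rfl⟩ := hz
      obtain ⟨d', hd', rfl⟩ := hd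
      have h1 : (⟨d', hd'⟩ : ↥D') * ⟨z', hz'⟩ = ⟨z', hz'⟩ * ⟨d', hd'⟩ :=
        hab.is_comm.comm _ _
      have h2 : d' * z' = z' * d' := congrArg (fun t : ↥D' => (t : G)) h1
      simp only [MulEquiv.coe_toMonoidHom, MulAut.conj_apply]
      calc x * d' * x⁻¹ * (x * z' * x⁻¹) = x * (d' * z') * x⁻¹ := by group
        _ = x * (z' * d') * x⁻¹ := by rw [h2]
        _ = x * z' * x⁻¹ * (x * d' * x⁻¹) := by group
    have : D = P := le_antisymm hDP hPD
    rw [← this]
    exact hD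

end Cfsg.Agent.S4726
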