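import Mathlib
import Cfsg.Statements.S4735
import Cfsg.Agent.H2.PrincQuot

set_option autoImplicit false
open Cfsg

namespace Cfsg.Agent.S4735

/-- Let p be a prime, M a maximal ideal of the algebraic integers containing p, G a finite group, H = O_p'(G) and Ḡ = G/H. For x ∈ G write λ(G, x) for the sum of |χ(x)|^2 over the irreducible characters χ in the principal p-block of G. Then λ(G, x) is a positive integer, λ(G, x) = λ(Ḡ, x̄) where x̄ is the image of x, and λ(G, x) ≤ #C_Ḡ(x̄). Moreover λ(G, 1) = [G : H] if and only if the principal block is the only p-block of Ḡ. -/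
theorem result {G : Type*} [Group G] [Finite G] (p : ℕ) [Fact p.Prime] (M : Ideal Cfsg.AlgInt) (hM : Cfsg.IsPModular p M) (x : G) : (∃ n : ℕ, 0 < n ∧ ∑ᶠ χ ∈ Cfsg.principalBlock M G, Complex.normSq ((χ : G → ℂ) x) = n) ∧ ∑ᶠ χ ∈ Cfsg.principalBlock M G, Complex.normSq ((χ : G → ℂ) x) = ∑ᶠ ψ ∈ Cfsg.principalBlock M (G ⧸ Cfsg.pPrimeCore p G), Complex.normSq ((ψ : G ⧸ Cfsg.pPrimeCore p G → ℂ) (QuotientGroup.mk x)) ∧ ∑ᶠ χ ∈ Cfsg.principalBlock M G, Complex.normSq ((χ : G → ℂ) x) ≤ (Nat.card ↥(Subgroup.centralizer ({(QuotientGroup.mk x : G ⧸ Cfsg.pPrimeCore p G)} : Set (G ⧸ Cfsg.pPrimeCore p G))) : ℝ) ∧ ((∑ᶠ χ ∈ Cfsg.principalBlock M G, Cfsg.charDegree (χ : G → ℂ) ^ 2) = (Cfsg.pPrimeCore p G).index ↔ ∀ B : Set (Cfsg.IrrCharacter (G ⧸ Cfsg.pPrimeCore p G)), Cfsg.IsPBlock M B → B = Cfsg.principalBlock M (G ⧸ Cfsg.pPrimeCore p G)) := by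
  classical
  let _ : Fintype G := Fintype.ofFinite G
  let _ : Fintype (G ⧸ Cfsg.pPrimeCore p G) := Fintype.ofFinite _
  have hNp := Cfsg.Agent.H1.pPrimeCore_coprime (G := G) p
  have hdeg : ∀ ψ : Cfsg.IrrCharacter (G ⧸ Cfsg.pPrimeCore p G),
      Cfsg.charDegree ((Cfsg.Agent.H2.PrincQuot.infl (Cfsg.pPrimeCore p G) ψ : Cfsg.IrrCharacter G) : G → ℂ)
        = Cfsg.charDegree (ψ : G ⧸ Cfsg.pPrimeCore p G → ℂ) := by
    intro ψ
    unfold Cfsg.charDegree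
    rw [Cfsg.Agent.H2.PrincQuot.infl_apply, QuotientGroup.mk_one]
  refine ⟨Cfsg.Agent.H2.PrincQuot.exists_nat_sum_normSq hM x, ?_, ?_, ?_⟩
  · exact Cfsg.Agent.H2.PrincQuot.finsum_principalBlock_eq hM _ hNp
      (fun χ => Complex.normSq ((χ : G → ℂ) x))
  · rw [Cfsg.Agent.H2.PrincQuot.finsum_principalBlock_eq hM _ hNp
      (fun χ => Complex.normSq ((χ : G → ℂ) x))]
    exact Cfsg.Agent.H2.PrincQuot.finsum_normSq_le (QuotientGroup.mk x)
  · rw [Cfsg.Agent.H2.PrincQuot.finsum_principalBlock_eq hM _ hNp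
      (fun χ => Cfsg.charDegree (χ : G → ℂ) ^ 2)]
    simp only [hdeg]
    rw [Subgroup.index_eq_card]
    exact Cfsg.Agent.H2.PrincQuot.finsum_charDegree_sq_eq_iff hM

end Cfsg.Agent.S4735
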