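import Mathlib
import Cfsg.Statements.S4736
import Cfsg.Agent.H2.PrincHeight

set_option autoImplicit false
open Cfsg

namespace Cfsg.Agent.S4736

/-- Let p be a prime, M a maximal ideal of the algebraic integers containing p, and G a finite p-solvable group with Sylow p-subgroup P. Then P is abelian if and only if every irreducible character in the principal p-block of G has height zero. -/
theorem result {G : Type*} [Group G] [Finite G] (p : ℕ) [Fact p.Prime] (M : Ideal Cfsg.AlgInt) (hM : Cfsg.IsPModular p M) (hsolv : Cfsg.IsPSolvable p G) (P : Sylow p G) : IsMulCommutative P ↔ ∀ χ ∈ Cfsg.principalBlock M G, Cfsg.blockHeight p (Cfsg.principalBlock M G) (χ : G → ℂ) = 0 := by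
  rw [Cfsg.Agent.H2.PrincHeight.isMulCommutative_iff_degrees hM hsolv P]
  constructor
  · intro h χ hχ
    exact (Cfsg.Agent.H2.PrincHeight.blockHeight_principal_eq_zero_iff hM χ).2 (h χ hχ)
  · intro h χ hχ
    exact (Cfsg.Agent.H2.PrincHeight.blockHeight_principal_eq_zero_iff hM χ).1 (h χ hχ)

end Cfsg.Agent.S4736
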