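import Cfsg.Statements.S4738
import Mathlib
import Cfsg.Agent.S4744
import Cfsg.Agent.Lib.Helper4.InvAction2

set_option autoImplicit false
open Cfsg

namespace Cfsg.Agent.S4738

open Cfsg.Agent.Lib.helper3.Irr Cfsg.Agent.Lib.Helper4.Codegree
open Cfsg.Agent.Lib.Helper4.InvAction Cfsg.Agent.Lib.Helper7 Cfsg.Agent.Lib.Helper4.MinNormal

section

variable {G : Type*} [Group G] [Finite G]

lemma mul_self_of_orderOf_two {t : G} (ht : orderOf t = 2) : t * t = 1 := by
  have := pow_orderOf_eq_one t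
  rwa [ht, pow_two] at this

lemma pElement_of_mem {p : ℕ} [Fact p.Prime] {Q : Subgroup G} (hQ : IsPGroup p Q) {y : G}
    (hy : y ∈ Q) : ∃ k : ℕ, orderOf y = p ^ k := by
  have hp : p.Prime := Fact.out
  obtain ⟨j, hj⟩ := hQ ⟨y, hy⟩
  have hj' : y ^ p ^ j = 1 := by
    have := congrArg Subtype.val hj
    simpa using this
  obtain ⟨i, _, hi⟩ := (Nat.dvd_prime_pow hp).mp (orderOf_dvd_of_pow_eq_one hj')
  exact ⟨i, hi⟩

/-- no element of order `2p`: centralizers of non-identity `p`-elements have odd order -/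
lemma odd_card_centralizer (p : ℕ) [Fact p.Prime] (hp2 : p ≠ 2)
    (h2p : ∀ g : G, orderOf g ≠ 2 * p) (g : G) (hg1 : g ≠ 1)
    (hg : ∃ k : ℕ, orderOf g = p ^ k) :
    Odd (Nat.card ↥(Subgroup.centralizer ({g} : Set G))) := by
  have hp : p.Prime := Fact.out
  rw [← Nat.not_even_iff_odd]
  intro heven
  haveI : Fact (Nat.Prime 2) := ⟨Nat.prime_two⟩
  obtain ⟨u', hu'⟩ := exists_prime_orderOf_dvd_card' 2 (even_iff_two_dvd.mp heven)
  have hu : orderOf (u' : G) = 2 := by rw [Subgroup.orderOf_coe]; exact hu'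
  have hcomm : Commute (u' : G) g := by
    have := u'.2
    rw [Subgroup.mem_centralizer_iff] at this
    exact (this g (Set.mem_singleton g)).symm
  obtain ⟨k, hk⟩ := hg
  have hk0 : k ≠ 0 := by
    rintro rfl
    rw [pow_zero, orderOf_eq_one_iff] at hk
    exact hg1 hk
  obtain ⟨k', rfl⟩ := Nat.exists_eq_succ_of_ne_zero hk0
  have hg' : orderOf (g ^ p ^ k') = p := by
    rw [orderOf_pow_of_dvd (pow_pos hp.pos _).ne' (by rw [hk]; exact pow_dvd_pow p (Nat.le_succ _)),
      hk, pow_succ, Nat.mul_div_cancel_left _ (pow_pos hp.pos _)]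
  have hcomm' : Commute (u' : G) (g ^ p ^ k') := hcomm.pow_right _
  have hcop : (orderOf (u' : G)).Coprime (orderOf (g ^ p ^ k')) := by
    rw [hu, hg']
    exact (Nat.coprime_primes Nat.prime_two hp).mpr (Ne.symm hp2)
  have := hcomm'.orderOf_mul_eq_mul_orderOf_of_coprime hcop
  rw [hu, hg'] at this
  exact h2p _ this

/-- Key step (conjugate version): an involution `t` normalizing a subgroup `C` of odd order, under
the hypothesis that non-identity `p`-elements have centralizers of odd order: some Sylow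
`p`-subgroup `Q` of `C` is inverted elementwise by a conjugate of `t`. -/
lemma exists_inverted_sylowIn' (p : ℕ) [Fact p.Prime]
    (hC : ∀ g : G, g ≠ 1 → (∃ k : ℕ, orderOf g = p ^ k) →
      Odd (Nat.card ↥(Subgroup.centralizer ({g} : Set G))))
    (C : Subgroup G) (hCodd : Odd (Nat.card C)) (t : G) (ht : orderOf t = 2)
    (htC : C.map (MulAut.conj t).toMonoidHom = C) :
    ∃ (Q : Subgroup G) (s : G), IsSylowIn p Q C ∧ orderOf s = 2 ∧
      (∀ y ∈ Q, s * y * s⁻¹ = y⁻¹) ∧ IsConj s t := by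
  obtain ⟨Q, s, hQ, hs, hsQ, hst⟩ := exists_conj_involution_normalizing_sylow p C hCodd t ht htC
  have hss : s * s = 1 := mul_self_of_orderOf_two hs
  have hnorm : ∀ y ∈ Q, s * y * s⁻¹ ∈ Q := by
    intro y hy
    rw [← hsQ]
    exact ⟨y, hy, rfl⟩
  have hfpf : ∀ y ∈ Q, s * y = y * s → y = 1 := by
    intro y hy hcomm
    by_contra hy1
    have hodd := hC y hy1 (pElement_of_mem hQ.isPGroup hy)
    have h2 := Cfsg.Agent.S4744.two_dvd_card_centralizer hs hcomm
    exact (Nat.not_even_iff_odd.mpr hodd) (even_iff_two_dvd.mpr h2)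
  exact ⟨Q, s, hQ, hs, inverts_of_fixedPointFree Q s hss hnorm hfpf, hst⟩

end


/-- Let p be an odd prime and G a finite group of even order containing no element of order 2p. Then either G has an irreducible character of p-defect zero (its degree has the same p-part as the order of G), or every Sylow p-subgroup of G is abelian and all involutions of G are conjugate. -/
theorem result {G : Type*} [Group G] [Finite G] (p : ℕ) [Fact p.Prime] (hp2 : p ≠ 2) (hG : Even (Nat.card G)) (h2p : ∀ g : G, orderOf g ≠ 2 * p) : (∃ χ : Cfsg.IrrCharacter G, (Cfsg.charDegree (χ : G → ℂ)).factorization p = (Nat.card G).factorization p) ∨ ((∀ P : Sylow p G, IsMulCommutative ↥(P : Subgroup G)) ∧ ∀ s t : G, orderOf s = 2 → orderOf t = 2 → IsConj s t) := by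
  classical
  have hp : p.Prime := Fact.out
  haveI : Fintype G := Fintype.ofFinite G
  have hN0 : Nat.card G ≠ 0 := Nat.card_pos.ne'
  by_cases hpG : p ∣ Nat.card G
  swap
  · -- the trivial character has defect zero
    left
    refine ⟨⟨fun _ => 1, isIrrCharacter_one⟩, ?_⟩
    have h1 : Cfsg.charDegree (fun _ : G => (1 : ℂ)) = 1 :=
      charDegree_eq (by simp)
    show (Cfsg.charDegree (fun _ : G => (1 : ℂ))).factorization p = _
    rw [h1, Nat.factorization_one, Nat.factorization_eq_zero_of_not_dvd hpG]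
    rfl
  have h2G : 2 ∣ Nat.card G := even_iff_two_dvd.mp hG
  have hC : ∀ g : G, g ≠ 1 → (∃ k : ℕ, orderOf g = p ^ k) →
      Odd (Nat.card ↥(Subgroup.centralizer ({g} : Set G))) :=
    fun g hg1 hg => odd_card_centralizer p hp2 h2p g hg1 hg
  rcases Cfsg.Agent.S4744.result p hp2 hpG h2G hC with hdz | hab
  · exact Or.inl hdz
  haveI : Fact (Nat.Prime 2) := ⟨Nat.prime_two⟩
  have hC' : ∀ g : G, g ≠ 1 → (∃ k : ℕ, orderOf g = p ^ k) →
      ¬ 2 ∣ Nat.card ↥(Subgroup.centralizer ({g} : Set G)) := by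
    intro g hg1 hg h2
    exact (Nat.not_even_iff_odd.mpr (hC g hg1 hg)) (even_iff_two_dvd.mpr h2)
  rcases Cfsg.Agent.S4742.result p 2 hp2 hpG h2G hC' with hdz | hconj
  · exact Or.inl hdz
  right
  refine ⟨fun P => (hab P).2, ?_⟩
  -- commutativity of Sylow subgroups, elementwise
  have hcommP : ∀ (P : Sylow p G), ∀ a ∈ (P : Subgroup G), ∀ b ∈ (P : Subgroup G),
      a * b = b * a := by
    intro P a ha b hb
    have := (hab P).2.is_comm.comm (⟨a, ha⟩ : (P : Subgroup G)) ⟨b, hb⟩
    exact congrArg Subtype.val this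
  -- every involution inverts a Sylow `p`-subgroup
  have hkey : ∀ z : G, orderOf z = 2 → ∃ R : Sylow p G, ∀ y ∈ (R : Subgroup G),
      z * y * z⁻¹ = y⁻¹ := by
    intro z hz
    have hz1 : z ≠ 1 := by
      intro h
      rw [h, orderOf_one] at hz
      exact absurd hz (by norm_num)
    obtain ⟨g, h, hzg, hzh, hne, k, hk⟩ := hconj z hz1 ⟨1, by rw [hz, pow_one]⟩
    have hord : ∀ y : G, IsConj z y → orderOf y = 2 := by
      intro y hy
      obtain ⟨c, hc⟩ := isConj_iff.mp hy
      rw [← hc]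
      exact Cfsg.Agent.Lib.Helper8.ThreeInv.orderOf_conj_two hz c
    have hgo := hord g hzg
    have hho := hord h hzh
    have hgg := mul_self_of_orderOf_two hgo
    have hhh := mul_self_of_orderOf_two hho
    have hginv : g⁻¹ = g := inv_eq_of_mul_eq_one_left hgg
    have hhinv : h⁻¹ = h := inv_eq_of_mul_eq_one_left hhh
    set y := g * h⁻¹ with hy
    have hgy : g * y * g⁻¹ = y⁻¹ := by
      rw [hy, hhinv, mul_inv_rev, hginv, hhinv]
      calc g * (g * h) * g = (g * g) * h * g := by group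
        _ = h * g := by rw [hgg, one_mul]
    have hCodd := hC y hne ⟨k, hk⟩
    obtain ⟨Q, s, hQ, hs, hsinv, hsg⟩ := exists_inverted_sylowIn' p hC
      (Subgroup.centralizer ({y} : Set G)) hCodd g hgo
      (Cfsg.Agent.S4744.map_conj_centralizer_of_inverts hgy)
    -- a Sylow subgroup of `G` containing `y` lies in the centralizer
    have hyp : IsPGroup p (Subgroup.zpowers y) := by
      apply IsPGroup.of_card (n := k)
      rw [Nat.card_zpowers, hk]
    obtain ⟨P₁, hyP₁⟩ := hyp.exists_le_sylow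
    have hyP₁' : y ∈ (P₁ : Subgroup G) := hyP₁ (Subgroup.mem_zpowers y)
    have hP₁C : (P₁ : Subgroup G) ≤ Subgroup.centralizer ({y} : Set G) := by
      intro x hx
      rw [Subgroup.mem_centralizer_iff]
      intro w hw
      rw [Set.mem_singleton_iff] at hw
      rw [hw]
      exact hcommP P₁ y hyP₁' x hx
    have hfac : (Nat.card (Subgroup.centralizer ({y} : Set G))).factorization p =
        (Nat.card G).factorization p := by
      apply le_antisymm
      · exact (Nat.factorization_le_iff_dvd Nat.card_pos.ne' hN0).mpr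
          (Subgroup.card_subgroup_dvd_card _) p
      · have h1 : p ^ (Nat.card G).factorization p ∣
            Nat.card (Subgroup.centralizer ({y} : Set G)) := by
          rw [← P₁.card_eq_multiplicity]
          exact Subgroup.card_dvd_of_le hP₁C
        exact (hp.pow_dvd_iff_le_factorization Nat.card_pos.ne').mp h1
    have hQcard : Nat.card Q = p ^ (Nat.card G).factorization p := by
      rw [hQ.2, hfac]
    -- transport along the conjugacy `s ~ g ~ z`
    have hsz : IsConj s z := hsg.trans hzg.symm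
    obtain ⟨a, ha⟩ := isConj_iff.mp hsz
    refine ⟨a • Sylow.ofCard Q hQcard, ?_⟩
    intro x hx
    have hx' : a⁻¹ * x * a ∈ Q :=
      (Cfsg.Agent.Lib.Helper4.SylowPrime.mem_smul_sylow_iff (Sylow.ofCard Q hQcard) a x).mp hx
    have h1 := hsinv _ hx'
    rw [← ha]
    calc a * s * a⁻¹ * x * (a * s * a⁻¹)⁻¹ = a * (s * (a⁻¹ * x * a) * s⁻¹) * a⁻¹ := by group
      _ = a * (a⁻¹ * x * a)⁻¹ * a⁻¹ := by rw [h1]
      _ = x⁻¹ := by group
  intro s t hs ht
  obtain ⟨R₁, hR₁⟩ := hkey s hs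
  obtain ⟨R₂, hR₂⟩ := hkey t ht
  obtain ⟨a, ha⟩ := MulAction.exists_smul_eq G R₁ R₂
  have hss := mul_self_of_orderOf_two hs
  have htt := mul_self_of_orderOf_two ht
  set t' := a⁻¹ * t * a with ht'
  have ht't' : t' * t' = 1 := by
    rw [ht']
    calc a⁻¹ * t * a * (a⁻¹ * t * a) = a⁻¹ * (t * t) * a := by group
      _ = 1 := by rw [htt]; group
  have ht'inv : ∀ y ∈ (R₁ : Subgroup G), t' * y * t'⁻¹ = y⁻¹ := by
    intro y hy
    have hy2 : a * y * a⁻¹ ∈ (R₂ : Subgroup G) := by
      rw [← ha]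
      refine (Cfsg.Agent.Lib.Helper4.SylowPrime.mem_smul_sylow_iff R₁ a _).mpr ?_
      have e : a⁻¹ * (a * y * a⁻¹) * a = y := by group
      rw [e]; exact hy
    have h1 := hR₂ _ hy2
    rw [ht']
    calc a⁻¹ * t * a * y * (a⁻¹ * t * a)⁻¹ = a⁻¹ * (t * (a * y * a⁻¹) * t⁻¹) * a := by group
      _ = a⁻¹ * (a * y * a⁻¹)⁻¹ * a := by rw [h1]
      _ = y⁻¹ := by group
  -- a non-identity element of `R₁`
  have hR₁ne : (R₁ : Subgroup G) ≠ ⊥ := by
    intro hb
    have h1 : Nat.card (R₁ : Subgroup G) = 1 := by rw [hb]; exact Subgroup.card_bot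
    rw [R₁.card_eq_multiplicity] at h1
    have he : 1 ≤ (Nat.card G).factorization p :=
      (hp.dvd_iff_one_le_factorization hN0).mp hpG
    have : p ^ 1 ≤ p ^ (Nat.card G).factorization p := Nat.pow_le_pow_right hp.pos he
    rw [h1, pow_one] at this
    exact absurd hp.one_lt (not_lt.mpr this)
  obtain ⟨y₁, hy₁, hy₁1⟩ := (Subgroup.ne_bot_iff_exists_ne_one).mp hR₁ne |>.imp
    (fun y hy => hy) |> fun ⟨y, hy⟩ => (⟨(y : G), y.2, fun h => hy (Subtype.ext h)⟩ :
      ∃ y₁ : G, y₁ ∈ (R₁ : Subgroup G) ∧ y₁ ≠ 1)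
  have hmem : s * t' ∈ Subgroup.centralizer ({y₁} : Set G) := by
    rw [Subgroup.mem_centralizer_iff]
    intro w hw
    rw [Set.mem_singleton_iff] at hw
    rw [hw]
    have h1 := ht'inv y₁ hy₁
    have h2 := hR₁ y₁⁻¹ ((R₁ : Subgroup G).inv_mem hy₁)
    rw [inv_inv] at h2
    have h3 : s * t' * y₁ * (s * t')⁻¹ = y₁ := by
      calc s * t' * y₁ * (s * t')⁻¹ = s * (t' * y₁ * t'⁻¹) * s⁻¹ := by group
        _ = s * y₁⁻¹ * s⁻¹ := by rw [h1]
        _ = y₁ := h2
    calc y₁ * (s * t') = (s * t' * y₁ * (s * t')⁻¹) * (s * t') := by rw [h3]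
      _ = s * t' * y₁ := by group
  have hodd : Odd (orderOf (s * t')) :=
    odd_orderOf_of_mem (hC y₁ hy₁1 (pElement_of_mem R₁.2 hy₁)) hmem
  have h1 : IsConj s t' := Cfsg.Agent.Lib.Helper8.ThreeInv.isConj_of_odd hss ht't' hodd
  have h2 : IsConj t' t := by
    rw [isConj_iff]
    refine ⟨a, ?_⟩
    rw [ht']; group
  exact h1.trans h2

end Cfsg.Agent.S4738
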