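import Cfsg.Statements.S4740
import Mathlib
import Cfsg.Agent.Lib.Helper4.Codegree
import Cfsg.Agent.Lib.helper3.AlgInt

namespace Cfsg.Agent.S4740

open Cfsg Module Cfsg.Agent.Lib.helper3.IndFun Cfsg.Agent.Lib.helper3.CharBasic
open Cfsg.Agent.Lib.helper3.Irr Cfsg.Agent.Lib.helper3.Central Cfsg.Agent.Lib.Helper4.CharExtra
open Cfsg.Agent.Lib.Helper4.InflateEquiv Cfsg.Agent.Lib.Helper4.Codegree
open Cfsg.Agent.Lib.helper3.AlgInt
open scoped ComplexConjugate

lemma isIntegral_nat (n : ℕ) : IsIntegral ℤ (n : ℂ) := by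
  have : (n : ℂ) = algebraMap ℤ ℂ (n : ℤ) := by simp
  rw [this]
  exact isIntegral_algebraMap

/-- a divisor `d` of `N` not divisible by `p ^ (k + 1)` divides `p ^ k * ordCompl[p] N` -/
lemma dvd_of_not_pow_dvd {p d N k : ℕ} (hp : p.Prime) (hN : N ≠ 0) (hd : d ∣ N)
    (hk : ¬ p ^ (k + 1) ∣ d) : d ∣ p ^ k * (N / p ^ N.factorization p) := by
  have hd0 : d ≠ 0 := fun h => hN (by rw [h] at hd; exact zero_dvd_iff.mp hd)
  obtain ⟨j, d', hd', rfl⟩ := Nat.exists_eq_pow_mul_and_not_dvd hd0 p hp.ne_one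
  have hj : j ≤ k := by
    by_contra hcon
    push Not at hcon
    exact hk ((pow_dvd_pow p hcon).trans (Dvd.intro _ rfl))
  have h1 : d' ∣ N := (Dvd.intro_left _ rfl).trans hd
  have h2 : N = p ^ N.factorization p * (N / p ^ N.factorization p) :=
    (Nat.ordProj_mul_ordCompl_eq_self N p).symm
  have hcop : Nat.Coprime d' (p ^ N.factorization p) :=
    Nat.Coprime.pow_right _ ((Nat.Prime.coprime_iff_not_dvd hp).mpr hd').symm
  have h3 : d' ∣ N / p ^ N.factorization p := by
    rw [h2] at h1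
    exact hcop.dvd_of_dvd_mul_left h1
  exact Nat.mul_dvd_mul (pow_dvd_pow p hj) h3

/-- Let p be an odd prime, G a finite group of even order, x an involution of G and P a subgroup of G of order p ^ c such that no conjugate of x inverts a non-identity element of P. If p ^ a is the p-part of the order of C_G(x), then some irreducible character of G has degree divisible by p ^ (c - a). -/
theorem result {G : Type*} [Group G] [Finite G] (p : ℕ) [Fact p.Prime] (hp2 : p ≠ 2) (hG : Even (Nat.card G)) (x : G) (hx : orderOf x = 2) (P : Subgroup G) (c : ℕ) (hP : Nat.card ↥P = p ^ c) (hinv : ∀ g : G, IsConj x g → ∀ z ∈ P, z ≠ 1 → g * z * g⁻¹ ≠ z⁻¹) (a : ℕ) (ha : (Nat.card ↥(Subgroup.centralizer ({x} : Set G))).factorization p = a) : ∃ χ : Cfsg.IrrCharacter G, p ^ (c - a) ∣ Cfsg.charDegree (χ : G → ℂ) := by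
  classical
  have hp : p.Prime := Fact.out
  haveI : Fintype G := Fintype.ofFinite G
  haveI : Fintype P := Fintype.ofFinite P
  by_contra hcon
  push Not at hcon
  obtain ⟨χ₁⟩ : Nonempty (IrrCharacter G) := ⟨⟨fun _ => 1, isIrrCharacter_one⟩⟩
  have hca : 1 ≤ c - a := by
    by_contra h0
    have h0' : c - a = 0 := by omega
    have h1' := hcon χ₁
    rw [h0', pow_zero] at h1'
    exact h1' (one_dvd _)
  obtain ⟨k, hk⟩ : ∃ k, c - a = k + 1 := ⟨c - a - 1, by omega⟩
  set N := Nat.card G with hN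
  have hN0 : N ≠ 0 := Nat.card_pos.ne'
  set n' := N / p ^ N.factorization p with hn'
  set L := p ^ k * n' with hL
  -- every degree divides `L`
  have hdegL : ∀ χ : IrrCharacter G, charDegree (χ : G → ℂ) ∣ L := by
    intro χ
    obtain ⟨n, hn1, hn2, hn3⟩ := irr_degree_dvd_card χ.2
    have hdeg : charDegree (χ : G → ℂ) = n := charDegree_eq hn1
    apply dvd_of_not_pow_dvd hp hN0
    · rw [hdeg]; exact hn2
    · rw [← hk]; exact hcon χ
  -- multiplicities of the trivial character of `P`
  have hm : ∀ χ : IrrCharacter G, ∃ m : ℕ, ∑ z : P, (χ : G → ℂ) z = (Nat.card P : ℂ) * m := by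
    intro χ
    obtain ⟨m, hm⟩ := exists_nat_classInner_of_isCharacter_of_isCharacter
      (isCharacter_restrict (isCharacter_of_isIrrCharacter χ.2) P) (isCharacter_one (G := P))
    refine ⟨m, ?_⟩
    rw [classInner_apply] at hm
    have hP0 : (Nat.card P : ℂ) ≠ 0 := card_ne_zero_complex P
    have h1 : ∑ z : P, (χ : G → ℂ) z * conj ((fun _ : P => (1 : ℂ)) z) = ∑ z : P, (χ : G → ℂ) z := by
      apply Finset.sum_congr rfl
      intro z _
      simp
    rw [h1] at hm
    field_simp at hm
    rw [hm]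
  choose m hm using hm
  -- the class multiplication count
  have hβ0 : ∀ z : P, z ≠ 1 → mulCount x x (z : G) = 0 := by
    intro z hz
    unfold mulCount
    have : IsEmpty {q : G × G // IsConj x q.1 ∧ IsConj x q.2 ∧ q.1 * q.2 = (z : G)} := by
      constructor
      rintro ⟨⟨u, v⟩, hu, hv, huv⟩
      simp only at hu hv huv
      have hu2 : u * u = 1 := by
        obtain ⟨g, hg⟩ := isConj_iff.mp hu
        rw [← hg]
        have hx2 : x * x = 1 := by
          have := pow_orderOf_eq_one x
          rw [hx, pow_two] at this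
          exact this
        calc g * x * g⁻¹ * (g * x * g⁻¹) = g * (x * x) * g⁻¹ := by group
          _ = 1 := by rw [hx2]; group
      have huinv : u⁻¹ = u := inv_eq_of_mul_eq_one_left hu2
      have hv2 : v * v = 1 := by
        obtain ⟨g, hg⟩ := isConj_iff.mp hv
        rw [← hg]
        have hx2 : x * x = 1 := by
          have := pow_orderOf_eq_one x
          rw [hx, pow_two] at this
          exact this
        calc g * x * g⁻¹ * (g * x * g⁻¹) = g * (x * x) * g⁻¹ := by group
          _ = 1 := by rw [hx2]; group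
      have hvinv : v⁻¹ = v := inv_eq_of_mul_eq_one_left hv2
      have hz1 : (z : G) ≠ 1 := fun h => hz (Subtype.ext h)
      apply hinv u hu (z : G) z.2 hz1
      rw [← huv, mul_inv_rev, huinv, hvinv]
      calc u * (u * v) * u = (u * u) * v * u := by group
        _ = v * u := by rw [hu2, one_mul]
    rw [Nat.card_of_isEmpty]
    simp
  have hβ1 : mulCount x x (1 : G) = ((cls x).card : ℂ) := by
    unfold mulCount
    congr 1
    rw [show (cls x).card = Fintype.card {u : G // IsConj x u} by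
      rw [Fintype.card_subtype]; rfl, ← Nat.card_eq_fintype_card]
    apply Nat.card_congr
    refine ⟨fun q => ⟨q.1.1, q.2.1⟩, fun u => ⟨(u.1, u.1), u.2, u.2, ?_⟩, ?_, ?_⟩
    · obtain ⟨g, hg⟩ := isConj_iff.mp u.2
      show u.1 * u.1 = 1
      rw [← hg]
      have hx2 : x * x = 1 := by
        have := pow_orderOf_eq_one x
        rw [hx, pow_two] at this
        exact this
      calc g * x * g⁻¹ * (g * x * g⁻¹) = g * (x * x) * g⁻¹ := by group
        _ = 1 := by rw [hx2]; group
    · rintro ⟨⟨u, v⟩, hu, hv, huv⟩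
      apply Subtype.ext
      simp only at hu hv huv ⊢
      have hu2 : u * u = 1 := by
        obtain ⟨g, hg⟩ := isConj_iff.mp hu
        rw [← hg]
        have hx2 : x * x = 1 := by
          have := pow_orderOf_eq_one x
          rw [hx, pow_two] at this
          exact this
        calc g * x * g⁻¹ * (g * x * g⁻¹) = g * (x * x) * g⁻¹ := by group
          _ = 1 := by rw [hx2]; group
      have : v = u := by
        have h1 : u * v = u * u := by rw [huv, hu2]
        exact mul_left_cancel h1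
      rw [this]
    · intro u
      rfl
  -- sum of `β` over `P`
  have hsumβ : ∑ z : P, mulCount x x (z : G) = ((cls x).card : ℂ) := by
    rw [Finset.sum_eq_single (1 : P)]
    · exact hβ1
    · intro z _ hz
      exact hβ0 z hz
    · intro h
      exact absurd (Finset.mem_univ _) h
  have hK0 : ((cls x).card : ℂ) ≠ 0 := by
    have : x ∈ cls x := mem_cls.mpr (IsConj.refl x)
    exact_mod_cast (Finset.card_pos.mpr ⟨x, this⟩).ne'
  have hNC : (N : ℂ) ≠ 0 := by exact_mod_cast hN0
  have hP0 : (Nat.card P : ℂ) ≠ 0 := card_ne_zero_complex P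
  have hsum2 : ∑ z : P, mulCount x x (z : G) =
      ((cls x).card : ℂ) * ((cls x).card : ℂ) / (N : ℂ) *
        ∑ χ : IrrCharacter G, (χ : G → ℂ) x * (χ : G → ℂ) x * ((Nat.card P : ℂ) * (m χ : ℂ)) /
          (χ : G → ℂ) 1 := by
    simp_rw [mulCount_eq x x]
    rw [← Finset.mul_sum, Finset.sum_comm]
    congr 1
    apply Finset.sum_congr rfl
    intro χ _
    rw [← Finset.sum_div, ← Finset.mul_sum, ← map_sum, hm χ]
    simp
  rw [hsumβ] at hsum2
  -- the key identity
  have hKC : (cls x).card * Nat.card (Subgroup.centralizer ({x} : Set G)) = N :=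
    card_cls_mul_card_centralizer x
  set CG := Nat.card (Subgroup.centralizer ({x} : Set G)) with hCG
  have hKC' : ((cls x).card : ℂ) * (CG : ℂ) = (N : ℂ) := by exact_mod_cast hKC
  set w : ℂ := ∑ χ : IrrCharacter G, (χ : G → ℂ) x * (χ : G → ℂ) x * (m χ : ℂ) *
      ((L / charDegree (χ : G → ℂ) : ℕ) : ℂ) with hw
  have hwint : IsIntegral ℤ w := by
    apply IsIntegral.sum
    intro χ _
    have h1 := Cfsg.Agent.Lib.helper3.Lin.isIntegral_of_isCharacter
      (isCharacter_of_isIrrCharacter χ.2) x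
    exact ((h1.mul h1).mul (isIntegral_nat _)).mul (isIntegral_nat _)
  have hmain : ((L * CG : ℕ) : ℂ) = (Nat.card P : ℂ) * w := by
    rw [hw, Finset.mul_sum]
    have h3 : ∀ χ : IrrCharacter G, (Nat.card P : ℂ) * ((χ : G → ℂ) x * (χ : G → ℂ) x * (m χ : ℂ) *
        ((L / charDegree (χ : G → ℂ) : ℕ) : ℂ)) = (L : ℂ) * ((χ : G → ℂ) x * (χ : G → ℂ) x *
          ((Nat.card P : ℂ) * (m χ : ℂ)) / (χ : G → ℂ) 1) := by
      intro χ
      have h10 : (χ : G → ℂ) 1 ≠ 0 := apply_one_ne_zero χ.2
      have hdc : ((L / charDegree (χ : G → ℂ) : ℕ) : ℂ) = (L : ℂ) / (χ : G → ℂ) 1 := by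
        rw [Nat.cast_div (hdegL χ), charDegree_cast (isCharacter_of_isIrrCharacter χ.2)]
        rw [charDegree_cast (isCharacter_of_isIrrCharacter χ.2)]
        exact h10
      rw [hdc]
      field_simp
    rw [Finset.sum_congr rfl (fun χ _ => h3 χ), ← Finset.mul_sum]
    have h4 : ∑ χ : IrrCharacter G, (χ : G → ℂ) x * (χ : G → ℂ) x *
        ((Nat.card P : ℂ) * (m χ : ℂ)) / (χ : G → ℂ) 1 = (CG : ℂ) := by
      set S : ℂ := ∑ χ : IrrCharacter G, (χ : G → ℂ) x * (χ : G → ℂ) x *
        ((Nat.card P : ℂ) * (m χ : ℂ)) / (χ : G → ℂ) 1 with hS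
      have h5 : ((cls x).card : ℂ) = ((cls x).card : ℂ) * ((cls x).card : ℂ) / (N : ℂ) * S :=
        hsum2
      have h6 : ((cls x).card : ℂ) * (N : ℂ) = ((cls x).card : ℂ) * ((cls x).card : ℂ) * S := by
        have h7 : ((cls x).card : ℂ) * (N : ℂ) =
            (((cls x).card : ℂ) * ((cls x).card : ℂ) / (N : ℂ) * S) * (N : ℂ) := by rw [← h5]
        rw [h7]
        field_simp
      rw [← hKC'] at h6
      have h8 : ((cls x).card : ℂ) * ((cls x).card : ℂ) * (CG : ℂ) =
          ((cls x).card : ℂ) * ((cls x).card : ℂ) * S := by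
        rw [← h6]; ring
      exact (mul_left_cancel₀ (mul_ne_zero hK0 hK0) h8).symm
    rw [h4]
    push_cast
    ring
  have hdvd : ((Nat.card P : ℕ) : ℤ) ∣ ((L * CG : ℕ) : ℤ) := by
    apply int_dvd_of_eq_mul_isIntegral hwint
    · push_cast
      push_cast at hmain
      exact hmain
    · exact_mod_cast (Nat.card_pos (α := P)).ne'
  have hdvd' : p ^ c ∣ L * CG := by
    rw [← hP]
    exact_mod_cast hdvd
  have hCG0 : CG ≠ 0 := Nat.card_pos.ne'
  have hn'0 : n' ≠ 0 := by
    rw [hn']
    exact (Nat.ordCompl_pos p hN0).ne'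
  have hL0 : L ≠ 0 := mul_ne_zero (pow_ne_zero _ hp.ne_zero) hn'0
  have hle := (hp.pow_dvd_iff_le_factorization (mul_ne_zero hL0 hCG0)).mp hdvd'
  rw [Nat.factorization_mul hL0 hCG0, hL, Nat.factorization_mul (pow_ne_zero _ hp.ne_zero) hn'0,
    hp.factorization_pow] at hle
  have hn'p : n'.factorization p = 0 :=
    Nat.factorization_eq_zero_of_not_dvd (Nat.not_dvd_ordCompl hp hN0)
  simp only [Finsupp.coe_add, Pi.add_apply, Finsupp.single_eq_same, hn'p, ha, add_zero] at hle
  omega

end Cfsg.Agent.S4740
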