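import Cfsg.Statements.S4743
import Cfsg.Agent.S4742

set_option autoImplicit false
open Cfsg

namespace Cfsg.Agent.S4743

/-- In a `p`-solvable group of order divisible by `p` there are normal subgroups `K ≤ L` with
`K` a `p'`-group and `L / K` a nontrivial `p`-group. -/
lemma exists_chain_step {G : Type*} [Group G] [Finite G] (p : ℕ) [hp : Fact p.Prime]
    (hs : Cfsg.IsPSolvable p G) (hpG : p ∣ Nat.card G) :
    ∃ K L : Subgroup G, K.Normal ∧ L.Normal ∧ K ≤ L ∧ ¬ p ∣ Nat.card K ∧ p ∣ Nat.card L ∧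
      ∃ m : ℕ, Nat.card L = Nat.card K * p ^ m := by
  obtain ⟨n, H, h0, hlast, hmono, hnorm, hstep⟩ := hs
  -- find the first step where `p` enters
  have hex : ∃ i : Fin n, ¬ p ∣ Nat.card (H i.castSucc) ∧ p ∣ Nat.card (H i.succ) := by
    by_contra hcon
    push Not at hcon
    have hall : ∀ i : Fin (n + 1), ¬ p ∣ Nat.card (H i) := by
      intro i
      induction i using Fin.induction with
      | zero =>
        rw [h0, Subgroup.card_bot]
        exact hp.out.one_lt.ne' ∘ Nat.dvd_one.mp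
      | succ i ih => exact fun h => ih (by_contra fun h' => (hcon i h') h)
    apply hall (Fin.last n)
    rw [hlast, Subgroup.card_top]
    exact hpG
  obtain ⟨i, hi1, hi2⟩ := hex
  have hle : H i.castSucc ≤ H i.succ := hmono (Fin.castSucc_lt_succ).le
  have hcard : Nat.card (H i.castSucc) * (H i.castSucc).relIndex (H i.succ) = Nat.card (H i.succ) := by
    have := Subgroup.relIndex_mul_relIndex (⊥ : Subgroup G) (H i.castSucc) (H i.succ) bot_le hle
    rwa [Subgroup.relIndex_bot_left, Subgroup.relIndex_bot_left] at this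
  refine ⟨H i.castSucc, H i.succ, hnorm _, hnorm _, hle, hi1, hi2, ?_⟩
  rcases hstep i with ⟨m, hm⟩ | hcop
  · exact ⟨m, by rw [← hcard, hm]⟩
  · exfalso
    rw [← hcard] at hi2
    rcases (hp.out.dvd_mul).mp hi2 with h | h
    · exact hi1 h
    · exact hp.out.one_lt.ne' (Nat.dvd_one.mp (hcop ▸ Nat.dvd_gcd h dvd_rfl))

/-- conjugates of an element of a normal subgroup stay inside it -/
lemma mem_of_isConj {G : Type*} [Group G] (K : Subgroup G) [hK : K.Normal] {z g : G}
    (hz : z ∈ K) (h : IsConj z g) : g ∈ K := by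
  obtain ⟨c, hc⟩ := isConj_iff.mp h
  rw [← hc]
  exact hK.conj_mem z hz c

/-- the combinatorial core: the two "conjugates with a `p`-quotient / `q`-quotient" properties
are incompatible with `p`-solvability -/
lemma key {G : Type*} [Group G] [Finite G] (p q : ℕ) [hp : Fact p.Prime] [hq : Fact q.Prime]
    (hpq : p ≠ q) (hs : Cfsg.IsPSolvable p G) (hpG : p ∣ Nat.card G)
    (h1 : ∀ z : G, z ≠ 1 → (∃ k : ℕ, orderOf z = q ^ k) →
      ∃ g h : G, IsConj z g ∧ IsConj z h ∧ g * h⁻¹ ≠ 1 ∧ ∃ k : ℕ, orderOf (g * h⁻¹) = p ^ k)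
    (h2 : ∀ y : G, y ≠ 1 → (∃ k : ℕ, orderOf y = p ^ k) →
      ∃ g h : G, IsConj y g ∧ IsConj y h ∧ g * h⁻¹ ≠ 1 ∧ ∃ k : ℕ, orderOf (g * h⁻¹) = q ^ k) :
    False := by
  obtain ⟨K, L, hKn, hLn, hKL, hpK, hpL, m, hm⟩ := exists_chain_step p hs hpG
  -- a nontrivial element of prime-power order `r ^ k` in a subgroup `X` forces `r ∣ |X|`
  have hdiv : ∀ (X : Subgroup G) (r : ℕ), r.Prime → ∀ x : G, x ∈ X → x ≠ 1 →
      (∃ k : ℕ, orderOf x = r ^ k) → r ∣ Nat.card X := by
    intro X r hr x hx hx1 ⟨k, hk⟩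
    have hk0 : k ≠ 0 := by
      rintro rfl
      rw [pow_zero, orderOf_eq_one_iff] at hk
      exact hx1 hk
    have h3 : orderOf (⟨x, hx⟩ : X) ∣ Nat.card X := orderOf_dvd_natCard _
    rw [Subgroup.orderOf_mk, hk] at h3
    exact (dvd_pow_self r hk0).trans h3
  -- Step A: `q ∤ |K|`
  have hqK : ¬ q ∣ Nat.card K := by
    intro hqK
    obtain ⟨z, hz⟩ := exists_prime_orderOf_dvd_card' q hqK
    have hz' : orderOf (z : G) = q := by rw [Subgroup.orderOf_coe]; exact hz
    have hz1 : (z : G) ≠ 1 := by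
      intro h
      rw [h, orderOf_one] at hz'
      exact hq.out.one_lt.ne hz'
    obtain ⟨g, h, hg, hh, hne, hk⟩ := h1 z hz1 ⟨1, by rw [hz', pow_one]⟩
    have hgK : g ∈ K := mem_of_isConj K z.2 hg
    have hhK : h ∈ K := mem_of_isConj K z.2 hh
    exact hpK (hdiv K p hp.out _ (K.mul_mem hgK (K.inv_mem hhK)) hne hk)
  -- Step B: `q ∤ |L|`
  have hqL : ¬ q ∣ Nat.card L := by
    rw [hm]
    intro h
    rcases (hq.out.dvd_mul).mp h with h | h
    · exact hqK h
    · exact hpq ((Nat.prime_dvd_prime_iff_eq hq.out hp.out).mp (hq.out.dvd_of_dvd_pow h)).symm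
  -- Step C
  obtain ⟨y, hy⟩ := exists_prime_orderOf_dvd_card' p hpL
  have hy' : orderOf (y : G) = p := by rw [Subgroup.orderOf_coe]; exact hy
  have hy1 : (y : G) ≠ 1 := by
    intro h
    rw [h, orderOf_one] at hy'
    exact hp.out.one_lt.ne hy'
  obtain ⟨g, h, hg, hh, hne, hk⟩ := h2 y hy1 ⟨1, by rw [hy', pow_one]⟩
  have hgL : g ∈ L := mem_of_isConj L y.2 hg
  have hhL : h ∈ L := mem_of_isConj L y.2 hh
  exact hqL (hdiv L q hq.out _ (L.mul_mem hgL (L.inv_mem hhL)) hne hk)

/-- Let p ≠ q be primes dividing the order of the finite group G, suppose the centralizer of every non-identity p-element has order prime to q, and suppose G is p-solvable or q-solvable. Then G has an irreducible character of p-defect zero or an irreducible character of q-defect zero. -/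
theorem result {G : Type*} [Group G] [Finite G] (p q : ℕ) [Fact p.Prime] [Fact q.Prime] (hppq : p ≠ q) (hpG : p ∣ Nat.card G) (hqG : q ∣ Nat.card G) (hC : ∀ g : G, g ≠ 1 → (∃ k : ℕ, orderOf g = p ^ k) → ¬ q ∣ Nat.card ↥(Subgroup.centralizer ({g} : Set G))) (hsolv : Cfsg.IsPSolvable p G ∨ Cfsg.IsPSolvable q G) : (∃ χ : Cfsg.IrrCharacter G, (Cfsg.charDegree (χ : G → ℂ)).factorization p = (Nat.card G).factorization p) ∨ (∃ χ : Cfsg.IrrCharacter G, (Cfsg.charDegree (χ : G → ℂ)).factorization q = (Nat.card G).factorization q) := by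
  have hp : p.Prime := Fact.out
  have hq : q.Prime := Fact.out
  by_contra hcon
  push Not at hcon
  obtain ⟨hnp, hnq⟩ := hcon
  -- the mirrored centralizer hypothesis
  have hC' : ∀ g : G, g ≠ 1 → (∃ k : ℕ, orderOf g = q ^ k) →
      ¬ p ∣ Nat.card ↥(Subgroup.centralizer ({g} : Set G)) := by
    intro g hg1 ⟨k, hk⟩ hdvd
    have hk0 : k ≠ 0 := by
      rintro rfl
      rw [pow_zero, orderOf_eq_one_iff] at hk
      exact hg1 hk
    obtain ⟨x, hx⟩ := exists_prime_orderOf_dvd_card' p hdvd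
    have hx' : orderOf (x : G) = p := by rw [Subgroup.orderOf_coe]; exact hx
    have hx1 : (x : G) ≠ 1 := by
      intro h
      rw [h, orderOf_one] at hx'
      exact hp.one_lt.ne hx'
    -- `g` centralizes `x`
    have hcomm : (x : G) * g = g * (x : G) :=
      (Subgroup.mem_centralizer_iff.mp x.2 g (Set.mem_singleton g)).symm
    have hgx : g ∈ Subgroup.centralizer ({(x : G)} : Set G) := by
      rw [Subgroup.mem_centralizer_iff]
      intro y hy
      rw [Set.mem_singleton_iff] at hy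
      rw [hy]
      exact hcomm
    apply hC (x : G) hx1 ⟨1, by rw [hx', pow_one]⟩
    have h3 : orderOf (⟨g, hgx⟩ : Subgroup.centralizer ({(x : G)} : Set G)) ∣
        Nat.card (Subgroup.centralizer ({(x : G)} : Set G)) := orderOf_dvd_natCard _
    rw [Subgroup.orderOf_mk, hk] at h3
    exact (dvd_pow_self q hk0).trans h3
  have h1 := (Cfsg.Agent.S4742.result p q hppq hpG hqG hC).resolve_left
    (fun ⟨χ, hχ⟩ => hnp χ hχ)
  have h2 := (Cfsg.Agent.S4742.result q p hppq.symm hqG hpG hC').resolve_left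
    (fun ⟨χ, hχ⟩ => hnq χ hχ)
  rcases hsolv with hs | hs
  · exact key p q hppq hs hpG h1 h2
  · exact key q p hppq.symm hs hqG h2 h1

end Cfsg.Agent.S4743
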