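import Cfsg.Statements.S4750
import Cfsg.Agent.Lib.Helper8.TIVal7

set_option autoImplicit false
open scoped Pointwise
open Cfsg

namespace Cfsg.Agent.S4750

/-- Let P be a Sylow p-subgroup of the finite group G that meets each conjugate g P g⁻¹ with g outside N_G(P) trivially, χ a character of G with χ(1)² ≤ |P|, and H a subgroup of G containing N_G(P). Then the inner product of χ with itself over G equals the inner product over H of the restriction of χ to H. -/
theorem result {G : Type*} [Group G] [Fintype G] [DecidableEq G] (p : ℕ) [Fact p.Prime] (P : Sylow p G) (hTI : ∀ g : G, g ∉ Subgroup.normalizer ((P : Subgroup G) : Set G) → (P : Subgroup G) ⊓ (MulAut.conj g • (P : Subgroup G)) = ⊥) (χ : G → ℂ) (hχ : Cfsg.IsCharacter G χ) (hdeg : Cfsg.charDegree χ ^ 2 ≤ Nat.card ↥(P : Subgroup G)) (H : Subgroup G) [Fintype ↥H] (hH : Subgroup.normalizer ((P : Subgroup G) : Set G) ≤ H) : Cfsg.classInner χ χ = Cfsg.classInner (fun h : ↥H => χ h) (fun h : ↥H => χ h) := by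
  classical
  obtain ⟨n, ρ, rfl⟩ := hχ
  have hn : Cfsg.charDegree ρ.character = n := by
    unfold Cfsg.charDegree
    rw [Representation.char_one]
    simp
  set ρH : Representation ℂ H (Fin n → ℂ) := ρ.comp H.subtype with hρH
  have hGH : (Representation.linHom ρ ρ).invariants = (Representation.linHom ρH ρH).invariants := by
    apply le_antisymm
    · intro T hT h
      have := hT (h : G)
      exact this
    · intro T hT g
      show (Representation.linHom ρ ρ) g T = T
      rw [Representation.linHom_apply]
      refine Cfsg.Agent.Lib.Helper8.TIVal.conj_fixed P hTI ρ ?_ T ?_ g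
      · rw [Module.finrank_fin_fun, ← hn]
        exact hdeg
      · intro m hm
        have := hT ⟨m, hH hm⟩
        exact this
  have h1 := Cfsg.Agent.Lib.Helper8.TIVal.finrank_invariants_eq_classInner ρ
  have h2 := Cfsg.Agent.Lib.Helper8.TIVal.finrank_invariants_eq_classInner ρH
  rw [← h1, hGH, h2]
  rfl

end Cfsg.Agent.S4750
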