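import Cfsg.Statements.S4754
import Mathlib
import Cfsg.Agent.Lib.Helper4.CharExtra

namespace Cfsg.Agent.S4754

open Cfsg Module Cfsg.Agent.Lib.helper3.IndFun Cfsg.Agent.Lib.helper3.CharBasic
open Cfsg.Agent.Lib.helper3.Irr Cfsg.Agent.Lib.helper3.Central Cfsg.Agent.Lib.Helper4.CharExtra

/-- if all products of conjugates of `x` and `y` are conjugate to `x * y`, then
`χ(1) χ(xy) = χ(x) χ(y)` -/
lemma mul_of_class_product {G : Type*} [Group G] [Fintype G] (x y : G)
    (h : ∀ a b : G, IsConj (x * y) (a * x * a⁻¹ * (b * y * b⁻¹))) (χ : IrrCharacter G) :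
    (χ : G → ℂ) 1 * (χ : G → ℂ) (x * y) = (χ : G → ℂ) x * (χ : G → ℂ) y := by
  classical
  have hs := sum_irr_mul χ.2 x y
  have h1 : ∀ x' ∈ cls x, ∀ y' ∈ cls y, (χ : G → ℂ) (x' * y') = (χ : G → ℂ) (x * y) := by
    intro x' hx' y' hy'
    rw [mem_cls] at hx' hy'
    obtain ⟨a, ha⟩ := isConj_iff.mp hx'
    obtain ⟨b, hb⟩ := isConj_iff.mp hy'
    rw [← ha, ← hb]
    exact (irr_eq_of_isConj χ (h a b)).symm
  have h2 : ∑ x' ∈ cls x, ∑ y' ∈ cls y, (χ : G → ℂ) (x' * y') =
      ((cls x).card : ℂ) * ((cls y).card : ℂ) * (χ : G → ℂ) (x * y) := by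
    rw [Finset.sum_congr rfl (fun x' hx' => Finset.sum_congr rfl (fun y' hy' => h1 x' hx' y' hy'))]
    simp only [Finset.sum_const, nsmul_eq_mul]
    ring
  rw [h2] at hs
  have hx0 : ((cls x).card : ℂ) ≠ 0 := by
    have : x ∈ cls x := mem_cls.mpr (IsConj.refl x)
    exact_mod_cast (Finset.card_pos.mpr ⟨x, this⟩).ne'
  have hy0 : ((cls y).card : ℂ) ≠ 0 := by
    have : y ∈ cls y := mem_cls.mpr (IsConj.refl y)
    exact_mod_cast (Finset.card_pos.mpr ⟨y, this⟩).ne'
  have h10 : (χ : G → ℂ) 1 ≠ 0 := apply_one_ne_zero χ.2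
  field_simp at hs
  linear_combination hs

/-- For elements x, y of a finite group G, the conjugacy class of x y equals the set of all products of a conjugate of x with a conjugate of y if and only if χ(1) χ(a x a⁻¹ b y b⁻¹) = χ(x) χ(y) for all a, b ∈ G and every irreducible character χ. -/
theorem result {G : Type*} [Group G] [Finite G] (x y : G) : (∀ z : G, IsConj (x * y) z ↔ ∃ a b : G, z = a * x * a⁻¹ * (b * y * b⁻¹)) ↔ ∀ (a b : G) (χ : Cfsg.IrrCharacter G), (χ : G → ℂ) 1 * (χ : G → ℂ) (a * x * a⁻¹ * (b * y * b⁻¹)) = (χ : G → ℂ) x * (χ : G → ℂ) y := by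
  classical
  haveI : Fintype G := Fintype.ofFinite G
  constructor
  · intro h a b χ
    have hconj : ∀ a b : G, IsConj (x * y) (a * x * a⁻¹ * (b * y * b⁻¹)) :=
      fun a b => (h _).mpr ⟨a, b, rfl⟩
    rw [← irr_eq_of_isConj χ (hconj a b)]
    exact mul_of_class_product x y hconj χ
  · intro h z
    constructor
    · intro hz
      obtain ⟨c, hc⟩ := isConj_iff.mp hz
      refine ⟨c, c, ?_⟩
      rw [← hc]
      group
    · rintro ⟨a, b, rfl⟩
      apply isConj_of_forall_irr_eq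
      intro χ
      have h1 := h a b χ
      have h2 := h 1 1 χ
      simp only [one_mul, inv_one, mul_one] at h2
      have h10 : (χ : G → ℂ) 1 ≠ 0 := apply_one_ne_zero χ.2
      exact mul_left_cancel₀ h10 (h2.trans h1.symm)

end Cfsg.Agent.S4754
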