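import Cfsg.Statements.S4755
import Mathlib
import Cfsg.Agent.Lib.Helper4.CharExtra
import Cfsg.Agent.Lib.helper3.Inflate2
import Cfsg.Agent.S4754

namespace Cfsg.Agent.S4755

open Cfsg Module Cfsg.Agent.Lib.helper3.IndFun Cfsg.Agent.Lib.helper3.CharBasic
open Cfsg.Agent.Lib.helper3.Irr Cfsg.Agent.Lib.helper3.Central Cfsg.Agent.Lib.Helper4.CharExtra
open scoped ComplexConjugate commutatorElement

lemma norm_linear {G : Type*} [Group G] [Finite G] (χ : IrrCharacter G)
    (h1 : (χ : G → ℂ) 1 = 1) (g : G) : (χ : G → ℂ) g * conj ((χ : G → ℂ) g) = 1 := by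
  have hpow := Cfsg.Agent.Lib.helper3.Lin.pow_eq_one_of_linear (isCharacter_of_isIrrCharacter χ.2) h1 g (orderOf g)
    (pow_orderOf_eq_one g)
  have hn : ‖(χ : G → ℂ) g‖ = 1 := norm_eq_one_of_pow_eq_one (orderOf_pos g) hpow
  rw [Complex.mul_conj, Complex.normSq_eq_norm_sq, hn]
  simp

/-- Let x, y be non-identity elements of the finite group G such that χ(x' y') = χ(x') χ(y') for all conjugates x' of x, y' of y and every irreducible character χ. Then the conjugacy class of x y is the set of all products of a conjugate of x with a conjugate of y; every irreducible character of degree greater than 1 vanishes at x y; and the conjugacy class of x y is the coset of the commutator subgroup containing x y. -/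
theorem result {G : Type*} [Group G] [Finite G] (x y : G) (hx : x ≠ 1) (hy : y ≠ 1) (h : ∀ (a b : G) (χ : Cfsg.IrrCharacter G), (χ : G → ℂ) (a * x * a⁻¹ * (b * y * b⁻¹)) = (χ : G → ℂ) (a * x * a⁻¹) * (χ : G → ℂ) (b * y * b⁻¹)) : (∀ z : G, IsConj (x * y) z ↔ ∃ a b : G, z = a * x * a⁻¹ * (b * y * b⁻¹)) ∧ (∀ χ : Cfsg.IrrCharacter G, (χ : G → ℂ) 1 ≠ 1 → (χ : G → ℂ) (x * y) = 0) ∧ (∀ z : G, IsConj (x * y) z ↔ (x * y)⁻¹ * z ∈ commutator G) := by
  classical
  haveI : Fintype G := Fintype.ofFinite G
  -- all products of conjugates have the same value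
  have hval : ∀ (a b : G) (χ : IrrCharacter G),
      (χ : G → ℂ) (a * x * a⁻¹ * (b * y * b⁻¹)) = (χ : G → ℂ) x * (χ : G → ℂ) y := by
    intro a b χ
    rw [h a b χ, irr_conj_apply, irr_conj_apply]
  -- Step A
  have hA : ∀ χ : IrrCharacter G, (χ : G → ℂ) 1 ≠ 1 → (χ : G → ℂ) x * (χ : G → ℂ) y = 0 := by
    intro χ hχ1
    have hs := sum_irr_mul χ.2 x y
    have h1 : ∀ x' ∈ cls x, ∀ y' ∈ cls y,
        (χ : G → ℂ) (x' * y') = (χ : G → ℂ) x * (χ : G → ℂ) y := by
      intro x' hx' y' hy'
      rw [mem_cls] at hx' hy'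
      obtain ⟨a, ha⟩ := isConj_iff.mp hx'
      obtain ⟨b, hb⟩ := isConj_iff.mp hy'
      rw [← ha, ← hb]
      exact hval a b χ
    have h2 : ∑ x' ∈ cls x, ∑ y' ∈ cls y, (χ : G → ℂ) (x' * y') =
        ((cls x).card : ℂ) * ((cls y).card : ℂ) * ((χ : G → ℂ) x * (χ : G → ℂ) y) := by
      rw [Finset.sum_congr rfl
        (fun x' hx' => Finset.sum_congr rfl (fun y' hy' => h1 x' hx' y' hy'))]
      simp only [Finset.sum_const, nsmul_eq_mul]
      ring
    rw [h2] at hs
    have hx0 : ((cls x).card : ℂ) ≠ 0 := by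
      have : x ∈ cls x := mem_cls.mpr (IsConj.refl x)
      exact_mod_cast (Finset.card_pos.mpr ⟨x, this⟩).ne'
    have hy0 : ((cls y).card : ℂ) ≠ 0 := by
      have : y ∈ cls y := mem_cls.mpr (IsConj.refl y)
      exact_mod_cast (Finset.card_pos.mpr ⟨y, this⟩).ne'
    have h10 : (χ : G → ℂ) 1 ≠ 0 := apply_one_ne_zero χ.2
    field_simp at hs
    have h3 : ((χ : G → ℂ) x * (χ : G → ℂ) y) * ((χ : G → ℂ) 1 - 1) = 0 := by
      linear_combination hs
    rcases mul_eq_zero.mp h3 with h4 | h4
    · exact h4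
    · exact absurd (sub_eq_zero.mp h4) hχ1
  -- Step B
  have hB : ∀ (a b : G) (χ : IrrCharacter G),
      (χ : G → ℂ) 1 * (χ : G → ℂ) (a * x * a⁻¹ * (b * y * b⁻¹)) =
        (χ : G → ℂ) x * (χ : G → ℂ) y := by
    intro a b χ
    rw [hval a b χ]
    by_cases h1 : (χ : G → ℂ) 1 = 1
    · rw [h1, one_mul]
    · rw [hA χ h1, mul_zero]
  have hpart1 := (Cfsg.Agent.S4754.result x y).mpr hB
  have hpart2 : ∀ χ : IrrCharacter G, (χ : G → ℂ) 1 ≠ 1 → (χ : G → ℂ) (x * y) = 0 := by
    intro χ h1
    have := hval 1 1 χ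
    simp only [one_mul, inv_one, mul_one] at this
    rw [this, hA χ h1]
  refine ⟨hpart1, hpart2, ?_⟩
  -- the class of `x * y` is contained in the coset
  have hsub : ∀ z : G, IsConj (x * y) z → (x * y)⁻¹ * z ∈ commutator G := by
    intro z hz
    obtain ⟨c, hc⟩ := isConj_iff.mp hz
    rw [← hc, commutator_def]
    have : (x * y)⁻¹ * (c * (x * y) * c⁻¹) = ⁅(x * y)⁻¹, c⁆ := by
      rw [commutatorElement_def]; group
    rw [this]
    exact Subgroup.commutator_mem_commutator (Subgroup.mem_top _) (Subgroup.mem_top _)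
  -- the centralizer of `x * y` has order `|G : G'|`
  have hcent : (Nat.card (Subgroup.centralizer ({x * y} : Set G)) : ℂ) =
      ((commutator G).index : ℂ) := by
    rw [← (column_orthogonality (x * y) (x * y)).1 (IsConj.refl _),
      ← card_linear_eq_index_commutator, Nat.card_eq_fintype_card, Fintype.card_subtype]
    rw [Finset.card_filter]
    push_cast
    apply Finset.sum_congr rfl
    intro χ _
    by_cases h1 : (χ : G → ℂ) 1 = 1
    · rw [if_pos h1, norm_linear χ h1]
    · rw [if_neg h1, hpart2 χ h1, zero_mul]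
  have hcent' : Nat.card (Subgroup.centralizer ({x * y} : Set G)) = (commutator G).index := by
    exact_mod_cast hcent
  -- cardinalities
  have hcls : (cls (x * y)).card = Nat.card (commutator G) := by
    have h1 : (cls (x * y)).card = (Subgroup.centralizer ({x * y} : Set G)).index :=
      card_class_eq_index (x * y)
    have h2 := Subgroup.card_mul_index (Subgroup.centralizer ({x * y} : Set G))
    have h3 := Subgroup.card_mul_index (commutator G)
    rw [hcent'] at h2
    rw [← h3, mul_comm] at h2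
    have hpos : 0 < (commutator G).index := Nat.pos_of_ne_zero (Subgroup.index_ne_zero_of_finite)
    rw [h1]
    exact Nat.eq_of_mul_eq_mul_right hpos h2
  let C : Finset G := Finset.univ.filter (fun z : G => (x * y)⁻¹ * z ∈ commutator G)
  have hCcard : C.card = Nat.card (commutator G) := by
    rw [Nat.card_eq_fintype_card, ← Fintype.card_subtype]
    symm
    apply Fintype.card_congr
    refine ⟨fun n => ⟨(x * y) * n.1, ?_⟩, fun z => ⟨(x * y)⁻¹ * z.1, z.2⟩, ?_, ?_⟩
    · have e : (x * y)⁻¹ * ((x * y) * n.1) = n.1 := by group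
      rw [e]; exact n.2
    · intro n; apply Subtype.ext; show (x * y)⁻¹ * ((x * y) * n.1) = n.1; group
    · intro z; apply Subtype.ext; show (x * y) * ((x * y)⁻¹ * z.1) = z.1; group
  have hKC : cls (x * y) ⊆ C := by
    intro z hz
    rw [mem_cls] at hz
    simp only [C, Finset.mem_filter, Finset.mem_univ, true_and]
    exact hsub z hz
  have heq : cls (x * y) = C := Finset.eq_of_subset_of_card_le hKC (by rw [hcls, hCcard])
  intro z
  constructor
  · exact hsub z
  · intro hz
    have : z ∈ C := by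
      simp only [C, Finset.mem_filter, Finset.mem_univ, true_and]
      exact hz
    rw [← heq, mem_cls] at this
    exact this

end Cfsg.Agent.S4755
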