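import Cfsg.Statements.S4757
import Mathlib
import Cfsg.Agent.Lib.Helper4.CharExtra
import Cfsg.Agent.Lib.helper3.Inflate2
import Cfsg.Agent.Lib.helper3.Gallagher3
import Cfsg.Agent.Lib.helper3.Lin
import Cfsg.Agent.Lib.Lead.PiCore

set_option autoImplicit false
open Cfsg

namespace Cfsg.Agent.S4757

open Cfsg Cfsg.Agent.Lib.helper3.Irr Cfsg.Agent.Lib.helper3.CharBasic
open Cfsg.Agent.Lib.Helper4.CharExtra
open scoped ComplexConjugate
open Classical

variable {G : Type*} [Group G] [Finite G]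

/-- the principal character -/
noncomputable def triv (G : Type*) [Group G] [Finite G] : IrrCharacter G :=
  ⟨fun _ => 1, isIrrCharacter_one⟩

theorem triv_apply (g : G) : ((triv G : IrrCharacter G) : G → ℂ) g = 1 := rfl

theorem ne_triv_iff (χ : IrrCharacter G) :
    χ ≠ triv G ↔ (χ : G → ℂ) ≠ (fun _ => (1 : ℂ)) := by
  constructor
  · intro h h'
    exact h (Subtype.ext h')
  · intro h h'
    exact h (by rw [h']; rfl)

/-- `Σ χ(u) χ(1) = 0` for `u ≠ 1` -/
theorem sum_mul_deg {u : G} (hu : u ≠ 1) :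
    ∑ χ : IrrCharacter G, (χ : G → ℂ) u * (χ : G → ℂ) 1 = 0 := by
  haveI : Fintype G := Fintype.ofFinite G
  have h0 := (column_orthogonality u 1).2 (by
    intro h
    exact hu (isConj_one_left.mp h))
  rw [← h0]
  apply Finset.sum_congr rfl
  intro χ _
  obtain ⟨n, -, hn⟩ := exists_pos_nat_apply_one χ.2
  rw [hn, Complex.conj_natCast]

/-- a linear character has values of norm one -/
theorem lin_mul_conj {χ : IrrCharacter G} (h1 : (χ : G → ℂ) 1 = 1) (g : G) :
    (χ : G → ℂ) g * conj ((χ : G → ℂ) g) = 1 := by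
  have hc := isCharacter_of_isIrrCharacter χ.2
  have hk : (χ : G → ℂ) g ^ (orderOf g) = 1 :=
    Cfsg.Agent.Lib.helper3.Lin.pow_eq_one_of_linear hc h1 g _ (pow_orderOf_eq_one g)
  have hpos : 0 < orderOf g := orderOf_pos g
  have hn : ‖(χ : G → ℂ) g‖ = 1 := by
    have : ‖(χ : G → ℂ) g‖ ^ (orderOf g) = 1 := by
      rw [← norm_pow, hk, norm_one]
    exact (pow_eq_one_iff_of_nonneg (norm_nonneg _) hpos.ne').mp this
  rw [Complex.mul_conj, Complex.normSq_eq_norm_sq, hn]
  simp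

theorem lin_ne_zero {χ : IrrCharacter G} (h1 : (χ : G → ℂ) 1 = 1) (g : G) :
    (χ : G → ℂ) g ≠ 0 := by
  intro h
  have := lin_mul_conj h1 g
  rw [h, zero_mul] at this
  exact zero_ne_one this

/-- product of a linear character with the conjugate of another -/
noncomputable def linMulConj (χ ψ : IrrCharacter G) (h1 : (χ : G → ℂ) 1 = 1)
    (h2 : (ψ : G → ℂ) 1 = 1) : IrrCharacter G :=
  ⟨fun g => (χ : G → ℂ) g * conj ((ψ : G → ℂ) g), by
    apply isIrrCharacter_of_linear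
    · exact isCharacter_mul (isCharacter_of_isIrrCharacter χ.2)
        (isCharacter_conj (isCharacter_of_isIrrCharacter ψ.2))
    · simp [h1, h2]⟩

open Cfsg Cfsg.Agent.Lib.helper3.Irr Cfsg.Agent.Lib.helper3.CharBasic
open Cfsg.Agent.Lib.Helper4.CharExtra
open scoped ComplexConjugate
open Classical

variable {G : Type*} [Group G] [Finite G]

theorem false_of_nonneg {u : G} (hu : u ≠ 1)
    (h : ∀ χ : IrrCharacter G, χ ≠ triv G → 0 ≤ ((χ : G → ℂ) u * (χ : G → ℂ) 1).re) : False := by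
  haveI : Fintype G := Fintype.ofFinite G
  have h0 := congrArg Complex.re (sum_mul_deg (G := G) hu)
  rw [Complex.re_sum, Complex.zero_re] at h0
  have h1 : ∀ χ ∈ (Finset.univ : Finset (IrrCharacter G)),
      0 ≤ ((χ : G → ℂ) u * (χ : G → ℂ) 1).re := by
    intro χ _
    by_cases hχ : χ = triv G
    · rw [hχ, triv_apply, triv_apply]; simp
    · exact h χ hχ
  have h2 := Finset.single_le_sum h1 (Finset.mem_univ (triv G))
  rw [h0, triv_apply, triv_apply] at h2
  simp at h2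
  linarith

variable {u : G} {c : ℂ}

theorem c_ne_zero (hu : u ≠ 1)
    (hyp : ∀ χ : IrrCharacter G, χ ≠ triv G →
      ((χ : G → ℂ) 1 - (χ : G → ℂ) u = c ∨ (χ : G → ℂ) u = 0)) : c ≠ 0 := by
  intro hc
  apply false_of_nonneg hu
  intro χ hχ
  obtain ⟨n, -, hn⟩ := exists_pos_nat_apply_one χ.2
  rcases hyp χ hχ with h | h
  · rw [hc, sub_eq_zero] at h
    rw [← h, hn]
    have : ((n : ℂ) * (n : ℂ)).re = (n : ℝ) * n := by
      rw [← Nat.cast_mul, Complex.natCast_re, Nat.cast_mul]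
    rw [this]
    positivity
  · rw [h, zero_mul]; simp

theorem lin_val
    (hyp : ∀ χ : IrrCharacter G, χ ≠ triv G →
      ((χ : G → ℂ) 1 - (χ : G → ℂ) u = c ∨ (χ : G → ℂ) u = 0))
    {χ : IrrCharacter G} (hχ : χ ≠ triv G) (h1 : (χ : G → ℂ) 1 = 1) :
    (χ : G → ℂ) u = 1 - c := by
  rcases hyp χ hχ with h | h
  · rw [← h, h1]; ring
  · exact absurd h (lin_ne_zero h1 u)

theorem lin_unique (hu : u ≠ 1)
    (hyp : ∀ χ : IrrCharacter G, χ ≠ triv G →
      ((χ : G → ℂ) 1 - (χ : G → ℂ) u = c ∨ (χ : G → ℂ) u = 0))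
    {χ ψ : IrrCharacter G} (hχ : χ ≠ triv G) (h1 : (χ : G → ℂ) 1 = 1)
    (hψ : ψ ≠ triv G) (h2 : (ψ : G → ℂ) 1 = 1) : χ = ψ := by
  have hc := c_ne_zero hu hyp
  by_cases hφ : linMulConj χ ψ h1 h2 = triv G
  · apply Subtype.ext
    funext g
    have h3 : (χ : G → ℂ) g * conj ((ψ : G → ℂ) g) = 1 := by
      have := congrArg (fun φ : IrrCharacter G => (φ : G → ℂ) g) hφ
      exact this
    have h4 := lin_mul_conj h2 g
    calc (χ : G → ℂ) g = (χ : G → ℂ) g * ((ψ : G → ℂ) g * conj ((ψ : G → ℂ) g)) := by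
          rw [h4, mul_one]
      _ = ((χ : G → ℂ) g * conj ((ψ : G → ℂ) g)) * (ψ : G → ℂ) g := by ring
      _ = (ψ : G → ℂ) g := by rw [h3, one_mul]
  · exfalso
    have h3 : ((linMulConj χ ψ h1 h2 : IrrCharacter G) : G → ℂ) 1 = 1 := by
      show (χ : G → ℂ) 1 * conj ((ψ : G → ℂ) 1) = 1
      rw [h1, h2]; simp
    have h4 := lin_val hyp hφ h3
    have h5 : ((linMulConj χ ψ h1 h2 : IrrCharacter G) : G → ℂ) u =
        (χ : G → ℂ) u * conj ((ψ : G → ℂ) u) := rfl
    rw [h5, lin_val hyp hχ h1, ← lin_val hyp hψ h2, lin_mul_conj h2 u, lin_val hyp hψ h2] at h4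
    apply hc
    linear_combination h4

theorem lin_val_eq_neg_one (hu : u ≠ 1)
    (hyp : ∀ χ : IrrCharacter G, χ ≠ triv G →
      ((χ : G → ℂ) 1 - (χ : G → ℂ) u = c ∨ (χ : G → ℂ) u = 0))
    {χ : IrrCharacter G} (hχ : χ ≠ triv G) (h1 : (χ : G → ℂ) 1 = 1) :
    (∀ g, (χ : G → ℂ) g = 1 ∨ (χ : G → ℂ) g = -1) ∧ (χ : G → ℂ) u = -1 ∧ c = 2 := by
  have hc := c_ne_zero hu hyp
  have ht1 : ((triv G : IrrCharacter G) : G → ℂ) 1 = 1 := rfl
  have hψ : linMulConj (triv G) χ ht1 h1 ≠ triv G := by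
    intro h
    apply hχ
    apply Subtype.ext
    funext g
    have h3 : (1 : ℂ) * conj ((χ : G → ℂ) g) = 1 := by
      have := congrArg (fun φ : IrrCharacter G => (φ : G → ℂ) g) h
      exact this
    rw [one_mul] at h3
    have := congrArg conj h3
    rw [Complex.conj_conj, map_one] at this
    rw [this]; rfl
  have h3 : ((linMulConj (triv G) χ ht1 h1 : IrrCharacter G) : G → ℂ) 1 = 1 := by
    show (1 : ℂ) * conj ((χ : G → ℂ) 1) = 1
    rw [h1]; simp
  have h4 := lin_unique hu hyp hχ h1 hψ h3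
  have hsq : ∀ g, (χ : G → ℂ) g * (χ : G → ℂ) g = 1 := by
    intro g
    have h5 : (χ : G → ℂ) g = 1 * conj ((χ : G → ℂ) g) := by
      have := congrArg (fun φ : IrrCharacter G => (φ : G → ℂ) g) h4
      exact this
    rw [one_mul] at h5
    have h6 := lin_mul_conj h1 g
    rw [← h5] at h6
    exact h6
  have hpm : ∀ g, (χ : G → ℂ) g = 1 ∨ (χ : G → ℂ) g = -1 := by
    intro g
    exact mul_self_eq_one_iff.mp (hsq g)
  refine ⟨hpm, ?_⟩
  have hv := lin_val hyp hχ h1
  rcases hpm u with h | h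
  · exfalso
    apply hc
    rw [h] at hv
    linear_combination hv
  · refine ⟨h, ?_⟩
    rw [h] at hv
    linear_combination hv

theorem exists_lin_of_commutator_ne_top (hG : commutator G ≠ ⊤) :
    ∃ χ : IrrCharacter G, χ ≠ triv G ∧ (χ : G → ℂ) 1 = 1 := by
  by_contra hcon
  push Not at hcon
  apply hG
  rw [← Subgroup.index_eq_one, ← card_linear_eq_index_commutator]
  haveI : Subsingleton {χ : IrrCharacter G // (χ : G → ℂ) 1 = 1} := by
    constructor
    intro a b
    apply Subtype.ext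
    have ha : a.1 = triv G := by
      by_contra h
      exact hcon a.1 h a.2
    have hb : b.1 = triv G := by
      by_contra h
      exact hcon b.1 h b.2
    rw [ha, hb]
  haveI : Nonempty {χ : IrrCharacter G // (χ : G → ℂ) 1 = 1} := ⟨⟨triv G, rfl⟩⟩
  exact Nat.card_unique

theorem lin_eq_triv_of_commutator_eq_top (hG : commutator G = ⊤)
    {χ : IrrCharacter G} (h1 : (χ : G → ℂ) 1 = 1) : χ = triv G := by
  have hcard : Nat.card {χ : IrrCharacter G // (χ : G → ℂ) 1 = 1} = 1 := by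
    rw [card_linear_eq_index_commutator, hG, Subgroup.index_top]
  haveI : Finite {χ : IrrCharacter G // (χ : G → ℂ) 1 = 1} := Nat.finite_of_card_ne_zero (by omega)
  have hss := (Nat.card_eq_one_iff_unique.mp hcard).1
  have := hss.elim ⟨χ, h1⟩ ⟨triv G, rfl⟩
  exact congrArg Subtype.val this

open Cfsg Cfsg.Agent.Lib.helper3.Irr Cfsg.Agent.Lib.helper3.CharBasic
open Cfsg.Agent.Lib.Helper4.CharExtra
open scoped ComplexConjugate
open Classical

variable {G : Type*} [Group G] [Finite G] {u : G} {c : ℂ}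

/-- for a nonlinear character, `χ(u)χ(1)` has nonnegative real part when `c = 2` -/
theorem re_nonneg_of_two
    (hyp : ∀ χ : IrrCharacter G, χ ≠ triv G →
      ((χ : G → ℂ) 1 - (χ : G → ℂ) u = 2 ∨ (χ : G → ℂ) u = 0))
    {χ : IrrCharacter G} (hχ : χ ≠ triv G) (h1 : (χ : G → ℂ) 1 ≠ 1) :
    0 ≤ ((χ : G → ℂ) u * (χ : G → ℂ) 1).re ∧
      (((χ : G → ℂ) u * (χ : G → ℂ) 1).re = 0 → (χ : G → ℂ) u = 0) := by
  obtain ⟨n, hn0, hn⟩ := exists_pos_nat_apply_one χ.2
  have hn2 : 2 ≤ n := by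
    rcases Nat.lt_or_ge n 2 with h | h
    · exfalso
      apply h1
      have : n = 1 := by omega
      rw [hn, this]; simp
    · exact h
  rcases hyp χ hχ with h | h
  · have hval : (χ : G → ℂ) u = ((n - 2 : ℕ) : ℂ) := by
      rw [Nat.cast_sub hn2, ← hn]
      push_cast
      linear_combination -h
    have hre : ((χ : G → ℂ) u * (χ : G → ℂ) 1).re = ((n - 2 : ℕ) : ℝ) * n := by
      rw [hval, hn, ← Nat.cast_mul, Complex.natCast_re, Nat.cast_mul]
    rw [hre]
    refine ⟨by positivity, ?_⟩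
    intro h0
    have hnpos : (n : ℝ) ≠ 0 := by exact_mod_cast hn0.ne'
    have : ((n - 2 : ℕ) : ℝ) = 0 := by
      rcases mul_eq_zero.mp h0 with h | h
      · exact h
      · exact absurd h hnpos
    have h2 : n - 2 = 0 := by exact_mod_cast this
    rw [hval, h2]; simp
  · rw [h, zero_mul]
    simp

theorem commutator_ne_top_of_two (hu : u ≠ 1)
    (hyp : ∀ χ : IrrCharacter G, χ ≠ triv G →
      ((χ : G → ℂ) 1 - (χ : G → ℂ) u = 2 ∨ (χ : G → ℂ) u = 0)) : commutator G ≠ ⊤ := by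
  intro hG
  apply false_of_nonneg hu
  intro χ hχ
  have h1 : (χ : G → ℂ) 1 ≠ 1 := fun h => hχ (lin_eq_triv_of_commutator_eq_top hG h)
  exact (re_nonneg_of_two hyp hχ h1).1

theorem vanish_of_not_lin (hu : u ≠ 1)
    (hyp : ∀ χ : IrrCharacter G, χ ≠ triv G →
      ((χ : G → ℂ) 1 - (χ : G → ℂ) u = 2 ∨ (χ : G → ℂ) u = 0))
    {χ₀ : IrrCharacter G} (hχ₀ : χ₀ ≠ triv G) (h1 : (χ₀ : G → ℂ) 1 = 1)
    (hu0 : (χ₀ : G → ℂ) u = -1)
    {χ : IrrCharacter G} (hχ : χ ≠ triv G) (hχ' : χ ≠ χ₀) : (χ : G → ℂ) u = 0 := by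
  haveI : Fintype G := Fintype.ofFinite G
  have h0 := congrArg Complex.re (sum_mul_deg (G := G) hu)
  rw [Complex.re_sum, Complex.zero_re] at h0
  have hsub : ({triv G, χ₀} : Finset (IrrCharacter G)) ⊆ Finset.univ := Finset.subset_univ _
  rw [← Finset.sum_sdiff hsub, Finset.sum_pair (Ne.symm hχ₀)] at h0
  rw [triv_apply, triv_apply, h1, hu0] at h0
  have h2 : ∑ x ∈ (Finset.univ : Finset (IrrCharacter G)) \ {triv G, χ₀},
      ((x : G → ℂ) u * (x : G → ℂ) 1).re = 0 := by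
    have : ((1 : ℂ) * 1).re + ((-1 : ℂ) * 1).re = 0 := by simp
    linarith
  have hlin : ∀ x ∈ (Finset.univ : Finset (IrrCharacter G)) \ {triv G, χ₀},
      x ≠ triv G ∧ (x : G → ℂ) 1 ≠ 1 := by
    intro x hx
    rw [Finset.mem_sdiff, Finset.mem_insert, Finset.mem_singleton] at hx
    push Not at hx
    refine ⟨hx.2.1, ?_⟩
    intro hx1
    exact hx.2.2 (lin_unique hu hyp hx.2.1 hx1 hχ₀ h1)
  have h3 := (Finset.sum_eq_zero_iff_of_nonneg (fun x hx =>
    (re_nonneg_of_two hyp (hlin x hx).1 (hlin x hx).2).1)).mp h2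
  have hmem : χ ∈ (Finset.univ : Finset (IrrCharacter G)) \ {triv G, χ₀} := by
    rw [Finset.mem_sdiff, Finset.mem_insert, Finset.mem_singleton]
    push Not
    exact ⟨Finset.mem_univ _, hχ, hχ'⟩
  exact (re_nonneg_of_two hyp (hlin χ hmem).1 (hlin χ hmem).2).2 (h3 χ hmem)

theorem card_centralizer_eq_two (hu : u ≠ 1)
    (hyp : ∀ χ : IrrCharacter G, χ ≠ triv G →
      ((χ : G → ℂ) 1 - (χ : G → ℂ) u = 2 ∨ (χ : G → ℂ) u = 0))
    {χ₀ : IrrCharacter G} (hχ₀ : χ₀ ≠ triv G) (h1 : (χ₀ : G → ℂ) 1 = 1)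
    (hu0 : (χ₀ : G → ℂ) u = -1) :
    Nat.card (Subgroup.centralizer ({u} : Set G)) = 2 := by
  haveI : Fintype G := Fintype.ofFinite G
  have h0 := sum_norm_sq_eq_card_centralizer u
  have hsub : ({triv G, χ₀} : Finset (IrrCharacter G)) ⊆ Finset.univ := Finset.subset_univ _
  rw [← Finset.sum_sdiff hsub, Finset.sum_pair (Ne.symm hχ₀)] at h0
  rw [triv_apply, hu0] at h0
  have h2 : ∑ x ∈ (Finset.univ : Finset (IrrCharacter G)) \ {triv G, χ₀},
      ‖(x : G → ℂ) u‖ ^ 2 = 0 := by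
    apply Finset.sum_eq_zero
    intro x hx
    rw [Finset.mem_sdiff, Finset.mem_insert, Finset.mem_singleton] at hx
    push Not at hx
    rw [vanish_of_not_lin hu hyp hχ₀ h1 hu0 hx.2.1 hx.2.2]
    simp
  rw [h2] at h0
  have h3 : (Nat.card (Subgroup.centralizer ({u} : Set G)) : ℝ) = 2 := by
    rw [← h0]; norm_num
  exact_mod_cast h3

open Cfsg Cfsg.Agent.Lib.helper3.Irr Cfsg.Agent.Lib.helper3.CharBasic
open Cfsg.Agent.Lib.Helper4.CharExtra
open scoped ComplexConjugate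
open Classical

variable {G : Type*} [Group G] [Finite G] {u : G}

theorem orderOf_eq_two (hu : u ≠ 1)
    (hcard : Nat.card (Subgroup.centralizer ({u} : Set G)) = 2) : orderOf u = 2 := by
  have hmem : u ∈ Subgroup.centralizer ({u} : Set G) := by
    rw [Subgroup.mem_centralizer_iff]
    intro y hy
    rw [Set.mem_singleton_iff] at hy
    rw [hy]
  have hdvd := Subgroup.orderOf_dvd_natCard _ hmem
  rw [hcard] at hdvd
  rcases (Nat.dvd_prime Nat.prime_two).mp hdvd with h | h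
  · exact absurd (orderOf_eq_one_iff.mp h) hu
  · exact h

theorem centralizer_eq_zpowers (hu : u ≠ 1)
    (hcard : Nat.card (Subgroup.centralizer ({u} : Set G)) = 2) :
    Subgroup.centralizer ({u} : Set G) = Subgroup.zpowers u := by
  have hmem : u ∈ Subgroup.centralizer ({u} : Set G) := by
    rw [Subgroup.mem_centralizer_iff]
    intro y hy
    rw [Set.mem_singleton_iff] at hy
    rw [hy]
  symm
  apply Subgroup.eq_of_le_of_card_ge
  · rw [Subgroup.zpowers_le]; exact hmem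
  · rw [hcard, Nat.card_zpowers, orderOf_eq_two hu hcard]

/-- the Sylow 2-subgroups have order 2 -/
theorem card_sylow_eq_two (hu : u ≠ 1)
    (hcard : Nat.card (Subgroup.centralizer ({u} : Set G)) = 2) :
    ∃ P : Sylow 2 G, Nat.card (P : Subgroup G) = 2 := by
  haveI : Fact (Nat.Prime 2) := ⟨Nat.prime_two⟩
  have ho := orderOf_eq_two hu hcard
  have hz : Nat.card (Subgroup.zpowers u) = 2 := by rw [Nat.card_zpowers, ho]
  have hpz : IsPGroup 2 (Subgroup.zpowers u) := IsPGroup.of_card (n := 1) (by rw [hz]; norm_num)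
  obtain ⟨P, hP⟩ := hpz.exists_le_sylow
  refine ⟨P, ?_⟩
  have huP : u ∈ (P : Subgroup G) := hP (Subgroup.mem_zpowers u)
  haveI : Nontrivial (P : Subgroup G) := by
    refine ⟨⟨⟨u, huP⟩, 1, ?_⟩⟩
    intro h
    exact hu (congrArg Subtype.val h)
  haveI := P.isPGroup'.center_nontrivial
  obtain ⟨z, hz1⟩ := exists_ne (1 : Subgroup.center (P : Subgroup G))
  have hzc : ∀ x : (P : Subgroup G), x * z.1 = z.1 * x := fun x =>
    Subgroup.mem_center_iff.mp z.2 x
  -- `z` centralizes `u`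
  have hzu : ((z.1 : (P : Subgroup G)) : G) ∈ Subgroup.centralizer ({u} : Set G) := by
    rw [Subgroup.mem_centralizer_iff]
    intro y hy
    rw [Set.mem_singleton_iff] at hy
    rw [hy]
    have := congrArg Subtype.val (hzc ⟨u, huP⟩)
    exact this
  have hmem : u ∈ Subgroup.centralizer ({u} : Set G) := by
    rw [Subgroup.mem_centralizer_iff]
    intro y hy
    rw [Set.mem_singleton_iff] at hy
    rw [hy]
  obtain ⟨w, -, hw⟩ := (Nat.card_eq_two_iff' (1 : Subgroup.centralizer ({u} : Set G))).mp hcard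
  have e1 : (⟨u, hmem⟩ : Subgroup.centralizer ({u} : Set G)) = w := by
    apply hw
    intro h
    exact hu (congrArg Subtype.val h)
  have e2 : (⟨_, hzu⟩ : Subgroup.centralizer ({u} : Set G)) = w := by
    apply hw
    intro h
    apply hz1
    apply Subtype.ext
    apply Subtype.ext
    have := congrArg Subtype.val h
    exact this
  have hzeq : ((z.1 : (P : Subgroup G)) : G) = u := by
    have := e2.trans e1.symm
    exact congrArg Subtype.val this
  -- so `P ≤ C(u)`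
  have hle : (P : Subgroup G) ≤ Subgroup.centralizer ({u} : Set G) := by
    intro x hx
    rw [Subgroup.mem_centralizer_iff]
    intro y hy
    rw [Set.mem_singleton_iff] at hy
    rw [hy, ← hzeq]
    have := congrArg Subtype.val (hzc ⟨x, hx⟩)
    exact this.symm
  apply le_antisymm
  · have := Subgroup.card_le_of_le hle
    omega
  · have := Subgroup.card_le_of_le hP
    omega

theorem sup_oddCore_eq_top (hu : u ≠ 1)
    (hcard : Nat.card (Subgroup.centralizer ({u} : Set G)) = 2)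
    {χ₀ : IrrCharacter G} (h1 : (χ₀ : G → ℂ) 1 = 1)
    (hpm : ∀ g, (χ₀ : G → ℂ) g = 1 ∨ (χ₀ : G → ℂ) g = -1)
    (hu0 : (χ₀ : G → ℂ) u = -1) :
    Subgroup.zpowers u ⊔ Cfsg.oddCore G = ⊤ := by
  haveI : Fact (Nat.Prime 2) := ⟨Nat.prime_two⟩
  have hc := isCharacter_of_isIrrCharacter χ₀.2
  set φ : G →* ℂˣ := (Cfsg.Agent.Lib.helper3.Lin.toHom hc h1).toHomUnits with hφ
  have hφv : ∀ g, ((φ g : ℂˣ) : ℂ) = (χ₀ : G → ℂ) g := by
    intro g
    rw [hφ, MonoidHom.coe_toHomUnits]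
    rfl
  have hker : ∀ g, g ∈ φ.ker ↔ (χ₀ : G → ℂ) g = 1 := by
    intro g
    rw [MonoidHom.mem_ker, ← hφv, Units.ext_iff, Units.val_one]
  have hmul : ∀ a b, (χ₀ : G → ℂ) (a * b) = (χ₀ : G → ℂ) a * (χ₀ : G → ℂ) b :=
    Cfsg.Agent.Lib.helper3.Lin.map_mul_of_apply_one_eq_one hc h1
  have hne : (1 : ℂ) ≠ -1 := by norm_num
  -- index two
  have hidx : φ.ker.index = 2 := by
    rw [Subgroup.index_eq_two_iff]
    refine ⟨u, fun b => ?_⟩
    rw [hker, hker, hmul, hu0]
    rcases hpm b with h | h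
    · rw [h]
      right
      refine ⟨rfl, ?_⟩
      intro h'
      apply hne
      rw [one_mul] at h'
      exact h'.symm
    · rw [h]
      left
      refine ⟨by ring, ?_⟩
      intro h'
      exact hne h'.symm
  -- odd order
  obtain ⟨P, hP⟩ := card_sylow_eq_two hu hcard
  have h2 : φ.ker.index * Nat.card φ.ker = Nat.card G := Subgroup.index_mul_card _
  have h3 : (P : Subgroup G).index * Nat.card (P : Subgroup G) = Nat.card G :=
    Subgroup.index_mul_card _
  have h4 : Nat.card φ.ker = (P : Subgroup G).index := by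
    rw [hidx] at h2
    rw [hP] at h3
    omega
  have hcop : (Nat.card φ.ker).Coprime 2 := by
    rw [h4, Nat.coprime_comm, Nat.Prime.coprime_iff_not_dvd Nat.prime_two]
    exact P.not_dvd_index
  have hle : φ.ker ≤ Cfsg.oddCore G := by
    apply le_sSup
    exact ⟨inferInstance, hcop⟩
  rw [eq_top_iff]
  intro g _
  rcases hpm g with h | h
  · exact (le_sup_right : Cfsg.oddCore G ≤ _) (hle ((hker g).mpr h))
  · have hg : u⁻¹ * g ∈ φ.ker := by
      rw [hker, hmul, h]
      have : (χ₀ : G → ℂ) u⁻¹ * (χ₀ : G → ℂ) u = 1 := by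
        rw [← hmul, inv_mul_cancel, h1]
      rw [hu0] at this
      linear_combination this
    have : g = u * (u⁻¹ * g) := by group
    rw [this]
    exact Subgroup.mul_mem _ ((le_sup_left : Subgroup.zpowers u ≤ _) (Subgroup.mem_zpowers u))
      ((le_sup_right : Cfsg.oddCore G ≤ _) (hle hg))

open Cfsg Cfsg.Agent.Lib.helper3.Irr Cfsg.Agent.Lib.helper3.CharBasic
open Cfsg.Agent.Lib.Helper4.CharExtra
open scoped ComplexConjugate
open Classical

variable {G : Type*} [Group G] [Finite G] {u : G}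

theorem commutator_ne_top_of_sup (ho : orderOf u = 2)
    (hsup : Subgroup.zpowers u ⊔ Cfsg.oddCore G = ⊤) : commutator G ≠ ⊤ := by
  intro hG
  have hcomm : IsMulCommutative (G ⧸ Cfsg.oddCore G) := by
    have hpow : ∀ x : G ⧸ Cfsg.oddCore G, ∃ k : ℤ, x = (QuotientGroup.mk u) ^ k := by
      intro x
      obtain ⟨g, rfl⟩ := QuotientGroup.mk_surjective x
      have hg : g ∈ ((Subgroup.zpowers u ⊔ Cfsg.oddCore G : Subgroup G) : Set G) := by
        rw [hsup]; trivial
      rw [Subgroup.mul_normal] at hg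
      obtain ⟨h, hh, n, hn, rfl⟩ := Set.mem_mul.mp hg
      obtain ⟨k, rfl⟩ := Subgroup.mem_zpowers_iff.mp hh
      refine ⟨k, ?_⟩
      rw [QuotientGroup.mk_mul, (QuotientGroup.eq_one_iff n).mpr hn, mul_one,
        QuotientGroup.mk_zpow]
    refine ⟨⟨fun x y => ?_⟩⟩
    obtain ⟨k, rfl⟩ := hpow x
    obtain ⟨l, rfl⟩ := hpow y
    rw [← zpow_add, ← zpow_add, add_comm]
  have hle := Subgroup.Normal.quotient_commutative_iff_commutator_le.mp hcomm
  rw [hG, top_le_iff] at hle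
  have hcop := Cfsg.Agent.Lib.Lead.PiCore.pPrimeCore_coprime (G := G) Nat.prime_two
  have hcard : Nat.card (Cfsg.oddCore G) = Nat.card G := by
    show Nat.card (Cfsg.pPrimeCore 2 G) = Nat.card G
    have : Cfsg.pPrimeCore 2 G = ⊤ := hle
    rw [this, Subgroup.card_top]
  have hdvd : 2 ∣ Nat.card G := ho ▸ orderOf_dvd_natCard u
  have h2 : (Nat.card G).Coprime 2 := by
    rw [← hcard]; exact hcop
  have := Nat.Coprime.eq_one_of_dvd h2.symm hdvd
  omega

open Cfsg Cfsg.Agent.Lib.helper3.Irr Cfsg.Agent.Lib.helper3.CharBasic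
open Cfsg.Agent.Lib.Helper4.CharExtra
open scoped ComplexConjugate
open Classical

/-- Let u ≠ 1 be an element of the finite group G and c a complex number such that every non-principal irreducible character χ satisfies χ(1) − χ(u) = c or χ(u) = 0. Then the following are equivalent: (a) u has order 2, G is generated by u together with O(G), the largest normal subgroup of G of odd order, and the centralizer of u is {1, u}; (b) G is not perfect; (c) c = 2. -/
theorem result {G : Type*} [Group G] [Finite G] (u : G) (hu : u ≠ 1) (c : ℂ) (hyp : ∀ χ : Cfsg.IrrCharacter G, (χ : G → ℂ) ≠ (fun _ => (1 : ℂ)) → ((χ : G → ℂ) 1 - (χ : G → ℂ) u = c ∨ (χ : G → ℂ) u = 0)) : ((orderOf u = 2 ∧ Subgroup.zpowers u ⊔ Cfsg.oddCore G = ⊤ ∧ Subgroup.centralizer ({u} : Set G) = Subgroup.zpowers u) ↔ commutator G ≠ ⊤) ∧ (commutator G ≠ ⊤ ↔ c = 2) := by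
  have hyp' : ∀ χ : IrrCharacter G, χ ≠ triv G →
      ((χ : G → ℂ) 1 - (χ : G → ℂ) u = c ∨ (χ : G → ℂ) u = 0) :=
    fun χ hχ => hyp χ ((ne_triv_iff χ).mp hχ)
  have key : commutator G ≠ ⊤ → c = 2 ∧ orderOf u = 2 ∧
      Subgroup.zpowers u ⊔ Cfsg.oddCore G = ⊤ ∧
      Subgroup.centralizer ({u} : Set G) = Subgroup.zpowers u := by
    intro hG
    obtain ⟨χ₀, hχ₀, h1⟩ := exists_lin_of_commutator_ne_top hG
    obtain ⟨hpm, hu0, hc⟩ := lin_val_eq_neg_one hu hyp' hχ₀ h1
    subst hc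
    have hcard := card_centralizer_eq_two hu hyp' hχ₀ h1 hu0
    exact ⟨rfl, orderOf_eq_two hu hcard, sup_oddCore_eq_top hu hcard h1 hpm hu0,
      centralizer_eq_zpowers hu hcard⟩
  refine ⟨⟨fun h => commutator_ne_top_of_sup h.1 h.2.1, fun h => (key h).2⟩,
    ⟨fun h => (key h).1, fun h => ?_⟩⟩
  subst h
  exact commutator_ne_top_of_two hu hyp'

end Cfsg.Agent.S4757
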