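import Cfsg.Statements.S4762
import Mathlib
import Cfsg.Agent.Lib.helper3.Extraspecial2
import Cfsg.Agent.Lib.helper3.HallNilp
import Cfsg.Agent.Lib.helper3.AbelianInertia
import Cfsg.Agent.Lib.Helper4.Codegree
import Cfsg.Agent.Lib.Helper7.Core
import Cfsg.Agent.H1.FrattiniExtra
import Cfsg.Agent.S4493

set_option autoImplicit false

open Cfsg

namespace Cfsg.Agent.S4762

open Cfsg.Agent.Lib.helper3.Irr Cfsg.Agent.Lib.helper3.Central Cfsg.Agent.Lib.helper3.CharBasic
open Cfsg.Agent.Lib.Helper4.Codegree Cfsg.Agent.Lib.helper3.HallNilp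
open scoped ComplexConjugate
open scoped commutatorElement

variable {G : Type*} [Group G]

/-- if all irreducible characters are linear then the group is abelian -/
theorem commutator_eq_bot_of_all_linear [Finite G]
    (h : ∀ χ : IrrCharacter G, (χ : G → ℂ) 1 = 1) : commutator G = ⊥ := by
  classical
  letI : Fintype G := Fintype.ofFinite G
  have h1 := card_linear_eq_index_commutator (G := G)
  have h2 := sum_sq_degree (G := G)
  have h3 : Nat.card {χ : IrrCharacter G // (χ : G → ℂ) 1 = 1} = Nat.card (IrrCharacter G) :=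
    Nat.card_congr (Equiv.subtypeUnivEquiv h)
  have h4 : (Nat.card (IrrCharacter G) : ℂ) = (Nat.card G : ℂ) := by
    rw [← h2, Finset.sum_congr rfl (fun χ _ => by rw [h χ, one_pow])]
    simp [Nat.card_eq_fintype_card]
  have h5 : Nat.card (IrrCharacter G) = Nat.card G := by exact_mod_cast h4
  have h6 : (commutator G).index = Nat.card G := by rw [← h1, h3, h5]
  have h7 := (commutator G).card_mul_index
  rw [h6] at h7
  have h8 : Nat.card (commutator G) = 1 := by
    have hpos : 0 < Nat.card G := Nat.card_pos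
    exact Nat.eq_of_mul_eq_mul_right hpos (by rw [h7, one_mul])
  exact Subgroup.card_eq_one.mp h8

theorem quot_commutator_comm (a b : G ⧸ commutator G) : a * b = b * a := by
  obtain ⟨a, rfl⟩ := QuotientGroup.mk_surjective a
  obtain ⟨b, rfl⟩ := QuotientGroup.mk_surjective b
  rw [← QuotientGroup.mk_mul, ← QuotientGroup.mk_mul]
  apply (QuotientGroup.eq).mpr
  have : (a * b)⁻¹ * (b * a) = ⁅b⁻¹, a⁻¹⁆ := by
    rw [commutatorElement_def]; group
  rw [this]
  exact Subgroup.commutator_mem_commutator (Subgroup.mem_top _) (Subgroup.mem_top _)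

/-- linear characters separate the elements outside the commutator subgroup -/
theorem exists_linear_ne_one [Finite G] (g : G) (hg : g ∉ commutator G) :
    ∃ lam : G → ℂ, IsCharacter G lam ∧ lam 1 = 1 ∧ lam g ≠ 1 := by
  classical
  letI : Fintype G := Fintype.ofFinite G
  letI : Fintype (G ⧸ commutator G) := Fintype.ofFinite _
  have hne : ¬ IsConj ((g : G) : G ⧸ commutator G) 1 := by
    intro h
    rw [isConj_one_left] at h
    exact hg ((QuotientGroup.eq_one_iff _).mp h)
  have hcol := (column_orthogonality ((g : G) : G ⧸ commutator G) 1).2 hne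
  by_contra hcon
  push Not at hcon
  have h1 : ∀ χ : IrrCharacter (G ⧸ commutator G), (χ : G ⧸ commutator G → ℂ) 1 = 1 :=
    fun χ => apply_one_eq_one_of_comm quot_commutator_comm χ.2
  have h2 : ∀ χ : IrrCharacter (G ⧸ commutator G),
      (χ : G ⧸ commutator G → ℂ) ((g : G) : G ⧸ commutator G) = 1 := by
    intro χ
    have hinf := isIrrCharacter_inflate (commutator G) χ.2
    have := hcon (inflate (commutator G) (χ : G ⧸ commutator G → ℂ))
      (isCharacter_of_isIrrCharacter hinf)
      (by rw [inflate_apply, QuotientGroup.mk_one, h1 χ])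
    rwa [inflate_apply] at this
  rw [Finset.sum_congr rfl (fun χ _ => by rw [h2 χ, h1 χ, map_one, mul_one])] at hcol
  simp only [Finset.sum_const, Finset.card_univ, nsmul_eq_mul, mul_one] at hcol
  have hpos : 0 < Fintype.card (IrrCharacter (G ⧸ commutator G)) :=
    Fintype.card_pos_iff.mpr ⟨⟨fun _ => 1, isIrrCharacter_one⟩⟩
  have : (Fintype.card (IrrCharacter (G ⧸ commutator G)) : ℂ) ≠ 0 := by
    exact_mod_cast hpos.ne'
  exact this hcol

/-- the unique character of degree divisible by `p` vanishes off the commutator subgroup -/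
theorem vanish_off_commutator [Finite G] (p : ℕ) (χ₀ : IrrCharacter G)
    (huniq : ∀ χ : IrrCharacter G, p ∣ charDegree (χ : G → ℂ) → χ = χ₀)
    (hp0 : p ∣ charDegree (χ₀ : G → ℂ)) (g : G) (hg : g ∉ commutator G) :
    (χ₀ : G → ℂ) g = 0 := by
  classical
  letI : Fintype G := Fintype.ofFinite G
  obtain ⟨lam, hlam, h1, hne⟩ := exists_linear_ne_one g hg
  have hirr := isIrrCharacter_linear_mul hlam h1 χ₀.2
  have hdeg : charDegree (lam * (χ₀ : G → ℂ)) = charDegree (χ₀ : G → ℂ) := by
    unfold charDegree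
    rw [Pi.mul_apply, h1, one_mul]
  have heq := huniq ⟨lam * (χ₀ : G → ℂ), hirr⟩ (by rw [hdeg]; exact hp0)
  have h2 : lam g * (χ₀ : G → ℂ) g = (χ₀ : G → ℂ) g := by
    have := congrArg (fun χ : IrrCharacter G => (χ : G → ℂ) g) heq
    simpa using this
  have h3 : (lam g - 1) * (χ₀ : G → ℂ) g = 0 := by linear_combination h2
  rcases mul_eq_zero.mp h3 with h | h
  · exact absurd (sub_eq_zero.mp h) hne
  · exact h

/-- Step A: the group is a `p`-group -/
theorem isPGroup_of_unique [Finite G] [hnil : Group.IsNilpotent G] (p : ℕ) [hp : Fact p.Prime]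
    (χ₀ : IrrCharacter G)
    (huniq : ∀ χ : IrrCharacter G, p ∣ charDegree (χ : G → ℂ) → χ = χ₀)
    (hp0 : p ∣ charDegree (χ₀ : G → ℂ)) : IsPGroup p G := by
  classical
  letI : Fintype G := Fintype.ofFinite G
  obtain ⟨K, hKn, hmemK, j, hidx⟩ := exists_hall_pprime (E := G) p
  haveI := hKn
  obtain ⟨P⟩ : Nonempty (Sylow p G) := inferInstance
  haveI hPn : (P : Subgroup G).Normal := inferInstance
  have hPK : ∀ x ∈ (P : Subgroup G), x ∈ K → x = 1 := by
    intro x hxP hxK
    obtain ⟨i, hi⟩ := (P.isPGroup') ⟨x, hxP⟩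
    have hxi : x ^ p ^ i = 1 := congrArg Subtype.val hi
    have hdvd : orderOf x ∣ p ^ i := orderOf_dvd_of_pow_eq_one hxi
    have hnd := (hmemK x).mp hxK
    obtain ⟨l, hl, hol⟩ := (Nat.dvd_prime_pow hp.out).mp hdvd
    rcases l with _ | l
    · rw [pow_zero] at hol
      exact orderOf_eq_one_iff.mp hol
    · exfalso
      apply hnd
      rw [hol]
      exact dvd_pow_self p (Nat.succ_ne_zero l)
  -- `G ⧸ K` is nonabelian
  have hnonab : commutator (G ⧸ K) ≠ ⊥ := by
    intro hbot
    have hcen := (commutator_eq_bot_iff_center_eq_top (G ⧸ K)).mp hbot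
    have hc : ∀ a b : G ⧸ K, a * b = b * a := by
      intro a b
      have hb : b ∈ Subgroup.center (G ⧸ K) := by rw [hcen]; exact Subgroup.mem_top b
      exact Subgroup.mem_center_iff.mp hb a
    have hPab : ∀ x ∈ (P : Subgroup G), ∀ y ∈ (P : Subgroup G), x * y = y * x := by
      intro x hx y hy
      have hmem : (y * x)⁻¹ * (x * y) ∈ K := by
        apply (QuotientGroup.eq).mp
        rw [QuotientGroup.mk_mul, QuotientGroup.mk_mul]
        exact hc _ _
      have hmemP : (y * x)⁻¹ * (x * y) ∈ (P : Subgroup G) :=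
        (P : Subgroup G).mul_mem ((P : Subgroup G).inv_mem ((P : Subgroup G).mul_mem hy hx))
          ((P : Subgroup G).mul_mem hx hy)
      have := hPK _ hmemP hmem
      exact (inv_mul_eq_one.mp this).symm
    have h4493 := (Cfsg.Agent.S4493.result (G := G) inferInstance p hp.out).mp
      ⟨P, hPn, hPab, P.isPGroup', P.not_dvd_index⟩
    exact h4493 χ₀ hp0
  have hex : ∃ ψ : IrrCharacter (G ⧸ K), (ψ : G ⧸ K → ℂ) 1 ≠ 1 := by
    by_contra hcon
    push Not at hcon
    exact hnonab (commutator_eq_bot_of_all_linear hcon)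
  obtain ⟨ψ, hψ⟩ := hex
  letI : Fintype (G ⧸ K) := Fintype.ofFinite _
  obtain ⟨n, hn1, hndvd, hnpos⟩ := irr_degree_dvd_card ψ.2
  have hcardQ : Nat.card (G ⧸ K) = p ^ j := by rw [← hidx]; rfl
  rw [hcardQ] at hndvd
  obtain ⟨l, hl, rfl⟩ := (Nat.dvd_prime_pow hp.out).mp hndvd
  have hl0 : l ≠ 0 := by
    rintro rfl
    apply hψ
    rw [hn1]
    simp
  have hinf := isIrrCharacter_inflate K ψ.2
  have hinf1 : inflate K (ψ : G ⧸ K → ℂ) 1 = ((p ^ l : ℕ) : ℂ) := by
    rw [inflate_apply, QuotientGroup.mk_one, hn1]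
  have hdeg : charDegree (inflate K (ψ : G ⧸ K → ℂ)) = p ^ l := charDegree_eq hinf1
  have heq := huniq ⟨inflate K (ψ : G ⧸ K → ℂ), hinf⟩ (by
    change p ∣ charDegree (inflate K (ψ : G ⧸ K → ℂ))
    rw [hdeg]
    exact dvd_pow_self p hl0)
  have hconst : ∀ k ∈ K, (χ₀ : G → ℂ) k = (χ₀ : G → ℂ) 1 := by
    intro k hk
    rw [← heq]
    exact inflate_apply_of_mem K _ hk
  have h10 : (χ₀ : G → ℂ) 1 ≠ 0 := by
    rw [← heq]
    change inflate K (ψ : G ⧸ K → ℂ) 1 ≠ 0
    rw [hinf1]
    exact_mod_cast (pow_pos hp.out.pos l).ne'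
  have hKle : K ≤ commutator G := by
    intro k hk
    by_contra hkc
    have := vanish_off_commutator p χ₀ huniq hp0 k hkc
    rw [hconst k hk] at this
    exact h10 this
  have hKfr : K ≤ frattini G := hKle.trans Cfsg.Agent.H1.commutator_le_frattini_of_nilpotent
  have hcopK : (Nat.card K).Coprime K.index := by
    rw [hidx]
    apply Nat.Coprime.pow_right
    rw [Nat.coprime_comm, Nat.Prime.coprime_iff_not_dvd hp.out]
    intro hdvd
    obtain ⟨x, hx⟩ := exists_prime_orderOf_dvd_card' (G := K) p hdvd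
    apply (hmemK (x : G)).mp x.2
    rw [Subgroup.orderOf_coe, hx]
  obtain ⟨L, hL⟩ := Subgroup.exists_right_complement'_of_coprime hcopK
  have hsup : K ⊔ L = ⊤ := hL.sup_eq_top
  have hLtop : L = ⊤ := by
    apply frattini_nongenerating
    rw [eq_top_iff, ← hsup, sup_comm]
    exact sup_le_sup_left hKfr L
  have hK1 : Nat.card K = 1 := by
    have := hL.card_mul_card
    rw [hLtop, Subgroup.card_top] at this
    exact Nat.eq_of_mul_eq_mul_right Nat.card_pos (by rw [this, one_mul])
  have hcard : Nat.card G = p ^ j := by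
    have := K.card_mul_index
    rw [hK1, one_mul, hidx] at this
    exact this.symm
  exact IsPGroup.of_card hcard

/-- the arithmetic core -/
theorem nt (p : ℕ) (hp : p.Prime) (m a b I : ℕ) (h1 : p ^ b * I = p ^ m)
    (h2 : I + (p ^ a) ^ 2 = p ^ m) : p = 2 ∧ b = 1 ∧ I = (p ^ a) ^ 2 := by
  have hpb : 1 ≤ p ^ b := Nat.one_le_pow _ _ hp.pos
  have hpa : 0 < (p ^ a) ^ 2 := pow_pos (pow_pos hp.pos a) 2
  have key : (p ^ b - 1) * I = (p ^ a) ^ 2 := by
    rw [Nat.sub_mul, one_mul, h1, ← h2]
    omega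
  have hd : p ^ b - 1 ∣ p ^ (a * 2) := ⟨I, by rw [key, pow_mul]⟩
  obtain ⟨c, hc, hpc⟩ := (Nat.dvd_prime_pow hp).mp hd
  have hb0 : b ≠ 0 := by
    rintro rfl
    rw [pow_zero] at hpc
    have : 0 < p ^ c := pow_pos hp.pos c
    omega
  have hc0 : c = 0 := by
    by_contra hc0
    have h3 : p ∣ p ^ b - 1 := by rw [hpc]; exact dvd_pow_self p hc0
    have h4 : p ∣ p ^ b := dvd_pow_self p hb0
    have h5 : p ∣ p ^ b - (p ^ b - 1) := Nat.dvd_sub h4 h3
    have h6 : p ^ b - (p ^ b - 1) = 1 := by omega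
    rw [h6] at h5
    exact hp.one_lt.ne' (Nat.dvd_one.mp h5)
  rw [hc0, pow_zero] at hpc
  have hpb2 : p ^ b = 2 := by omega
  have hp2 : p = 2 := by
    have : p ∣ 2 := by rw [← hpb2]; exact dvd_pow_self p hb0
    exact (Nat.prime_dvd_prime_iff_eq hp Nat.prime_two).mp this
  refine ⟨hp2, ?_, ?_⟩
  · subst hp2
    have : 2 ^ b = 2 ^ 1 := by rw [hpb2, pow_one]
    exact Nat.pow_right_injective (le_refl 2) this
  · rw [hpc, one_mul] at key
    exact key

/-- a normal subgroup of order two is central -/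
theorem le_center_of_card_two (N : Subgroup G) [hN : N.Normal] (h2 : Nat.card N = 2) :
    N ≤ Subgroup.center G := by
  intro z hz
  rw [Subgroup.mem_center_iff]
  intro g
  by_cases hz1 : z = 1
  · rw [hz1, mul_one, one_mul]
  · obtain ⟨y, -, hy⟩ := (Nat.card_eq_two_iff' (1 : N)).mp h2
    have e1 : (⟨z, hz⟩ : N) = y := hy _ (fun h => hz1 (congrArg Subtype.val h))
    have e2 : (⟨g * z * g⁻¹, hN.conj_mem z hz g⟩ : N) = y := by
      apply hy
      intro h
      have h' : g * z * g⁻¹ = 1 := congrArg Subtype.val h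
      apply hz1
      have : z = g⁻¹ * (g * z * g⁻¹) * g := by group
      rw [this, h']
      group
    have e3 : g * z * g⁻¹ = z := by
      have := e2.trans e1.symm
      exact congrArg Subtype.val this
    calc g * z = g * z * g⁻¹ * g := by group
      _ = z * g := by rw [e3]

/-- Step B: a `p`-group with a unique nonlinear irreducible character is an extraspecial
2-group. -/
theorem extraspecial_of_unique [Finite G] (p : ℕ) [hp : Fact p.Prime] (hG : IsPGroup p G)
    (χ₀ : IrrCharacter G)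
    (huniq : ∀ χ : IrrCharacter G, p ∣ charDegree (χ : G → ℂ) → χ = χ₀)
    (hp0 : p ∣ charDegree (χ₀ : G → ℂ)) : p = 2 ∧ IsExtraspecial 2 G := by
  classical
  letI : Fintype G := Fintype.ofFinite G
  haveI hnil : Group.IsNilpotent G := hG.isNilpotent
  obtain ⟨m, hm⟩ := IsPGroup.iff_card.mp hG
  have hdeg : ∀ χ : IrrCharacter G, ∃ a : ℕ, (χ : G → ℂ) 1 = ((p ^ a : ℕ) : ℂ) ∧
      charDegree (χ : G → ℂ) = p ^ a := by
    intro χ
    obtain ⟨n, hn1, hndvd, -⟩ := irr_degree_dvd_card χ.2
    rw [hm] at hndvd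
    obtain ⟨a, -, rfl⟩ := (Nat.dvd_prime_pow hp.out).mp hndvd
    exact ⟨a, hn1, charDegree_eq hn1⟩
  have hnl : ∀ χ : IrrCharacter G, (χ : G → ℂ) 1 ≠ 1 → χ = χ₀ := by
    intro χ h
    obtain ⟨a, ha, hd⟩ := hdeg χ
    apply huniq
    rw [hd]
    have : a ≠ 0 := by
      rintro rfl
      apply h
      rw [ha]
      simp
    exact dvd_pow_self p this
  obtain ⟨a, ha, hda⟩ := hdeg χ₀
  have ha0 : a ≠ 0 := by
    rintro rfl
    rw [hda, pow_zero] at hp0
    exact hp.out.one_lt.ne' (Nat.dvd_one.mp hp0)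
  have hχ₀1 : (χ₀ : G → ℂ) 1 ≠ 1 := by
    rw [ha]
    have : 1 < p ^ a := Nat.one_lt_pow ha0 hp.out.one_lt
    exact_mod_cast this.ne'
  have hsum := sum_sq_degree (G := G)
  have hlin := card_linear_eq_index_commutator (G := G)
  have hcount : (commutator G).index + (p ^ a) ^ 2 = p ^ m := by
    rw [← Finset.sum_filter_add_sum_filter_not Finset.univ
      (fun χ : IrrCharacter G => (χ : G → ℂ) 1 = 1)] at hsum
    have h1 : ∑ χ ∈ Finset.univ.filter (fun χ : IrrCharacter G => (χ : G → ℂ) 1 = 1),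
        (χ : G → ℂ) 1 ^ 2 = ((commutator G).index : ℂ) := by
      rw [Finset.sum_congr rfl (fun χ hχ => by rw [(Finset.mem_filter.mp hχ).2, one_pow])]
      rw [Finset.sum_const, nsmul_eq_mul, mul_one, ← hlin, Nat.card_eq_fintype_card,
        Fintype.card_subtype]
    have h2 : Finset.univ.filter (fun χ : IrrCharacter G => ¬ (χ : G → ℂ) 1 = 1) = {χ₀} := by
      ext χ
      simp only [Finset.mem_filter, Finset.mem_univ, true_and, Finset.mem_singleton]
      constructor
      · exact hnl χ
      · rintro rfl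
        exact hχ₀1
    rw [h1, h2, Finset.sum_singleton, ha, hm] at hsum
    exact_mod_cast hsum
  obtain ⟨b, hb⟩ := IsPGroup.iff_card.mp (hG.to_subgroup (commutator G))
  have hci := (commutator G).card_mul_index
  rw [hb, hm] at hci
  obtain ⟨hp2, hb1, hI⟩ := nt p hp.out m a b _ hci hcount
  subst hp2
  rw [hb1, pow_one] at hb
  -- `G' ≤ Z(G)`
  have hle1 : commutator G ≤ Subgroup.center G := le_center_of_card_two _ hb
  -- `Z(G) ≤ G'`
  have hle2 : Subgroup.center G ≤ commutator G := by
    intro w hw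
    by_contra hwc
    have h0 := vanish_off_commutator 2 χ₀ huniq hp0 w hwc
    obtain ⟨d, ρ, hirr, hρ⟩ := χ₀.2
    haveI := hirr
    obtain ⟨lam, hlam⟩ := exists_central_hom ρ
    have h1 := character_mul_central ρ lam hlam 1 ⟨w, hw⟩
    rw [one_mul] at h1
    change ρ.character w = _ at h1
    rw [hρ, h0] at h1
    have hlamw : lam ⟨w, hw⟩ ≠ 0 := by
      intro h
      have h2 : lam ⟨w, hw⟩ * lam (⟨w, hw⟩)⁻¹ = 1 := by
        rw [← map_mul, mul_inv_cancel, map_one]
      rw [h, zero_mul] at h2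
      exact zero_ne_one h2
    have h10 : (χ₀ : G → ℂ) 1 ≠ 0 := by
      rw [ha]
      exact_mod_cast (pow_pos Nat.two_pos a).ne'
    rcases mul_eq_zero.mp h1.symm with h | h
    · exact hlamw h
    · exact h10 h
  have hcz : commutator G = Subgroup.center G := le_antisymm hle1 hle2
  -- squares are central
  have hsq : ∀ x : G, x ^ 2 ∈ commutator G := by
    intro x
    rw [hcz, Subgroup.mem_center_iff]
    intro y
    set c : G := ⁅x, y⁆ with hc
    have hcmem : c ∈ commutator G :=
      Subgroup.commutator_mem_commutator (Subgroup.mem_top _) (Subgroup.mem_top _)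
    have hccen : ∀ g : G, g * c = c * g :=
      fun g => Subgroup.mem_center_iff.mp (hle1 hcmem) g
    have hc2 : c * c = 1 := by
      have h1 : (⟨c, hcmem⟩ : commutator G) ^ 2 = 1 := by
        rw [← hb]
        exact pow_card_eq_one'
      have h2 : c ^ 2 = 1 := congrArg Subtype.val h1
      rw [pow_two] at h2
      exact h2
    have hxy : x * y = c * y * x := by
      rw [hc, commutatorElement_def]
      group
    calc y * x ^ 2 = (c * c) * y * x * x := by rw [hc2, one_mul, pow_two, mul_assoc]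
      _ = c * (c * y * x) * x := by group
      _ = c * (x * y) * x := by rw [← hxy]
      _ = (c * x) * y * x := by group
      _ = (x * c) * y * x := by rw [hccen x]
      _ = x * (c * y * x) := by group
      _ = x * (x * y) := by rw [← hxy]
      _ = x ^ 2 * y := by rw [pow_two, mul_assoc]
  have hfr : frattini G = Subgroup.center G := by
    rw [← hcz]
    apply le_antisymm
    · apply Cfsg.Agent.Lib.Helper7.frattini_le_of_elemAb_quotient 2 (commutator G)
      · intro x y
        have : x * y * x⁻¹ * y⁻¹ = ⁅x, y⁆ := by rw [commutatorElement_def]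
        rw [this]
        exact Subgroup.commutator_mem_commutator (Subgroup.mem_top _) (Subgroup.mem_top _)
      · exact hsq
    · exact Cfsg.Agent.H1.commutator_le_frattini_of_nilpotent
  refine ⟨rfl, ⟨hG, hfr, hcz⟩, ?_⟩
  rw [← hcz]
  exact hb

/-- a nonlinear irreducible character of a group with `G' = Z(G)` of prime order `p` has
`|G| = p χ(1)²` -/
theorem card_eq_of_nonlinear [Fintype G] (p : ℕ) [hp : Fact p.Prime]
    (hcomm : commutator G = Subgroup.center G) (hZ : Nat.card (Subgroup.center G) = p)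
    {χ : G → ℂ} (hχ : IsIrrCharacter G χ) (h1 : χ 1 ≠ 1) :
    ∃ d : ℕ, χ 1 = d ∧ Nat.card G = p * d ^ 2 := by
  classical
  obtain ⟨d, ρ, hirr, rfl⟩ := hχ
  haveI := hirr
  obtain ⟨lam, hlam⟩ := exists_central_hom ρ
  by_cases htriv : ∀ z, lam z = 1
  · exfalso
    apply h1
    have hconst : ∀ g n : G, n ∈ commutator G → ρ.character (g * n) = ρ.character g := by
      intro g n hn
      rw [hcomm] at hn
      have := character_mul_central ρ lam hlam g ⟨n, hn⟩
      rw [htriv, one_mul] at this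
      exact this
    obtain ⟨ψ, hψ, hχψ⟩ := exists_eq_inflate (isIrrCharacter_of_rep ρ) (commutator G) hconst
    have hψ1 : ψ 1 = 1 := apply_one_eq_one_of_comm quot_commutator_comm hψ
    have := congrFun hχψ 1
    rw [inflate_apply, QuotientGroup.mk_one, hψ1] at this
    exact this
  · push Not at htriv
    have hker := hom_ne_one_of_prime_card hZ lam htriv
    have hvan := character_vanish_off_center hcomm ρ lam hlam hker
    have h2 := card_eq_card_center_mul_sq ρ hvan
    rw [hZ] at h2
    exact ⟨Module.finrank ℂ (Fin d → ℂ), Representation.char_one ρ, h2⟩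

theorem backward [Finite G] (hE : IsExtraspecial 2 G) :
    Nat.card {χ : IrrCharacter G // 2 ∣ charDegree (χ : G → ℂ)} = 1 := by
  classical
  letI : Fintype G := Fintype.ofFinite G
  haveI : Fact (Nat.Prime 2) := ⟨Nat.prime_two⟩
  obtain ⟨⟨hpg, hfr, hcomm⟩, hZ⟩ := hE
  obtain ⟨m, hm⟩ := IsPGroup.iff_card.mp hpg
  have hex : ∃ χ : IrrCharacter G, (χ : G → ℂ) 1 ≠ 1 := by
    by_contra hcon
    push Not at hcon
    have hbot := commutator_eq_bot_of_all_linear hcon
    rw [hcomm] at hbot
    rw [hbot] at hZ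
    simp at hZ
  obtain ⟨χ, hχ⟩ := hex
  obtain ⟨d, hd1, hcard⟩ := card_eq_of_nonlinear 2 hcomm hZ χ.2 hχ
  have hdd : d ∣ 2 ^ m := by
    rw [← hm, hcard, pow_two, ← mul_assoc]
    exact dvd_mul_left d _
  obtain ⟨n, -, rfl⟩ := (Nat.dvd_prime_pow Nat.prime_two).mp hdd
  have hcard' : Nat.card G = 2 ^ (2 * n + 1) := by
    rw [hcard]; ring
  have hn0 : n ≠ 0 := by
    rintro rfl
    apply hχ
    rw [hd1]
    simp
  have hnum := extraspecial_card_nonlinear 2 n hcomm hZ hcard'
  have hiff : ∀ χ : IrrCharacter G,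
      2 ∣ charDegree (χ : G → ℂ) ↔ (χ : G → ℂ) 1 = ((2 : ℕ) : ℂ) ^ n := by
    intro χ
    constructor
    · intro h2
      rcases extraspecial_degree 2 n hcomm hZ hcard' χ.2 with h | h
      · exfalso
        have : charDegree (χ : G → ℂ) = 1 := charDegree_eq (by rw [h]; simp)
        rw [this] at h2
        omega
      · exact h
    · intro h
      have : charDegree (χ : G → ℂ) = 2 ^ n := charDegree_eq (by rw [h]; push_cast; rfl)
      rw [this]
      exact dvd_pow_self 2 hn0
  rw [Nat.card_congr (Equiv.subtypeEquivRight hiff), hnum]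

/-- Let p be a prime and G a finite nilpotent group. Then G has exactly one irreducible complex character of degree divisible by p if and only if p = 2 and G is an extraspecial 2-group. -/
theorem result {G : Type*} [Group G] [Finite G] [Group.IsNilpotent G] (p : ℕ) [Fact p.Prime] : Nat.card {χ : Cfsg.IrrCharacter G // p ∣ Cfsg.charDegree (χ : G → ℂ)} = 1 ↔ (p = 2 ∧ Cfsg.IsExtraspecial 2 G) := by
  constructor
  · intro h
    obtain ⟨⟨χ₀, hp0⟩, huniq'⟩ := Nat.card_eq_one_iff_exists.mp h
    have huniq : ∀ χ : IrrCharacter G, p ∣ charDegree (χ : G → ℂ) → χ = χ₀ :=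
      fun χ hχ => congrArg Subtype.val (huniq' ⟨χ, hχ⟩)
    have hG := isPGroup_of_unique p χ₀ huniq hp0
    exact extraspecial_of_unique p hG χ₀ huniq hp0
  · rintro ⟨rfl, hE⟩
    exact backward hE

end Cfsg.Agent.S4762
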