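import Cfsg.Statements.S4774
import Cfsg.Agent.H9.PSL2DegreesOdd

set_option autoImplicit false
open Cfsg

namespace Cfsg.Agent.S4774

open Cfsg.Agent.H9.DegreeGraphSL2

/-- Let F be a finite field of odd characteristic t with q > 5 elements and let S be isomorphic to PSL(2,F) or to SL(2,F). Then the vertices of the character degree graph of S are the primes dividing q(q²−1); the prime t is adjacent to no vertex; two distinct primes dividing q² − 1 are adjacent exactly when one of them is 2, or both divide q + 1, or both divide q − 1. -/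
theorem result (F : Type*) [Field F] [Fintype F] (t : ℕ) [Fact t.Prime] [CharP F t] (ht : t ≠ 2) (q : ℕ) (hq : Fintype.card F = q) (h5 : 5 < q) {S : Type*} [Group S] [Finite S] (hS : Nonempty (S ≃* Matrix.ProjectiveSpecialLinearGroup (Fin 2) F) ∨ Nonempty (S ≃* Matrix.SpecialLinearGroup (Fin 2) F)) : Cfsg.degreePrimes S = {r : ℕ | r.Prime ∧ r ∣ q * (q ^ 2 - 1)} ∧ ∀ r s : ℕ, (Cfsg.degreeGraph S).Adj r s ↔ (r ≠ s ∧ r.Prime ∧ s.Prime ∧ r ∣ q ^ 2 - 1 ∧ s ∣ q ^ 2 - 1 ∧ (r = 2 ∨ s = 2 ∨ (r ∣ q + 1 ∧ s ∣ q + 1) ∨ (r ∣ q - 1 ∧ s ∣ q - 1))) := by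
  subst hq
  have hodd : Odd (Fintype.card F) := by
    have hc : ringChar F ≠ 2 := by rw [ringChar.eq F t]; exact ht
    exact Nat.odd_iff.mpr (FiniteField.odd_card_of_char_ne_two hc)
  have h4 : 4 ≤ Fintype.card F := by omega
  have hsubS : ∀ d ∈ charDegrees S, d = 1 ∨ d = Fintype.card F ∨ d = Fintype.card F + 1 ∨
      d = Fintype.card F - 1 ∨ (Odd (Fintype.card F) ∧
        (d = (Fintype.card F + 1) / 2 ∨ d = (Fintype.card F - 1) / 2)) := by
    intro d hd
    rcases hS with ⟨⟨e⟩⟩ | ⟨⟨e⟩⟩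
    · rw [charDegrees_mulEquiv e] at hd
      exact charDegrees_sl2_cases d (charDegrees_psl2_subset hd)
    · rw [charDegrees_mulEquiv e] at hd
      exact charDegrees_sl2_cases d hd
  have hmem : Fintype.card F ∈ charDegrees S ∧ Fintype.card F + 1 ∈ charDegrees S ∧
      Fintype.card F - 1 ∈ charDegrees S := by
    rcases hS with ⟨⟨e⟩⟩ | ⟨⟨e⟩⟩
    · rw [charDegrees_mulEquiv e]
      exact ⟨card_mem_charDegrees_psl2 h4, add_one_mem_charDegrees_psl2 h5,
        sub_one_mem_charDegrees_psl2 hodd h5⟩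
    · rw [charDegrees_mulEquiv e]
      exact card_mem_charDegrees_sl2 h4
  obtain ⟨key1, key2⟩ := degree_graph_of_degrees (Fintype.card F) h4
    (FiniteField.isPrimePow_card F) hsubS hmem.1 hmem.2.1 hmem.2.2
  refine ⟨key1, ?_⟩
  intro r s
  rw [key2 r s]
  have hsq := sq_sub_one (Fintype.card F) (by omega)
  have h2a : 2 ∣ Fintype.card F + 1 := by
    obtain ⟨k, hk⟩ := hodd
    exact ⟨k + 1, by omega⟩
  have h2b : 2 ∣ Fintype.card F - 1 := by
    obtain ⟨k, hk⟩ := hodd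
    exact ⟨k, by omega⟩
  constructor
  · rintro ⟨hne, hr, hs, h⟩
    refine ⟨hne, hr, hs, ?_, ?_, Or.inr (Or.inr h)⟩
    · rw [hsq]
      rcases h with ⟨a, -⟩ | ⟨a, -⟩
      · exact Dvd.dvd.mul_right a _
      · exact Dvd.dvd.mul_left a _
    · rw [hsq]
      rcases h with ⟨-, b⟩ | ⟨-, b⟩
      · exact Dvd.dvd.mul_right b _
      · exact Dvd.dvd.mul_left b _
  · rintro ⟨hne, hr, hs, hr', hs', h⟩
    refine ⟨hne, hr, hs, ?_⟩
    rw [hsq] at hr' hs'
    rcases h with rfl | rfl | h | h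
    · rcases (Nat.Prime.dvd_mul hs).mp hs' with h | h
      · exact Or.inl ⟨h2a, h⟩
      · exact Or.inr ⟨h2b, h⟩
    · rcases (Nat.Prime.dvd_mul hr).mp hr' with h | h
      · exact Or.inl ⟨h, h2a⟩
      · exact Or.inr ⟨h, h2b⟩
    · exact Or.inl h
    · exact Or.inr h

end Cfsg.Agent.S4774
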