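import Cfsg.Statements.S4784
import Mathlib
import Cfsg.Agent.Lib.Helper4.FS
import Cfsg.Agent.Lib.Helper4.InflateEquiv
import Cfsg.Agent.Lib.helper3.Irr11
import Cfsg.Agent.Lib.helper3.Irr5

set_option autoImplicit false
open Cfsg

namespace Cfsg.Agent.S4784

open Cfsg Module Cfsg.Agent.Lib.helper3.IndFun Cfsg.Agent.Lib.helper3.CharBasic
open Cfsg.Agent.Lib.helper3.Irr Cfsg.Agent.Lib.Helper4.InflateEquiv
open scoped ComplexConjugate
open Classical

section aux

variable {G : Type*} [Group G] [Fintype G]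

/-- the number of `x` with `x⁻¹ g x ∈ H` -/
noncomputable def cnt (H : Subgroup G) (g : G) : ℕ :=
  (Finset.univ.filter (fun x : G => x⁻¹ * g * x ∈ H)).card

theorem indFun_one_apply (H : Subgroup G) (g : G) :
    indFun H (fun _ : H => (1 : ℂ)) g = (Nat.card H : ℂ)⁻¹ * (cnt H g : ℂ) := by
  rw [indFun_apply]
  congr 1
  unfold cnt
  rw [Finset.card_filter]
  push_cast
  apply Finset.sum_congr rfl
  intro x _
  rw [extendByZero_eq_ite]
  simp only [dite_eq_ite]

theorem cnt_le_sq (H : Subgroup G) (g : G) : cnt H g ≤ cnt H (g * g) := by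
  apply Finset.card_le_card
  intro x hx
  simp only [Finset.mem_filter, Finset.mem_univ, true_and] at hx ⊢
  have : x⁻¹ * (g * g) * x = (x⁻¹ * g * x) * (x⁻¹ * g * x) := by group
  rw [this]
  exact H.mul_mem hx hx

theorem cnt_of_mem_core (H : Subgroup G) {k : G} (hk : k ∈ H.normalCore) :
    cnt H k = Fintype.card G := by
  unfold cnt
  rw [Finset.filter_true_of_mem, Finset.card_univ]
  intro x _
  have h : ∀ b : G, b * k * b⁻¹ ∈ H := hk
  have := h x⁻¹
  rwa [inv_inv] at this

theorem cnt_lt_of_not_mem_core (H : Subgroup G) {g : G} (hg : g ∉ H.normalCore) :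
    cnt H g < Fintype.card G := by
  unfold cnt
  rw [← Finset.card_univ]
  apply Finset.card_lt_card
  rw [Finset.ssubset_univ_iff]
  intro h
  apply hg
  show ∀ b : G, b * g * b⁻¹ ∈ H
  intro b
  have h2 : b⁻¹ ∈ Finset.univ.filter (fun x : G => x⁻¹ * g * x ∈ H) := by
    rw [h]
    exact Finset.mem_univ _
  have h3 := (Finset.mem_filter.mp h2).2
  rwa [inv_inv] at h3

theorem isCharacter_perm (H : Subgroup G) : IsCharacter G (indFun H (fun _ : H => (1 : ℂ))) :=
  isCharacter_indFun H _ isCharacter_one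

theorem classInner_perm_one (H : Subgroup G) :
    classInner (indFun H (fun _ : H => (1 : ℂ))) (fun _ => (1 : ℂ)) = 1 := by
  rw [frobenius_reciprocity H _ _ (fun _ _ => rfl)]
  exact classInner_one_one

theorem sum_cnt (H : Subgroup G) : ∑ x : G, cnt H x = Nat.card H * Nat.card G := by
  have h := classInner_perm_one H
  rw [classInner_apply] at h
  simp only [map_one, mul_one, indFun_one_apply] at h
  rw [← Finset.mul_sum] at h
  have hG : (Nat.card G : ℂ) ≠ 0 := card_ne_zero_complex G
  have hH : (Nat.card H : ℂ) ≠ 0 := card_ne_zero_complex H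
  have h2 : ((∑ x : G, cnt H x : ℕ) : ℂ) = ((Nat.card H * Nat.card G : ℕ) : ℂ) := by
    push_cast
    field_simp at h
    rw [h]
    ring
  exact_mod_cast h2

/-- the Frobenius--Schur count of the permutation character -/
theorem key_identity (H : Subgroup G) :
    ∑ ψ : IrrCharacter G, classInner (indFun H (fun _ : H => (1 : ℂ))) (ψ : G → ℂ) *
        fsInd (ψ : G → ℂ)
      = (Nat.card G : ℂ)⁻¹ * ∑ x : G, indFun H (fun _ : H => (1 : ℂ)) (x * x) := by
  obtain ⟨π, hπ⟩ : ∃ π : G → ℂ, π = indFun H (fun _ : H => (1 : ℂ)) := ⟨_, rfl⟩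
  rw [← hπ]
  have hπc : IsCharacter G π := by rw [hπ]; exact isCharacter_perm H
  have hπx : ∀ x, π x = ∑ ψ : IrrCharacter G, classInner π (ψ : G → ℂ) * (ψ : G → ℂ) x := by
    intro x
    have := congrFun (isCharacter_eq_sum_classInner hπc) x
    rw [Finset.sum_apply] at this
    simpa using this
  have h2 : ∑ x : G, π (x * x)
      = ∑ ψ : IrrCharacter G, classInner π (ψ : G → ℂ) * ∑ x : G, (ψ : G → ℂ) (x * x) := by
    simp_rw [Finset.mul_sum]
    rw [Finset.sum_comm]
    apply Finset.sum_congr rfl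
    intro x _
    exact hπx (x * x)
  rw [h2, Finset.mul_sum]
  apply Finset.sum_congr rfl
  intro ψ _
  unfold fsInd
  ring

theorem fsInd_one : fsInd (fun _ : G => (1 : ℂ)) = 1 := by
  unfold fsInd
  rw [Finset.sum_const, Finset.card_univ, nsmul_eq_mul, mul_one, ← Nat.card_eq_fintype_card]
  exact inv_mul_cancel₀ (card_ne_zero_complex G)

/-- degree bound for irreducible characters -/
theorem exists_degree_bound {χ : G → ℂ} (hχ : IsIrrCharacter G χ) :
    ∃ d : ℕ, χ 1 = d ∧ ∀ g, ‖χ g‖ ≤ d := by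
  obtain ⟨n, ρ, _, rfl⟩ := hχ
  refine ⟨finrank ℂ (Fin n → ℂ), Representation.char_one ρ, fun g => ?_⟩
  exact norm_character_le ρ g

theorem eq_of_re_eq_of_norm_le {z : ℂ} {d : ℝ} (hre : z.re = d) (hn : ‖z‖ ≤ d) : z = d := by
  have hd : 0 ≤ d := le_trans (norm_nonneg z) hn
  have h1 : ‖z‖ ^ 2 ≤ d ^ 2 := by
    apply pow_le_pow_left₀ (norm_nonneg z) hn
  rw [Complex.sq_norm, Complex.normSq_apply, hre] at h1
  have h2 : z.im * z.im ≤ 0 := by nlinarith
  have h3 : z.im = 0 := by nlinarith [mul_self_nonneg z.im]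
  apply Complex.ext
  · simp [hre]
  · simp [h3]

end aux

/-- Let H be a subgroup of the finite group G and consider the permutation character of G on the cosets of H (the function induced from the principal character of H). Then exactly one irreducible constituent of it is real-valued with Frobenius–Schur indicator +1 (namely the principal character) if and only if the normal core of H has odd index in G. -/
theorem result {G : Type*} [Group G] [Fintype G] (H : Subgroup G) : Nat.card {χ : Cfsg.IrrCharacter G // Cfsg.classInner (Cfsg.indFun H (fun _ : H => (1 : ℂ))) (χ : G → ℂ) ≠ 0 ∧ (∀ g : G, (starRingEnd ℂ) ((χ : G → ℂ) g) = (χ : G → ℂ) g) ∧ (Nat.card G : ℂ)⁻¹ * ∑ g : G, (χ : G → ℂ) (g * g) = 1} = 1 ↔ Odd H.normalCore.index := by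
  obtain ⟨π, hπ⟩ : ∃ π : G → ℂ, π = indFun H (fun _ : H => (1 : ℂ)) := ⟨_, rfl⟩
  rw [← hπ]
  have hπc : IsCharacter G π := by rw [hπ]; exact isCharacter_perm H
  obtain ⟨K, hK⟩ : ∃ K : Subgroup G, K = H.normalCore := ⟨_, rfl⟩
  rw [← hK]
  haveI hKn : K.Normal := by rw [hK]; infer_instance
  -- the trivial character
  let τ : IrrCharacter G := ⟨fun _ => 1, isIrrCharacter_one⟩
  have hτm : classInner π (τ : G → ℂ) = 1 := by rw [hπ]; exact classInner_perm_one H
  have hτν : (Nat.card G : ℂ)⁻¹ * ∑ g : G, (τ : G → ℂ) (g * g) = 1 := fsInd_one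
  have hτS : classInner π (τ : G → ℂ) ≠ 0 ∧
      (∀ g : G, (starRingEnd ℂ) ((τ : G → ℂ) g) = (τ : G → ℂ) g) ∧
      (Nat.card G : ℂ)⁻¹ * ∑ g : G, (τ : G → ℂ) (g * g) = 1 := by
    refine ⟨by rw [hτm]; exact one_ne_zero, fun g => map_one _, hτν⟩
  obtain ⟨m, hm⟩ : ∃ m : IrrCharacter G → ℕ, ∀ ψ : IrrCharacter G,
      classInner π (ψ : G → ℂ) = m ψ :=
    ⟨fun ψ => (exists_nat_classInner_of_isCharacter hπc ψ).choose,
      fun ψ => (exists_nat_classInner_of_isCharacter hπc ψ).choose_spec⟩
  have hG : (Nat.card G : ℂ) ≠ 0 := card_ne_zero_complex G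
  have hH : (Nat.card H : ℂ) ≠ 0 := card_ne_zero_complex H
  constructor
  · intro hcard
    by_contra hodd
    rw [Nat.not_odd_iff_even] at hodd
    have h2 : 2 ∣ Nat.card (G ⧸ K) := hodd.two_dvd
    haveI : Fact (Nat.Prime 2) := ⟨Nat.prime_two⟩
    obtain ⟨y, hy⟩ := exists_prime_orderOf_dvd_card' (G := G ⧸ K) 2 h2
    obtain ⟨x, rfl⟩ := QuotientGroup.mk_surjective y
    have hxK : x ∉ K := by
      intro hx
      have : ((x : G) : G ⧸ K) = 1 := (QuotientGroup.eq_one_iff x).mpr hx
      rw [this, orderOf_one] at hy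
      omega
    have hxxK : x * x ∈ K := by
      have h3 : ((x : G) : G ⧸ K) ^ 2 = 1 := by rw [← hy]; exact pow_orderOf_eq_one _
      rw [pow_two, ← QuotientGroup.mk_mul] at h3
      exact (QuotientGroup.eq_one_iff _).mp h3
    -- strict inequality of counts
    have hlt : ∑ z : G, cnt H z < ∑ z : G, cnt H (z * z) := by
      apply Finset.sum_lt_sum
      · intro z _
        exact cnt_le_sq H z
      · refine ⟨x, Finset.mem_univ _, ?_⟩
        have hxxK' : x * x ∈ H.normalCore := by rw [← hK]; exact hxxK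
        have hxK' : x ∉ H.normalCore := by rw [← hK]; exact hxK
        rw [cnt_of_mem_core H hxxK']
        exact cnt_lt_of_not_mem_core H hxK'
    rw [sum_cnt] at hlt
    -- integer indicators
    obtain ⟨ν, hν⟩ : ∃ ν : IrrCharacter G → ℤ, ∀ ψ : IrrCharacter G, (fsInd (ψ : G → ℂ) = ν ψ) ∧
        (ν ψ = 0 ∨ ν ψ = 1 ∨ ν ψ = -1) := by
      have : ∀ ψ : IrrCharacter G, ∃ n : ℤ, fsInd (ψ : G → ℂ) = n ∧ (n = 0 ∨ n = 1 ∨ n = -1) := by
        intro ψ
        rcases Cfsg.Agent.Lib.Helper4.FS.fsInd_cases ψ.2 with h | h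
        · exact ⟨0, by rw [h.1]; simp, Or.inl rfl⟩
        · rcases h.1 with h1 | h1
          · exact ⟨1, by rw [h1]; simp, Or.inr (Or.inl rfl)⟩
          · exact ⟨-1, by rw [h1]; simp, Or.inr (Or.inr rfl)⟩
      exact ⟨fun ψ => (this ψ).choose, fun ψ => (this ψ).choose_spec⟩
    have hkey := key_identity H
    rw [← hπ] at hkey
    have hkey2 : ((∑ ψ : IrrCharacter G, (m ψ : ℤ) * ν ψ : ℤ) : ℂ) * ((Nat.card H * Nat.card G : ℕ) : ℂ)
        = ((∑ z : G, cnt H (z * z) : ℕ) : ℂ) := by
      push_cast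
      have h3 : ∑ ψ : IrrCharacter G, ((m ψ : ℂ)) * ((ν ψ : ℤ) : ℂ)
          = (Nat.card G : ℂ)⁻¹ * ∑ x : G, π (x * x) := by
        rw [← hkey]
        apply Finset.sum_congr rfl
        intro ψ _
        rw [hm ψ, (hν ψ).1]
      rw [h3]
      have h4 : ∀ x : G, π (x * x) = (Nat.card H : ℂ)⁻¹ * (cnt H (x * x) : ℂ) := by
        intro x
        rw [hπ]
        exact indFun_one_apply H (x * x)
      simp_rw [h4]
      rw [← Finset.mul_sum]
      field_simp
    have hkey3 : (∑ ψ : IrrCharacter G, (m ψ : ℤ) * ν ψ) * ((Nat.card H * Nat.card G : ℕ) : ℤ)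
        = ((∑ z : G, cnt H (z * z) : ℕ) : ℤ) := by
      exact_mod_cast hkey2
    have hD : (0 : ℤ) < ((Nat.card H * Nat.card G : ℕ) : ℤ) := by
      have : 0 < Nat.card H * Nat.card G := Nat.mul_pos Nat.card_pos Nat.card_pos
      exact_mod_cast this
    have hlt' : ((Nat.card H * Nat.card G : ℕ) : ℤ) < ((∑ z : G, cnt H (z * z) : ℕ) : ℤ) := by
      exact_mod_cast hlt
    have hsum_gt : 1 < ∑ ψ : IrrCharacter G, (m ψ : ℤ) * ν ψ := by
      by_contra hle
      push_neg at hle
      have := mul_le_mul_of_nonneg_right hle hD.le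
      rw [hkey3, one_mul] at this
      omega
    have hmτ : m τ = 1 := by
      have := hm τ
      rw [hτm] at this
      exact_mod_cast this.symm
    have hντ : ν τ = 1 := by
      have h3 := (hν τ).1
      have h4 : fsInd (τ : G → ℂ) = 1 := fsInd_one
      rw [h4] at h3
      exact_mod_cast h3.symm
    rw [← Finset.add_sum_erase Finset.univ _ (Finset.mem_univ τ), hmτ, hντ] at hsum_gt
    have hpos : 0 < ∑ ψ ∈ Finset.univ.erase τ, (m ψ : ℤ) * ν ψ := by
      simp only [Nat.cast_one, mul_one] at hsum_gt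
      omega
    obtain ⟨ψ, hψmem, hψpos⟩ : ∃ ψ ∈ Finset.univ.erase τ, 0 < (m ψ : ℤ) * ν ψ := by
      by_contra hno
      push_neg at hno
      have := Finset.sum_nonpos hno
      omega
    have hψne : ψ ≠ τ := (Finset.mem_erase.mp hψmem).1
    have hmψ : (0 : ℤ) < m ψ := by
      rcases Nat.eq_zero_or_pos (m ψ) with h | h
      · rw [h] at hψpos; simp at hψpos
      · exact_mod_cast h
    have hνψ : ν ψ = 1 := by
      have : 0 < ν ψ := (mul_pos_iff_of_pos_left hmψ).mp hψpos
      rcases (hν ψ).2 with h | h | h <;> omega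
    have hψfs : fsInd (ψ : G → ℂ) = 1 := by rw [(hν ψ).1, hνψ]; simp
    have hψS : classInner π (ψ : G → ℂ) ≠ 0 ∧
        (∀ g : G, (starRingEnd ℂ) ((ψ : G → ℂ) g) = (ψ : G → ℂ) g) ∧
        (Nat.card G : ℂ)⁻¹ * ∑ g : G, (ψ : G → ℂ) (g * g) = 1 := by
      refine ⟨?_, ?_, hψfs⟩
      · rw [hm ψ]
        have : m ψ ≠ 0 := by omega
        exact_mod_cast this
      · exact Cfsg.Agent.Lib.Helper4.FS.real_of_fsInd_ne_zero ψ.2 (by rw [hψfs]; exact one_ne_zero)
    rw [Nat.card_eq_one_iff_unique] at hcard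
    obtain ⟨hsub, -⟩ := hcard
    have := hsub.elim ⟨ψ, hψS⟩ ⟨τ, hτS⟩
    exact hψne (congrArg Subtype.val this)
  · intro hodd
    rw [Nat.card_eq_one_iff_unique]
    refine ⟨⟨?_⟩, ⟨⟨τ, hτS⟩⟩⟩
    have hall : ∀ χ : IrrCharacter G, classInner π (χ : G → ℂ) ≠ 0 →
        (Nat.card G : ℂ)⁻¹ * ∑ g : G, (χ : G → ℂ) (g * g) = 1 → χ = τ := by
      intro χ hχm hχν
      -- `K` lies in the kernel of `χ`
      have hker : KerGE K (χ : G → ℂ) := by
        intro k hk
        have hπk : π k = π 1 := by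
          have hk' : k ∈ H.normalCore := by rw [← hK]; exact hk
          rw [hπ, indFun_one_apply, indFun_one_apply, cnt_of_mem_core H hk',
            cnt_of_mem_core H (Subgroup.one_mem _)]
        have hπx : ∀ x, π x = ∑ ψ : IrrCharacter G, (m ψ : ℂ) * (ψ : G → ℂ) x := by
          intro x
          have := congrFun (isCharacter_eq_sum_classInner hπc) x
          rw [Finset.sum_apply] at this
          simp only [Pi.smul_apply, smul_eq_mul, hm] at this
          exact this
        have h0 : ∑ ψ : IrrCharacter G, (m ψ : ℝ) * (((ψ : G → ℂ) 1).re - ((ψ : G → ℂ) k).re)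
            = 0 := by
          have h1 := congrArg Complex.re (sub_eq_zero.mpr hπk.symm)
          rw [hπx 1, hπx k, ← Finset.sum_sub_distrib, Complex.re_sum, Complex.zero_re] at h1
          rw [← h1]
          apply Finset.sum_congr rfl
          intro ψ _
          simp only [Complex.sub_re, Complex.mul_re, Complex.natCast_re, Complex.natCast_im,
            zero_mul, sub_zero, Complex.zero_re]
          ring
        have hnn : ∀ ψ ∈ (Finset.univ : Finset (IrrCharacter G)),
            0 ≤ (m ψ : ℝ) * (((ψ : G → ℂ) 1).re - ((ψ : G → ℂ) k).re) := by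
          intro ψ _
          obtain ⟨d, hd1, hd⟩ := exists_degree_bound ψ.2
          apply mul_nonneg (Nat.cast_nonneg _)
          rw [hd1, Complex.natCast_re, sub_nonneg]
          exact le_trans (Complex.re_le_norm _) (hd k)
        have h3 := (Finset.sum_eq_zero_iff_of_nonneg hnn).mp h0 χ (Finset.mem_univ _)
        have hmχ : (m χ : ℝ) ≠ 0 := by
          have : m χ ≠ 0 := by
            intro h
            apply hχm
            rw [hm χ, h]
            simp
          exact_mod_cast this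
        have h4 : ((χ : G → ℂ) 1).re - ((χ : G → ℂ) k).re = 0 := by
          rcases mul_eq_zero.mp h3 with h | h
          · exact absurd h hmχ
          · exact h
        obtain ⟨d, hd1, hd⟩ := exists_degree_bound χ.2
        rw [hd1, Complex.natCast_re] at h4
        have h5 : ((χ : G → ℂ) k).re = (d : ℝ) := by linarith
        have := eq_of_re_eq_of_norm_le h5 (hd k)
        rw [this, hd1]
        simp
      obtain ⟨ψ, hψ⟩ := (inflateIrr_bijective K).2 ⟨χ, hker⟩
      have hχψ : ∀ g : G, (χ : G → ℂ) g = (ψ : G ⧸ K → ℂ) (g : G ⧸ K) := by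
        intro g
        have := congrArg (fun x : {χ : IrrCharacter G // KerGE K (χ : G → ℂ)} =>
          ((x.1 : IrrCharacter G) : G → ℂ) g) hψ
        exact this.symm
      -- the indicator of `χ` is the multiplicity of the trivial character in `ψ`
      letI : Fintype (G ⧸ K) := Fintype.ofFinite _
      have hcop : (Nat.card (G ⧸ K)).Coprime 2 := by
        rw [Nat.coprime_two_right]
        exact hodd
      have hsum1 : ∑ g : G, (χ : G → ℂ) (g * g)
          = (Nat.card K : ℂ) * ∑ y : G ⧸ K, (ψ : G ⧸ K → ℂ) y := by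
        have h1 : ∀ g : G, (χ : G → ℂ) (g * g)
            = (fun y : G ⧸ K => (ψ : G ⧸ K → ℂ) (y * y)) (g : G ⧸ K) := by
          intro g
          rw [hχψ]
          rfl
        rw [Finset.sum_congr rfl (fun g _ => h1 g)]
        have hsc := sum_comp_mk K (fun y : G ⧸ K => (ψ : G ⧸ K → ℂ) (y * y))
        rw [hsc]
        congr 1
        have h2 := Equiv.sum_comp (powCoprime hcop) (fun y => (ψ : G ⧸ K → ℂ) y)
        rw [← h2]
        apply Finset.sum_congr rfl
        intro y _
        rw [powCoprime_apply, pow_two]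
      have hcardGK : (Nat.card G : ℂ) = (Nat.card K : ℂ) * (Nat.card (G ⧸ K) : ℂ) := by
        rw [← Nat.cast_mul, mul_comm, ← Subgroup.index_eq_card, Subgroup.index_mul_card]
      have hinner : classInner (ψ : G ⧸ K → ℂ) (fun _ => (1 : ℂ)) = 1 := by
        rw [classInner_apply]
        simp only [map_one, mul_one]
        rw [hsum1, hcardGK] at hχν
        have hKc : (Nat.card K : ℂ) ≠ 0 := card_ne_zero_complex K
        rw [← hχν]
        field_simp
      have hψ1 : (ψ : G ⧸ K → ℂ) = fun _ => (1 : ℂ) := by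
        by_contra hne
        have := irr_classInner_eq_zero ψ.2 isIrrCharacter_one hne
        rw [hinner] at this
        exact one_ne_zero this
      apply Subtype.ext
      funext g
      rw [hχψ g, hψ1]
    rintro ⟨χ, h1, -, h3⟩ ⟨χ', h1', -, h3'⟩
    apply Subtype.ext
    exact (hall χ h1 h3).trans (hall χ' h1' h3').symm

end Cfsg.Agent.S4784
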