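import Cfsg.Statements.S4797
import Mathlib
import Cfsg.Agent.Lib.Helper4.Codegree
import Cfsg.Agent.Lib.Helper4.Perfect
import Cfsg.Agent.Lib.helper3.Irr11

namespace Cfsg.Agent.S4797

open Cfsg Module Cfsg.Agent.Lib.helper3.IndFun Cfsg.Agent.Lib.helper3.CharBasic
open Cfsg.Agent.Lib.helper3.Irr Cfsg.Agent.Lib.helper3.Central Cfsg.Agent.Lib.Helper4.CharExtra
open Cfsg.Agent.Lib.Helper4.InflateEquiv Cfsg.Agent.Lib.Helper4.Codegree
open Cfsg.Agent.Lib.Helper4.Perfect

/-- `∑ χ(1)² = |G|`, real form -/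
lemma sum_norm_sq_one {Q : Type*} [Group Q] [Finite Q] :
    ∑ φ : IrrCharacter Q, ‖(φ : Q → ℂ) 1‖ ^ 2 = (Nat.card Q : ℝ) := by
  rw [sum_norm_sq_eq_card_centralizer (1 : Q)]
  have : Subgroup.centralizer ({1} : Set Q) = ⊤ := by
    rw [eq_top_iff]
    intro x _
    rw [Subgroup.mem_centralizer_iff]
    intro y hy
    rw [Set.mem_singleton_iff] at hy
    rw [hy, one_mul, mul_one]
  rw [this, Subgroup.card_top]

/-- a faithful irreducible character of degree `d` of a group of order `p * d` has `d < p` -/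
lemma degree_lt {Q : Type*} [Group Q] [Finite Q] (ψ : IrrCharacter Q) (p d : ℕ) (hp : p.Prime)
    (hd : (ψ : Q → ℂ) 1 = d) (hcard : Nat.card Q = p * d) : d < p := by
  classical
  let χ₀ : IrrCharacter Q := ⟨fun _ => 1, isIrrCharacter_one⟩
  by_cases h0 : ψ = χ₀
  · have : (d : ℂ) = 1 := by
      rw [← hd, h0]
    have hd1 : d = 1 := by exact_mod_cast this
    rw [hd1]
    exact hp.one_lt
  · have hsum := sum_norm_sq_one (Q := Q)
    have hsub : ∑ φ ∈ ({χ₀, ψ} : Finset (IrrCharacter Q)), ‖(φ : Q → ℂ) 1‖ ^ 2 ≤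
        ∑ φ : IrrCharacter Q, ‖(φ : Q → ℂ) 1‖ ^ 2 :=
      Finset.sum_le_sum_of_subset_of_nonneg (Finset.subset_univ _) (fun _ _ _ => by positivity)
    rw [Finset.sum_pair (Ne.symm h0), hsum, hd, hcard] at hsub
    have h1 : ‖((χ₀ : IrrCharacter Q) : Q → ℂ) 1‖ ^ 2 = 1 := by
      show ‖(1 : ℂ)‖ ^ 2 = 1
      simp
    rw [h1, Complex.norm_natCast] at hsub
    have h2 : (1 : ℝ) + (d : ℝ) ^ 2 ≤ ((p * d : ℕ) : ℝ) := hsub
    have h3 : 1 + d ^ 2 ≤ p * d := by exact_mod_cast h2
    by_contra hcon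
    push Not at hcon
    have : p * d ≤ d * d := Nat.mul_le_mul_right d hcon
    nlinarith

/-- The codegree of an irreducible complex character χ of a finite group G is [G : ker χ] / χ(1), where ker χ is the set of elements at which χ takes the value χ(1). A non-trivial finite group is perfect if and only if no irreducible complex character of it has prime codegree. -/
theorem result {G : Type*} [Group G] [Finite G] [Nontrivial G] : commutator G = ⊤ ↔ ∀ χ : Cfsg.IrrCharacter G, ¬ ((Nat.card G / (Nat.card {g : G // (χ : G → ℂ) g = (χ : G → ℂ) 1} * Cfsg.charDegree (χ : G → ℂ)))).Prime := by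
  classical
  constructor
  · intro hperf χ hprime
    obtain ⟨c, hcpos, hQ, hcod⟩ := codegree_eq χ
    rw [hcod] at hprime
    set K := charKer (χ : G → ℂ) (isCharacter_of_isIrrCharacter χ.2) with hK
    obtain ⟨ψ, he, h1, hf⟩ := exists_faithful_quotient χ K (fun g => Iff.rfl)
    have hd : (ψ : G ⧸ K → ℂ) 1 = (charDegree (χ : G → ℂ) : ℂ) := by
      rw [h1, charDegree_cast (isCharacter_of_isIrrCharacter χ.2)]
    have hlt := degree_lt ψ c (charDegree (χ : G → ℂ)) hprime hd hQ
    exact not_perfect_of_card c (charDegree (χ : G → ℂ)) hprime hQ hlt (charDegree_pos χ.2)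
      (commutator_quotient_eq_top K hperf)
  · intro hall
    by_contra hne
    obtain ⟨K, hKn, hKc, hKp⟩ := exists_normal_prime_index hne
    haveI := hKn
    haveI : Fintype G := Fintype.ofFinite G
    haveI : Fintype (G ⧸ K) := Fintype.ofFinite _
    have hQcard : Nat.card (G ⧸ K) = K.index := (Subgroup.index_eq_card K).symm
    haveI : Fact (Nat.card (G ⧸ K)).Prime := ⟨hQcard ▸ hKp⟩
    haveI hcyc : IsCyclic (G ⧸ K) := isCyclic_of_prime_card rfl
    have hcomm : ∀ a b : G ⧸ K, a * b = b * a := fun a b =>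
      (IsCyclic.commGroup (α := G ⧸ K)).mul_comm a b
    -- all irreducible characters of the quotient are linear, and there are `p` of them
    let χ₀ : IrrCharacter (G ⧸ K) := ⟨fun _ => 1, isIrrCharacter_one⟩
    have hcardIrr : Fintype.card (IrrCharacter (G ⧸ K)) = K.index := by
      have hsum := sum_norm_sq_one (Q := G ⧸ K)
      have h1 : ∀ φ : IrrCharacter (G ⧸ K), ‖(φ : G ⧸ K → ℂ) 1‖ ^ 2 = 1 := by
        intro φ
        rw [apply_one_eq_one_of_comm hcomm φ.2]
        simp
      rw [Finset.sum_congr rfl (fun φ _ => h1 φ), Finset.sum_const, Finset.card_univ,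
        nsmul_eq_mul, mul_one, hQcard] at hsum
      exact_mod_cast hsum
    have hlt : 1 < Fintype.card (IrrCharacter (G ⧸ K)) := by
      rw [hcardIrr]; exact hKp.one_lt
    obtain ⟨ψ, hψ⟩ := Fintype.exists_ne_of_one_lt_card hlt χ₀
    have hψ1 : (ψ : G ⧸ K → ℂ) 1 = 1 := apply_one_eq_one_of_comm hcomm ψ.2
    -- inflate
    let χ : IrrCharacter G := (inflateIrr K ψ).1
    have hχval : ∀ g : G, (χ : G → ℂ) g = (ψ : G ⧸ K → ℂ) (g : G ⧸ K) := fun g => rfl
    have hχ1 : (χ : G → ℂ) 1 = 1 := by rw [hχval, QuotientGroup.mk_one, hψ1]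
    have hdeg : charDegree (χ : G → ℂ) = 1 := charDegree_eq (by rw [hχ1]; simp)
    obtain ⟨c, hcpos, hQ, hcod⟩ := codegree_eq χ
    set Kr := charKer (χ : G → ℂ) (isCharacter_of_isIrrCharacter χ.2) with hKr
    rw [hdeg, mul_one] at hQ
    have hKKr : K ≤ Kr := fun n hn => (inflateIrr K ψ).2 n hn
    have hidx : Kr.index ∣ K.index := Subgroup.index_dvd_of_le hKKr
    have hKrne : Kr ≠ ⊤ := by
      intro htop
      apply hψ
      apply Subtype.ext
      funext x
      obtain ⟨g, rfl⟩ := QuotientGroup.mk_surjective x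
      have : g ∈ Kr := htop ▸ Subgroup.mem_top g
      rw [hKr, mem_charKer] at this
      rw [← hχval, this, hχ1]
    have hidx' : Kr.index = K.index := by
      rcases (Nat.dvd_prime hKp).mp hidx with h1 | h1
      · exact absurd (Subgroup.index_eq_one.mp h1) hKrne
      · exact h1
    have hc : c = K.index := by
      rw [← hidx', Subgroup.index_eq_card, hQ]
    have := hall χ
    rw [hcod, hc] at this
    exact this hKp

end Cfsg.Agent.S4797
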