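import Cfsg.Statements.S4796
import Mathlib
import Cfsg.Agent.Lib.Helper4.DegreeIndex
import Cfsg.Agent.Lib.Helper4.Codegree
import Cfsg.Agent.S4797

namespace Cfsg.Agent.S4796

open Cfsg Module Cfsg.Agent.Lib.helper3.IndFun Cfsg.Agent.Lib.helper3.CharBasic
open Cfsg.Agent.Lib.helper3.Irr Cfsg.Agent.Lib.Helper4.Codegree
open Cfsg.Agent.Lib.Helper4.DegreeIndex
open scoped Pointwise

/-- membership in a conjugate subgroup -/
lemma mem_conj_smul_iff {G : Type*} [Group G] (H : Subgroup G) (g y : G) :
    y ∈ MulAut.conj g • H ↔ g⁻¹ * y * g ∈ H := by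
  rw [Subgroup.mem_pointwise_smul_iff_inv_smul_mem]
  simp [MulAut.smul_def, MulAut.conj_inv_apply]

/-- A group with a self-centralizing normal subgroup `P` of prime order and a non-trivial complement
`H` is a Frobenius group with complement `H` and kernel `P`. -/
lemma frobenius_of_selfCentralizing {G : Type*} [Group G] [Finite G] (p : ℕ) [Fact p.Prime]
    (P H : Subgroup G) [P.Normal] (hPcard : Nat.card P = p)
    (hC : Subgroup.centralizer (P : Set G) = P) (hPH : Subgroup.IsComplement' P H)
    (hH1 : H ≠ ⊥) : IsFrobeniusComplement H ∧ frobeniusKernel H = (P : Set G) := by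
  have hp : p.Prime := Fact.out
  have hdisj : P ⊓ H = ⊥ := disjoint_iff.mp hPH.disjoint
  have hmemPH : ∀ y : G, y ∈ P → y ∈ H → y = 1 := by
    intro y h1 h2
    have : y ∈ P ⊓ H := ⟨h1, h2⟩
    rw [hdisj] at this
    exact Subgroup.mem_bot.mp this
  -- an element commuting with a nonidentity element of `P` lies in `P`
  have hkey : ∀ h : G, ∀ x ∈ P, x ≠ 1 → h * x = x * h → h ∈ P := by
    intro h x hx hx1 hcomm
    rw [← hC, Subgroup.mem_centralizer_iff]
    intro y hy
    have hgen : Subgroup.zpowers (⟨x, hx⟩ : P) = ⊤ :=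
      zpowers_eq_top_of_prime_card hPcard (fun h0 => hx1 (congrArg Subtype.val h0))
    have hy' : (⟨y, hy⟩ : P) ∈ Subgroup.zpowers (⟨x, hx⟩ : P) := by rw [hgen]; trivial
    obtain ⟨k, hk⟩ := Subgroup.mem_zpowers_iff.mp hy'
    have hyk : y = x ^ k := by
      have := congrArg Subtype.val hk
      simpa using this.symm
    rw [hyk]
    have h1 : Commute h x := hcomm
    exact (h1.zpow_right k).symm
  have hdecomp : ∀ g : G, ∃ x ∈ P, ∃ h ∈ H, g = x * h := by
    intro g
    obtain ⟨⟨x, h⟩, hxh⟩ := hPH.2 g
    exact ⟨x.1, x.2, h.1, h.2, hxh.symm⟩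
  have hHne1 : ∃ h ∈ H, h ≠ 1 := by
    by_contra hcon
    push Not at hcon
    exact hH1 ((Subgroup.eq_bot_iff_forall _).mpr hcon)
  refine ⟨⟨hH1, ?_, ?_⟩, ?_⟩
  · -- `H` is proper
    intro htop
    have h1 : P = ⊥ := by
      rw [← hdisj, htop, inf_top_eq]
    rw [h1, Subgroup.card_bot] at hPcard
    exact hp.one_lt.ne hPcard
  · -- trivial intersections
    intro g hg
    rw [eq_bot_iff]
    rintro y ⟨hyH, hyc⟩
    rw [Subgroup.mem_bot]
    have hyc' : g⁻¹ * y * g ∈ H := (mem_conj_smul_iff H g y).mp hyc
    obtain ⟨x, hx, h, hh, rfl⟩ := hdecomp g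
    have hx1 : x ≠ 1 := by
      rintro rfl
      apply hg
      rw [one_mul]
      exact hh
    have hy' : x⁻¹ * y * x ∈ H := by
      have := H.mul_mem (H.mul_mem hh hyc') (H.inv_mem hh)
      have e : h * ((x * h)⁻¹ * y * (x * h)) * h⁻¹ = x⁻¹ * y * x := by group
      rwa [e] at this
    have h1 : y⁻¹ * (x⁻¹ * y * x) ∈ P := by
      have h2 : y⁻¹ * x⁻¹ * y⁻¹⁻¹ ∈ P := Subgroup.Normal.conj_mem inferInstance _ (P.inv_mem hx) _
      have := P.mul_mem h2 hx
      have e : y⁻¹ * x⁻¹ * y⁻¹⁻¹ * x = y⁻¹ * (x⁻¹ * y * x) := by group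
      rwa [e] at this
    have h2 : y⁻¹ * (x⁻¹ * y * x) ∈ H := H.mul_mem (H.inv_mem hyH) hy'
    have h3 := hmemPH _ h1 h2
    have hcomm : y * x = x * y := by
      have : x⁻¹ * y * x = y := by
        have := congrArg (fun t => y * t) h3
        simpa [mul_assoc] using this
      calc y * x = x * (x⁻¹ * y * x) := by group
        _ = x * y := by rw [this]
    by_contra hy1
    have hyP := hkey y x hx hx1 hcomm
    exact hy1 (hmemPH y hyP hyH)
  · -- the kernel
    ext x
    constructor
    · rintro (rfl | hx)
      · exact P.one_mem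
      · by_contra hxP
        obtain ⟨u, hu, h, hh, rfl⟩ := hdecomp x
        have hh1 : h ≠ 1 := by
          rintro rfl
          apply hxP
          rw [mul_one]
          exact hu
        -- the commutator map on `P`
        let f : P → P := fun z => ⟨(z : G) * h * (z : G)⁻¹ * h⁻¹, by
          have h1 : h * (z : G)⁻¹ * h⁻¹ ∈ P :=
            Subgroup.Normal.conj_mem inferInstance _ (P.inv_mem z.2) _
          have := P.mul_mem z.2 h1
          have e : (z : G) * (h * (z : G)⁻¹ * h⁻¹) = (z : G) * h * (z : G)⁻¹ * h⁻¹ := by group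
          rwa [e] at this⟩
        have hinj : Function.Injective f := by
          intro z z' hzz'
          have h1 : (z : G) * h * (z : G)⁻¹ * h⁻¹ = (z' : G) * h * (z' : G)⁻¹ * h⁻¹ :=
            congrArg Subtype.val hzz'
          have h2 : (z : G) * h * (z : G)⁻¹ = (z' : G) * h * (z' : G)⁻¹ := mul_right_cancel h1
          set w : G := (z' : G)⁻¹ * (z : G) with hw
          have hwP : w ∈ P := P.mul_mem (P.inv_mem z'.2) z.2
          have hcomm : h * w = w * h := by
            have e1 : w * h = (z' : G)⁻¹ * ((z : G) * h * (z : G)⁻¹) * (z : G) := by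
              rw [hw]; group
            have e2 : h * w = (z' : G)⁻¹ * ((z' : G) * h * (z' : G)⁻¹) * (z : G) := by
              rw [hw]; group
            rw [e1, e2, h2]
          by_contra hne
          have hw1 : w ≠ 1 := by
            intro h0
            apply hne
            apply Subtype.ext
            have : (z' : G)⁻¹ * (z : G) = 1 := h0
            exact (inv_mul_eq_one.mp this).symm
          have hhP := hkey h w hwP hw1 hcomm
          exact hh1 (hmemPH h hhP hh)
        have hsurj : Function.Surjective f := Finite.injective_iff_surjective.mp hinj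
        obtain ⟨z, hz⟩ := hsurj ⟨u, hu⟩
        have hz' : (z : G) * h * (z : G)⁻¹ * h⁻¹ = u := congrArg Subtype.val hz
        apply hx (z : G)
        rw [mem_conj_smul_iff]
        have e : (z : G)⁻¹ * (u * h) * (z : G) = h := by
          rw [← hz']; group
        rw [e]
        exact hh
    · intro hxP
      by_cases hx1 : x = 1
      · exact Or.inl hx1
      · right
        intro g hxg
        rw [mem_conj_smul_iff] at hxg
        have h1 : g⁻¹ * x * g ∈ P := by
          have := Subgroup.Normal.conj_mem (inferInstance : P.Normal) x hxP g⁻¹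
          rwa [inv_inv] at this
        have h2 := hmemPH _ h1 hxg
        apply hx1
        have : x = g * (g⁻¹ * x * g) * g⁻¹ := by group
        rw [this, h2]; group

/-- Let G be a finite group with a faithful irreducible complex character χ whose codegree #G / χ(1) is a prime p (for a faithful character the kernel is trivial, so the codegree is #G / χ(1)). Then either G is cyclic of order p, or G is a Frobenius group whose Frobenius kernel has order p: some proper non-trivial subgroup H satisfies H ∩ gHg⁻¹ = 1 for every element g outside H, and the set of elements lying in no conjugate of H, together with the identity, has exactly p elements. -/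
theorem result {G : Type*} [Group G] [Finite G] (χ : Cfsg.IrrCharacter G) (hfaith : ∀ g : G, (χ : G → ℂ) g = (χ : G → ℂ) 1 → g = 1) (p : ℕ) (hp : p.Prime) (hcod : Nat.card G = p * Cfsg.charDegree (χ : G → ℂ)) : (IsCyclic G ∧ Nat.card G = p) ∨ ∃ H : Subgroup G, Cfsg.IsFrobeniusComplement H ∧ Nat.card ↥(Cfsg.frobeniusKernel H) = p := by
  classical
  haveI : Fact p.Prime := ⟨hp⟩
  set d := charDegree (χ : G → ℂ) with hd
  have hχc := isCharacter_of_isIrrCharacter χ.2
  have hd1 : (χ : G → ℂ) 1 = (d : ℂ) := (charDegree_cast hχc).symm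
  have hdpos : 0 < d := charDegree_pos χ.2
  have hdlt : d < p := Cfsg.Agent.S4797.degree_lt χ p d hp hd1 hcod
  have hpd : ¬ p ∣ d := fun h => absurd (Nat.le_of_dvd hdpos h) (by omega)
  -- the Sylow `p`-subgroup
  obtain ⟨P⟩ : Nonempty (Sylow p G) := inferInstance
  have hfac : (Nat.card G).factorization p = 1 := by
    rw [hcod, Nat.factorization_mul hp.ne_zero hdpos.ne', Finsupp.add_apply,
      hp.factorization_self, Nat.factorization_eq_zero_of_not_dvd hpd]
  have hPcard : Nat.card (P : Subgroup G) = p := by
    rw [Sylow.card_eq_multiplicity, hfac, pow_one]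
  have hPidx : (P : Subgroup G).index = d := by
    have h1 := (P : Subgroup G).index_mul_card
    rw [hPcard, hcod, mul_comm] at h1
    exact Nat.eq_of_mul_eq_mul_left hp.pos h1
  have hnp : Nat.card (Sylow p G) = 1 := by
    have h1 : Nat.card (Sylow p G) ≡ 1 [MOD p] := card_sylow_modEq_one p G
    have h2 : Nat.card (Sylow p G) ∣ d := hPidx ▸ Sylow.card_dvd_index P
    have h3 : Nat.card (Sylow p G) ≤ d := Nat.le_of_dvd hdpos h2
    have h4 : Nat.card (Sylow p G) % p = 1 % p := h1
    rw [Nat.mod_eq_of_lt (by omega), Nat.mod_eq_of_lt hp.one_lt] at h4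
    exact h4
  haveI : Subsingleton (Sylow p G) := (Nat.card_eq_one_iff_unique.mp hnp).1
  haveI hPn : (P : Subgroup G).Normal := Sylow.normal_of_subsingleton P
  -- `P` is abelian
  haveI : IsCyclic (P : Subgroup G) := isCyclic_of_prime_card hPcard
  have hPab : ∀ a ∈ (P : Subgroup G), ∀ b ∈ (P : Subgroup G), a * b = b * a := by
    intro a ha b hb
    haveI : IsMulCommutative (P : Subgroup G) := IsCyclic.isMulCommutative
    have := mul_comm' (⟨a, ha⟩ : (P : Subgroup G)) ⟨b, hb⟩
    exact congrArg Subtype.val this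
  -- `P` is self-centralizing
  have hC : Subgroup.centralizer ((P : Subgroup G) : Set G) = (P : Subgroup G) := by
    apply eq_of_degree_eq_index χ.2 (P : Subgroup G)
    · intro x hx
      rw [Subgroup.mem_centralizer_iff]
      intro y hy
      exact hPab y hy x hx
    · intro z hz c hc
      rw [Subgroup.mem_centralizer_iff] at hc
      exact hc z hz
    · rw [hd1, hPidx]
  -- a complement
  have hcop : Nat.Coprime (Nat.card (P : Subgroup G)) (P : Subgroup G).index := by
    rw [hPcard, hPidx]
    exact (Nat.Prime.coprime_iff_not_dvd hp).mpr hpd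
  obtain ⟨H, hH⟩ := Subgroup.exists_right_complement'_of_coprime hcop
  have hHcard : Nat.card H = d := by
    have h1 := hH.card_mul_card
    rw [hPcard, hcod] at h1
    exact Nat.eq_of_mul_eq_mul_left hp.pos h1
  by_cases hd1' : d = 1
  · left
    have hG : Nat.card G = p := by rw [hcod, hd1', mul_one]
    exact ⟨isCyclic_of_prime_card hG, hG⟩
  · right
    have hH1 : H ≠ ⊥ := by
      intro h
      rw [h, Subgroup.card_bot] at hHcard
      exact hd1' hHcard.symm
    obtain ⟨hfrob, hker⟩ := frobenius_of_selfCentralizing p (P : Subgroup G) H hPcard hC hH hH1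
    refine ⟨H, hfrob, ?_⟩
    rw [hker]
    exact hPcard

end Cfsg.Agent.S4796
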