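import Mathlib
import Cfsg.Statements.S4798
import Cfsg.Agent.Lib.helper3.CodegSyl

set_option autoImplicit false
open Cfsg

namespace Cfsg.Agent.S4798

/-- Let p be a prime and χ a faithful irreducible complex character of the finite group G (χ(g) = χ(1) only for g = 1), so that its codegree is #G / χ(1). Then #G / χ(1) is a power of p if and only if χ is induced from a character of a Sylow p-subgroup of G. -/
theorem result {G : Type*} [Group G] [Fintype G] (p : ℕ) [Fact p.Prime] (χ : Cfsg.IrrCharacter G) (hfaith : ∀ g : G, (χ : G → ℂ) g = (χ : G → ℂ) 1 → g = 1) : (∃ k : ℕ, Nat.card G = p ^ k * Cfsg.charDegree (χ : G → ℂ)) ↔ ∃ (P : Sylow p G) (θ : ↥(P : Subgroup G) → ℂ), Cfsg.IsCharacter ↥(P : Subgroup G) θ ∧ (χ : G → ℂ) = Cfsg.indFun (P : Subgroup G) θ := by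
  classical
  have hpr : p.Prime := Fact.out
  obtain ⟨n, hn1, hn2, hn0⟩ := Cfsg.Agent.Lib.helper3.Central.irr_degree_dvd_card χ.2
  have hcd : Cfsg.charDegree (χ : G → ℂ) = n := by
    unfold Cfsg.charDegree
    rw [hn1]
    simp
  constructor
  · rintro ⟨k, hk⟩
    rw [hcd] at hk
    obtain ⟨P⟩ := (inferInstance : Nonempty (Sylow p G))
    have hcardP : Nat.card (P : Subgroup G) = p ^ (Nat.card G).factorization p :=
      P.card_eq_multiplicity
    obtain ⟨a, ha⟩ : ∃ a, a = (Nat.card G).factorization p := ⟨_, rfl⟩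
    rw [← ha] at hcardP
    have hidx : ¬ p ∣ (P : Subgroup G).index := P.not_dvd_index
    have hmul : Nat.card (P : Subgroup G) * (P : Subgroup G).index = Nat.card G :=
      Subgroup.card_mul_index _
    rw [hcardP, hk] at hmul
    have hcop : Nat.Coprime (p ^ k) (P : Subgroup G).index :=
      Nat.Coprime.pow_left k ((Nat.Prime.coprime_iff_not_dvd hpr).mpr hidx)
    have hka : k ≤ a := by
      have h1 : p ^ k ∣ p ^ a * (P : Subgroup G).index := ⟨n, hmul⟩
      have h2 : p ^ k ∣ p ^ a := hcop.dvd_of_dvd_mul_right h1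
      exact (Nat.pow_dvd_pow_iff_le_right hpr.one_lt).mp h2
    have hn : n = (P : Subgroup G).index * p ^ (a - k) := by
      have h3 : p ^ a = p ^ k * p ^ (a - k) := by rw [← pow_add]; congr 1; omega
      rw [h3, mul_assoc] at hmul
      have h4 := Nat.eq_of_mul_eq_mul_left (pow_pos hpr.pos k) hmul
      rw [← h4]; ring
    obtain ⟨θ, hθ, hθ2⟩ := Cfsg.Agent.Lib.helper3.CodegSyl.exists_induced_eq p (P : Subgroup G)
      P.isPGroup' hidx (χ : G → ℂ) χ.2 (a - k) (by rw [hn1, hn])
    exact ⟨P, θ, Cfsg.Agent.Lib.helper3.Irr.isCharacter_of_isIrrCharacter hθ, hθ2⟩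
  · rintro ⟨P, θ, hθ, hχθ⟩
    have hirr : Cfsg.IsIrrCharacter G (Cfsg.indFun (P : Subgroup G) θ) := by
      rw [← hχθ]; exact χ.2
    obtain ⟨ψ, hψ⟩ := Cfsg.Agent.Lib.helper3.CodegSyl.degree_eq_of_induced_irr (P : Subgroup G) θ hθ hirr
    letI : Fintype (P : Subgroup G) := Fintype.ofFinite _
    obtain ⟨s, hs1, hs2, hs0⟩ := Cfsg.Agent.Lib.helper3.Central.irr_degree_dvd_card ψ.2
    have hcardP : Nat.card (P : Subgroup G) = p ^ (Nat.card G).factorization p :=
      P.card_eq_multiplicity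
    obtain ⟨a, ha⟩ : ∃ a, a = (Nat.card G).factorization p := ⟨_, rfl⟩
    rw [← ha] at hcardP
    rw [hcardP] at hs2
    obtain ⟨f, hfa, hf⟩ := (Nat.dvd_prime_pow hpr).mp hs2
    have hmul : Nat.card (P : Subgroup G) * (P : Subgroup G).index = Nat.card G :=
      Subgroup.card_mul_index _
    rw [hcardP] at hmul
    have hn : n = (P : Subgroup G).index * p ^ f := by
      have h1 : (χ : G → ℂ) 1 = (((P : Subgroup G).index * p ^ f : ℕ) : ℂ) := by
        rw [hχθ, Cfsg.Agent.Lib.helper3.Irr.indFun_apply_one, hψ, hs1, hf]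
        push_cast; ring
      rw [hn1] at h1
      exact_mod_cast h1
    refine ⟨a - f, ?_⟩
    rw [hcd, hn, ← hmul]
    have h3 : p ^ a = p ^ (a - f) * p ^ f := by rw [← pow_add]; congr 1; omega
    rw [h3]; ring

end Cfsg.Agent.S4798
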