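import Cfsg.Statements.S4801
import Mathlib
import Cfsg.Agent.Lib.Helper4.Codegree
import Cfsg.Agent.Lib.helper3.Irr11

namespace Cfsg.Agent.S4801

open Cfsg Module Cfsg.Agent.Lib.helper3.IndFun Cfsg.Agent.Lib.helper3.CharBasic
open Cfsg.Agent.Lib.helper3.Irr Cfsg.Agent.Lib.helper3.Central Cfsg.Agent.Lib.Helper4.CharExtra
open Cfsg.Agent.Lib.Helper4.InflateEquiv Cfsg.Agent.Lib.Helper4.Codegree
open scoped ComplexConjugate

/-- `∑ χ(1)² = |G|` in `ℕ` -/
lemma sum_charDegree_sq {S : Type*} [Group S] [Fintype S] :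
    ∑ χ : IrrCharacter S, charDegree (χ : S → ℂ) ^ 2 = Nat.card S := by
  have h := sum_sq_degree (G := S)
  have h2 : ((∑ χ : IrrCharacter S, charDegree (χ : S → ℂ) ^ 2 : ℕ) : ℂ) = (Nat.card S : ℂ) := by
    rw [← h]
    push_cast
    apply Finset.sum_congr rfl
    intro χ _
    rw [charDegree_cast (isCharacter_of_isIrrCharacter χ.2)]
  exact_mod_cast h2

/-- an irreducible character whose kernel is everything is the trivial character -/
lemma eq_one_of_forall_eq {S : Type*} [Group S] [Fintype S] (χ : IrrCharacter S)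
    (h : ∀ g : S, (χ : S → ℂ) g = (χ : S → ℂ) 1) : (χ : S → ℂ) = fun _ => 1 := by
  by_contra hne
  have h0 := irr_classInner_eq_zero χ.2 (isIrrCharacter_one (G := S)) hne
  rw [classInner_apply] at h0
  have h1 : ∑ g : S, (χ : S → ℂ) g * conj ((fun _ => (1 : ℂ)) g) =
      (Nat.card S : ℂ) * (χ : S → ℂ) 1 := by
    rw [Finset.sum_congr rfl (fun g _ => by rw [h g, map_one, mul_one])]
    rw [Finset.sum_const, Finset.card_univ, nsmul_eq_mul, Nat.card_eq_fintype_card]
  rw [h1] at h0
  have hS : (Nat.card S : ℂ) ≠ 0 := card_ne_zero_complex S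
  have h10 : (χ : S → ℂ) 1 ≠ 0 := apply_one_ne_zero χ.2
  field_simp at h0
  exact h10 h0

/-- The codegree of an irreducible complex character χ of a finite group G is [G : ker χ] / χ(1), where ker χ is the set of elements at which χ takes the value χ(1). Let S be a finite simple group and G a finite group such that every codegree of an irreducible character of S is a codegree of an irreducible character of G. Then the order of S divides the order of G. -/
theorem result {S : Type*} [Group S] [Finite S] (hS : IsSimpleGroup S) {G : Type*} [Group G] [Finite G] (hsub : ∀ χ : Cfsg.IrrCharacter S, ∃ ψ : Cfsg.IrrCharacter G, (Nat.card S / (Nat.card {g : S // (χ : S → ℂ) g = (χ : S → ℂ) 1} * Cfsg.charDegree (χ : S → ℂ))) = (Nat.card G / (Nat.card {g : G // (ψ : G → ℂ) g = (ψ : G → ℂ) 1} * Cfsg.charDegree (ψ : G → ℂ)))) : Nat.card S ∣ Nat.card G := by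
  classical
  haveI : Fintype S := Fintype.ofFinite S
  haveI : Fintype G := Fintype.ofFinite G
  rw [← Nat.factorization_prime_le_iff_dvd Nat.card_pos.ne' Nat.card_pos.ne']
  intro p hp
  by_cases hpS : p ∣ Nat.card S
  swap
  · rw [Nat.factorization_eq_zero_of_not_dvd hpS]
    exact Nat.zero_le _
  -- a nontrivial irreducible character of degree prime to `p`
  let χ₀ : IrrCharacter S := ⟨fun _ => 1, isIrrCharacter_one⟩
  have hex : ∃ χ : IrrCharacter S, χ ≠ χ₀ ∧ ¬ p ∣ charDegree (χ : S → ℂ) := by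
    by_contra hcon
    push Not at hcon
    have hsum := sum_charDegree_sq (S := S)
    rw [← Finset.add_sum_erase _ _ (Finset.mem_univ χ₀)] at hsum
    have h0 : charDegree ((χ₀ : IrrCharacter S) : S → ℂ) = 1 :=
      charDegree_eq (by show (1 : ℂ) = ((1 : ℕ) : ℂ); simp)
    rw [h0] at hsum
    have hdiv : p ∣ ∑ χ ∈ (Finset.univ : Finset (IrrCharacter S)).erase χ₀,
        charDegree (χ : S → ℂ) ^ 2 := by
      apply Finset.dvd_sum
      intro χ hχ
      exact dvd_pow (hcon χ (Finset.ne_of_mem_erase hχ)) two_ne_zero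
    have : p ∣ 1 ^ 2 := by
      have h2 : p ∣ 1 ^ 2 + ∑ χ ∈ (Finset.univ : Finset (IrrCharacter S)).erase χ₀,
          charDegree (χ : S → ℂ) ^ 2 := hsum ▸ hpS
      exact (Nat.dvd_add_left hdiv).mp h2
    rw [one_pow] at this
    exact hp.one_lt.ne' (Nat.dvd_one.mp this)
  obtain ⟨χ, hχne, hχp⟩ := hex
  -- its kernel is trivial
  have hKbot : charKer (χ : S → ℂ) (isCharacter_of_isIrrCharacter χ.2) = ⊥ := by
    rcases (charKer_normal (χ : S → ℂ) (isCharacter_of_isIrrCharacter χ.2)).eq_bot_or_eq_top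
      with h | h
    · exact h
    · exfalso
      apply hχne
      apply Subtype.ext
      apply eq_one_of_forall_eq
      intro g
      have : g ∈ charKer (χ : S → ℂ) (isCharacter_of_isIrrCharacter χ.2) := by
        rw [h]; exact Subgroup.mem_top g
      exact this
  have hKcard : Nat.card (charKer (χ : S → ℂ) (isCharacter_of_isIrrCharacter χ.2)) = 1 := by
    rw [hKbot]; exact Subgroup.card_bot
  obtain ⟨c, hcpos, hQ, hcod⟩ := codegree_eq χ
  have hScard : Nat.card S = c * charDegree (χ : S → ℂ) := by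
    rw [← hQ, card_eq_card_ker_mul (charKer (χ : S → ℂ) (isCharacter_of_isIrrCharacter χ.2)),
      hKcard, one_mul]
  obtain ⟨ψ, hψ⟩ := hsub χ
  obtain ⟨c', hc'pos, hQ', hcod'⟩ := codegree_eq ψ
  rw [hcod, hcod'] at hψ
  subst hψ
  have hcG : c ∣ Nat.card G := by
    rw [card_eq_card_ker_mul (charKer (ψ : G → ℂ) (isCharacter_of_isIrrCharacter ψ.2)), hQ']
    exact Dvd.dvd.mul_left (Dvd.intro _ rfl) _
  have hfac : (Nat.card S).factorization p = c.factorization p := by
    rw [hScard, Nat.factorization_mul hcpos.ne' (charDegree_pos χ.2).ne']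
    simp [Nat.factorization_eq_zero_of_not_dvd hχp]
  rw [hfac]
  exact (Nat.factorization_le_iff_dvd hcpos.ne' Nat.card_pos.ne').mpr hcG p

end Cfsg.Agent.S4801
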