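import Cfsg.Statements.S4802
import Mathlib
import Cfsg.Agent.Lib.Helper4.InflateEquiv

namespace Cfsg.Agent.S4802

open Cfsg Module Cfsg.Agent.Lib.helper3.IndFun Cfsg.Agent.Lib.helper3.CharBasic
open Cfsg.Agent.Lib.helper3.Irr Cfsg.Agent.Lib.helper3.Central Cfsg.Agent.Lib.Helper4.CharExtra
open Cfsg.Agent.Lib.Helper4.InflateEquiv

/-- Let N < M be normal subgroups of the finite group G and g ∈ M ∖ N. Then the conjugacy class of g is exactly M ∖ N if and only if every irreducible complex character of G whose kernel contains N takes the same value at all elements of M ∖ N, and every irreducible complex character of G whose kernel does not contain N vanishes at g. -/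
theorem result {G : Type*} [Group G] [Finite G] (N M : Subgroup G) [N.Normal] [M.Normal] (hNM : N < M) (g : G) (hgM : g ∈ M) (hgN : g ∉ N) : {h : G | IsConj g h} = (M : Set G) \ (N : Set G) ↔ ((∀ χ : Cfsg.IrrCharacter G, (∀ x ∈ N, (χ : G → ℂ) x = (χ : G → ℂ) 1) → ∀ x ∈ M, x ∉ N → ∀ y ∈ M, y ∉ N → (χ : G → ℂ) x = (χ : G → ℂ) y) ∧ (∀ χ : Cfsg.IrrCharacter G, (∃ x ∈ N, (χ : G → ℂ) x ≠ (χ : G → ℂ) 1) → (χ : G → ℂ) g = 0)) := by
  classical
  haveI : Fintype G := Fintype.ofFinite G
  haveI : Fintype (G ⧸ N) := Fintype.ofFinite _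
  set K : Finset G := cls g with hKdef
  set Kb : Finset (G ⧸ N) := cls (g : G ⧸ N) with hKbdef
  set P : Finset G := Finset.univ.filter (fun x : G => (x : G ⧸ N) ∈ Kb) with hPdef
  set D : Finset G := Finset.univ.filter (fun x : G => x ∈ M ∧ x ∉ N) with hDdef
  have hKD : K ⊆ D := by
    intro x hx
    rw [hKdef, mem_cls] at hx
    obtain ⟨c, hc⟩ := isConj_iff.mp hx
    simp only [hDdef, Finset.mem_filter, Finset.mem_univ, true_and]
    rw [← hc]
    refine ⟨‹M.Normal›.conj_mem g hgM c, ?_⟩
    intro hn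
    apply hgN
    have := ‹N.Normal›.conj_mem _ hn c⁻¹
    have e : c⁻¹ * (c * g * c⁻¹) * c⁻¹⁻¹ = g := by group
    rwa [e] at this
  have hP : P.card = Nat.card N * Kb.card := card_preimage_mk N Kb
  have hK : K.card * Nat.card (Subgroup.centralizer ({g} : Set G)) = Nat.card G :=
    card_cls_mul_card_centralizer g
  have hKb : Kb.card * Nat.card (Subgroup.centralizer ({(g : G ⧸ N)} : Set (G ⧸ N))) =
      Nat.card (G ⧸ N) := card_cls_mul_card_centralizer (g : G ⧸ N)
  have hGQ : Nat.card G = Nat.card N * Nat.card (G ⧸ N) := by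
    rw [← Subgroup.index_eq_card, Subgroup.card_mul_index]
  have hKpos : 0 < K.card := Finset.card_pos.mpr ⟨g, mem_cls.mpr (IsConj.refl g)⟩
  set CG := Nat.card (Subgroup.centralizer ({g} : Set G)) with hCG
  set CQ := Nat.card (Subgroup.centralizer ({(g : G ⧸ N)} : Set (G ⧸ N))) with hCQ
  have hCGpos : 0 < CG := Nat.card_pos
  have hCQpos : 0 < CQ := Nat.card_pos
  -- real sums
  have hSall : ∑ χ : IrrCharacter G, ‖(χ : G → ℂ) g‖ ^ 2 = (CG : ℝ) :=
    sum_norm_sq_eq_card_centralizer g
  have hSker : ∑ χ : IrrCharacter G,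
      (if KerGE N (χ : G → ℂ) then ‖(χ : G → ℂ) g‖ ^ 2 else 0) = (CQ : ℝ) :=
    sum_norm_sq_kerGE N g
  have hsplit : ∑ χ : IrrCharacter G, ‖(χ : G → ℂ) g‖ ^ 2 =
      ∑ χ : IrrCharacter G, (if KerGE N (χ : G → ℂ) then ‖(χ : G → ℂ) g‖ ^ 2 else 0) +
      ∑ χ : IrrCharacter G, (if KerGE N (χ : G → ℂ) then 0 else ‖(χ : G → ℂ) g‖ ^ 2) := by
    rw [← Finset.sum_add_distrib]
    apply Finset.sum_congr rfl
    intro χ _
    split_ifs <;> simp
  rw [hSall, hSker] at hsplit
  constructor
  · intro hcls
    have hDK : D ⊆ K := by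
      intro x hx
      simp only [hDdef, Finset.mem_filter, Finset.mem_univ, true_and] at hx
      have : x ∈ (M : Set G) \ (N : Set G) := ⟨hx.1, hx.2⟩
      rw [← hcls] at this
      exact mem_cls.mpr this
    have hDKeq : D = K := Finset.Subset.antisymm hDK hKD
    refine ⟨?_, ?_⟩
    · intro χ _ x hxM hxN y hyM hyN
      have hx : IsConj g x := by
        have : x ∈ (M : Set G) \ (N : Set G) := ⟨hxM, hxN⟩
        rwa [← hcls] at this
      have hy : IsConj g y := by
        have : y ∈ (M : Set G) \ (N : Set G) := ⟨hyM, hyN⟩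
        rwa [← hcls] at this
      rw [← irr_eq_of_isConj χ hx, ← irr_eq_of_isConj χ hy]
    · -- P ⊆ D
      have hPD : P ⊆ D := by
        intro x hx
        simp only [hPdef, Finset.mem_filter, Finset.mem_univ, true_and] at hx
        rw [hKbdef, mem_cls] at hx
        obtain ⟨cb, hcb⟩ := isConj_iff.mp hx
        obtain ⟨c, rfl⟩ := QuotientGroup.mk_surjective cb
        simp only [hDdef, Finset.mem_filter, Finset.mem_univ, true_and]
        have h1 : ((c * g * c⁻¹ : G) : G ⧸ N) = (x : G ⧸ N) := by
          rw [← hcb]; simp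
        have h2 : (c * g * c⁻¹)⁻¹ * x ∈ N := QuotientGroup.eq.mp h1
        have h3 : c * g * c⁻¹ ∈ M := ‹M.Normal›.conj_mem g hgM c
        refine ⟨?_, ?_⟩
        · have := M.mul_mem h3 (hNM.le h2)
          have e : c * g * c⁻¹ * ((c * g * c⁻¹)⁻¹ * x) = x := by group
          rwa [e] at this
        · intro hxN
          apply hgN
          have h4 : c * g * c⁻¹ ∈ N := by
            have := N.mul_mem hxN (N.inv_mem h2)
            have e : x * ((c * g * c⁻¹)⁻¹ * x)⁻¹ = c * g * c⁻¹ := by group
            rwa [e] at this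
          have := ‹N.Normal›.conj_mem _ h4 c⁻¹
          have e : c⁻¹ * (c * g * c⁻¹) * c⁻¹⁻¹ = g := by group
          rwa [e] at this
      have hle : Nat.card N * Kb.card ≤ K.card := by
        rw [← hP, ← hDKeq]
        exact Finset.card_le_card hPD
      have hCle : CG ≤ CQ := by
        have h1 : K.card * CG ≤ K.card * CQ := by
          calc K.card * CG = Nat.card N * Nat.card (G ⧸ N) := by rw [hK, hGQ]
            _ = Nat.card N * Kb.card * CQ := by rw [← hKb]; ring
            _ ≤ K.card * CQ := Nat.mul_le_mul_right _ hle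
        exact Nat.le_of_mul_le_mul_left h1 hKpos
      have hnon : ∑ χ : IrrCharacter G,
          (if KerGE N (χ : G → ℂ) then 0 else ‖(χ : G → ℂ) g‖ ^ 2) ≤ 0 := by
        have : (CG : ℝ) ≤ (CQ : ℝ) := by exact_mod_cast hCle
        linarith
      have hnonneg : ∀ χ ∈ (Finset.univ : Finset (IrrCharacter G)),
          0 ≤ (if KerGE N (χ : G → ℂ) then 0 else ‖(χ : G → ℂ) g‖ ^ 2) := by
        intro χ _
        split_ifs
        · exact le_refl _
        · positivity
      have hzero := (Finset.sum_eq_zero_iff_of_nonneg hnonneg).mp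
        (le_antisymm hnon (Finset.sum_nonneg hnonneg))
      intro χ hχ
      have hk : ¬ KerGE N (χ : G → ℂ) := by
        intro hk
        obtain ⟨x, hx, hne⟩ := hχ
        exact hne (hk x hx)
      have := hzero χ (Finset.mem_univ _)
      rw [if_neg hk] at this
      have h0 : ‖(χ : G → ℂ) g‖ = 0 := by
        exact pow_eq_zero_iff (two_ne_zero) |>.mp this
      exact norm_eq_zero.mp h0
  · rintro ⟨ha, hb⟩
    -- D ⊆ P
    have hDP : D ⊆ P := by
      intro x hx
      simp only [hDdef, Finset.mem_filter, Finset.mem_univ, true_and] at hx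
      simp only [hPdef, Finset.mem_filter, Finset.mem_univ, true_and]
      rw [hKbdef, mem_cls]
      apply isConj_of_forall_irr_eq
      intro ψ
      have h1 := ha (inflateIrr N ψ).1 (inflateIrr N ψ).2 g hgM hgN x hx.1 hx.2
      exact h1
    have hDle : D.card ≤ Nat.card N * Kb.card := by
      rw [← hP]
      exact Finset.card_le_card hDP
    have hnon0 : ∑ χ : IrrCharacter G,
        (if KerGE N (χ : G → ℂ) then 0 else ‖(χ : G → ℂ) g‖ ^ 2) = 0 := by
      apply Finset.sum_eq_zero
      intro χ _
      split_ifs with hk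
      · rfl
      · have : ∃ x ∈ N, (χ : G → ℂ) x ≠ (χ : G → ℂ) 1 := by
          unfold KerGE at hk
          push Not at hk
          exact hk
        rw [hb χ this]
        simp
    have hCeq : CG = CQ := by
      have : (CG : ℝ) = (CQ : ℝ) := by linarith
      exact_mod_cast this
    have hKeq : K.card = Nat.card N * Kb.card := by
      have h1 : K.card * CG = Nat.card N * Kb.card * CG := by
        calc K.card * CG = Nat.card N * Nat.card (G ⧸ N) := by rw [hK, hGQ]
          _ = Nat.card N * Kb.card * CQ := by rw [← hKb]; ring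
          _ = Nat.card N * Kb.card * CG := by rw [hCeq]
      exact Nat.eq_of_mul_eq_mul_right hCGpos h1
    have hKDeq : K = D := Finset.eq_of_subset_of_card_le hKD (by rw [hKeq]; exact hDle)
    ext h
    constructor
    · intro hh
      have : h ∈ D := by rw [← hKDeq]; exact mem_cls.mpr hh
      simp only [hDdef, Finset.mem_filter, Finset.mem_univ, true_and] at this
      exact ⟨this.1, this.2⟩
    · intro hh
      have : h ∈ D := by
        simp only [hDdef, Finset.mem_filter, Finset.mem_univ, true_and]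
        exact ⟨hh.1, hh.2⟩
      rw [← hKDeq] at this
      exact mem_cls.mp this

end Cfsg.Agent.S4802
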