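import Cfsg.Statements.S4808
import Mathlib
import Cfsg.Agent.Lib.Helper4.Codegree
import Cfsg.Agent.S4801

namespace Cfsg.Agent.S4808

open Cfsg Module Cfsg.Agent.Lib.helper3.IndFun Cfsg.Agent.Lib.helper3.CharBasic
open Cfsg.Agent.Lib.helper3.Irr Cfsg.Agent.Lib.helper3.Central Cfsg.Agent.Lib.Helper4.CharExtra
open Cfsg.Agent.Lib.Helper4.InflateEquiv Cfsg.Agent.Lib.Helper4.Codegree

/-- The codegree of an irreducible complex character χ of a finite group G is [G : ker χ] / χ(1), where ker χ is the set of elements at which χ takes the value χ(1). A prime divides the order of G if and only if it divides the codegree of some irreducible complex character of G. -/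
theorem result {G : Type*} [Group G] [Finite G] (p : ℕ) (hp : p.Prime) : p ∣ Nat.card G ↔ ∃ χ : Cfsg.IrrCharacter G, p ∣ (Nat.card G / (Nat.card {g : G // (χ : G → ℂ) g = (χ : G → ℂ) 1} * Cfsg.charDegree (χ : G → ℂ))) := by
  classical
  haveI : Fintype G := Fintype.ofFinite G
  haveI : Fact p.Prime := ⟨hp⟩
  constructor
  · intro hpG
    by_contra hcon
    push Not at hcon
    obtain ⟨P⟩ : Nonempty (Sylow p G) := inferInstance
    set M : Subgroup G := Subgroup.normalClosure ((P : Subgroup G) : Set G) with hM
    have hPM : (P : Subgroup G) ≤ M := Subgroup.le_normalClosure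
    have hMidx : ¬ p ∣ M.index := fun h =>
      P.not_dvd_index (h.trans (Subgroup.index_dvd_of_le hPM))
    haveI : Fintype (G ⧸ M) := Fintype.ofFinite _
    -- characterisation of the characters with `M` in the kernel
    have hiff : ∀ χ : IrrCharacter G, KerGE M (χ : G → ℂ) ↔ ¬ p ∣ charDegree (χ : G → ℂ) := by
      intro χ
      constructor
      · intro hk
        obtain ⟨ψ, hψ⟩ := (inflateIrr_bijective M).2 ⟨χ, hk⟩
        have he : (χ : G → ℂ) = inflate M (ψ : G ⧸ M → ℂ) := by
          have := congrArg (fun x : {χ : IrrCharacter G // KerGE M (χ : G → ℂ)} =>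
            ((x.1 : IrrCharacter G) : G → ℂ)) hψ
          exact this.symm
        obtain ⟨n, hn1, hn2, hn3⟩ := irr_degree_dvd_card ψ.2
        have h1 : (χ : G → ℂ) 1 = n := by
          rw [he, inflate_apply, QuotientGroup.mk_one, hn1]
        rw [charDegree_eq h1]
        intro hpn
        apply hMidx
        rw [Subgroup.index_eq_card]
        exact hpn.trans hn2
      · intro hpd
        obtain ⟨c, hcpos, hQ, hcod⟩ := codegree_eq χ
        have hpc : ¬ p ∣ c := by
          have := hcon χ
          rwa [hcod] at this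
        have hpQ : ¬ p ∣ Nat.card (G ⧸ charKer (χ : G → ℂ) (isCharacter_of_isIrrCharacter χ.2)) := by
          rw [hQ]
          exact fun h => (hp.dvd_mul.mp h).elim hpc hpd
        have hPle : ((P : Subgroup G) : Set G) ⊆
            charKer (χ : G → ℂ) (isCharacter_of_isIrrCharacter χ.2) := by
          intro g hg
          rw [SetLike.mem_coe, ← QuotientGroup.eq_one_iff]
          set gb : G ⧸ charKer (χ : G → ℂ) (isCharacter_of_isIrrCharacter χ.2) :=
            QuotientGroup.mk g with hgb
          obtain ⟨k, hk⟩ := (P.2 ⟨g, hg⟩)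
          have hk' : g ^ p ^ k = 1 := by
            have := congrArg Subtype.val hk
            simpa using this
          have h1 : gb ^ p ^ k = 1 := by
            rw [hgb, ← QuotientGroup.mk_pow, hk', QuotientGroup.mk_one]
          have h2 : orderOf gb ∣ p ^ k := orderOf_dvd_of_pow_eq_one h1
          have h3 : orderOf gb ∣ Nat.card (G ⧸ charKer (χ : G → ℂ)
              (isCharacter_of_isIrrCharacter χ.2)) := orderOf_dvd_natCard gb
          have hcop : Nat.Coprime (p ^ k) (Nat.card (G ⧸ charKer (χ : G → ℂ)
              (isCharacter_of_isIrrCharacter χ.2))) :=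
            Nat.Coprime.pow_left k ((Nat.Prime.coprime_iff_not_dvd hp).mpr hpQ)
          have h4 : orderOf gb = 1 := Nat.eq_one_of_dvd_coprimes hcop h2 h3
          exact orderOf_eq_one_iff.mp h4
        have hMle : M ≤ charKer (χ : G → ℂ) (isCharacter_of_isIrrCharacter χ.2) :=
          Subgroup.normalClosure_le_normal hPle
        intro n hn
        exact hMle hn
    -- sums of squares of degrees
    have hsumG := Cfsg.Agent.S4801.sum_charDegree_sq (S := G)
    have hsumQ := Cfsg.Agent.S4801.sum_charDegree_sq (S := G ⧸ M)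
    have hker := sum_irr_kerGE M (fun χ : G → ℂ => charDegree χ ^ 2)
    have hker' : ∑ ψ : IrrCharacter (G ⧸ M), charDegree (inflate M (ψ : G ⧸ M → ℂ)) ^ 2 =
        ∑ ψ : IrrCharacter (G ⧸ M), charDegree (ψ : G ⧸ M → ℂ) ^ 2 := by
      apply Finset.sum_congr rfl
      intro ψ _
      have : inflate M (ψ : G ⧸ M → ℂ) 1 = (ψ : G ⧸ M → ℂ) 1 := by
        rw [inflate_apply, QuotientGroup.mk_one]
      unfold charDegree
      rw [this]
    rw [hker', hsumQ] at hker
    have hsplit : ∑ χ : IrrCharacter G, charDegree (χ : G → ℂ) ^ 2 =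
        ∑ χ : IrrCharacter G, (if KerGE M (χ : G → ℂ) then charDegree (χ : G → ℂ) ^ 2 else 0) +
        ∑ χ : IrrCharacter G, (if KerGE M (χ : G → ℂ) then 0 else charDegree (χ : G → ℂ) ^ 2) := by
      rw [← Finset.sum_add_distrib]
      apply Finset.sum_congr rfl
      intro χ _
      split_ifs <;> simp
    rw [hsumG, hker] at hsplit
    have hdiv : p ∣ ∑ χ : IrrCharacter G,
        (if KerGE M (χ : G → ℂ) then 0 else charDegree (χ : G → ℂ) ^ 2) := by
      apply Finset.dvd_sum
      intro χ _
      split_ifs with hk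
      · exact dvd_zero p
      · have : p ∣ charDegree (χ : G → ℂ) := by
          by_contra hnd
          exact hk ((hiff χ).mpr hnd)
        exact dvd_pow this two_ne_zero
    apply hMidx
    rw [Subgroup.index_eq_card]
    rw [hsplit] at hpG
    exact (Nat.dvd_add_left hdiv).mp hpG
  · rintro ⟨χ, hχ⟩
    obtain ⟨c, hcpos, hQ, hcod⟩ := codegree_eq χ
    rw [hcod] at hχ
    rw [card_eq_card_ker_mul (charKer (χ : G → ℂ) (isCharacter_of_isIrrCharacter χ.2)), hQ]
    exact Dvd.dvd.mul_left (Dvd.dvd.mul_right hχ _) _

end Cfsg.Agent.S4808
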