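import Cfsg.Statements.S4814
import Mathlib
import Cfsg.Agent.Lib.Helper4.TwoComm
import Cfsg.Agent.Lib.helper3.Irr11

namespace Cfsg.Agent.S4814

open Cfsg Module Cfsg.Agent.Lib.helper3.IndFun Cfsg.Agent.Lib.helper3.CharBasic
open Cfsg.Agent.Lib.helper3.Irr Cfsg.Agent.Lib.helper3.Central Cfsg.Agent.Lib.Helper4.TwoComm

lemma norm_le_norm_one {G : Type*} [Group G] [Finite G] {χ : G → ℂ} (hχ : IsIrrCharacter G χ)
    (g : G) : ‖χ g‖ ≤ ‖χ 1‖ := by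
  obtain ⟨n, ρ, hirr, rfl⟩ := hχ
  rw [Representation.char_one, Complex.norm_natCast]
  exact norm_character_le ρ g

/-- Let G be a finite group such that the sum, over the irreducible complex characters χ of G, of 1/χ(1)² is less than 2. Then every element of G is a product of two commutators. -/
theorem result {G : Type*} [Group G] [Finite G]
    (h : ∑ᶠ χ : Cfsg.IrrCharacter G, 1 / ‖(χ : G → ℂ) 1‖ ^ 2 < (2 : ℝ)) (g : G) :
    ∃ a b c d : G, (a * b * a⁻¹ * b⁻¹) * (c * d * c⁻¹ * d⁻¹) = g := by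
  classical
  haveI : Fintype G := Fintype.ofFinite G
  rw [finsum_eq_sum_of_fintype] at h
  let χ₀ : IrrCharacter G := ⟨fun _ => 1, isIrrCharacter_one⟩
  have hsplit := Finset.add_sum_erase (Finset.univ : Finset (IrrCharacter G))
    (fun χ : IrrCharacter G => 1 / ‖(χ : G → ℂ) 1‖ ^ 2) (Finset.mem_univ χ₀)
  rw [← hsplit] at h
  have h0 : (1 : ℝ) / ‖(χ₀ : G → ℂ) 1‖ ^ 2 = 1 := by
    show (1 : ℝ) / ‖(1 : ℂ)‖ ^ 2 = 1
    simp
  simp only [h0] at h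
  have hlt : ∑ χ ∈ (Finset.univ : Finset (IrrCharacter G)).erase χ₀,
      1 / ‖(χ : G → ℂ) 1‖ ^ 2 < (1 : ℝ) := by linarith
  apply exists_two_commutators_of_ne_zero
  intro hzero
  have hsplit2 := Finset.add_sum_erase (Finset.univ : Finset (IrrCharacter G))
    (fun χ : IrrCharacter G => (χ : G → ℂ) g / (χ : G → ℂ) 1 ^ 3) (Finset.mem_univ χ₀)
  rw [hzero] at hsplit2
  have h1 : (χ₀ : G → ℂ) g / (χ₀ : G → ℂ) 1 ^ 3 = 1 := by
    show (1 : ℂ) / (1 : ℂ) ^ 3 = 1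
    simp
  simp only [h1] at hsplit2
  have h2 : ∑ χ ∈ (Finset.univ : Finset (IrrCharacter G)).erase χ₀,
      (χ : G → ℂ) g / (χ : G → ℂ) 1 ^ 3 = -1 := by
    linear_combination hsplit2
  have h3 : ‖∑ χ ∈ (Finset.univ : Finset (IrrCharacter G)).erase χ₀,
      (χ : G → ℂ) g / (χ : G → ℂ) 1 ^ 3‖ = 1 := by
    rw [h2]; simp
  have h4 : ‖∑ χ ∈ (Finset.univ : Finset (IrrCharacter G)).erase χ₀,
      (χ : G → ℂ) g / (χ : G → ℂ) 1 ^ 3‖ ≤
      ∑ χ ∈ (Finset.univ : Finset (IrrCharacter G)).erase χ₀, 1 / ‖(χ : G → ℂ) 1‖ ^ 2 := by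
    refine (norm_sum_le _ _).trans (Finset.sum_le_sum ?_)
    intro χ _
    have hpos : 0 < ‖(χ : G → ℂ) 1‖ := norm_pos_iff.mpr (apply_one_ne_zero χ.2)
    rw [norm_div, norm_pow, div_le_div_iff₀ (pow_pos hpos 3) (pow_pos hpos 2)]
    have := norm_le_norm_one χ.2 g
    calc ‖(χ : G → ℂ) g‖ * ‖(χ : G → ℂ) 1‖ ^ 2 ≤ ‖(χ : G → ℂ) 1‖ * ‖(χ : G → ℂ) 1‖ ^ 2 :=
          mul_le_mul_of_nonneg_right this (by positivity)
      _ = 1 * ‖(χ : G → ℂ) 1‖ ^ 3 := by ring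
  linarith

end Cfsg.Agent.S4814
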