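import Cfsg.Statements.S4835
import Mathlib
import Cfsg.Agent.Lib.Helper4.TwoClass

set_option autoImplicit false
set_option linter.style.haveILetI false

namespace Cfsg.Agent.S4835

open Cfsg Cfsg.Agent.Lib.Helper4.TwoClass

/-- Let G be a finite group of order greater than 2 with an irreducible character χ that is nonzero on exactly two conjugacy classes. Then G has a unique minimal normal subgroup N; N is an elementary abelian p-group for some prime p; χ is nonzero exactly at the elements of N; and any two nonidentity elements of N are conjugate in G. -/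
theorem result {G : Type*} [Group G] [Finite G] (hG : 2 < Nat.card G) (χ : Cfsg.IrrCharacter G) (hχ : Nat.card {C : ConjClasses G // ∃ g ∈ C.carrier, (χ : G → ℂ) g ≠ 0} = 2) :
    ∃ N : Subgroup G, N.Normal ∧ N ≠ ⊥ ∧ (∀ K : Subgroup G, K.Normal → K ≠ ⊥ → N ≤ K) ∧
      (∃ p : ℕ, p.Prime ∧ Cfsg.IsElementaryAbelian p N) ∧
      (∀ g : G, (χ : G → ℂ) g ≠ 0 ↔ g ∈ N) ∧
      (∀ x ∈ N, ∀ y ∈ N, x ≠ 1 → y ≠ 1 → ∃ g : G, g * x * g⁻¹ = y) := by
  classical
  haveI := Fintype.ofFinite G
  obtain ⟨x, h⟩ := exists_rep χ hχ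
  have hχ' := χ.2
  have hNn := supp_normal hχ' h
  refine ⟨supp hχ' h, hNn, supp_ne_bot hχ' h, ?_, ?_, ?_, ?_⟩
  · intro K hK hK1
    haveI := hK
    exact supp_le hχ' h K hK1
  · obtain ⟨p, hp, hpow⟩ := exists_prime_order hχ' h
    refine ⟨p, hp, ?_, hpow⟩
    haveI : Fact p.Prime := ⟨hp⟩
    have hpg : IsPGroup p (supp hχ' h) := by
      intro g
      refine ⟨1, ?_⟩
      rw [pow_one]
      apply Subtype.ext
      rw [Subgroup.coe_pow]
      exact hpow g g.2
    haveI : Nontrivial (supp hχ' h) :=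
      (Subgroup.nontrivial_iff_ne_bot _).2 (supp_ne_bot hχ' h)
    haveI := hpg.center_nontrivial
    obtain ⟨z, hz1⟩ := exists_ne (1 : Subgroup.center (supp hχ' h))
    have hz1' : ((z : supp hχ' h) : G) ≠ 1 := by
      intro h1
      apply hz1
      apply Subtype.ext
      apply Subtype.ext
      exact h1
    have hzc := isConj_of_mem_supp hχ' h (z : supp hχ' h).2 hz1'
    refine ⟨⟨?_⟩⟩
    intro a b
    by_cases ha1 : (a : G) = 1
    · have : a = 1 := Subtype.ext ha1
      rw [this, one_mul, mul_one]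
    · have hac := isConj_of_mem_supp hχ' h a.2 ha1
      obtain ⟨g, hg⟩ := isConj_iff.1 (hzc.symm.trans hac)
      have hb' : g⁻¹ * (b : G) * g ∈ supp hχ' h := by
        have := hNn.conj_mem _ b.2 g⁻¹
        rwa [inv_inv] at this
      have hcomm := Subgroup.mem_center_iff.1 z.2 ⟨_, hb'⟩
      have hcomm' : g⁻¹ * (b : G) * g * ((z : supp hχ' h) : G)
          = ((z : supp hχ' h) : G) * (g⁻¹ * (b : G) * g) := congrArg Subtype.val hcomm
      apply Subtype.ext
      show (a : G) * b = b * a
      rw [← hg]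
      calc g * ((z : supp hχ' h) : G) * g⁻¹ * b
          = g * (((z : supp hχ' h) : G) * (g⁻¹ * (b : G) * g)) * g⁻¹ := by group
        _ = g * (g⁻¹ * (b : G) * g * ((z : supp hχ' h) : G)) * g⁻¹ := by rw [hcomm']
        _ = b * (g * ((z : supp hχ' h) : G) * g⁻¹) := by group
  · intro g
    exact (mem_supp hχ' h).symm
  · intro a ha b hb ha1 hb1
    have hac := isConj_of_mem_supp hχ' h ha ha1
    have hbc := isConj_of_mem_supp hχ' h hb hb1
    exact isConj_iff.1 (hac.symm.trans hbc)

end Cfsg.Agent.S4835
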