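import Cfsg.Statements.S4836
import Mathlib
import Cfsg.Agent.Lib.Helper4.TwoClass
import Cfsg.Agent.S4835

set_option autoImplicit false
set_option linter.style.haveILetI false

namespace Cfsg.Agent.S4836

open Cfsg Cfsg.Agent.Lib.Helper4.TwoClass
open Cfsg.Agent.Lib.helper3.IndFun Cfsg.Agent.Lib.helper3.CharBasic
open Cfsg.Agent.Lib.helper3.Irr Cfsg.Agent.Lib.helper3.Central
open scoped ComplexConjugate

theorem isClassFunction_one {G : Type*} [Group G] : IsClassFunction G (fun _ => (1 : ℂ)) :=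
  fun _ _ => rfl

/-- a two-class character of a group of order `> 2` is not the trivial character -/
theorem ne_one {G : Type*} [Group G] [Finite G] (hG : 2 < Nat.card G) (χ : Cfsg.IrrCharacter G)
    (hχ : Nat.card {C : ConjClasses G // ∃ g ∈ C.carrier, (χ : G → ℂ) g ≠ 0} = 2) :
    (χ : G → ℂ) ≠ fun _ => (1 : ℂ) := by
  classical
  intro h1
  obtain ⟨N, _, _, _, ⟨p, _, hab, _⟩, hmem, hconj⟩ := Cfsg.Agent.S4835.result hG χ hχ
  have hall : ∀ g : G, g ∈ N := by
    intro g
    rw [← hmem, h1]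
    exact one_ne_zero
  have heq : ∀ a b : G, a ≠ 1 → b ≠ 1 → a = b := by
    intro a b ha hb
    obtain ⟨g, hg⟩ := hconj a (hall a) b (hall b) ha hb
    have hcomm := hab.is_comm.comm ⟨g, hall g⟩ ⟨a, hall a⟩
    have hcomm' : g * a = a * g := congrArg Subtype.val hcomm
    rw [← hg, hcomm', mul_assoc, mul_inv_cancel, mul_one]
  haveI := Fintype.ofFinite G
  by_cases hex : ∃ a : G, a ≠ 1
  · obtain ⟨a, ha⟩ := hex
    have hsub : (Finset.univ : Finset G) ⊆ {1, a} := by
      intro g _
      by_cases hg : g = 1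
      · simp [hg]
      · simp [heq g a hg ha]
    have := Finset.card_le_card hsub
    rw [Finset.card_univ, ← Nat.card_eq_fintype_card] at this
    have h2 := Finset.card_le_two (a := (1 : G)) (b := a)
    omega
  · push_neg at hex
    have hsub : (Finset.univ : Finset G) ⊆ {1} := by
      intro g _
      simp [hex g]
    have := Finset.card_le_card hsub
    rw [Finset.card_univ, ← Nat.card_eq_fintype_card, Finset.card_singleton] at this
    omega

/-- the key relation `|C| χ(x) = - χ(1)` -/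
theorem card_mul_apply {G : Type*} [Group G] [Fintype G] (hG : 2 < Nat.card G)
    (χ : Cfsg.IrrCharacter G)
    (hχ : Nat.card {C : ConjClasses G // ∃ g ∈ C.carrier, (χ : G → ℂ) g ≠ 0} = 2)
    {x : G} (h : TwoClass (χ : G → ℂ) x) :
    ((cls x).card : ℂ) * (χ : G → ℂ) x = - (χ : G → ℂ) 1 := by
  have h0 := irr_classInner_eq_zero χ.2 isIrrCharacter_one (ne_one hG χ hχ)
  rw [classInner_eq χ.2 h _ isClassFunction_one] at h0
  rcases mul_eq_zero.1 h0 with h1 | h1
  · exact absurd h1 (inv_ne_zero (card_ne_zero_complex G))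
  · simp only [map_one, mul_one] at h1
    linear_combination h1

/-- any other irreducible character has `x` in its kernel -/
theorem apply_x_eq {G : Type*} [Group G] [Fintype G] (hG : 2 < Nat.card G)
    (χ : Cfsg.IrrCharacter G)
    (hχ : Nat.card {C : ConjClasses G // ∃ g ∈ C.carrier, (χ : G → ℂ) g ≠ 0} = 2)
    {x : G} (h : TwoClass (χ : G → ℂ) x) (ψ : Cfsg.IrrCharacter G) (hne : ψ ≠ χ) :
    (ψ : G → ℂ) x = (ψ : G → ℂ) 1 := by
  have hne' : (χ : G → ℂ) ≠ (ψ : G → ℂ) := fun he => hne (Subtype.ext he.symm)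
  have h0 := irr_classInner_eq_zero χ.2 ψ.2 hne'
  rw [classInner_eq χ.2 h _ (isClassFunction_of_isCharacter (isCharacter_of_isIrrCharacter ψ.2))]
    at h0
  rcases mul_eq_zero.1 h0 with h1 | h1
  · exact absurd h1 (inv_ne_zero (card_ne_zero_complex G))
  · have h2 := card_mul_apply hG χ hχ h
    have h3 : (χ : G → ℂ) 1 * (conj ((ψ : G → ℂ) 1) - conj ((ψ : G → ℂ) x)) = 0 := by
      linear_combination h1 - conj ((ψ : G → ℂ) x) * h2
    rcases mul_eq_zero.1 h3 with h4 | h4
    · exact absurd h4 (apply_one_ne_zero χ.2)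
    · have h5 := sub_eq_zero.1 h4
      have := congrArg conj h5
      simpa using this.symm

/-- faithfulness -/
theorem faithful {G : Type*} [Group G] [Fintype G] (hG : 2 < Nat.card G)
    (χ : Cfsg.IrrCharacter G)
    (hχ : Nat.card {C : ConjClasses G // ∃ g ∈ C.carrier, (χ : G → ℂ) g ≠ 0} = 2)
    (g : G) (hg : (χ : G → ℂ) g = (χ : G → ℂ) 1) : g = 1 := by
  obtain ⟨x, h⟩ := exists_rep χ hχ
  by_contra hg1
  have hg0 : (χ : G → ℂ) g ≠ 0 := by rw [hg]; exact apply_one_ne_zero χ.2
  have hx : (χ : G → ℂ) x = (χ : G → ℂ) 1 := by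
    rw [← apply_eq_x χ.2 h hg0 hg1, hg]
  have h2 := card_mul_apply hG χ hχ h
  rw [hx] at h2
  have h3 : (((cls x).card : ℂ) + 1) * (χ : G → ℂ) 1 = 0 := by linear_combination h2
  rcases mul_eq_zero.1 h3 with h4 | h4
  · have : (((cls x).card + 1 : ℕ) : ℂ) = 0 := by push_cast; exact h4
    exact absurd (Nat.cast_eq_zero.1 this) (Nat.succ_ne_zero _)
  · exact apply_one_ne_zero χ.2 h4

/-- Let G be a finite group of order greater than 2 with an irreducible character χ that is nonzero on exactly two conjugacy classes. Then χ is faithful (it takes the value χ(1) only at the identity), it is the only faithful irreducible character of G, and it is the only irreducible character of G that is nonzero on exactly two conjugacy classes. -/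
theorem result {G : Type*} [Group G] [Finite G] (hG : 2 < Nat.card G) (χ : Cfsg.IrrCharacter G) (hχ : Nat.card {C : ConjClasses G // ∃ g ∈ C.carrier, (χ : G → ℂ) g ≠ 0} = 2) :
    (∀ g : G, (χ : G → ℂ) g = (χ : G → ℂ) 1 → g = 1) ∧
      (∀ ψ : Cfsg.IrrCharacter G, (∀ g : G, (ψ : G → ℂ) g = (ψ : G → ℂ) 1 → g = 1) → ψ = χ) ∧
      (∀ ψ : Cfsg.IrrCharacter G, Nat.card {C : ConjClasses G // ∃ g ∈ C.carrier, (ψ : G → ℂ) g ≠ 0} = 2 → ψ = χ) := by
  classical
  haveI := Fintype.ofFinite G
  obtain ⟨x, h⟩ := exists_rep χ hχ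
  have hii : ∀ ψ : Cfsg.IrrCharacter G,
      (∀ g : G, (ψ : G → ℂ) g = (ψ : G → ℂ) 1 → g = 1) → ψ = χ := by
    intro ψ hψ
    by_contra hne
    exact h.1 (hψ x (apply_x_eq hG χ hχ h ψ hne))
  refine ⟨faithful hG χ hχ, hii, ?_⟩
  intro ψ hψ
  exact hii ψ (faithful hG ψ hψ)

end Cfsg.Agent.S4836
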