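import Cfsg.Statements.S4837
import Mathlib
import Cfsg.Agent.Lib.Helper4.TwoClass
import Cfsg.Agent.Lib.Helper4.Codegree
import Cfsg.Agent.Lib.Helper4.InflateEquiv
import Cfsg.Agent.Lib.helper3.AlgInt
import Cfsg.Agent.Lib.helper3.Ito
import Cfsg.Agent.Lib.helper3.Irr16
import Cfsg.Agent.Lib.helper3.Irr10
import Cfsg.Agent.S4835
import Cfsg.Agent.S4836

set_option autoImplicit false
set_option linter.style.haveILetI false

namespace Cfsg.Agent.S4837

open Cfsg Cfsg.Agent.Lib.Helper4.TwoClass
open Cfsg.Agent.Lib.helper3.IndFun Cfsg.Agent.Lib.helper3.CharBasic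
open Cfsg.Agent.Lib.helper3.Irr Cfsg.Agent.Lib.helper3.Central Cfsg.Agent.Lib.helper3.Lin
open Cfsg.Agent.Lib.helper3.AlgInt Cfsg.Agent.Lib.Helper4.Codegree
open Cfsg.Agent.Lib.Helper4.InflateEquiv
open scoped ComplexConjugate

section

variable {G : Type*} [Group G] [Fintype G]

theorem twoClass_of_ne_zero {χ : G → ℂ} (hχ : IsIrrCharacter G χ) {x : G} (h : TwoClass χ x)
    {y : G} (hy : χ y ≠ 0) (hy1 : y ≠ 1) : TwoClass χ y := by
  have hxy : IsConj x y := by
    rcases (h.2 y).1 hy with h1 | h1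
    · exact absurd h1 hy1
    · exact h1
  refine ⟨hy1, fun g => ?_⟩
  rw [h.2 g]
  constructor
  · rintro (h1 | h1)
    · left; exact h1
    · right; exact hxy.symm.trans h1
  · rintro (h1 | h1)
    · left; exact h1
    · right; exact hxy.trans h1

/-- if a character vanishes on the nonidentity elements of a subgroup, the order of the subgroup
divides the degree -/
theorem card_dvd_charDegree_of_vanish {χ : G → ℂ} (hχ : IsCharacter G χ) (H : Subgroup G)
    (hv : ∀ h ∈ H, h ≠ 1 → χ h = 0) : Nat.card H ∣ charDegree χ := by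
  classical
  haveI : Fintype H := Fintype.ofFinite H
  obtain ⟨k, hk⟩ := exists_nat_classInner_of_isCharacter_of_isCharacter
    (isCharacter_restrict hχ H) (isCharacter_one (G := H))
  rw [classInner_apply] at hk
  have hsum : ∑ g : H, χ g * conj (1 : ℂ) = χ 1 := by
    rw [Finset.sum_eq_single (1 : H)]
    · simp
    · intro g _ hg
      rw [hv g g.2 (fun h1 => hg (Subtype.ext h1)), zero_mul]
    · intro h1
      exact absurd (Finset.mem_univ _) h1
  rw [hsum, ← charDegree_cast hχ] at hk
  have hH0 := card_ne_zero_complex H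
  have h2 : (charDegree χ : ℂ) = ((Nat.card H * k : ℕ) : ℂ) := by
    push_cast
    rw [← hk]
    field_simp
  refine ⟨k, ?_⟩
  exact_mod_cast h2

theorem relations (hG : 2 < Nat.card G) (χ : IrrCharacter G)
    (hχ : Nat.card {C : ConjClasses G // ∃ g ∈ C.carrier, (χ : G → ℂ) g ≠ 0} = 2)
    {x : G} (h : TwoClass (χ : G → ℂ) x) :
    ∃ m : ℕ, 0 < m ∧ charDegree (χ : G → ℂ) = (cls x).card * m ∧ (χ : G → ℂ) x = -(m : ℂ) ∧
      Nat.card G = (cls x).card * m ^ 2 * ((cls x).card + 1) := by
  have hχc := isCharacter_of_isIrrCharacter χ.2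
  have hcf := isClassFunction_of_isCharacter hχc
  set n := charDegree (χ : G → ℂ) with hn
  have hn1 : (n : ℂ) = (χ : G → ℂ) 1 := charDegree_cast hχc
  set c := (cls x).card with hc
  have hc0 : c ≠ 0 := by
    rw [hc]
    exact (Finset.card_pos.2 ⟨x, mem_cls.2 (IsConj.refl x)⟩).ne'
  have hcC : (c : ℂ) ≠ 0 := by exact_mod_cast hc0
  have R1 := Cfsg.Agent.S4836.card_mul_apply hG χ hχ h
  rw [← hn1] at R1
  have hdvd : (c : ℤ) ∣ -(n : ℤ) := by
    apply int_dvd_of_eq_mul_isIntegral (isIntegral_of_isCharacter hχc x)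
    · push_cast
      rw [R1]
    · exact_mod_cast hc0
  rw [dvd_neg, Int.natCast_dvd_natCast] at hdvd
  obtain ⟨m, hm⟩ := hdvd
  have hnpos : 0 < n := charDegree_pos χ.2
  have hmpos : 0 < m := by
    rcases Nat.eq_zero_or_pos m with h0 | h0
    · rw [h0, mul_zero] at hm; omega
    · exact h0
  have hx : (χ : G → ℂ) x = -(m : ℂ) := by
    have : (c : ℂ) * (χ : G → ℂ) x = (c : ℂ) * (-(m : ℂ)) := by
      rw [R1, hm]; push_cast; ring
    exact mul_left_cancel₀ hcC this
  refine ⟨m, hmpos, hm, hx, ?_⟩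
  have hnorm := irr_classInner_self χ.2
  rw [classInner_eq χ.2 h _ hcf, ← hn1, hx, hm] at hnorm
  have hG0 := card_ne_zero_complex G
  have h3 : (Nat.card G : ℂ) = ((c * m ^ 2 * (c + 1) : ℕ) : ℂ) := by
    simp only [map_neg, Complex.conj_natCast] at hnorm
    rw [← hc] at hnorm
    field_simp at hnorm
    push_cast at hnorm ⊢
    linear_combination -hnorm
  exact_mod_cast h3

theorem card_supp {χ : G → ℂ} {x : G} (h : TwoClass χ x) (N : Subgroup G)
    (hN : ∀ g : G, g ∈ N ↔ χ g ≠ 0) : Nat.card N = (cls x).card + 1 := by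
  classical
  rw [Nat.card_eq_fintype_card, Fintype.card_subtype]
  have h1 : (1 : G) ∉ cls x := by
    rw [mem_cls]
    intro hc
    exact h.1 (isConj_one_left.1 hc)
  rw [← Finset.card_insert_of_notMem h1]
  congr 1
  ext g
  simp only [Finset.mem_filter, Finset.mem_univ, true_and, Finset.mem_insert, mem_cls]
  rw [hN, h.2]

/-- the common order of centralizers of elements of `N` and inertia groups -/
theorem card_centralizer (hG : 2 < Nat.card G) (χ : IrrCharacter G)
    (hχ : Nat.card {C : ConjClasses G // ∃ g ∈ C.carrier, (χ : G → ℂ) g ≠ 0} = 2)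
    (p : ℕ) [Fact p.Prime] (N : Subgroup G) (hN : ∀ g : G, g ∈ N ↔ (χ : G → ℂ) g ≠ 0)
    (hNp : IsPGroup p N) (hN1 : N ≠ ⊥) {x : G} (h : TwoClass (χ : G → ℂ) x) :
    Nat.card (Subgroup.centralizer ({x} : Set G)) = p ^ (Nat.card G).factorization p := by
  classical
  have hp := (Fact.out : p.Prime)
  obtain ⟨m, hmpos, hn, hx, hcard⟩ := relations hG χ hχ h
  set c := (cls x).card with hc
  have hc0 : c ≠ 0 := by
    rw [hc]
    exact (Finset.card_pos.2 ⟨x, mem_cls.2 (IsConj.refl x)⟩).ne'
  have hq := card_supp h N hN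
  obtain ⟨j, hj⟩ := IsPGroup.iff_card.mp hNp
  have hj0 : j ≠ 0 := by
    intro h0
    rw [h0, pow_zero] at hj
    exact hN1 (Subgroup.card_eq_one.1 hj)
  rw [hj] at hq
  -- p ∤ c
  have hpc : ¬ p ∣ c := by
    intro hd
    have h1 : p ∣ p ^ j := dvd_pow_self p hj0
    rw [hq] at h1
    have := (Nat.dvd_add_right hd).1 h1
    exact hp.one_lt.ne' (Nat.dvd_one.1 this)
  -- m is a power of p
  have hmp : ∀ {r : ℕ}, r.Prime → r ∣ m → r = p := by
    intro r hr hrm
    by_contra hne
    haveI : Fact r.Prime := ⟨hr⟩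
    obtain ⟨R⟩ : Nonempty (Sylow r G) := inferInstance
    have hvan : ∀ g ∈ (R : Subgroup G), g ≠ 1 → (χ : G → ℂ) g = 0 := by
      intro g hg hg1
      by_contra hne0
      have hgN : g ∈ N := (hN g).2 hne0
      have hdisj := IsPGroup.disjoint_of_ne r p hne (R : Subgroup G) N R.isPGroup' hNp
      have := Subgroup.disjoint_def.1 hdisj hg hgN
      exact hg1 this
    obtain ⟨t, ht⟩ := card_dvd_charDegree_of_vanish (isCharacter_of_isIrrCharacter χ.2)
      (R : Subgroup G) hvan
    have hidx : Nat.card (R : Subgroup G) * (R : Subgroup G).index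
        = Nat.card (R : Subgroup G) * (t * m * (c + 1)) := by
      rw [Subgroup.card_mul_index, hcard]
      have : c * m = Nat.card (R : Subgroup G) * t := by rw [← hn, ht]
      calc c * m ^ 2 * (c + 1) = (c * m) * m * (c + 1) := by ring
        _ = Nat.card (R : Subgroup G) * t * m * (c + 1) := by rw [this]
        _ = Nat.card (R : Subgroup G) * (t * m * (c + 1)) := by ring
    have hidx' := Nat.eq_of_mul_eq_mul_left Nat.card_pos hidx
    apply R.not_dvd_index
    rw [hidx']
    exact Dvd.dvd.mul_right (Dvd.dvd.mul_left hrm t) _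
  have hm_eq := Nat.eq_prime_pow_of_unique_prime_dvd hmpos.ne' hmp
  set a := m.primeFactorsList.length with ha
  -- the centralizer
  have hcC := card_cls_mul_card_centralizer x
  have hC : Nat.card (Subgroup.centralizer ({x} : Set G)) = p ^ (2 * a + j) := by
    have h1 : c * Nat.card (Subgroup.centralizer ({x} : Set G)) = c * p ^ (2 * a + j) := by
      rw [hcC, hcard, ← hq, hm_eq, pow_add, pow_mul']
      ring
    exact Nat.eq_of_mul_eq_mul_left (Nat.pos_of_ne_zero hc0) h1
  rw [hC]
  congr 1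
  rw [← hcC, hC, Nat.factorization_mul hc0 (pow_ne_zero _ hp.ne_zero)]
  simp only [Finsupp.coe_add, Pi.add_apply]
  rw [Nat.factorization_eq_zero_of_not_dvd hpc, hp.factorization_pow]
  simp

end

/-- Let G be a finite group of order greater than 2 with an irreducible character χ nonzero on exactly two conjugacy classes, and let N be the set of elements where χ is nonzero, given as a nontrivial normal p-subgroup of G for the prime p. Then for every nonidentity x in N the centralizer C_G(x) is a Sylow p-subgroup of G, and for every irreducible character λ ≠ 1 of N the stabilizer of λ in G (its inertia group) is a Sylow p-subgroup of G. -/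
theorem result {G : Type*} [Group G] [Finite G] (hG : 2 < Nat.card G) (χ : Cfsg.IrrCharacter G) (hχ : Nat.card {C : ConjClasses G // ∃ g ∈ C.carrier, (χ : G → ℂ) g ≠ 0} = 2) (p : ℕ) [Fact p.Prime] (N : Subgroup G) [N.Normal] (hN : ∀ g : G, g ∈ N ↔ (χ : G → ℂ) g ≠ 0) (hNp : IsPGroup p N) (hN1 : N ≠ ⊥) :
    (∀ x ∈ N, x ≠ 1 → ∃ P : Sylow p G, Subgroup.centralizer ({x} : Set G) = P) ∧
      (∀ μ : Cfsg.IrrCharacter N, (μ : N → ℂ) ≠ (fun _ => (1 : ℂ)) → ∃ P : Sylow p G, ∀ g : G, g ∈ (P : Subgroup G) ↔ ∀ n n' : N, (n' : G) = g * n * g⁻¹ → (μ : N → ℂ) n' = (μ : N → ℂ) n) := by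
  classical
  haveI := Fintype.ofFinite G
  haveI : Fintype N := Fintype.ofFinite N
  obtain ⟨x₀, h₀⟩ := exists_rep χ hχ
  constructor
  · intro x hx hx1
    have h := twoClass_of_ne_zero χ.2 h₀ ((hN x).1 hx) hx1
    have hcard := card_centralizer hG χ hχ p N hN hNp hN1 h
    exact ⟨Sylow.ofCard _ hcard, (Sylow.coe_ofCard _ hcard).symm⟩
  · intro μ hμ
    have hNn : N.Normal := inferInstance
    obtain ⟨m, hmpos, hn, hx, hcard⟩ := relations hG χ hχ h₀
    set c := (cls x₀).card with hc
    have hc0 : c ≠ 0 := by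
      rw [hc]
      exact (Finset.card_pos.2 ⟨x₀, mem_cls.2 (IsConj.refl x₀)⟩).ne'
    have hχc := isCharacter_of_isIrrCharacter χ.2
    have hq := card_supp h₀ N hN
    have hn1 : (charDegree (χ : G → ℂ) : ℂ) = (χ : G → ℂ) 1 := charDegree_cast hχc
    -- N is abelian
    have hcomm : ∀ a b : N, a * b = b * a := by
      obtain ⟨N', _, _, _, ⟨p', _, hab, _⟩, hmem, _⟩ := Cfsg.Agent.S4835.result hG χ hχ
      have hNN' : N = N' := by
        ext g
        rw [hN, hmem]
      subst hNN'
      exact hab.is_comm.comm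
    have hμ1 : (μ : N → ℂ) 1 = 1 := apply_one_eq_one_of_comm hcomm μ.2
    -- values of χ on N
    have hval : ∀ k : N, (χ : G → ℂ) k = -(m : ℂ) + (if k = 1 then ((c * m + m : ℕ) : ℂ) else 0) := by
      intro k
      by_cases hk : k = 1
      · rw [if_pos hk, hk, Subgroup.coe_one, ← hn1, hn]
        push_cast
        ring
      · rw [if_neg hk, add_zero, ← hx]
        have hk' : (k : G) ≠ 1 := fun h1 => hk (Subtype.ext h1)
        exact apply_eq_x χ.2 h₀ ((hN k).1 k.2) hk'
    -- the sum of μ vanishes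
    have hsumμ : ∑ k : N, (μ : N → ℂ) k = 0 := by
      have h0 := irr_classInner_eq_zero μ.2 (isIrrCharacter_one (G := N)) hμ
      rw [classInner_apply] at h0
      rcases mul_eq_zero.1 h0 with h1 | h1
      · exact absurd h1 (inv_ne_zero (card_ne_zero_complex N))
      · simpa using h1
    -- the multiplicity
    have he : classInner (fun k : N => (χ : G → ℂ) k) (μ : N → ℂ) = (m : ℂ) := by
      rw [classInner_apply]
      have hsum : ∑ k : N, (χ : G → ℂ) k * conj ((μ : N → ℂ) k) = ((c * m + m : ℕ) : ℂ) := by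
        simp_rw [hval, add_mul, Finset.sum_add_distrib, ← Finset.mul_sum, ← map_sum, hsumμ,
          map_zero, mul_zero, zero_add, ite_mul, zero_mul]
        rw [Finset.sum_ite_eq' Finset.univ (1 : N)]
        simp [hμ1]
      rw [hsum, hq, ← hc]
      have : ((c + 1 : ℕ) : ℂ) ≠ 0 := by exact_mod_cast Nat.succ_ne_zero c
      push_cast at this ⊢
      field_simp
    have he0 : classInner (fun k : N => (χ : G → ℂ) k) (μ : N → ℂ) ≠ 0 := by
      rw [he]
      exact_mod_cast hmpos.ne'
    have hcl := clifford N (χ : G → ℂ) χ.2 (μ : N → ℂ) μ.2 he0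
    rw [setOf_conj_eq, finsum_mem_coe_finset, he] at hcl
    have hsc := sum_conjFun_eq N (μ : N → ℂ)
    set T := Nat.card {g : G // ∀ h : N, (μ : N → ℂ) ⟨g * h * g⁻¹, hNn.conj_mem h h.2 g⟩
      = (μ : N → ℂ) h} with hT
    -- evaluate at 1
    have h1 : (T : ℂ) * (χ : G → ℂ) 1 = (m : ℂ) * (Nat.card G : ℂ) := by
      have e1 := congrFun hcl 1
      have e2 := congrFun hsc 1
      simp only [Pi.smul_apply, smul_eq_mul, Finset.sum_apply] at e1 e2
      have e3 : ∀ g : G, conjFun N (μ : N → ℂ) g 1 = 1 := by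
        intro g
        unfold conjFun
        have : (⟨g * ((1 : N) : G) * g⁻¹, hNn.conj_mem _ (1 : N).2 g⟩ : N) = 1 := by
          apply Subtype.ext
          simp
        rw [this, hμ1]
      simp only [e3, Finset.sum_const, Finset.card_univ, nsmul_eq_mul, mul_one] at e2
      rw [Subgroup.coe_one] at e1
      rw [e1, ← mul_assoc, mul_comm (T : ℂ) (m : ℂ), mul_assoc, ← e2, Nat.card_eq_fintype_card]
    rw [← hn1, hn] at h1
    have h2 : T * (c * m) = m * Nat.card G := by exact_mod_cast h1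
    have hcC := card_cls_mul_card_centralizer x₀
    have hTC : T = Nat.card (Subgroup.centralizer ({x₀} : Set G)) := by
      have h3 : (c * m) * T = (c * m) * Nat.card (Subgroup.centralizer ({x₀} : Set G)) := by
        rw [mul_comm, h2, ← hcC]
        ring
      exact Nat.eq_of_mul_eq_mul_left (Nat.mul_pos (Nat.pos_of_ne_zero hc0) hmpos) h3
    have hcard' := card_centralizer hG χ hχ p N hN hNp hN1 h₀
    have hTI : Nat.card (inertia N (μ : N → ℂ)) = p ^ (Nat.card G).factorization p := by
      rw [← hcard', ← hTC, hT]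
      apply Nat.card_congr
      exact Equiv.subtypeEquivRight (fun g => mem_inertia_iff N (μ : N → ℂ) g)
    refine ⟨Sylow.ofCard _ hTI, fun g => ?_⟩
    rw [Sylow.coe_ofCard, mem_inertia_iff]
    constructor
    · intro hg n n' hnn'
      have : n' = ⟨g * n * g⁻¹, hNn.conj_mem n n.2 g⟩ := Subtype.ext hnn'
      rw [this]
      exact hg n
    · intro hg n
      exact hg n ⟨g * n * g⁻¹, hNn.conj_mem n n.2 g⟩ rfl

end Cfsg.Agent.S4837
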