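import Cfsg.Statements.S4838
import Mathlib
import Cfsg.Agent.Lib.Helper4.TwoClass
import Cfsg.Agent.Lib.Helper4.CharExtra
import Cfsg.Agent.Lib.Helper4.InflateEquiv
import Cfsg.Agent.S4835
import Cfsg.Agent.S4836
import Cfsg.Agent.S4837

set_option autoImplicit false
set_option linter.style.haveILetI false

namespace Cfsg.Agent.S4838

open Cfsg Cfsg.Agent.Lib.Helper4.TwoClass
open Cfsg.Agent.Lib.helper3.IndFun Cfsg.Agent.Lib.helper3.CharBasic
open Cfsg.Agent.Lib.helper3.Irr Cfsg.Agent.Lib.helper3.Central
open Cfsg.Agent.Lib.Helper4.InflateEquiv Cfsg.Agent.Lib.Helper4.CharExtra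
open scoped ComplexConjugate commutatorElement

section

variable {G : Type*} [Group G] [Fintype G]

/-- part (a) -/
theorem card_centralizer_eq (hG : 2 < Nat.card G) (χ : IrrCharacter G)
    (hχ : Nat.card {C : ConjClasses G // ∃ g ∈ C.carrier, (χ : G → ℂ) g ≠ 0} = 2)
    (N : Subgroup G) [N.Normal] (hN : ∀ g : G, g ∈ N ↔ (χ : G → ℂ) g ≠ 0)
    (x : G) (hx : x ∉ N) :
    Nat.card (Subgroup.centralizer ({x} : Set G))
      = Nat.card (Subgroup.centralizer ({(x : G ⧸ N)} : Set (G ⧸ N))) := by
  classical
  obtain ⟨x₀, h₀⟩ := exists_rep χ hχ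
  have h1 := sum_norm_sq_eq_card_centralizer x
  have h2 := sum_norm_sq_kerGE N x
  have hterm : ∀ ψ : IrrCharacter G, ‖(ψ : G → ℂ) x‖ ^ 2
      = (if KerGE N (ψ : G → ℂ) then ‖(ψ : G → ℂ) x‖ ^ 2 else 0) := by
    intro ψ
    by_cases hψ : ψ = χ
    · have : (ψ : G → ℂ) x = 0 := by
        rw [hψ]
        by_contra hne
        exact hx ((hN x).2 hne)
      rw [this]
      simp
    · rw [if_pos]
      intro n hn
      by_cases hn1 : n = 1
      · rw [hn1]
      · have h := Cfsg.Agent.S4837.twoClass_of_ne_zero χ.2 h₀ ((hN n).1 hn) hn1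
        exact Cfsg.Agent.S4836.apply_x_eq hG χ hχ h ψ hψ
  rw [Finset.sum_congr rfl (fun ψ _ => hterm ψ), h2] at h1
  exact_mod_cast h1.symm

/-- the key divisibility: for `z ∈ P` outside `N`, `|C_P(z)| |N|` divides `|P|` -/
theorem card_centralizer_mul_dvd (hG : 2 < Nat.card G) (χ : IrrCharacter G)
    (hχ : Nat.card {C : ConjClasses G // ∃ g ∈ C.carrier, (χ : G → ℂ) g ≠ 0} = 2)
    (p : ℕ) [Fact p.Prime]
    (N : Subgroup G) [N.Normal] (hN : ∀ g : G, g ∈ N ↔ (χ : G → ℂ) g ≠ 0) (hNp : IsPGroup p N)
    (P : Sylow p G) (z : (P : Subgroup G)) (hz : (z : G) ∉ N) :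
    Nat.card (Subgroup.centralizer ({z} : Set (P : Subgroup G))) * Nat.card N
      ∣ Nat.card (P : Subgroup G) := by
  have hp := (Fact.out : p.Prime)
  set CP := Subgroup.centralizer ({z} : Set (P : Subgroup G)) with hCP
  have hle : CP.map (P : Subgroup G).subtype ≤ Subgroup.centralizer ({(z : G)} : Set G) := by
    rintro _ ⟨y, hy, rfl⟩
    rw [SetLike.mem_coe, hCP, Subgroup.mem_centralizer_iff] at hy
    rw [Subgroup.mem_centralizer_iff]
    intro w hw
    rw [Set.mem_singleton_iff] at hw
    rw [hw]
    have := hy z (Set.mem_singleton z)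
    exact congrArg Subtype.val this
  have h1 : Nat.card CP ∣ Nat.card (Subgroup.centralizer ({(z : G)} : Set G)) := by
    rw [← Subgroup.card_map_of_injective (P : Subgroup G).subtype_injective]
    exact Subgroup.card_dvd_of_le hle
  rw [card_centralizer_eq hG χ hχ N hN z hz] at h1
  have h2 : Nat.card CP ∣ N.index := by
    rw [Subgroup.index_eq_card]
    exact h1.trans (Subgroup.card_subgroup_dvd_card _)
  have h3 : Nat.card CP * Nat.card N ∣ Nat.card G := by
    rw [← Subgroup.index_mul_card N]
    exact Nat.mul_dvd_mul_right h2 _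
  obtain ⟨a1, ha1⟩ := IsPGroup.iff_card.mp (P.isPGroup'.to_subgroup CP)
  obtain ⟨a2, ha2⟩ := IsPGroup.iff_card.mp hNp
  rw [ha1, ha2, ← pow_add] at h3 ⊢
  rw [P.card_eq_multiplicity]
  apply pow_dvd_pow
  exact (Nat.Prime.pow_dvd_iff_le_factorization hp Nat.card_pos.ne').1 h3

end

/-- Let G be a finite group of order greater than 2 with an irreducible character χ nonzero on exactly two conjugacy classes, N the normal p-subgroup of elements where χ is nonzero, and P a Sylow p-subgroup of G. Then (a) for every x outside N the centralizer of x in G has the same order as the centralizer of xN in G/N; (b) the centre of P lies in N, and equals N exactly when P is normal in G; (c) N, viewed inside P, is a term of the upper central series of P. -/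
theorem result {G : Type*} [Group G] [Finite G] (hG : 2 < Nat.card G) (χ : Cfsg.IrrCharacter G) (hχ : Nat.card {C : ConjClasses G // ∃ g ∈ C.carrier, (χ : G → ℂ) g ≠ 0} = 2) (p : ℕ) [Fact p.Prime] (N : Subgroup G) [N.Normal] (hN : ∀ g : G, g ∈ N ↔ (χ : G → ℂ) g ≠ 0) (hNp : IsPGroup p N) (hN1 : N ≠ ⊥) (P : Sylow p G) :
    (∀ x : G, x ∉ N → Nat.card (Subgroup.centralizer ({x} : Set G)) = Nat.card (Subgroup.centralizer ({(x : G ⧸ N)} : Set (G ⧸ N)))) ∧
      ((Subgroup.center ↥(P : Subgroup G)).map (P : Subgroup G).subtype ≤ N ∧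
        ((Subgroup.center ↥(P : Subgroup G)).map (P : Subgroup G).subtype = N ↔ (P : Subgroup G).Normal)) ∧
      (∃ i : ℕ, Subgroup.upperCentralSeries ↥(P : Subgroup G) i = N.subgroupOf (P : Subgroup G)) := by
  classical
  haveI := Fintype.ofFinite G
  have hp := (Fact.out : p.Prime)
  have hNP : N ≤ (P : Subgroup G) := hNp.le_sylow_of_normal P
  have hNcard : 1 < Nat.card N := by
    rw [Subgroup.one_lt_card_iff_ne_bot]
    exact hN1
  obtain ⟨x₀, h₀⟩ := exists_rep χ hχ
  have hzcen : (Subgroup.center ↥(P : Subgroup G)).map (P : Subgroup G).subtype ≤ N := by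
    rintro _ ⟨z, hz, rfl⟩
    by_contra hzN
    have hd := card_centralizer_mul_dvd hG χ hχ p N hN hNp P z hzN
    have htop : Subgroup.centralizer ({z} : Set (P : Subgroup G)) = ⊤ := by
      rw [eq_top_iff]
      intro y _
      rw [Subgroup.mem_centralizer_iff]
      intro w hw
      rw [Set.mem_singleton_iff] at hw
      rw [hw]
      exact (Subgroup.mem_center_iff.1 hz y).symm
    rw [htop, Subgroup.card_top] at hd
    have := Nat.le_of_dvd Nat.card_pos hd
    have hPpos : 0 < Nat.card (P : Subgroup G) := Nat.card_pos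
    nlinarith
  refine ⟨fun x hx => card_centralizer_eq hG χ hχ N hN x hx, ⟨hzcen, ?_⟩, ?_⟩
  · constructor
    · intro heq
      -- P centralizes N
      obtain ⟨⟨x, hxN⟩, hx1'⟩ := (Subgroup.ne_bot_iff_exists_ne_one).1 hN1
      have hx1 : x ≠ 1 := fun h1 => hx1' (Subtype.ext h1)
      have hcen : ∀ y ∈ N, y ≠ 1 → Subgroup.centralizer ({y} : Set G) = (P : Subgroup G) := by
        intro y hy hy1
        obtain ⟨P', hP'⟩ := (Cfsg.Agent.S4837.result hG χ hχ p N hN hNp hN1).1 y hy hy1
        have hle : (P : Subgroup G) ≤ P' := by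
          rw [← hP']
          intro g hg
          rw [Subgroup.mem_centralizer_iff]
          intro w hw
          rw [Set.mem_singleton_iff] at hw
          rw [hw]
          rw [← heq] at hy
          obtain ⟨z, hz, rfl⟩ := hy
          have := Subgroup.mem_center_iff.1 hz ⟨g, hg⟩
          exact (congrArg Subtype.val this).symm
        have hcard : Nat.card (P' : Subgroup G) ≤ Nat.card (P : Subgroup G) := by
          rw [P'.card_eq_multiplicity, P.card_eq_multiplicity]
        rw [hP']
        exact (Subgroup.eq_of_le_of_card_ge hle hcard).symm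
      constructor
      intro g hg c
      have hx' : c⁻¹ * x * c ∈ N := by
        have := (inferInstance : N.Normal).conj_mem x hxN c⁻¹
        rwa [inv_inv] at this
      have hx1'' : c⁻¹ * x * c ≠ 1 := by
        intro h1
        apply hx1
        have : x = c * (c⁻¹ * x * c) * c⁻¹ := by group
        rw [this, h1]; group
      rw [← hcen x hxN hx1, Subgroup.mem_centralizer_iff]
      intro w hw
      rw [Set.mem_singleton_iff] at hw
      rw [hw]
      have hg' : g ∈ Subgroup.centralizer ({c⁻¹ * x * c} : Set G) := by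
        rw [hcen _ hx' hx1'']; exact hg
      rw [Subgroup.mem_centralizer_iff] at hg'
      have h2 := hg' _ (Set.mem_singleton _)
      calc x * (c * g * c⁻¹) = c * ((c⁻¹ * x * c) * g) * c⁻¹ := by group
        _ = c * (g * (c⁻¹ * x * c)) * c⁻¹ := by rw [h2]
        _ = c * g * c⁻¹ * x := by group
    · intro hPn
      haveI := hPn
      apply le_antisymm hzcen
      haveI hZn : ((Subgroup.center ↥(P : Subgroup G)).map (P : Subgroup G).subtype).Normal :=
        ConjAct.normal_of_characteristic_of_normal
      have hZ1 : (Subgroup.center ↥(P : Subgroup G)).map (P : Subgroup G).subtype ≠ ⊥ := by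
        rw [Ne, Subgroup.map_eq_bot_iff_of_injective _ (P : Subgroup G).subtype_injective]
        haveI : Nontrivial (P : Subgroup G) := by
          rw [Subgroup.nontrivial_iff_ne_bot]
          intro hb
          apply hN1
          rw [eq_bot_iff, ← hb]
          exact hNP
        haveI := P.isPGroup'.center_nontrivial
        exact (Subgroup.nontrivial_iff_ne_bot _).1 inferInstance
      have hsupp := supp_le χ.2 h₀ _ hZ1
      intro g hg
      apply hsupp
      rw [mem_supp]
      exact (hN g).1 hg
  · -- part (c)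
    by_contra hcon
    push_neg at hcon
    set N' := N.subgroupOf (P : Subgroup G) with hN'
    have hN'card : Nat.card N' = Nat.card N :=
      Nat.card_congr (Subgroup.subgroupOfEquivOfLe hNP).toEquiv
    haveI : Fintype (P : Subgroup G) := Fintype.ofFinite _
    have hstep : ∀ i : ℕ, Subgroup.upperCentralSeries ↥(P : Subgroup G) i ≤ N' := by
      intro i
      induction i with
      | zero => rw [Subgroup.upperCentralSeries_zero]; exact bot_le
      | succ i ih =>
        intro z hz
        by_contra hzN
        have hzN' : (z : G) ∉ N := fun h => hzN (Subgroup.mem_subgroupOf.2 h)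
        have hd := card_centralizer_mul_dvd hG χ hχ p N hN hNp P z hzN'
        have hcc := card_cls_mul_card_centralizer z
        -- class of z embeds in Z_i
        have hinj : (cls z).card ≤ Nat.card (Subgroup.upperCentralSeries ↥(P : Subgroup G) i) := by
          rw [Nat.card_eq_fintype_card, Fintype.card_subtype]
          apply Finset.card_le_card_of_injOn (fun w => w * z⁻¹)
          · intro w hw
            rw [Finset.mem_coe, mem_cls] at hw
            obtain ⟨y, hy⟩ := isConj_iff.1 hw
            simp only [Finset.coe_filter, Finset.mem_univ, true_and, Set.mem_ofPred_eq]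
            rw [← hy]
            have h1 := Subgroup.mem_upperCentralSeries_succ_iff.1 hz y
            have h2 := (Subgroup.upperCentralSeries ↥(P : Subgroup G) i).inv_mem h1
            have e : ⁅z, y⁆⁻¹ = y * z * y⁻¹ * z⁻¹ := by
              rw [commutatorElement_def]; group
            rwa [e] at h2
          · intro w _ w' _ hww'
            exact mul_right_cancel hww'
        have hle2 : Nat.card (Subgroup.upperCentralSeries ↥(P : Subgroup G) i) ≤ Nat.card N' :=
          Subgroup.card_le_of_le ih
        have h3 := Nat.le_of_dvd Nat.card_pos hd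
        have hCpos : 0 < Nat.card (Subgroup.centralizer ({z} : Set (P : Subgroup G))) :=
          Nat.card_pos
        have h4 : Nat.card N ≤ (cls z).card := by
          rw [← hcc] at h3
          rw [mul_comm] at h3
          exact Nat.le_of_mul_le_mul_right h3 hCpos
        have h5 : Nat.card N' ≤ Nat.card (Subgroup.upperCentralSeries ↥(P : Subgroup G) i) := by
          rw [hN'card]; exact h4.trans hinj
        exact hcon i (Subgroup.eq_of_le_of_card_ge ih h5)
    haveI : Group.IsNilpotent (P : Subgroup G) := P.isPGroup'.isNilpotent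
    obtain ⟨k, hk⟩ := Group.IsNilpotent.nilpotent (G := (P : Subgroup G))
    have := hstep k
    rw [hk, top_le_iff] at this
    exact hcon k (hk.trans this.symm)

end Cfsg.Agent.S4838
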