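import Cfsg.Statements.S4845
import Cfsg.Agent.Lib.Lead.GalDegC

set_option autoImplicit false
open Cfsg

namespace Cfsg.Agent.S4845

open Cfsg.Agent.Lib.Lead.GalDeg Cfsg.Agent.Lib.helper3.Irr

theorem charDegree_cast {P : Type*} [Group P] {χ : P → ℂ} (hχ : IsIrrCharacter P χ) :
    (charDegree χ : ℂ) = χ 1 := by
  obtain ⟨n, hn⟩ := exists_nat_apply_one (isCharacter_of_isIrrCharacter hχ)
  unfold charDegree
  rw [hn, Complex.natCast_re, Nat.floor_natCast]

/-- Let p be a prime and P a finite non-commutative p-group. Then every two irreducible characters of P of the same degree greater than 1 are Galois conjugate (one is obtained from the other by composing with g ↦ g^k for some k prime to the order of P) if and only if the centre of P is cyclic and the derived subgroup of P has order p. -/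
theorem result {P : Type*} [Group P] [Finite P] (p : ℕ) [Fact p.Prime] (hP : IsPGroup p P) (hna : ¬ IsMulCommutative P) :
    (∀ χ ψ : Cfsg.IrrCharacter P, Cfsg.charDegree (χ : P → ℂ) ≠ 1 → Cfsg.charDegree (χ : P → ℂ) = Cfsg.charDegree (ψ : P → ℂ) → ∃ k : ℕ, Nat.Coprime k (Nat.card P) ∧ ∀ g : P, (ψ : P → ℂ) g = (χ : P → ℂ) (g ^ k)) ↔
      (IsCyclic (Subgroup.center P) ∧ Nat.card (commutator P) = p) := by
  have hna' : ¬ ∀ a b : P, a * b = b * a := fun h => hna (IsMulCommutative.of_comm h)
  constructor
  · intro h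
    have hS : SameKer P := by
      apply sameKer_of_galois
      intro χ ψ hχ hψ h1 h2
      apply h ⟨χ, hχ⟩ ⟨ψ, hψ⟩
      · intro hd
        apply h1
        rw [← charDegree_cast hχ]
        show ((charDegree χ : ℕ) : ℂ) = 1
        rw [hd, Nat.cast_one]
      · have : (charDegree χ : ℂ) = (charDegree ψ : ℂ) := by
          rw [charDegree_cast hχ, charDegree_cast hψ, h2]
        exact_mod_cast this
    exact main (Nat.card P) P rfl hP hna' hS
  · rintro ⟨hZ, hc⟩ χ ψ hd hd'
    apply galois_conj hP hZ hc χ.2 ψ.2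
    · intro h1
      apply hd
      have : (charDegree (χ : P → ℂ) : ℂ) = ((1 : ℕ) : ℂ) := by
        rw [charDegree_cast χ.2, h1, Nat.cast_one]
      exact_mod_cast this
    · rw [← charDegree_cast χ.2, ← charDegree_cast ψ.2, hd']

end Cfsg.Agent.S4845
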