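import Cfsg.Statements.S4859
import Mathlib
import Cfsg.Agent.Lib.Helper4.FS
import Cfsg.Agent.Lib.helper3.Irr11

namespace Cfsg.Agent.S4859

open Cfsg Module Cfsg.Agent.Lib.helper3.IndFun Cfsg.Agent.Lib.helper3.CharBasic
open Cfsg.Agent.Lib.helper3.Irr Cfsg.Agent.Lib.Helper4.FS
open scoped ComplexConjugate

/-- Let p be an odd prime, G a finite group and x an element of G whose order is a power of p (possibly 1) and whose centralizer has even order. Let y be a 2-element of the centralizer of x whose order is largest among the 2-elements of that centralizer. Then x * y is not a square in G, and some non-principal real-valued irreducible character of G does not vanish at x * y. -/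
theorem result {G : Type*} [Group G] [Finite G] (p : ℕ) [Fact p.Prime] (hp : p ≠ 2) (x : G) (hx : ∃ k : ℕ, orderOf x = p ^ k) (heven : Even (Nat.card (Subgroup.centralizer ({x} : Set G)))) (y : G) (hy : y ∈ Subgroup.centralizer ({x} : Set G)) (hy2 : ∃ k : ℕ, orderOf y = 2 ^ k) (hmax : ∀ z ∈ Subgroup.centralizer ({x} : Set G), (∃ k : ℕ, orderOf z = 2 ^ k) → orderOf z ≤ orderOf y) : (¬ ∃ u : G, u * u = x * y) ∧ ∃ χ : Cfsg.IrrCharacter G, ¬ ((χ : G → ℂ) = fun _ => (1 : ℂ)) ∧ (∀ g : G, ((χ : G → ℂ) g).im = 0) ∧ (χ : G → ℂ) (x * y) ≠ 0 := by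
  classical
  letI : Fintype G := Fintype.ofFinite G
  have hpp : p.Prime := Fact.out
  obtain ⟨k, hk⟩ := hx
  obtain ⟨l, hl⟩ := hy2
  have hxy : Commute x y := by
    rw [Subgroup.mem_centralizer_iff] at hy
    exact hy x (Set.mem_singleton x)
  have hcop : (orderOf x).Coprime (orderOf y) := by
    rw [hk, hl]
    apply Nat.Coprime.pow
    exact (Nat.coprime_primes hpp Nat.prime_two).mpr hp
  have hnosq : ¬ ∃ u : G, u * u = x * y := by
    rintro ⟨u, hu⟩
    rcases Nat.eq_zero_or_pos l with hl0 | hlpos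
    · -- `y = 1`: an involution of the centralizer contradicts maximality
      rw [hl0, pow_zero] at hl
      have h2 : 2 ∣ Nat.card (Subgroup.centralizer ({x} : Set G)) := even_iff_two_dvd.mp heven
      haveI : Fact (Nat.Prime 2) := ⟨Nat.prime_two⟩
      obtain ⟨t, ht⟩ := exists_prime_orderOf_dvd_card' 2 h2
      have ht' : orderOf (t : G) = 2 := by rw [Subgroup.orderOf_coe]; exact ht
      have := hmax (t : G) t.2 ⟨1, by rw [ht', pow_one]⟩
      rw [ht', hl] at this
      omega
    · -- the general case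
      set z := x * y with hz
      have hordz : orderOf z = p ^ k * 2 ^ l := by
        rw [hz, hxy.orderOf_mul_eq_mul_orderOf_of_coprime hcop, hk, hl]
      -- `u` centralizes `x`
      have huz : Commute u z := by
        rw [← hu]
        exact (Commute.refl u).mul_right (Commute.refl u)
      have hzx : z ^ (2 ^ l) = x ^ (2 ^ l) := by
        rw [hz, hxy.mul_pow, ← hl, pow_orderOf_eq_one, mul_one]
      obtain ⟨m, hm⟩ := exists_pow_eq_self_of_coprime (x := x) (n := 2 ^ l) (by
        rw [hk]
        apply Nat.Coprime.pow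
        exact (Nat.coprime_primes Nat.prime_two hpp).mpr (Ne.symm hp))
      have hux : Commute u x := by
        rw [← hm, ← hzx]
        exact (huz.pow_right _).pow_right _
      -- the 2-part of `u`
      have ho : orderOf u ≠ 0 := (orderOf_pos u).ne'
      obtain ⟨e, r, hr, hor⟩ := Nat.exists_eq_two_pow_mul_odd ho
      set w := u ^ r with hw
      have hr0 : r ≠ 0 := by
        rintro rfl
        simp at hr
      have hordw : orderOf w = 2 ^ e := by
        rw [hw, orderOf_pow_of_dvd hr0 ⟨2 ^ e, by rw [hor]; ring⟩, hor]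
        exact Nat.mul_div_cancel _ (Nat.pos_of_ne_zero hr0)
      have hwC : w ∈ Subgroup.centralizer ({x} : Set G) := by
        rw [Subgroup.mem_centralizer_iff]
        intro t ht
        rw [Set.mem_singleton_iff] at ht
        rw [ht, hw]
        exact ((hux.pow_left r).eq).symm
      have hle := hmax w hwC ⟨e, hordw⟩
      rw [hordw, hl] at hle
      have hel : e ≤ l := (Nat.pow_le_pow_iff_right (by norm_num)).mp hle
      -- `u ^ (2 ^ l * r) = 1`
      have h1 : u ^ (2 ^ l * r) = 1 := by
        rw [mul_comm, pow_mul, ← hw]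
        apply orderOf_dvd_iff_pow_eq_one.mp
        rw [hordw]
        exact pow_dvd_pow 2 hel
      obtain ⟨l', rfl⟩ : ∃ l', l = l' + 1 := ⟨l - 1, by omega⟩
      have h2 : z ^ (2 ^ l' * r) = 1 := by
        rw [← hu, ← pow_two, ← pow_mul]
        have : 2 * (2 ^ l' * r) = 2 ^ (l' + 1) * r := by ring
        rw [this, h1]
      have h3 : orderOf z ∣ 2 ^ l' * r := orderOf_dvd_of_pow_eq_one h2
      rw [hordz] at h3
      have h4 : 2 ^ (l' + 1) ∣ 2 ^ l' * r := (Dvd.intro_left _ rfl).trans h3
      rw [pow_succ] at h4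
      have h5 : 2 ∣ r := (Nat.mul_dvd_mul_iff_left (by positivity)).mp h4
      exact (Nat.not_even_iff_odd.mpr hr) (even_iff_two_dvd.mpr h5)
  refine ⟨hnosq, ?_⟩
  -- counting square roots
  have hcount := card_sqrt_eq_sum (x * y)
  have hzero : Nat.card {s : G // s * s = x * y} = 0 := by
    rw [Nat.card_eq_zero]
    left
    exact ⟨fun s => hnosq ⟨s.1, s.2⟩⟩
  rw [hzero, Nat.cast_zero] at hcount
  let χ₀ : IrrCharacter G := ⟨fun _ => 1, isIrrCharacter_one⟩
  have hχ₀ : fsInd (χ₀ : G → ℂ) * (χ₀ : G → ℂ) (x * y) = 1 := by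
    show fsInd (fun _ : G => (1 : ℂ)) * 1 = 1
    unfold fsInd
    rw [mul_one, Finset.sum_const, Finset.card_univ, ← Nat.card_eq_fintype_card, nsmul_eq_mul,
      mul_one]
    exact inv_mul_cancel₀ (by exact_mod_cast Nat.card_pos.ne')
  by_contra hcon
  push Not at hcon
  have hall : ∀ χ : IrrCharacter G, χ ≠ χ₀ →
      fsInd (χ : G → ℂ) * (χ : G → ℂ) (x * y) = 0 := by
    intro χ hχ
    by_contra hne
    have h1 : fsInd (χ : G → ℂ) ≠ 0 := left_ne_zero_of_mul hne
    have h2 : (χ : G → ℂ) (x * y) ≠ 0 := right_ne_zero_of_mul hne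
    have hreal := real_of_fsInd_ne_zero χ.2 h1
    have hne1 : ¬ ((χ : G → ℂ) = fun _ => (1 : ℂ)) := fun h => hχ (Subtype.ext h)
    exact h2 (hcon χ hne1 (fun g => Complex.conj_eq_iff_im.mp (hreal g)))
  rw [Finset.sum_eq_single χ₀ (fun χ _ hχ => hall χ hχ)
    (fun h => absurd (Finset.mem_univ _) h), hχ₀] at hcount
  exact zero_ne_one hcount

end Cfsg.Agent.S4859
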