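import Cfsg.Statements.S4862
import Cfsg.Agent.Lib.Helper6.RealLift
import Cfsg.Agent.H1.RealKer

set_option autoImplicit false
open Cfsg

namespace Cfsg.Agent.S4862

/-- Let p be an odd prime and G a finite group such that the subgroup generated by the p-elements of G is solvable and every real-valued irreducible complex character of G has degree prime to p. Let K be the subgroup generated by the 2-elements of G and P a Sylow p-subgroup of G. Then every normal subgroup M of G contained in K and in the derived subgroup of P is centralized by K. -/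
theorem result {G : Type*} [Group G] [Finite G] (p : ℕ) [Fact p.Prime] (hp : p ≠ 2) (hsolv : Group.IsSolvable ↥(Subgroup.closure {g : G | ∃ k : ℕ, orderOf g = p ^ k})) (hreal : ∀ χ : Cfsg.IrrCharacter G, (∀ g : G, ((χ : G → ℂ) g).im = 0) → ¬ p ∣ Cfsg.charDegree (χ : G → ℂ)) (P : Sylow p G) (M : Subgroup G) (hM : M.Normal) (hMK : M ≤ (Subgroup.closure {g : G | ∃ k : ℕ, orderOf g = 2 ^ k})) (hMP : M ≤ ⁅(P : Subgroup G), (P : Subgroup G)⁆) : (Subgroup.closure {g : G | ∃ k : ℕ, orderOf g = 2 ^ k}) ≤ Subgroup.centralizer (M : Set G) := by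
  classical
  have := hM
  rw [Subgroup.closure_le]
  rintro t ⟨k, hk⟩
  rw [SetLike.mem_coe, Subgroup.mem_centralizer_iff]
  intro m hm
  by_contra hne
  have hne' : t * m ≠ m * t := fun h => hne h.symm
  obtain ⟨u, huM, hu1, hur⟩ :=
    Cfsg.Agent.Lib.Helper6.RealLift.exists_real_of_not_commute M ⟨k, hk⟩ hm hne'
  -- `M` has odd order
  have hMP' : M ≤ (P : Subgroup G) := by
    refine hMP.trans (Subgroup.commutator_le.mpr fun g₁ h₁ g₂ h₂ => ?_)
    rw [commutatorElement_def]
    exact Subgroup.mul_mem _ (Subgroup.mul_mem _ (Subgroup.mul_mem _ h₁ h₂)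
      (Subgroup.inv_mem _ h₁)) (Subgroup.inv_mem _ h₂)
  have hodd : Odd (Nat.card M) := by
    obtain ⟨n, hn⟩ := (IsPGroup.iff_card.mp P.isPGroup')
    have hdvd : Nat.card M ∣ p ^ n := hn ▸ Subgroup.card_dvd_of_le hMP'
    have hp2 : Odd p := (Fact.out : p.Prime).odd_of_ne_two hp
    exact (hp2.pow).of_dvd_nat hdvd
  have h1 := Cfsg.Agent.Lib.Helper6.RealLift.card_real_classes_quot_lt M hodd huM hu1 hur
  have h2 := Cfsg.Agent.H1.RealKer.card_real_irr_le_quot M (fun χ hχ =>
    Cfsg.Agent.H1.RealKer.apply_eq_one_of_le_commutator p P M hMP χ (hreal χ hχ))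
  rw [Cfsg.Agent.Lib.helper3.Irr.card_real_irr_eq_card_real_classes,
    Cfsg.Agent.Lib.helper3.Irr.card_real_irr_eq_card_real_classes] at h2
  omega

end Cfsg.Agent.S4862
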