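import Cfsg.Statements.S4870
import Mathlib
import Cfsg.Agent.Lib.Helper4.Codegree
import Cfsg.Agent.Lib.helper3.Gallagher3
import Cfsg.Agent.Lib.helper3.CliffCorr
import Cfsg.Agent.Lib.helper3.Irr10

set_option autoImplicit false
open Cfsg

namespace Cfsg.Agent.S4870

open Cfsg Module Cfsg.Agent.Lib.helper3.IndFun Cfsg.Agent.Lib.helper3.CharBasic
open Cfsg.Agent.Lib.helper3.Irr Cfsg.Agent.Lib.Helper4.Codegree Cfsg.Agent.Lib.helper3.Lin
open scoped ComplexConjugate commutatorElement

section aux

variable {G : Type*} [Group G] [Fintype G]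

/-- A set of irreducible constituents of a character has at most as many members as the degree. -/
theorem card_le_degree {P : G → ℂ} (hP : IsCharacter G P) (n : ℕ) (hn : P 1 = n)
    (S : Finset (IrrCharacter G)) (hS : ∀ χ ∈ S, classInner P (χ : G → ℂ) ≠ 0) : S.card ≤ n := by
  classical
  obtain ⟨m, hm⟩ : ∃ m : IrrCharacter G → ℕ, ∀ χ : IrrCharacter G,
      classInner P (χ : G → ℂ) = m χ :=
    ⟨fun χ => (exists_nat_classInner_of_isCharacter hP χ).choose,
      fun χ => (exists_nat_classInner_of_isCharacter hP χ).choose_spec⟩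
  obtain ⟨d, hd⟩ : ∃ d : IrrCharacter G → ℕ, ∀ χ : IrrCharacter G,
      0 < d χ ∧ (χ : G → ℂ) 1 = d χ :=
    ⟨fun χ => (exists_pos_nat_apply_one χ.2).choose,
      fun χ => (exists_pos_nat_apply_one χ.2).choose_spec⟩
  have h1 : ((n : ℕ) : ℂ) = ((∑ χ : IrrCharacter G, m χ * d χ : ℕ) : ℂ) := by
    rw [← hn]
    have := congrFun (isCharacter_eq_sum_classInner hP) 1
    rw [Finset.sum_apply] at this
    rw [this]
    push_cast
    apply Finset.sum_congr rfl
    intro χ _
    rw [Pi.smul_apply, smul_eq_mul, hm, (hd χ).2]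
  have h2 : n = ∑ χ : IrrCharacter G, m χ * d χ := by exact_mod_cast h1
  rw [h2]
  calc S.card = ∑ χ ∈ S, 1 := by simp
    _ ≤ ∑ χ ∈ S, m χ * d χ := by
        apply Finset.sum_le_sum
        intro χ hχ
        have hmχ : m χ ≠ 0 := by
          intro h
          apply hS χ hχ
          rw [hm, h]
          simp
        have := (hd χ).1
        exact Nat.one_le_iff_ne_zero.mpr (Nat.mul_ne_zero hmχ this.ne')
    _ ≤ ∑ χ : IrrCharacter G, m χ * d χ :=
        Finset.sum_le_sum_of_subset (Finset.subset_univ S)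

end aux

/-- a nonabelian minimal normal subgroup is perfect, so linear characters are trivial on it -/
theorem linear_trivial_on {G : Type*} [Group G] (N : Subgroup G) (hN : N.Normal)
    (hmin : ∀ M : Subgroup G, M.Normal → M ≤ N → M = ⊥ ∨ M = N) (hna : ¬ IsMulCommutative ↥N)
    (lam : G → ℂ) (hlam : IsCharacter G lam) (h1 : lam 1 = 1) : ∀ n ∈ N, lam n = 1 := by
  haveI := hN
  have hperf : ⁅N, N⁆ = N := by
    rcases hmin ⁅N, N⁆ inferInstance (Subgroup.commutator_le_left N N) with h | h
    · exfalso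
      apply hna
      refine ⟨⟨fun a b => ?_⟩⟩
      have hc : ⁅(a : G), (b : G)⁆ ∈ ⁅N, N⁆ := Subgroup.commutator_mem_commutator a.2 b.2
      rw [h, Subgroup.mem_bot, commutatorElement_eq_one_iff_mul_comm] at hc
      exact Subtype.ext hc
    · exact h
  have hmulc := map_mul_of_apply_one_eq_one hlam h1
  have hinv : ∀ a : G, lam a * lam a⁻¹ = 1 := by
    intro a
    rw [← hmulc, mul_inv_cancel, h1]
  let Kr : Subgroup G :=
    { carrier := {g | lam g = 1}
      one_mem' := h1
      mul_mem' := by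
        intro a b ha hb
        show lam (a * b) = 1
        rw [hmulc, show lam a = 1 from ha, show lam b = 1 from hb, one_mul]
      inv_mem' := by
        intro a ha
        show lam a⁻¹ = 1
        have := hinv a
        rw [show lam a = 1 from ha, one_mul] at this
        exact this }
  have hle : ⁅N, N⁆ ≤ Kr := by
    rw [Subgroup.commutator_le]
    intro a _ b _
    show lam ⁅a, b⁆ = 1
    rw [commutatorElement_def, hmulc, hmulc, hmulc]
    calc lam a * lam b * lam a⁻¹ * lam b⁻¹ = (lam a * lam a⁻¹) * (lam b * lam b⁻¹) := by ring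
      _ = 1 := by rw [hinv, hinv, one_mul]
  intro n hn
  rw [← hperf] at hn
  exact hle hn

/-- Let G be a finite group with a non-abelian minimal normal subgroup N, and let φ be an irreducible complex character of N with stabilizer I in G (the elements g with φ(g n g⁻¹) = φ(n) for all n ∈ N) such that φ extends to an irreducible character of I. Put d = φ(1)·[G : I]. Then the number of linear characters of G is at most [G : I] times the number of irreducible characters of G of degree d. -/
theorem result {G : Type*} [Group G] [Finite G] (N : Subgroup G) (hN : N.Normal) (hN1 : N ≠ ⊥) (hmin : ∀ M : Subgroup G, M.Normal → M ≤ N → M = ⊥ ∨ M = N) (hna : ¬ IsMulCommutative ↥N) (φ : Cfsg.IrrCharacter ↥N) (I : Subgroup G) (hI : ∀ g : G, g ∈ I ↔ ∀ n n' : ↥N, (n' : G) = g * (n : G) * g⁻¹ → (φ : ↥N → ℂ) n' = (φ : ↥N → ℂ) n) (hNI : N ≤ I) (hext : ∃ ψ : Cfsg.IrrCharacter ↥I, ∀ n : ↥N, (ψ : ↥I → ℂ) (Subgroup.inclusion hNI n) = (φ : ↥N → ℂ) n) : Nat.card {χ : Cfsg.IrrCharacter G // Cfsg.charDegree (χ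 : G → ℂ) = 1} ≤ I.index * Nat.card {χ : Cfsg.IrrCharacter G // Cfsg.charDegree (χ : G → ℂ) = Cfsg.charDegree (φ : ↥N → ℂ) * I.index} := by
  classical
  letI : Fintype G := Fintype.ofFinite G
  letI : Fintype I := Fintype.ofFinite I
  letI : Fintype N := Fintype.ofFinite N
  haveI := hN
  obtain ⟨ψ, hψ⟩ := hext
  -- the inertia group in the form used by the Clifford correspondence
  have hT : ∀ g : G, g ∈ I ↔ ∀ h : N,
      (φ : N → ℂ) ⟨g * h * g⁻¹, hN.conj_mem h h.2 g⟩ = (φ : N → ℂ) h := by
    intro g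
    rw [hI g]
    constructor
    · intro h n
      exact h n ⟨g * n * g⁻¹, hN.conj_mem n n.2 g⟩ rfl
    · intro h n n' hn'
      have : n' = ⟨g * n * g⁻¹, hN.conj_mem n n.2 g⟩ := Subtype.ext hn'
      rw [this]
      exact h n
  have hlinN := linear_trivial_on N hN hmin hna
  -- the subgroup `N` inside `I`
  obtain ⟨N', hN'⟩ : ∃ N' : Subgroup I, N' = N.subgroupOf I := ⟨_, rfl⟩
  haveI hN'n : N'.Normal := by rw [hN']; infer_instance
  letI : Fintype N' := Fintype.ofFinite N'
  letI : Fintype (N.subgroupOf I) := Fintype.ofFinite _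
  have hφ' : IsIrrCharacter (N.subgroupOf I) (subFun N I (φ : N → ℂ)) :=
    isIrrCharacter_subFun hNI φ.2
  have hψres : ∀ x : N.subgroupOf I, (ψ : I → ℂ) (x : I) = subFun N I (φ : N → ℂ) x := by
    intro x
    have := hψ ⟨((x : I) : G), Subgroup.mem_subgroupOf.mp x.2⟩
    exact this
  have hψc : IsCharacter I (ψ : I → ℂ) := isCharacter_of_isIrrCharacter ψ.2
  have hψ1 : (ψ : I → ℂ) 1 = (charDegree (φ : N → ℂ) : ℂ) := by
    rw [charDegree_cast (isCharacter_of_isIrrCharacter φ.2)]
    have := hψ 1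
    rw [← this]
    rfl
  -- data attached to a linear character
  have hlin : ∀ lam : {χ : IrrCharacter G // charDegree (χ : G → ℂ) = 1},
      IsCharacter G (lam.1 : G → ℂ) ∧ (lam.1 : G → ℂ) 1 = 1 := by
    intro lam
    have hc := isCharacter_of_isIrrCharacter lam.1.2
    refine ⟨hc, ?_⟩
    rw [← charDegree_cast hc, lam.2]
    simp
  -- restriction to `I`
  have hresc : ∀ lam : {χ : IrrCharacter G // charDegree (χ : G → ℂ) = 1},
      IsCharacter I (fun i : I => (lam.1 : G → ℂ) i) :=
    fun lam => isCharacter_restrict (hlin lam).1 I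
  have hres1 : ∀ lam : {χ : IrrCharacter G // charDegree (χ : G → ℂ) = 1},
      (fun i : I => (lam.1 : G → ℂ) i) 1 = 1 := fun lam => (hlin lam).2
  -- the twisted extensions
  have hψlam_irr : ∀ lam : {χ : IrrCharacter G // charDegree (χ : G → ℂ) = 1},
      IsIrrCharacter I ((ψ : I → ℂ) * fun i : I => (lam.1 : G → ℂ) i) := by
    intro lam
    rw [mul_comm]
    exact isIrrCharacter_linear_mul (hresc lam) (hres1 lam) ψ.2
  have hψlam_over : ∀ lam : {χ : IrrCharacter G // charDegree (χ : G → ℂ) = 1},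
      classInner (indFun (N.subgroupOf I) (subFun N I (φ : N → ℂ)))
        ((ψ : I → ℂ) * fun i : I => (lam.1 : G → ℂ) i) ≠ 0 := by
    intro lam
    rw [frobenius_reciprocity _ _ _ (isClassFunction_of_isCharacter
      (isCharacter_of_isIrrCharacter (hψlam_irr lam)))]
    have : (fun h : N.subgroupOf I => ((ψ : I → ℂ) * fun i : I => (lam.1 : G → ℂ) i) h)
        = subFun N I (φ : N → ℂ) := by
      funext x
      rw [Pi.mul_apply, hψres x]
      have h1 := hlinN (lam.1 : G → ℂ) (hlin lam).1 (hlin lam).2 ((x : I) : G)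
        (Subgroup.mem_subgroupOf.mp x.2)
      rw [h1, mul_one]
    rw [this, irr_classInner_self hφ']
    exact one_ne_zero
  have hcliff : ∀ lam mu : {χ : IrrCharacter G // charDegree (χ : G → ℂ) = 1},
      IsIrrCharacter G (indFun I ((ψ : I → ℂ) * fun i : I => (lam.1 : G → ℂ) i)) ∧
      (indFun I ((ψ : I → ℂ) * fun i : I => (lam.1 : G → ℂ) i)
        = indFun I ((ψ : I → ℂ) * fun i : I => (mu.1 : G → ℂ) i) →
        ((ψ : I → ℂ) * fun i : I => (lam.1 : G → ℂ) i)
          = ((ψ : I → ℂ) * fun i : I => (mu.1 : G → ℂ) i)) :=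
    fun lam mu => clifford_corr_injective N I (φ : N → ℂ) φ.2 hT hNI _ _
      (hψlam_irr lam) (hψlam_irr mu) (hψlam_over lam) (hψlam_over mu)
  -- projection formula
  have hproj : ∀ lam : {χ : IrrCharacter G // charDegree (χ : G → ℂ) = 1},
      indFun I ((ψ : I → ℂ) * fun i : I => (lam.1 : G → ℂ) i)
        = indFun I (ψ : I → ℂ) * (lam.1 : G → ℂ) :=
    fun lam => indFun_mul_restrict I (ψ : I → ℂ) (lam.1 : G → ℂ)
      (isClassFunction_of_isCharacter (hlin lam).1)
  -- Gallagher: the twist determines the restriction of the linear character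
  have hgal := gallagher_inflate (N.subgroupOf I) (ψ : I → ℂ) hψc (apply_one_ne_zero ψ.2) (by
    have : (fun n : N.subgroupOf I => (ψ : I → ℂ) n) = subFun N I (φ : N → ℂ) := by
      funext x
      exact hψres x
    rw [this]
    exact hφ')
  have hinfl : ∀ lam : {χ : IrrCharacter G // charDegree (χ : G → ℂ) = 1},
      ∃ β : IrrCharacter (I ⧸ N.subgroupOf I),
        (fun i : I => (lam.1 : G → ℂ) i) = inflate (N.subgroupOf I) (β : I ⧸ N.subgroupOf I → ℂ) := by
    intro lam
    have hirr : IsIrrCharacter I (fun i : I => (lam.1 : G → ℂ) i) :=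
      isIrrCharacter_of_linear (hresc lam) (hres1 lam)
    obtain ⟨β, hβ, he⟩ := exists_eq_inflate hirr (N.subgroupOf I) (by
      intro g n hn
      simp only [Subgroup.coe_mul]
      rw [map_mul_of_apply_one_eq_one (hlin lam).1 (hlin lam).2,
        hlinN (lam.1 : G → ℂ) (hlin lam).1 (hlin lam).2 (n : G) (Subgroup.mem_subgroupOf.mp hn),
        mul_one])
    exact ⟨⟨β, hβ⟩, he⟩
  have hres_eq : ∀ lam mu : {χ : IrrCharacter G // charDegree (χ : G → ℂ) = 1},
      indFun I (ψ : I → ℂ) * (lam.1 : G → ℂ) = indFun I (ψ : I → ℂ) * (mu.1 : G → ℂ) →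
      (fun i : I => (lam.1 : G → ℂ) i) = fun i : I => (mu.1 : G → ℂ) i := by
    intro lam mu h
    rw [← hproj lam, ← hproj mu] at h
    have h2 := (hcliff lam mu).2 h
    obtain ⟨β, hβ⟩ := hinfl lam
    obtain ⟨γ, hγ⟩ := hinfl mu
    rw [hβ, hγ, mul_comm, mul_comm (ψ : I → ℂ)] at h2
    rw [hβ, hγ, hgal.2 β γ h2]
  -- the map to characters of degree `d`
  have hΦirr : ∀ lam : {χ : IrrCharacter G // charDegree (χ : G → ℂ) = 1},
      IsIrrCharacter G (indFun I (ψ : I → ℂ) * (lam.1 : G → ℂ)) := by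
    intro lam
    rw [← hproj lam]
    exact (hcliff lam lam).1
  have hΦdeg : ∀ lam : {χ : IrrCharacter G // charDegree (χ : G → ℂ) = 1},
      charDegree (indFun I (ψ : I → ℂ) * (lam.1 : G → ℂ))
        = charDegree (φ : N → ℂ) * I.index := by
    intro lam
    apply charDegree_eq
    rw [Pi.mul_apply, (hlin lam).2, mul_one, indFun_apply_one, hψ1]
    push_cast
    ring
  let Φ : {χ : IrrCharacter G // charDegree (χ : G → ℂ) = 1} →
      {χ : IrrCharacter G // charDegree (χ : G → ℂ) = charDegree (φ : N → ℂ) * I.index} :=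
    fun lam => ⟨⟨indFun I (ψ : I → ℂ) * (lam.1 : G → ℂ), hΦirr lam⟩, hΦdeg lam⟩
  have hΦeq : ∀ lam mu, Φ lam = Φ mu →
      (fun i : I => (lam.1 : G → ℂ) i) = fun i : I => (mu.1 : G → ℂ) i := by
    intro lam mu h
    apply hres_eq
    exact congrArg (fun x : {χ : IrrCharacter G // charDegree (χ : G → ℂ)
      = charDegree (φ : N → ℂ) * I.index} => ((x.1 : IrrCharacter G) : G → ℂ)) h
  -- fibres have at most `[G : I]` elements
  letI : Fintype {χ : IrrCharacter G // charDegree (χ : G → ℂ) = 1} := Fintype.ofFinite _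
  letI : Fintype {χ : IrrCharacter G // charDegree (χ : G → ℂ)
    = charDegree (φ : N → ℂ) * I.index} := Fintype.ofFinite _
  have hfib : ∀ b ∈ (Finset.univ : Finset _).image Φ,
      ((Finset.univ : Finset {χ : IrrCharacter G // charDegree (χ : G → ℂ) = 1}).filter
        (fun lam => Φ lam = b)).card ≤ I.index := by
    intro b hb
    obtain ⟨mu, -, rfl⟩ := Finset.mem_image.mp hb
    have hPc : IsCharacter G (indFun I (fun i : I => (mu.1 : G → ℂ) i)) :=
      isCharacter_indFun I _ (hresc mu)
    have hP1 : indFun I (fun i : I => (mu.1 : G → ℂ) i) 1 = (I.index : ℂ) := by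
      rw [indFun_apply_one]
      have h1 : (mu.1 : G → ℂ) ((1 : I) : G) = 1 := (hlin mu).2
      rw [h1, mul_one]
    have hcard := card_le_degree hPc I.index hP1
      (((Finset.univ : Finset {χ : IrrCharacter G // charDegree (χ : G → ℂ) = 1}).filter
        (fun lam => Φ lam = Φ mu)).image Subtype.val) (by
      intro χ hχ
      obtain ⟨lam, hlam, rfl⟩ := Finset.mem_image.mp hχ
      have hlamΦ : Φ lam = Φ mu := (Finset.mem_filter.mp hlam).2
      rw [frobenius_reciprocity I _ _ (isClassFunction_of_isCharacter (hlin lam).1),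
        hΦeq lam mu hlamΦ,
        irr_classInner_self (isIrrCharacter_of_linear (hresc mu) (hres1 mu))]
      exact one_ne_zero)
    rwa [Finset.card_image_of_injective _ Subtype.val_injective] at hcard
  have h1 := Finset.card_le_mul_card_image (Finset.univ : Finset
    {χ : IrrCharacter G // charDegree (χ : G → ℂ) = 1}) I.index hfib
  rw [Nat.card_eq_fintype_card, Nat.card_eq_fintype_card]
  calc Fintype.card {χ : IrrCharacter G // charDegree (χ : G → ℂ) = 1}
      = (Finset.univ : Finset {χ : IrrCharacter G // charDegree (χ : G → ℂ) = 1}).card := rfl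
    _ ≤ I.index * ((Finset.univ : Finset _).image Φ).card := h1
    _ ≤ I.index * Fintype.card {χ : IrrCharacter G // charDegree (χ : G → ℂ)
        = charDegree (φ : N → ℂ) * I.index} :=
      Nat.mul_le_mul_left _ (Finset.card_le_univ _)

end Cfsg.Agent.S4870
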