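import Cfsg.Statements.S4871
import Mathlib
import Cfsg.Agent.Lib.Helper4.StrRealF
import Cfsg.Agent.S4188
-- import your own Cfsg.Agent.* helpers here

set_option autoImplicit false
open Cfsg

namespace Cfsg.Agent.S4871

/-- Let G be a finite group that is the semidirect product of a normal elementary abelian subgroup N of odd order by a non-trivial 2-subgroup P, with N the unique minimal normal subgroup of G. Consider the strongly real irreducible complex characters of G (Frobenius–Schur indicator +1) whose degree is 1 or even. Then their average degree is at least 4/3: four times their number is at most three times the sum of their degrees. -/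
theorem result {G : Type*} [Group G] [Finite G] (N P : Subgroup G) (hN : N.Normal) (q : ℕ) [Fact q.Prime] (hq : q ≠ 2) (hNel : Cfsg.IsElementaryAbelian q N) (hP : IsPGroup 2 ↥P) (hP1 : P ≠ ⊥) (hdisj : N ⊓ P = ⊥) (hprod : N ⊔ P = ⊤) (hmin : N ≠ ⊥ ∧ ∀ M : Subgroup G, M.Normal → M ≠ ⊥ → N ≤ M) : 4 * Nat.card {χ : Cfsg.IrrCharacter G // (Cfsg.charDegree (χ : G → ℂ) = 1 ∨ 2 ∣ Cfsg.charDegree (χ : G → ℂ)) ∧ (Nat.card G : ℂ)⁻¹ * ∑ᶠ g : G, (χ : G → ℂ) (g * g) = 1} ≤ 3 * (∑ᶠ χ : {χ : Cfsg.IrrCharacter G // (Cfsg.charDegree (χ : G → ℂ) = 1 ∨ 2 ∣ Cfsg.charDegree (χ : G → ℂ)) ∧ (Nat.card G : ℂ)⁻¹ * ∑ᶠ g : G, (χ : G → ℂ) (g * g) = 1}, Cfsg.charDegree (χ.1 : G → ℂ)) := by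
  classical
  letI : Fintype G := Fintype.ofFinite G
  haveI := hN
  haveI : Fact (Nat.Prime q) := inferInstance
  have hqp : q.Prime := Fact.out
  -- `N` has odd order
  have hNp : IsPGroup q ↥N := by
    intro a
    refine ⟨1, ?_⟩
    rw [pow_one]
    apply Subtype.ext
    rw [Subgroup.coe_pow, Subgroup.coe_one]
    exact hNel.2 a a.2
  have hodd : Odd (Nat.card ↥N) := by
    obtain ⟨k, hk⟩ := IsPGroup.iff_card.mp hNp
    rw [hk]
    exact (hqp.odd_of_ne_two hq).pow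
  have hNcomm : ∀ a ∈ N, ∀ b ∈ N, a * b = b * a := by
    intro a ha b hb
    have := hNel.1.is_comm.comm (⟨a, ha⟩ : ↥N) ⟨b, hb⟩
    exact congrArg Subtype.val this
  have hfr := Cfsg.Agent.S4188.result N P hN hNel.1 hodd hP hdisj hprod hmin
  have key := Cfsg.Agent.Lib.Helper4.StrReal.main_ineq N P hNcomm hodd hP hP1 hdisj hprod hmin hfr
  -- translate
  have hν : ∀ χ : Cfsg.IrrCharacter G, (Nat.card G : ℂ)⁻¹ * ∑ᶠ g : G, (χ : G → ℂ) (g * g) =
      Cfsg.Agent.Lib.helper3.Irr.fsInd (χ : G → ℂ) := by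
    intro χ
    rw [finsum_eq_sum_of_fintype]
    rfl
  have main : ∀ p : Cfsg.IrrCharacter G → Prop,
      p = (fun χ : Cfsg.IrrCharacter G => (Cfsg.charDegree (χ : G → ℂ) = 1 ∨
        2 ∣ Cfsg.charDegree (χ : G → ℂ)) ∧ Cfsg.Agent.Lib.helper3.Irr.fsInd (χ : G → ℂ) = 1) →
      4 * Nat.card {χ : Cfsg.IrrCharacter G // p χ} ≤
        3 * ∑ᶠ χ : {χ : Cfsg.IrrCharacter G // p χ}, Cfsg.charDegree (χ.1 : G → ℂ) := by
    intro p hp
    subst hp
    have hsum : ∑ᶠ i : {χ : Cfsg.IrrCharacter G // (Cfsg.charDegree (χ : G → ℂ) = 1 ∨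
        2 ∣ Cfsg.charDegree (χ : G → ℂ)) ∧ Cfsg.Agent.Lib.helper3.Irr.fsInd (χ : G → ℂ) = 1},
        Cfsg.charDegree (i.1 : G → ℂ) =
        ∑ χ ∈ Finset.univ.filter (fun χ : Cfsg.IrrCharacter G => (Cfsg.charDegree (χ : G → ℂ) = 1 ∨
        2 ∣ Cfsg.charDegree (χ : G → ℂ)) ∧ Cfsg.Agent.Lib.helper3.Irr.fsInd (χ : G → ℂ) = 1),
        Cfsg.charDegree (χ : G → ℂ) := by
      rw [finsum_eq_sum_of_fintype]
      exact (Finset.sum_subtype (Finset.univ.filter (fun χ : Cfsg.IrrCharacter G =>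
        (Cfsg.charDegree (χ : G → ℂ) = 1 ∨ 2 ∣ Cfsg.charDegree (χ : G → ℂ)) ∧
        Cfsg.Agent.Lib.helper3.Irr.fsInd (χ : G → ℂ) = 1)) (by
        intro x
        rw [Finset.mem_filter]
        exact ⟨fun h => h.2, fun h => ⟨Finset.mem_univ _, h⟩⟩)
        (fun χ : Cfsg.IrrCharacter G => Cfsg.charDegree (χ : G → ℂ))).symm
    rw [hsum, Nat.card_eq_fintype_card, Fintype.card_subtype]
    convert key using 3
  apply main
  funext χ
  rw [hν]

end Cfsg.Agent.S4871
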