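import Mathlib
import Cfsg.Statements.S4888
import Cfsg.Agent.Lib.helper3.PrincLin2

set_option autoImplicit false
open Cfsg

namespace Cfsg.Agent.S4888

/-- Let G be a finite group, p a prime and M a maximal ideal of the algebraic integers containing p. Then all height-zero irreducible characters of the principal p-block of G (equivalently, all its characters of degree prime to p) have the same degree if and only if G has a normal p-complement. -/
theorem result {G : Type*} [Group G] [Finite G] (p : ℕ) [Fact p.Prime] (M : Ideal Cfsg.AlgInt) (hM : Cfsg.IsPModular p M) : (∃ d : ℕ, ∀ χ : Cfsg.IrrCharacter G, χ ∈ (Cfsg.principalBlock M G) → Cfsg.blockHeight p (Cfsg.principalBlock M G) (χ : G → ℂ) = 0 → Cfsg.charDegree (χ : G → ℂ) = d) ↔ Cfsg.HasNormalPComplement p G := by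
  classical
  letI : Fintype G := Fintype.ofFinite G
  haveI hMp := Cfsg.Agent.Lib.helper3.LocalM.isPrime_of_isPModular hM
  have hMtop : M ≠ ⊤ := hM.2.1.ne_top
  have hone : Cfsg.Agent.Lib.helper3.PrincOnly.one G ∈ Cfsg.principalBlock M G :=
    Cfsg.Agent.Lib.helper3.Block.sameBlock_refl hMtop _
  have hmin : Cfsg.Agent.Lib.helper3.Block.minExp p (Cfsg.principalBlock M G) = 0 := by
    have := Cfsg.Agent.Lib.helper3.Block.minExp_le (p := p) hone
    rw [Cfsg.Agent.Lib.helper3.PrincLin.charDegree_one_irr] at this
    simpa using this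
  have hht : ∀ χ : Cfsg.IrrCharacter G,
      Cfsg.blockHeight p (Cfsg.principalBlock M G) (χ : G → ℂ)
        = (Cfsg.charDegree (χ : G → ℂ)).factorization p := by
    intro χ
    rw [Cfsg.Agent.Lib.helper3.Block.blockHeight_eq, hmin, Nat.sub_zero]
  constructor
  · rintro ⟨d, hd⟩
    have hd1 : d = 1 := by
      have := hd _ hone (by
        rw [hht, Cfsg.Agent.Lib.helper3.PrincLin.charDegree_one_irr]
        simp)
      rw [Cfsg.Agent.Lib.helper3.PrincLin.charDegree_one_irr] at this
      exact this.symm
    apply Cfsg.Agent.Lib.helper3.PrincLin.hasNormalPComplement_of_linear p M hM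
    intro χ hχ hpd
    rw [← hd1]
    apply hd χ hχ
    rw [hht]
    exact Nat.factorization_eq_zero_of_not_dvd hpd
  · intro h
    refine ⟨1, ?_⟩
    intro χ hχ hh
    rw [hht] at hh
    exact Cfsg.Agent.Lib.helper3.PrincLin.linear_of_hasNormalPComplement p M hM h χ hχ hh

end Cfsg.Agent.S4888
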