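import Cfsg.Statements.S4892
import Cfsg.Agent.H2.AE1
import Cfsg.Agent.H2.AE4
import Cfsg.Agent.Lib.helper3.PRXC
import Cfsg.Agent.Lib.helper3.Degrees
import Cfsg.Agent.Lib.Helper4.PRX1
import Cfsg.Agent.Lib.Helper4.PRX2
import Cfsg.Agent.Lib.Helper4.PRX3
import Cfsg.Agent.Lib.Helper4.PRX4
set_option linter.style.haveILetI false
set_option maxHeartbeats 1000000

set_option autoImplicit false
open Cfsg

namespace Cfsg.Agent.S4892

/-- Let p be an odd prime, M a maximal ideal of the algebraic integers containing p, N a normal subgroup of the finite group G, and θ an irreducible character of N that is G-invariant, of degree prime to p, p-rational (values in the field generated over ℚ by a root of unity of order prime to p) and lies in the principal p-block of N. Let Q be a Sylow p-subgroup of N and suppose the index of N·C_G(Q) in G is a power of p. Then θ extends to a p-rational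 irreducible character of G lying in the principal p-block of G. -/
theorem result {G : Type*} [Group G] [Finite G] (p : ℕ) [Fact p.Prime] (hp : p ≠ 2) (M : Ideal Cfsg.AlgInt) (hM : Cfsg.IsPModular p M) (N : Subgroup G) [N.Normal] (θ : Cfsg.IrrCharacter ↥N) (hinv : ∀ g : G, ∀ n n' : ↥N, (n' : G) = g * (n : G) * g⁻¹ → (θ : ↥N → ℂ) n' = (θ : ↥N → ℂ) n) (hdeg : ¬ p ∣ Cfsg.charDegree (θ : ↥N → ℂ)) (hrat : ∃ m : ℕ, ¬ p ∣ m ∧ ∀ n : ↥N, (θ : ↥N → ℂ) n ∈ IntermediateField.adjoin ℚ ({Complex.exp (2 * Real.pi * Complex.I / m)} : Set ℂ)) (hB : θ ∈ Cfsg.principalBlock M ↥N) (Q : Sylow p ↥N) (hidx : ∃ a : ℕ, (N ⊔ Subgroup.centralizer (((Q : Subgroup ↥N).map N.subtype : Subgroup G) : Set G)).index = p ^ a) : ∃ χ : Cfsg.IrrCharacter G, χ ∈ (Cfsg.principalBlock M G) ∧ (∃ n : ℕ, ¬ p ∣ n ∧ ∀ g : G, (χ : G → ℂ) g ∈ IntermediateField.adjoin ℚ ({Complex.exp (2 * Real.pi * Complex.I / n)} : Set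 ℂ)) ∧ ∀ n : ↥N, (χ : G → ℂ) n = (θ : ↥N → ℂ) n := by
  classical
  letI : Fintype G := Fintype.ofFinite G
  have hpp : p.Prime := Fact.out
  -- the order of `G`
  obtain ⟨b, m, hm, hcard⟩ : ∃ b m : ℕ, ¬ p ∣ m ∧ Nat.card G = p ^ b * m :=
    ⟨(Nat.card G).factorization p, Nat.card G / p ^ (Nat.card G).factorization p,
      Nat.not_dvd_ordCompl hpp Nat.card_pos.ne', (Nat.ordProj_mul_ordCompl_eq_self _ p).symm⟩
  -- good subgroups
  obtain ⟨C, hC⟩ : ∃ C : Subgroup G, C = Subgroup.centralizer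
      (((Q : Subgroup ↥N).map N.subtype : Subgroup G) : Set G) := ⟨_, rfl⟩
  haveI hG₁ := Cfsg.Agent.Lib.Helper4.PRX.normal_sup_centralizer N Q
  obtain ⟨a, ha⟩ := hidx
  have hloc : ∀ J : Subgroup G, Cfsg.Agent.H2.AE.Good p N J → Cfsg.Agent.H2.AE.LocHyp p N C J := by
    intro J hJ
    rw [hC]
    exact ⟨hJ.1, Cfsg.Agent.H2.AE.good_hyp N Q J hJ
      (Cfsg.Agent.Lib.Helper4.PRX.good_le N _ le_sup_left a ha J hJ.1 hJ.2)⟩
  have hgood : ∀ (J : Subgroup G) (hNJ : N ≤ J), ¬ p ∣ N.relIndex J →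
      Cfsg.Agent.Lib.Helper4.PRX.HypAt p N J :=
    fun J hNJ hJ => Cfsg.Agent.Lib.Helper4.PRX.good_hypAt N Q ⟨a, ha⟩ J hNJ hJ
  have hext : ∀ (J : Subgroup G) (hNJ : N ≤ J), ¬ p ∣ N.relIndex J →
      Cfsg.Agent.Lib.helper3.ADB.ExtU M N J hNJ :=
    fun J hNJ hJ => Cfsg.Agent.H2.AE.LocHyp.extU hM N (hloc J ⟨hNJ, hJ⟩)
  -- `θ` is invariant under the power maps
  obtain ⟨m', hm', hval⟩ := hrat
  have hexpG : ∀ x : G, x ^ (p ^ b * m) = 1 := by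
    intro x
    rw [← hcard]
    exact pow_card_eq_one'
  have hexpN : ∀ x : N, x ^ (p ^ b * m) = 1 := by
    intro x
    apply Subtype.ext
    rw [Subgroup.coe_pow, hexpG, Subgroup.coe_one]
  have hθc : IsCharacter ↥N (θ : ↥N → ℂ) :=
    Cfsg.Agent.Lib.helper3.Irr.isCharacter_of_isIrrCharacter θ.2
  have hPR : Cfsg.Agent.Lib.Helper4.PRX.PRn (p ^ b * m) m (θ : ↥N → ℂ) :=
    Cfsg.Agent.Lib.Helper4.PRX.pr_of_rat p (θ : ↥N → ℂ) hθc m' hm' hval b m hm hexpN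
  -- the degree
  letI : Fintype ↥N := Fintype.ofFinite ↥N
  obtain ⟨d, hd, -, -⟩ := Cfsg.Agent.Lib.helper3.Central.irr_degree_dvd_card θ.2
  have hpd : ¬ p ∣ d := by
    have : Cfsg.charDegree (θ : ↥N → ℂ) = d := by
      unfold Cfsg.charDegree
      rw [hd]
      simp
    rwa [this] at hdeg
  have hinv' : ∀ (g : G) (n : N),
      (θ : ↥N → ℂ) ⟨g * n * g⁻¹, ‹N.Normal›.conj_mem n n.2 g⟩ = (θ : ↥N → ℂ) n :=
    fun g n => hinv g n ⟨_, _⟩ rfl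
  -- an extension
  obtain ⟨ψ, hψ⟩ := Cfsg.Agent.Lib.helper3.PRXC.exists_extension hp N θ hinv' d hd hpd b m hm hcard
    hPR hB hext
  -- an extension agreeing with the `θ_J`
  obtain ⟨η₀, hη₀N, hη₀J⟩ := Cfsg.Agent.H2.AE.exists_ext_good hM N C hloc θ hB ψ hψ
  have hη₀ : Cfsg.Agent.Lib.Helper4.PRX.Agrees M p N θ (η₀ : G → ℂ) := by
    intro J hNJ hJ ψJ hψJ hψJN h
    obtain ⟨ξ, hξB, hξ⟩ := hη₀J J (hloc J ⟨hNJ, hJ⟩)
    obtain ⟨ψ₀, -, huniq⟩ := hext J hNJ hJ θ hB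
    have e1 : ξ = ψ₀ := huniq ξ ⟨hξB, fun n => by rw [hξ]; exact hη₀N n⟩
    have e2 : ψJ = ψ₀ := huniq ψJ ⟨hψJ, hψJN⟩
    rw [← hξ h, e1, ← e2]
  -- the `p`-rational member
  obtain ⟨χ, hχN, hχA, hχPR⟩ := Cfsg.Agent.Lib.Helper4.PRX.exists_pr_agrees hp hM N θ hB hgood hext
    b m hm hcard hPR η₀ hη₀N hη₀
  -- `χ` lies in the principal block
  have hcyc : ∀ y : G, ¬ p ∣ orderOf y → ∃ ξ : IrrCharacter ↥(N ⊔ Subgroup.zpowers y),
      ξ ∈ principalBlock M ↥(N ⊔ Subgroup.zpowers y) ∧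
        ∀ a : ↥(N ⊔ Subgroup.zpowers y),
          (ξ : ↥(N ⊔ Subgroup.zpowers y) → ℂ) a = (χ : G → ℂ) a := by
    intro y hy
    have hJ := Cfsg.Agent.Lib.Helper4.PRX.good_sup_zpowers N y hy
    obtain ⟨ψ₀, ⟨hψ₀B, hψ₀N⟩, -⟩ := hext _ le_sup_left hJ θ hB
    exact ⟨ψ₀, hψ₀B, fun a => (hχA _ le_sup_left hJ ψ₀ hψ₀B hψ₀N a).symm⟩
  have hχB : χ ∈ principalBlock M G := by
    obtain ⟨ξ, hξ1, -⟩ := Cfsg.Agent.Lib.Helper8.AD.exists_irr_comp (M := M)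
      (Subgroup.topEquiv : (⊤ : Subgroup G) ≃* G) χ
    have hξB : ξ ∈ principalBlock M ↥(⊤ : Subgroup G) :=
      Cfsg.Agent.H2.AE.mem_principalBlock_of_cyclic hM N (χ : G → ℂ) hcyc ⊤ le_top ξ
        (fun a => hξ1 a)
    obtain ⟨χ', hχ'app, hχ'B⟩ := Cfsg.Agent.Lib.Helper8.AD.exists_irr_comp (M := M)
      (Subgroup.topEquiv : (⊤ : Subgroup G) ≃* G).symm ξ
    have hχχ' : χ' = χ := by
      apply Subtype.ext
      funext g
      rw [hχ'app, hξ1]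
      rfl
    rw [← hχχ']
    exact hχ'B hξB
  -- rationality
  have hχc : IsCharacter G (χ : G → ℂ) :=
    Cfsg.Agent.Lib.helper3.Irr.isCharacter_of_isIrrCharacter χ.2
  exact ⟨χ, hχB, ⟨m, hm, Cfsg.Agent.Lib.Helper4.PRX.rat_of_pr p (χ : G → ℂ) hχc b m hm hexpG hχPR⟩,
    hχN⟩

end Cfsg.Agent.S4892
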