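import Cfsg.Statements.S4912
import Cfsg.Agent.Lib.Helper5.FSInd5
import Cfsg.Agent.Lib.helper3.TwoDeg4

set_option autoImplicit false
open Cfsg

namespace Cfsg.Agent.S4912

/-- Let G be a finite group with a non-abelian minimal normal subgroup N, and let φ be an irreducible complex character of N with stabilizer I in G such that φ extends to an irreducible character of I with Frobenius–Schur indicator +1. Put d = φ(1)·[G : I]. Then the number of linear characters of G with Frobenius–Schur indicator +1 is at most [G : I] times the number of irreducible characters of G of degree d with Frobenius–Schur indicator +1. -/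
theorem result {G : Type*} [Group G] [Finite G] (N : Subgroup G) (hN : N.Normal) (hN1 : N ≠ ⊥) (hmin : ∀ M : Subgroup G, M.Normal → M ≤ N → M = ⊥ ∨ M = N) (hna : ¬ IsMulCommutative ↥N) (φ : Cfsg.IrrCharacter ↥N) (I : Subgroup G) (hI : ∀ g : G, g ∈ I ↔ ∀ n n' : ↥N, (n' : G) = g * (n : G) * g⁻¹ → (φ : ↥N → ℂ) n' = (φ : ↥N → ℂ) n) (hNI : N ≤ I) (hext : ∃ ψ : Cfsg.IrrCharacter ↥I, (Nat.card ↥I : ℂ)⁻¹ * ∑ᶠ g : ↥I, (ψ : ↥I → ℂ) (g * g) = 1 ∧ ∀ n : ↥N, (ψ : ↥I → ℂ) (Subgroup.inclusion hNI n) = (φ : ↥N → ℂ) n) : Nat.card {χ : Cfsg.IrrCharacter G // Cfsg.charDegree (χ : G → ℂ) = 1 ∧ (Nat.card G : ℂ)⁻¹ * ∑ᶠ g : G, (χ : G → ℂ) (g * g) = 1} ≤ I.index * Nat.card {χ : Cfsg.IrrCharacter G // Cfsg.charDegree (χ : G → ℂ) = Cfsg.charDegree (φ : ↥N → ℂ) * I.index ∧ (Nat.card G : ℂ)⁻¹ * ∑ᶠ g : G, (χ : G → ℂ) (g * g) = 1} := by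
  classical
  letI : Fintype G := Fintype.ofFinite G
  letI : Fintype I := Fintype.ofFinite I
  haveI := hN
  obtain ⟨ψ, hψfs, hψext⟩ := hext
  have hfsψ : Cfsg.Agent.Lib.helper3.Irr.fsInd (ψ : ↥I → ℂ) = 1 := by
    unfold Cfsg.Agent.Lib.helper3.Irr.fsInd
    rw [← finsum_eq_sum_of_fintype]
    exact hψfs
  have hT : ∀ g : G, g ∈ I ↔ ∀ h : ↥N,
      (φ : ↥N → ℂ) ⟨g * h * g⁻¹, hN.conj_mem h h.2 g⟩ = (φ : ↥N → ℂ) h := by
    intro g
    rw [hI g]
    constructor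
    · intro H h
      exact H h ⟨g * h * g⁻¹, hN.conj_mem h h.2 g⟩ rfl
    · intro H n n' hn'
      have : n' = ⟨g * n * g⁻¹, hN.conj_mem n n.2 g⟩ := Subtype.ext hn'
      rw [this]
      exact H n
  have hdφ := Cfsg.Agent.Lib.helper3.TwoDeg.apply_one_eq_charDegree' φ
  have key := Cfsg.Agent.Lib.Helper5.FSInd.count_main N I hNI hmin hna (φ : ↥N → ℂ) φ.2 hT
    (ψ : ↥I → ℂ) ψ.2 hψext hfsψ _ hdφ
  have hfin : ∀ χ : Cfsg.IrrCharacter G,
      (Nat.card G : ℂ)⁻¹ * ∑ᶠ g : G, (χ : G → ℂ) (g * g)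
        = Cfsg.Agent.Lib.helper3.Irr.fsInd (χ : G → ℂ) := by
    intro χ
    unfold Cfsg.Agent.Lib.helper3.Irr.fsInd
    rw [finsum_eq_sum_of_fintype]
  have hdeg : ∀ (χ : Cfsg.IrrCharacter G) (k : ℕ),
      Cfsg.charDegree (χ : G → ℂ) = k ↔ (χ : G → ℂ) 1 = (k : ℂ) := by
    intro χ k
    constructor
    · intro h
      rw [Cfsg.Agent.Lib.helper3.TwoDeg.apply_one_eq_charDegree' χ, h]
    · intro h
      exact Cfsg.Agent.Lib.helper3.Pdeg.charDegree_eq' h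
  have hL : Nat.card {χ : Cfsg.IrrCharacter G // Cfsg.charDegree (χ : G → ℂ) = 1 ∧
      (Nat.card G : ℂ)⁻¹ * ∑ᶠ g : G, (χ : G → ℂ) (g * g) = 1}
      = (Finset.univ.filter (fun χ : Cfsg.IrrCharacter G =>
        (χ : G → ℂ) 1 = 1 ∧ Cfsg.Agent.Lib.helper3.Irr.fsInd (χ : G → ℂ) = 1)).card := by
    rw [Nat.card_eq_fintype_card, Fintype.card_subtype]
    congr 1
    ext χ
    simp only [Finset.mem_filter, Finset.mem_univ, true_and]
    rw [hfin, hdeg χ 1, Nat.cast_one]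
  have hRt : Nat.card {χ : Cfsg.IrrCharacter G // Cfsg.charDegree (χ : G → ℂ)
        = Cfsg.charDegree (φ : ↥N → ℂ) * I.index ∧
      (Nat.card G : ℂ)⁻¹ * ∑ᶠ g : G, (χ : G → ℂ) (g * g) = 1}
      = (Finset.univ.filter (fun χ : Cfsg.IrrCharacter G =>
        (χ : G → ℂ) 1 = ((Cfsg.charDegree (φ : ↥N → ℂ) * I.index : ℕ) : ℂ) ∧
          Cfsg.Agent.Lib.helper3.Irr.fsInd (χ : G → ℂ) = 1)).card := by
    rw [Nat.card_eq_fintype_card, Fintype.card_subtype]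
    congr 1
    ext χ
    simp only [Finset.mem_filter, Finset.mem_univ, true_and]
    rw [hfin, hdeg χ]
  rw [hL, hRt]
  exact key

end Cfsg.Agent.S4912
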