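import Cfsg.Statements.S4923
import Cfsg.Agent.H2.FV3
import Cfsg.Agent.Lib.Helper5.GalDict

set_option autoImplicit false
open Cfsg

namespace Cfsg.Agent.S4923

/-- Let G be a finite group with Sylow 2-subgroup P of order 2^n ≥ 8, and let ζ be a primitive 2^(n−1)-th root of unity in ℂ. Then the commutator subgroup of P has index 4 in P if and only if there is an element g of P whose conjugacy class in G has even size and such that the field generated over ℚ by the values at g of all irreducible complex characters of G equals ℚ(ζ + ζ⁻¹) or ℚ(ζ − ζ⁻¹). -/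
theorem result {G : Type*} [Group G] [Finite G] (P : Sylow 2 G) (n : ℕ) (hn : 3 ≤ n) (hP : Nat.card P = 2 ^ n) (ζ : ℂ) (hζ : IsPrimitiveRoot ζ (2 ^ (n - 1))) :
    (commutator ↥P).index = 4 ↔
      ∃ g : G, g ∈ (P : Subgroup G) ∧ 2 ∣ (Subgroup.centralizer ({g} : Set G)).index ∧
        (IntermediateField.adjoin ℚ {z : ℂ | ∃ χ : Cfsg.IrrCharacter G, (χ : G → ℂ) g = z} = IntermediateField.adjoin ℚ ({ζ + ζ⁻¹} : Set ℂ) ∨
          IntermediateField.adjoin ℚ {z : ℂ | ∃ χ : Cfsg.IrrCharacter G, (χ : G → ℂ) g = z} = IntermediateField.adjoin ℚ ({ζ - ζ⁻¹} : Set ℂ)) := by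
  classical
  have hgpow : ∀ g ∈ (P : Subgroup G), g ^ (2 ^ n) = 1 := by
    intro g hg
    have h1 : (⟨g, hg⟩ : ↥P) ^ (2 ^ n) = 1 := by
      have h2 : Nat.card ↥P = 2 ^ n := hP
      rw [← h2]; exact pow_card_eq_one'
    exact congrArg Subtype.val h1
  constructor
  · intro hidx
    obtain ⟨g, hgP, heven, hdict⟩ := Cfsg.Agent.H2.FV.forward P n hn hP ζ hζ hidx
    refine ⟨g, hgP, heven, ?_⟩
    rcases hdict with h | h
    · left
      exact (Cfsg.Agent.Lib.Helper5.GalDict.adjoin_eq_plus_iff n hn ζ hζ g (hgpow g hgP)).2 h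
    · right
      exact (Cfsg.Agent.Lib.Helper5.GalDict.adjoin_eq_minus_iff n hn ζ hζ g (hgpow g hgP)).2 h
  · rintro ⟨g, hgP, heven, hF⟩
    apply Cfsg.Agent.H2.FV.backward P n hn hP ζ hζ g hgP heven
    intro k hk hconj
    rcases hF with h | h
    · rcases ((Cfsg.Agent.Lib.Helper5.GalDict.adjoin_eq_plus_iff n hn ζ hζ g
        (hgpow g hgP)).1 h k hk).1 hconj with h1 | h1
      · left; exact h1
      · right; left; exact h1
    · rcases ((Cfsg.Agent.Lib.Helper5.GalDict.adjoin_eq_minus_iff n hn ζ hζ g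
        (hgpow g hgP)).1 h k hk).1 hconj with h1 | h1
      · left; exact h1
      · right; right; exact h1

end Cfsg.Agent.S4923
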