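import Cfsg.Statements.S4937
import Cfsg.Agent.H2.AE1
import Cfsg.Agent.H2.AE4

set_option autoImplicit false
open Cfsg

namespace Cfsg.Agent.S4937

/-- Let G be a finite group, p a prime, M a maximal ideal of the algebraic integers containing p, N a normal subgroup of G and P a Sylow p-subgroup of N such that G = N·C_G(P). Let θ be an irreducible character in the principal p-block of N that is the restriction of some irreducible character of G. Then θ is the restriction of an irreducible character χ of G lying in the principal p-block of G such that, for every subgroup J of G containing N, the restriction of χ to J is an irreducible character of J lying in the principal p-block of J. -/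
theorem result {G : Type*} [Group G] [Finite G] (p : ℕ) [Fact p.Prime] (M : Ideal Cfsg.AlgInt) (hM : Cfsg.IsPModular p M) (N : Subgroup G) [N.Normal] (P : Sylow p ↥N)
    (hcov : N ⊔ Subgroup.centralizer (((P : Subgroup ↥N).map N.subtype : Subgroup G) : Set G) = ⊤)
    (θ : Cfsg.IrrCharacter ↥N) (hθ : θ ∈ Cfsg.principalBlock M ↥N)
    (hext : ∃ ψ : Cfsg.IrrCharacter G, ∀ x : ↥N, (ψ : G → ℂ) x = (θ : ↥N → ℂ) x) :
    ∃ χ : Cfsg.IrrCharacter G, χ ∈ Cfsg.principalBlock M G ∧ (∀ x : ↥N, (χ : G → ℂ) x = (θ : ↥N → ℂ) x) ∧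
      ∀ J : Subgroup G, N ≤ J → ∃ ξ : Cfsg.IrrCharacter ↥J, ξ ∈ Cfsg.principalBlock M ↥J ∧ ∀ y : ↥J, (ξ : ↥J → ℂ) y = (χ : G → ℂ) y := by
  classical
  let _ : Fintype G := Fintype.ofFinite G
  obtain ⟨ψ, hψ⟩ := hext
  obtain ⟨C, hC⟩ : ∃ C : Subgroup G, C = Subgroup.centralizer
      (((P : Subgroup ↥N).map N.subtype : Subgroup G) : Set G) := ⟨_, rfl⟩
  have hloc : ∀ J : Subgroup G, Cfsg.Agent.H2.AE.Good p N J →
      Cfsg.Agent.H2.AE.LocHyp p N C J := by
    intro J hJ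
    rw [hC]
    exact ⟨hJ.1, Cfsg.Agent.H2.AE.good_hyp N P J hJ (by rw [hcov]; exact le_top)⟩
  obtain ⟨χ, hχN, hχJ⟩ := Cfsg.Agent.H2.AE.exists_ext_good hM N C hloc θ hθ ψ hψ
  have hcyc : ∀ y : G, ¬ p ∣ orderOf y → ∃ ξ : IrrCharacter ↥(N ⊔ Subgroup.zpowers y),
      ξ ∈ principalBlock M ↥(N ⊔ Subgroup.zpowers y) ∧
        ∀ a : ↥(N ⊔ Subgroup.zpowers y),
          (ξ : ↥(N ⊔ Subgroup.zpowers y) → ℂ) a = (χ : G → ℂ) a :=
    fun y hy => hχJ _ (hloc _ (Cfsg.Agent.H2.AE.good_sup_zpowers N y hy))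
  -- restrictions to subgroups containing `N` are irreducible
  have hirrJ : ∀ J : Subgroup G, N ≤ J → IsIrrCharacter ↥J (fun a : J => (χ : G → ℂ) a) := by
    intro J hNJ
    let _ : Fintype ↥J := Fintype.ofFinite _
    let _ : Fintype ↥(N.subgroupOf J) := Fintype.ofFinite _
    apply Cfsg.Agent.Lib.helper3.CycExt.isIrrCharacter_of_restrict (N.subgroupOf J)
      (Cfsg.Agent.Lib.helper3.Irr.isCharacter_restrict
        (Cfsg.Agent.Lib.helper3.Irr.isCharacter_of_isIrrCharacter χ.2) J)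
    exact Cfsg.Agent.H2.AE.irr_subgroupOf N J hNJ (fun a : J => (χ : G → ℂ) a) _ θ.2
      (fun n => hχN n)
  have hallJ : ∀ J : Subgroup G, N ≤ J → ∃ ξ : Cfsg.IrrCharacter ↥J,
      ξ ∈ Cfsg.principalBlock M ↥J ∧ ∀ y : ↥J, (ξ : ↥J → ℂ) y = (χ : G → ℂ) y := by
    intro J hNJ
    refine ⟨⟨_, hirrJ J hNJ⟩, ?_, fun _ => rfl⟩
    exact Cfsg.Agent.H2.AE.mem_principalBlock_of_cyclic hM N (χ : G → ℂ) hcyc J hNJ _
      (fun _ => rfl)
  refine ⟨χ, ?_, hχN, hallJ⟩
  -- `χ` itself lies in the principal block: take `J = ⊤`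
  obtain ⟨ξ, hξB, hξ⟩ := hallJ ⊤ le_top
  obtain ⟨χ', hχ'app, hχ'B⟩ := Cfsg.Agent.Lib.Helper8.AD.exists_irr_comp (M := M)
    (Subgroup.topEquiv : (⊤ : Subgroup G) ≃* G).symm ξ
  have hχχ' : χ' = χ := by
    apply Subtype.ext
    funext g
    rw [hχ'app, hξ]
    rfl
  rw [← hχχ']
  exact hχ'B hξB

end Cfsg.Agent.S4937
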