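import Cfsg.Statements.S4955
import Mathlib
import Cfsg.Agent.Lib.Helper4.Galois
import Cfsg.Agent.Lib.Helper4.InflateEquiv
import Cfsg.Agent.Lib.Helper4.CharExtra
import Cfsg.Agent.Lib.helper3.Ito
import Cfsg.Agent.Lib.helper3.AlgInt2

namespace Cfsg.Agent.S4955

open Cfsg Module Cfsg.Agent.Lib.helper3.IndFun Cfsg.Agent.Lib.helper3.CharBasic
open Cfsg.Agent.Lib.helper3.Irr Cfsg.Agent.Lib.helper3.Central Cfsg.Agent.Lib.Helper4.CharExtra
open Cfsg.Agent.Lib.Helper4.InflateEquiv Cfsg.Agent.Lib.Helper4.Galois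
open Cfsg.Agent.Lib.helper3.AlgInt

/-- conjugacy classes of isomorphic groups correspond -/
noncomputable def conjClassesCongr {A B : Type*} [Group A] [Group B] (e : A ≃* B) :
    ConjClasses A ≃ ConjClasses B where
  toFun := ConjClasses.map e.toMonoidHom
  invFun := ConjClasses.map e.symm.toMonoidHom
  left_inv := by
    intro C
    obtain ⟨g, rfl⟩ := ConjClasses.mk_surjective C
    show ConjClasses.mk (e.symm (e g)) = ConjClasses.mk g
    rw [MulEquiv.symm_apply_apply]
  right_inv := by
    intro C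
    obtain ⟨g, rfl⟩ := ConjClasses.mk_surjective C
    show ConjClasses.mk (e (e.symm g)) = ConjClasses.mk g
    rw [MulEquiv.apply_symm_apply]

/-- a character of degree prime to `p` does not vanish at `p`-elements -/
theorem character_ne_zero_of_pow_prime_pow {G : Type*} [Group G] [Finite G] {χ : G → ℂ}
    (hχ : IsCharacter G χ) (p : ℕ) (hp : p.Prime) (d : ℕ) (hd : χ 1 = d) (hpd : ¬ p ∣ d)
    (g : G) (a : ℕ) (hg : g ^ (p ^ a) = 1) : χ g ≠ 0 := by
  have hd0 : d ≠ 0 := by
    rintro rfl
    exact hpd (dvd_zero p)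
  rcases a with _ | j
  · rw [pow_zero, pow_one] at hg
    rw [hg, hd]
    exact_mod_cast hd0
  · intro h0
    obtain ⟨n, ρ, rfl⟩ := hχ
    have hNpos : 0 < p ^ (j + 1) := pow_pos hp.pos _
    have hζ : IsPrimitiveRoot (Complex.exp (2 * Real.pi * Complex.I / ((p ^ (j + 1) : ℕ) : ℂ)))
        (p ^ (j + 1)) := Complex.isPrimitiveRoot_exp _ hNpos.ne'
    obtain ⟨ω, hω, h⟩ := character_one_sub_character ρ g (p ^ (j + 1)) hNpos hg hζ
    rw [h0, sub_zero] at h
    have hd' : (finrank ℂ (Fin n → ℂ) : ℂ) = (d : ℂ) := by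
      rw [← hd, Representation.char_one]
    rw [hd'] at h
    have hdvd := prime_dvd_of_eq_one_sub_mul_pow hp j hζ (d : ℤ) ω hω (by exact_mod_cast h)
    exact hpd (by exact_mod_cast hdvd)

/-- the centralizer of an element centralized by `V`, in `X = V G` -/
theorem card_centralizer_eq {X : Type*} [Group X] [Finite X] (V G : Subgroup X)
    (hGV : Subgroup.IsComplement' V G) (v : X)
    (hVC : V ≤ Subgroup.centralizer ({v} : Set X)) :
    Nat.card (Subgroup.centralizer ({v} : Set X)) =
      Nat.card V * Nat.card ↥(G ⊓ Subgroup.centralizer ({v} : Set X)) := by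
  rw [← Nat.card_prod]
  symm
  apply Nat.card_congr
  refine Equiv.ofBijective
    (fun x : V × ↥(G ⊓ Subgroup.centralizer ({v} : Set X)) =>
      (⟨(x.1 : X) * (x.2 : X), mul_mem (hVC x.1.2) x.2.2.2⟩ :
        Subgroup.centralizer ({v} : Set X))) ⟨?_, ?_⟩
  · rintro ⟨u, g⟩ ⟨u', g'⟩ h
    have h1 : (u : X) * (g : X) = (u' : X) * (g' : X) := congrArg Subtype.val h
    have hinj := hGV.1
    have h2 := @hinj (u, ⟨(g : X), g.2.1⟩) (u', ⟨(g' : X), g'.2.1⟩) h1
    have h3 := (Prod.mk.inj h2)
    have h4 : (g : X) = (g' : X) := Subtype.mk.inj h3.2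
    exact Prod.ext h3.1 (Subtype.ext h4)
  · rintro ⟨c, hc⟩
    obtain ⟨⟨u, g⟩, h⟩ := hGV.2 c
    have h1 : (u : X) * (g : X) = c := h
    have hg : (g : X) ∈ Subgroup.centralizer ({v} : Set X) := by
      have : (g : X) = (u : X)⁻¹ * c := by rw [← h1]; group
      rw [this]
      exact mul_mem (inv_mem (hVC u.2)) hc
    exact ⟨(u, ⟨(g : X), g.2, hg⟩), Subtype.ext h1⟩

/-- Let X be a finite group with an abelian normal Sylow p-subgroup V (a normal p-subgroup of index prime to p in which any two elements commute), and let G be a complement to V in X. Then for every v in V, writing C for the centralizer of v in G, the number k(X) of conjugacy classes of X satisfies k(X) ≤ (order of C)·(order of V) − ((order of G) − k(G)); the statement is written with the subtracted term moved to the left. In particular, if some v in V is centralized by no nonidentity element of G, then k(X) is at most the order of V. -/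
theorem result {X : Type*} [Group X] [Finite X] (p : ℕ) [Fact p.Prime] (V : Subgroup X) [V.Normal] (hVp : IsPGroup p V) (hidx : ¬ p ∣ V.index) (hab : ∀ a ∈ V, ∀ b ∈ V, a * b = b * a) (G : Subgroup X) (hGV : Subgroup.IsComplement' V G) (v : X) (hv : v ∈ V) : Nat.card (ConjClasses X) + Nat.card G ≤ Nat.card ↥(G ⊓ Subgroup.centralizer ({v} : Set X)) * Nat.card V + Nat.card (ConjClasses G) := by
  classical
  letI : Fintype X := Fintype.ofFinite X
  have hp : p.Prime := Fact.out
  set n := Nat.card X with hn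
  haveI : NeZero n := ⟨Nat.card_pos.ne'⟩
  have hidxG : V.index = Nat.card G := hGV.symm.index_eq_card
  -- every irreducible character is nonzero on `V`
  have hnonzero : ∀ (χ : IrrCharacter X) (u : X), u ∈ V → (χ : X → ℂ) u ≠ 0 := by
    intro χ u hu
    obtain ⟨m, ρ, hirr, hρ⟩ := χ.2
    haveI := hirr
    have hito := ito ρ V hab
    have hpd : ¬ p ∣ finrank ℂ (Fin m → ℂ) := fun h => hidx (h.trans hito)
    obtain ⟨a, ha⟩ := (IsPGroup.iff_orderOf.mp hVp) ⟨u, hu⟩
    have hua : u ^ (p ^ a) = 1 := by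
      have := pow_orderOf_eq_one (⟨u, hu⟩ : V)
      rw [ha] at this
      exact congrArg Subtype.val this
    refine character_ne_zero_of_pow_prime_pow (isCharacter_of_isIrrCharacter χ.2) p hp
      (finrank ℂ (Fin m → ℂ)) ?_ hpd u a hua
    rw [← hρ, Representation.char_one]
  -- the powers of `v`
  have hwV : ∀ j : (ZMod n)ˣ, v ^ (j : ZMod n).val ∈ V := fun j => V.pow_mem hv _
  -- centralizers of the powers
  have hcent : ∀ j : (ZMod n)ˣ, Subgroup.centralizer ({v ^ (j : ZMod n).val} : Set X) =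
      Subgroup.centralizer ({v} : Set X) := by
    intro j
    have hcop : ((j : ZMod n).val).Coprime n := ZMod.val_coe_unit_coprime j
    obtain ⟨m, hm⟩ := exists_pow_pow_eq v _ hcop
    apply le_antisymm
    · intro x hx
      rw [Subgroup.mem_centralizer_iff] at hx ⊢
      intro y hy
      rw [Set.mem_singleton_iff] at hy
      have h1 := hx _ (Set.mem_singleton _)
      have h2 : Commute (v ^ (j : ZMod n).val) x := h1
      have h3 := h2.pow_left m
      rw [hm] at h3
      rw [hy]
      exact h3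
    · intro x hx
      rw [Subgroup.mem_centralizer_iff] at hx ⊢
      intro y hy
      rw [Set.mem_singleton_iff] at hy
      have h1 : Commute v x := hx _ (Set.mem_singleton _)
      rw [hy]
      exact h1.pow_left _
  have hVC : V ≤ Subgroup.centralizer ({v} : Set X) := by
    intro u hu
    rw [Subgroup.mem_centralizer_iff]
    intro y hy
    rw [Set.mem_singleton_iff] at hy
    rw [hy]
    exact hab v hv u hu
  have hCcard := card_centralizer_eq V G hGV v hVC
  set c := Nat.card ↥(G ⊓ Subgroup.centralizer ({v} : Set X)) with hc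
  -- the two sums
  have hsumall : ∀ j : (ZMod n)ˣ, ∑ χ : IrrCharacter X, ‖(χ : X → ℂ) (v ^ (j : ZMod n).val)‖ ^ 2 =
      ((Nat.card V * c : ℕ) : ℝ) := by
    intro j
    rw [sum_norm_sq_eq_card_centralizer, hcent j, hCcard]
  have hsumK : ∀ j : (ZMod n)ˣ, ∑ χ : IrrCharacter X,
      (if KerGE V (χ : X → ℂ) then ‖(χ : X → ℂ) (v ^ (j : ZMod n).val)‖ ^ 2 else 0) =
      (Nat.card G : ℝ) := by
    intro j
    rw [sum_norm_sq_kerGE]
    have h1 : ((v ^ (j : ZMod n).val : X) : X ⧸ V) = 1 :=
      (QuotientGroup.eq_one_iff _).mpr (hwV j)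
    rw [h1]
    have h2 : Subgroup.centralizer ({(1 : X ⧸ V)} : Set (X ⧸ V)) = ⊤ := by
      rw [eq_top_iff]
      intro x _
      rw [Subgroup.mem_centralizer_iff]
      intro y hy
      rw [Set.mem_singleton_iff] at hy
      rw [hy, one_mul, mul_one]
    rw [h2, Subgroup.card_top, ← Subgroup.index_eq_card, hidxG]
  have hsumT : ∀ j : (ZMod n)ˣ, ∑ χ : IrrCharacter X,
      (if KerGE V (χ : X → ℂ) then 0 else ‖(χ : X → ℂ) (v ^ (j : ZMod n).val)‖ ^ 2) =
      ((Nat.card V * c : ℕ) : ℝ) - (Nat.card G : ℝ) := by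
    intro j
    rw [← hsumall j, ← hsumK j, ← Finset.sum_sub_distrib]
    apply Finset.sum_congr rfl
    intro χ _
    by_cases h : KerGE V (χ : X → ℂ)
    · rw [if_pos h, if_pos h]; ring
    · rw [if_neg h, if_neg h]; ring
  -- averaging
  have hφ : (0 : ℝ) < Fintype.card (ZMod n)ˣ := by exact_mod_cast Fintype.card_pos
  have hpowX : ∀ g : X, g ^ n = 1 := fun g => pow_card_eq_one'
  set T : Finset (IrrCharacter X) := Finset.univ.filter (fun χ => ¬ KerGE V (χ : X → ℂ)) with hT
  set K : Finset (IrrCharacter X) := Finset.univ.filter (fun χ => KerGE V (χ : X → ℂ)) with hK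
  have hTbound : (Fintype.card (ZMod n)ˣ : ℝ) * (T.card : ℝ) ≤
      (Fintype.card (ZMod n)ˣ : ℝ) * (((Nat.card V * c : ℕ) : ℝ) - (Nat.card G : ℝ)) := by
    have h1 : (Fintype.card (ZMod n)ˣ : ℝ) * (T.card : ℝ) ≤
        ∑ χ ∈ T, ∑ j : (ZMod n)ˣ, ‖(χ : X → ℂ) (v ^ (j : ZMod n).val)‖ ^ 2 := by
      rw [mul_comm, ← nsmul_eq_mul, ← Finset.sum_const]
      apply Finset.sum_le_sum
      intro χ _
      exact card_units_le_sum_norm_pow (isCharacter_of_isIrrCharacter χ.2) v n (hpowX v)
        (hnonzero χ v hv) 2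
    have h2 : ∑ χ ∈ T, ∑ j : (ZMod n)ˣ, ‖(χ : X → ℂ) (v ^ (j : ZMod n).val)‖ ^ 2 =
        ∑ j : (ZMod n)ˣ, (((Nat.card V * c : ℕ) : ℝ) - (Nat.card G : ℝ)) := by
      rw [Finset.sum_comm]
      apply Finset.sum_congr rfl
      intro j _
      rw [← hsumT j, hT, Finset.sum_filter]
      apply Finset.sum_congr rfl
      intro χ _
      by_cases h : KerGE V (χ : X → ℂ)
      · rw [if_pos h, if_neg (not_not.mpr h)]
      · rw [if_neg h, if_pos h]
    rw [h2, Finset.sum_const, Finset.card_univ, nsmul_eq_mul] at h1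
    exact h1
  have hTle : (T.card : ℝ) ≤ ((Nat.card V * c : ℕ) : ℝ) - (Nat.card G : ℝ) :=
    le_of_mul_le_mul_left hTbound hφ
  have hTnat : T.card + Nat.card G ≤ Nat.card V * c := by
    have : ((T.card + Nat.card G : ℕ) : ℝ) ≤ ((Nat.card V * c : ℕ) : ℝ) := by
      push_cast at hTle ⊢
      linarith
    exact_mod_cast this
  -- the characters with `V` in the kernel
  have hKcard : K.card = Nat.card (ConjClasses G) := by
    have h1 : K.card = Nat.card {χ : IrrCharacter X // KerGE V (χ : X → ℂ)} := by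
      rw [hK, Nat.card_eq_fintype_card, Fintype.card_subtype]
    rw [h1, ← Nat.card_congr (Equiv.ofBijective _ (inflateIrr_bijective V)),
      card_irr_eq_card_conjClasses]
    exact Nat.card_congr (conjClassesCongr hGV.symm.QuotientMulEquiv)
  have hKT : K.card + T.card = Nat.card (ConjClasses X) := by
    rw [← card_irr_eq_card_conjClasses, hK, hT, Finset.card_filter_add_card_filter_not,
      Finset.card_univ, Nat.card_eq_fintype_card]
  rw [← hKT, ← hKcard, mul_comm c]
  omega

end Cfsg.Agent.S4955
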