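import Cfsg.Statements.S4956
import Mathlib
import Cfsg.Agent.Lib.helper3.CoprimeConj

namespace Cfsg.Agent.S4956

open Cfsg.Agent.Lib.helper3.CoprimeConj

variable {X : Type*} [Group X]

lemma pow_card_subgroup_eq_one [Finite X] (G : Subgroup X) {c : X} (hc : c ∈ G) :
    c ^ Nat.card G = 1 := by
  have h : (⟨c, hc⟩ : G) ^ Nat.card G = 1 := pow_card_eq_one'
  exact congrArg Subtype.val h

lemma pow_index_mem [Finite X] (V : Subgroup X) [V.Normal] (x : X) : x ^ V.index ∈ V := by
  rw [← QuotientGroup.eq_one_iff, QuotientGroup.mk_pow, Subgroup.index_eq_card]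
  exact pow_card_eq_one'

/-- Bezout data for the coprime orders -/
lemma bezout {m n : ℕ} (h : m.Coprime n) : (1 : ℤ) = m * Nat.gcdA m n + n * Nat.gcdB m n := by
  have := Nat.gcd_eq_gcd_ab m n
  rw [h] at this
  exact_mod_cast this

/-- the `V`-part of `s * c` is `s` -/
lemma part_eq [Finite X] (V G : Subgroup X) (hcop : (Nat.card V).Coprime (Nat.card G))
    {s c : X} (hs : s ∈ V) (hc : c ∈ G) (hsc : s * c = c * s) :
    ((s * c) ^ Nat.card G) ^ Nat.gcdB (Nat.card V) (Nat.card G) = s := by
  have h1 : (s * c) ^ Nat.card G = s ^ Nat.card G := by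
    have hcomm : Commute s c := hsc
    rw [hcomm.mul_pow, pow_card_subgroup_eq_one G hc, mul_one]
  rw [h1]
  have hb := bezout hcop
  have h2 : s ^ Nat.card V = 1 := pow_card_subgroup_eq_one V hs
  have h3 : (s ^ Nat.card G) ^ Nat.gcdB (Nat.card V) (Nat.card G) =
      s ^ ((Nat.card G : ℤ) * Nat.gcdB (Nat.card V) (Nat.card G)) := by
    rw [zpow_mul, zpow_natCast]
  rw [h3]
  have h4 : ((Nat.card G : ℤ) * Nat.gcdB (Nat.card V) (Nat.card G)) =
      1 - (Nat.card V : ℤ) * Nat.gcdA (Nat.card V) (Nat.card G) := by linarith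
  rw [h4, zpow_sub, zpow_one, zpow_mul, zpow_natCast, h2, one_zpow, inv_one, mul_one]

/-- every element is conjugate to a product `s * c` -/
lemma exists_conj [Finite X] (V : Subgroup X) [V.Normal] (G : Subgroup X)
    (hGV : Subgroup.IsComplement' V G) (hcop : (Nat.card V).Coprime (Nat.card G)) (x : X) :
    ∃ w ∈ V, ∃ u ∈ V, ∃ g ∈ G, u * g = g * u ∧ w * x * w⁻¹ = u * g := by
  have hidx : V.index = Nat.card G := hGV.symm.index_eq_card
  obtain ⟨⟨u₀, g⟩, hx⟩ := hGV.2 x
  have hx' : (u₀ : X) * (g : X) = x := hx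
  set nV := Nat.card V with hnV
  set nG := Nat.card G with hnG
  set α := Nat.gcdA nV nG with hα
  set β := Nat.gcdB nV nG with hβ
  have hb : (1 : ℤ) = nV * α + nG * β := bezout hcop
  set Q : X := (x ^ nG) ^ β with hQ
  set P' : X := (x ^ nV) ^ α with hP'
  have hQV : Q ∈ V := by
    rw [hQ]
    apply V.zpow_mem
    rw [← hidx]
    exact pow_index_mem V x
  have hPQ : P' * Q = x := by
    rw [hP', hQ, ← zpow_natCast, ← zpow_natCast, ← zpow_mul, ← zpow_mul, ← zpow_add, ← hb, zpow_one]
  have hcomm : Commute P' Q := by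
    rw [hP', hQ]
    exact ((Commute.refl x).pow_pow nV nG).zpow_zpow α β
  have hP'n : P' ^ nG = 1 := by
    rw [hP', ← zpow_natCast, ← zpow_natCast, ← zpow_mul, ← zpow_mul]
    have : (nV : ℤ) * (α * nG) = ((nV * nG : ℕ) : ℤ) * α := by push_cast; ring
    rw [this, zpow_mul, zpow_natCast]
    have hcard : nV * nG = Nat.card X := hGV.card_mul_card
    rw [hcard, pow_card_eq_one', one_zpow]
  have hgn : (g : X) ^ nG = 1 := pow_card_subgroup_eq_one G g.2
  have hcoset : P' * (g : X)⁻¹ ∈ V := by
    have h1 : P' = x * Q⁻¹ := by rw [← hPQ]; group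
    rw [h1, ← hx']
    have h2 : (g : X) * Q⁻¹ * (g : X)⁻¹ ∈ V :=
      Subgroup.Normal.conj_mem inferInstance _ (V.inv_mem hQV) _
    have := V.mul_mem u₀.2 h2
    have e : (u₀ : X) * ((g : X) * Q⁻¹ * (g : X)⁻¹) = (u₀ : X) * (g : X) * Q⁻¹ * (g : X)⁻¹ := by
      group
    rwa [e] at this
  have hnorm : (g : X) ∈ Subgroup.normalizer (V : Set X) := by
    rw [Subgroup.normalizer_eq_top]; trivial
  obtain ⟨w, hw, hwP⟩ := conj_of_coprime nG V (g : X) P' hnorm hgn hP'n
    (Nat.coprime_comm.mp hcop) hcoset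
  refine ⟨w, hw, w * Q * w⁻¹, Subgroup.Normal.conj_mem inferInstance _ hQV _, (g : X), g.2, ?_, ?_⟩
  · rw [← hwP]
    have := hcomm.eq
    calc w * Q * w⁻¹ * (w * P' * w⁻¹) = w * (Q * P') * w⁻¹ := by group
      _ = w * (P' * Q) * w⁻¹ := by rw [this]
      _ = w * P' * w⁻¹ * (w * Q * w⁻¹) := by group
  · rw [← hPQ, hcomm.eq, ← hwP]
    group

/-- Let X be a finite group, V an abelian normal subgroup of X (any two elements of V commute) and G a complement to V in X whose order is coprime to that of V. Let S be a set of representatives of the orbits of G on V under conjugation: S lies in V and every element of V is conjugate under G to exactly one member of S. Then the number of conjugacy classes of X equals the sum, over s in S, of the number of conjugacy classes of the centralizer of s in G. -/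
theorem result {X : Type*} [Group X] [Finite X] (V : Subgroup X) [V.Normal] (hab : ∀ a ∈ V, ∀ b ∈ V, a * b = b * a) (G : Subgroup X) (hGV : Subgroup.IsComplement' V G) (hcop : (Nat.card V).Coprime (Nat.card G)) (S : Finset X) (hSV : ∀ s ∈ S, s ∈ V) (hrep : ∀ v ∈ V, ∃! s, s ∈ S ∧ ∃ g ∈ G, g * v * g⁻¹ = s) : Nat.card (ConjClasses X) = ∑ s ∈ S, Nat.card (ConjClasses ↥(G ⊓ Subgroup.centralizer ({s} : Set X))) := by
  classical
  have hdisj : ∀ y : X, y ∈ V → y ∈ G → y = 1 := by
    intro y h1 h2
    have : y ∈ V ⊓ G := ⟨h1, h2⟩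
    rw [disjoint_iff.mp hGV.disjoint] at this
    exact Subgroup.mem_bot.mp this
  -- the map
  let Φ : (Σ s : S, ConjClasses ↥(G ⊓ Subgroup.centralizer ({(s : X)} : Set X))) → ConjClasses X :=
    fun p => Quotient.liftOn p.2 (fun c => ConjClasses.mk ((p.1 : X) * (c : X))) (by
      intro c c' hcc'
      have hcc'' : IsConj c c' := hcc'
      obtain ⟨h, hh⟩ := isConj_iff.mp hcc''
      apply ConjClasses.mk_eq_mk_iff_isConj.mpr
      apply isConj_iff.mpr
      refine ⟨(h : X), ?_⟩
      have h1 : (h : X) * (c : X) * (h : X)⁻¹ = (c' : X) := by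
        have := congrArg Subtype.val hh
        simpa using this
      have h2 : (h : X) * (p.1 : X) = (p.1 : X) * (h : X) := by
        have : (h : X) ∈ Subgroup.centralizer ({(p.1 : X)} : Set X) := h.2.2
        rw [Subgroup.mem_centralizer_iff] at this
        exact (this _ (Set.mem_singleton _)).symm
      calc (h : X) * ((p.1 : X) * (c : X)) * (h : X)⁻¹
          = ((h : X) * (p.1 : X)) * (c : X) * (h : X)⁻¹ := by group
        _ = (p.1 : X) * ((h : X) * (c : X) * (h : X)⁻¹) := by rw [h2]; group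
        _ = (p.1 : X) * (c' : X) := by rw [h1])
  have hΦmk : ∀ (s : S) (c : ↥(G ⊓ Subgroup.centralizer ({(s : X)} : Set X))),
      Φ ⟨s, ConjClasses.mk c⟩ = ConjClasses.mk ((s : X) * (c : X)) := fun s c => rfl
  have hbij : Function.Bijective Φ := by
    constructor
    · -- injective
      rintro ⟨s, C⟩ ⟨s', C'⟩ h
      obtain ⟨c, rfl⟩ := ConjClasses.mk_surjective C
      obtain ⟨c', rfl⟩ := ConjClasses.mk_surjective C'
      rw [hΦmk, hΦmk] at h
      obtain ⟨y, hy⟩ := isConj_iff.mp (ConjClasses.mk_eq_mk_iff_isConj.mp h)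
      have hsV := hSV s s.2
      have hs'V := hSV s' s'.2
      have hcs : (s : X) * (c : X) = (c : X) * (s : X) := by
        have : (c : X) ∈ Subgroup.centralizer ({(s : X)} : Set X) := c.2.2
        rw [Subgroup.mem_centralizer_iff] at this
        exact this _ (Set.mem_singleton _)
      have hcs' : (s' : X) * (c' : X) = (c' : X) * (s' : X) := by
        have : (c' : X) ∈ Subgroup.centralizer ({(s' : X)} : Set X) := c'.2.2
        rw [Subgroup.mem_centralizer_iff] at this
        exact this _ (Set.mem_singleton _)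
      -- the `V`-parts
      have hpart : y * (s : X) * y⁻¹ = (s' : X) := by
        have h1 := part_eq V G hcop hsV c.2.1 hcs
        have h2 := part_eq V G hcop hs'V c'.2.1 hcs'
        rw [← hy, conj_pow, conj_zpow, h1] at h2
        exact h2
      have hpartc : y * (c : X) * y⁻¹ = (c' : X) := by
        have e : y * ((s : X) * (c : X)) * y⁻¹ = (y * (s : X) * y⁻¹) * (y * (c : X) * y⁻¹) := by
          group
        rw [e, hpart] at hy
        exact mul_left_cancel hy
      obtain ⟨⟨u, g⟩, hug⟩ := hGV.2 y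
      have hy' : (u : X) * (g : X) = y := hug
      -- `s' = g s g⁻¹`
      have hgs : (g : X) * (s : X) * (g : X)⁻¹ = (s' : X) := by
        have hgsV : (g : X) * (s : X) * (g : X)⁻¹ ∈ V :=
          Subgroup.Normal.conj_mem inferInstance _ hsV _
        rw [← hpart, ← hy']
        have := hab _ u.2 _ hgsV
        calc (g : X) * (s : X) * (g : X)⁻¹
            = ((g : X) * (s : X) * (g : X)⁻¹) * (u : X) * (u : X)⁻¹ := by group
          _ = (u : X) * ((g : X) * (s : X) * (g : X)⁻¹) * (u : X)⁻¹ := by rw [← this]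
          _ = (u : X) * (g : X) * (s : X) * ((u : X) * (g : X))⁻¹ := by group
      have hss' : s = s' := by
        obtain ⟨t, -, ht⟩ := hrep (s : X) hsV
        have h1 := ht (s : X) ⟨s.2, 1, G.one_mem, by group⟩
        have h2 := ht (s' : X) ⟨s'.2, (g : X), g.2, hgs⟩
        exact Subtype.ext (h1.trans h2.symm)
      subst hss'
      have hgC : (g : X) ∈ G ⊓ Subgroup.centralizer ({(s : X)} : Set X) := by
        refine ⟨g.2, ?_⟩
        show (g : X) ∈ Subgroup.centralizer ({(s : X)} : Set X)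
        rw [Subgroup.mem_centralizer_iff]
        intro z hz
        rw [Set.mem_singleton_iff] at hz
        rw [hz]
        have := congrArg (fun t => t * (g : X)) hgs
        simp only [inv_mul_cancel_right] at this
        exact this.symm
      -- `c' = g c g⁻¹`
      have hgc : (g : X) * (c : X) * (g : X)⁻¹ = (c' : X) := by
        set c'' : X := (g : X) * (c : X) * (g : X)⁻¹ with hc''
        have hc''G : c'' ∈ G := G.mul_mem (G.mul_mem g.2 c.2.1) (G.inv_mem g.2)
        have h1 : (u : X) * c'' * (u : X)⁻¹ = (c' : X) := by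
          rw [← hpartc, ← hy', hc'']; group
        have h2 : (c' : X) * c''⁻¹ ∈ G := G.mul_mem c'.2.1 (G.inv_mem hc''G)
        have h3 : (c' : X) * c''⁻¹ ∈ V := by
          rw [← h1]
          have h4 : c'' * (u : X)⁻¹ * c''⁻¹ ∈ V :=
            Subgroup.Normal.conj_mem inferInstance _ (V.inv_mem u.2) _
          have := V.mul_mem u.2 h4
          have e : (u : X) * (c'' * (u : X)⁻¹ * c''⁻¹) = (u : X) * c'' * (u : X)⁻¹ * c''⁻¹ := by
            group
          rwa [e] at this
        have h5 := hdisj _ h3 h2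
        exact (mul_inv_eq_one.mp h5).symm
      congr 1
      apply ConjClasses.mk_eq_mk_iff_isConj.mpr
      apply isConj_iff.mpr
      refine ⟨⟨(g : X), hgC⟩, ?_⟩
      apply Subtype.ext
      simpa using hgc
    · -- surjective
      intro C
      obtain ⟨x, rfl⟩ := ConjClasses.mk_surjective C
      obtain ⟨w, hw, u, hu, g, hg, hug, hwx⟩ := exists_conj V G hGV hcop x
      obtain ⟨s, ⟨hsS, h, hh, hhs⟩, -⟩ := hrep u hu
      have hcG : h * g * h⁻¹ ∈ G := G.mul_mem (G.mul_mem hh hg) (G.inv_mem hh)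
      have hcC : h * g * h⁻¹ ∈ Subgroup.centralizer ({s} : Set X) := by
        rw [Subgroup.mem_centralizer_iff]
        intro z hz
        rw [Set.mem_singleton_iff] at hz
        rw [hz, ← hhs]
        calc h * u * h⁻¹ * (h * g * h⁻¹) = h * (u * g) * h⁻¹ := by group
          _ = h * (g * u) * h⁻¹ := by rw [hug]
          _ = h * g * h⁻¹ * (h * u * h⁻¹) := by group
      refine ⟨⟨⟨s, hsS⟩, ConjClasses.mk ⟨h * g * h⁻¹, hcG, hcC⟩⟩, ?_⟩
      rw [hΦmk]
      apply ConjClasses.mk_eq_mk_iff_isConj.mpr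
      apply isConj_iff.mpr
      refine ⟨(h * w)⁻¹, ?_⟩
      show (h * w)⁻¹ * (s * (h * g * h⁻¹)) * (h * w)⁻¹⁻¹ = x
      rw [← hhs]
      have e : h * u * h⁻¹ * (h * g * h⁻¹) = h * (u * g) * h⁻¹ := by group
      rw [e, ← hwx]
      group
  rw [← Nat.card_congr (Equiv.ofBijective Φ hbij), Nat.card_sigma]
  exact Finset.sum_coe_sort S (fun s => Nat.card (ConjClasses ↥(G ⊓ Subgroup.centralizer ({s} : Set X))))

end Cfsg.Agent.S4956
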