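import Mathlib
import Cfsg.Statements.S4964
import Cfsg.Agent.H2.BlockSupport
import Cfsg.Agent.H2.CoprimeDerived
import Cfsg.Agent.S4434
import Cfsg.Agent.S4653
import Cfsg.Agent.Lib.helper3.QuotBlock
import Cfsg.Agent.Lib.helper3.BlockPGroup
import Cfsg.Agent.Lib.helper3.DefectOrder3
import Cfsg.Agent.Lib.helper3.QuotDefect

set_option autoImplicit false
open Cfsg

namespace Cfsg.Agent.S4964

/-- Let D be a normal p-subgroup of the finite group G, let D′ be its commutator subgroup (normal in G), and fix a maximal ideal M of the algebraic integers containing p. Then (i) two irreducible characters of G ⧸ D′ lie in the same p-block if and only if their inflations to G do, and (ii) every p-block of G contains the inflation of some irreducible character of G ⧸ D′; so inflation induces a bijection between the p-blocks of G ⧸ D′ and the p-blocks of G. -/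
theorem result {G : Type*} [Group G] [Finite G] (p : ℕ) [Fact p.Prime] (M : Ideal Cfsg.AlgInt) (hM : Cfsg.IsPModular p M) (D : Subgroup G) [D.Normal] (hD : IsPGroup p D) : (∀ χ ψ : Cfsg.IrrCharacter (G ⧸ ⁅D, D⁆), Cfsg.SameBlock M (χ : G ⧸ ⁅D, D⁆ → ℂ) (ψ : G ⧸ ⁅D, D⁆ → ℂ) ↔ Cfsg.SameBlock M ((χ : G ⧸ ⁅D, D⁆ → ℂ) ∘ QuotientGroup.mk) ((ψ : G ⧸ ⁅D, D⁆ → ℂ) ∘ QuotientGroup.mk)) ∧ ∀ B : Set (Cfsg.IrrCharacter G), Cfsg.IsPBlock M B → ∃ χ : Cfsg.IrrCharacter (G ⧸ ⁅D, D⁆), ∃ θ ∈ B, (θ : G → ℂ) = (χ : G ⧸ ⁅D, D⁆ → ℂ) ∘ QuotientGroup.mk := by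
  classical
  let _ : Fintype G := Fintype.ofFinite G
  let _ : Fintype (G ⧸ ⁅D, D⁆) := Fintype.ofFinite _
  have hMp := Cfsg.Agent.Lib.helper3.LocalM.isPrime_of_isPModular hM
  have hMtop : M ≠ ⊤ := hM.2.1.ne_top
  have hp : p.Prime := Fact.out
  have hNle : ⁅D, D⁆ ≤ D := Subgroup.commutator_le_right D D
  have hN : IsPGroup p (⁅D, D⁆ : Subgroup G) := hD.to_le hNle
  -- the image of `D`
  obtain ⟨Dbar, hDbar⟩ : ∃ Dbar : Subgroup (G ⧸ ⁅D, D⁆), Dbar = D.map (QuotientGroup.mk' ⁅D, D⁆) :=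
    ⟨_, rfl⟩
  have hDbarN : Dbar.Normal := by
    rw [hDbar]
    exact Subgroup.Normal.map inferInstance _ (QuotientGroup.mk'_surjective _)
  have hDbarp : IsPGroup p Dbar := by
    rw [hDbar]
    exact hD.map _
  refine ⟨?_, ?_⟩
  · intro χ ψ
    constructor
    · exact Cfsg.Agent.Lib.helper3.Block.sameBlock_inflate ⁅D, D⁆ χ ψ
    · intro hinf
      apply Cfsg.Agent.H2.BlockSupport.sameBlock_of_support hM χ ψ
      intro xbar hx0
      have hBbar : Cfsg.IsPBlock M (Cfsg.blockOf M (χ : G ⧸ ⁅D, D⁆ → ℂ)) := ⟨χ, rfl⟩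
      have hreg : ¬ p ∣ orderOf xbar := by
        intro hdvd
        exact hx0 (Cfsg.Agent.Lib.helper3.Block.blockCoeff_eq_zero_of_dvd hM _ hBbar xbar hdvd)
      have hcent : xbar ∈ Subgroup.centralizer (Dbar : Set (G ⧸ ⁅D, D⁆)) := by
        by_contra hnot
        exact hx0 (Cfsg.Agent.S4653.result p M hM Dbar hDbarp _ hBbar xbar hnot)
      obtain ⟨x, hxbar, hxreg⟩ :=
        Cfsg.Agent.Lib.helper3.Block.exists_pregular_lift p ⁅D, D⁆ xbar hreg
      have hxD : x ∈ Subgroup.centralizer (D : Set G) := by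
        apply Cfsg.Agent.H2.CoprimeDerived.mem_centralizer_of_commutator_mem D hD x hxreg
        intro d hd
        have h1 : ((d : G) : G ⧸ ⁅D, D⁆) ∈ Dbar := by
          rw [hDbar]
          exact ⟨d, hd, rfl⟩
        have h2 := Subgroup.mem_centralizer_iff.mp hcent _ h1
        rw [← hxbar] at h2
        rw [← QuotientGroup.eq_one_iff]
        rw [QuotientGroup.mk_mul, QuotientGroup.mk_mul, QuotientGroup.mk_mul,
          QuotientGroup.mk_inv, QuotientGroup.mk_inv, ← h2]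
        group
      have hxN : x ∈ Subgroup.centralizer ((⁅D, D⁆ : Subgroup G) : Set G) :=
        Subgroup.centralizer_le (by exact_mod_cast hNle) hxD
      have hrel := Cfsg.Agent.Lib.helper3.Block.comap_centralizer_le_of_pregular ⁅D, D⁆ hN x hxN hxreg
      have hrel1 : (Subgroup.centralizer ({x} : Set G)).relIndex
          ((Subgroup.centralizer ({(x : G ⧸ ⁅D, D⁆)} : Set (G ⧸ ⁅D, D⁆))).comap
            (QuotientGroup.mk' ⁅D, D⁆)) = 1 :=
        Subgroup.relIndex_eq_one.mpr hrel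
      have e1 := Cfsg.Agent.Lib.helper3.Block.centralChar_comp_mk ⁅D, D⁆ (χ : G ⧸ ⁅D, D⁆ → ℂ) x
      have e2 := Cfsg.Agent.Lib.helper3.Block.centralChar_comp_mk ⁅D, D⁆ (ψ : G ⧸ ⁅D, D⁆ → ℂ) x
      rw [hrel1, Nat.cast_one, one_mul, hxbar] at e1 e2
      rw [← e1, ← e2]
      exact hinf x
  · intro B hB
    obtain ⟨Bbar, hBbar, hsub, -⟩ := Cfsg.Agent.S4434.result p M hM ⁅D, D⁆ hN B hB
    obtain ⟨χ, hχ⟩ := id hBbar
    have hχmem : χ ∈ Bbar := by
      rw [hχ]
      exact Cfsg.Agent.Lib.helper3.Block.sameBlock_refl hMtop _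
    refine ⟨χ, Cfsg.Agent.Lib.helper3.Block.inflIrr ⁅D, D⁆ χ, ?_, rfl⟩
    exact hsub χ hχmem _ rfl

end Cfsg.Agent.S4964
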