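import Mathlib
import Cfsg.Statements.S4965

set_option autoImplicit false
open Cfsg

namespace Cfsg.Agent.S4965

/-- Let X be a finite group with an abelian normal subgroup V (any two elements of V commute), and let φ be the action of X ⧸ V on V induced by conjugation (well defined because V is abelian; the hypothesis hφ says that the class of x acts as conjugation by x). Then X has at most as many conjugacy classes as the semidirect product of V by X ⧸ V formed with this action: the split extension has the largest class number among extensions with the given action. -/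
theorem result {X : Type*} [Group X] [Finite X] (V : Subgroup X) [V.Normal] (hab : ∀ a ∈ V, ∀ b ∈ V, a * b = b * a) (φ : X ⧸ V →* MulAut ↥V) (hφ : ∀ (x : X) (v : ↥V), ((φ (QuotientGroup.mk x) v : ↥V) : X) = x * v * x⁻¹) : Nat.card (ConjClasses X) ≤ Nat.card (ConjClasses (SemidirectProduct ↥V (X ⧸ V) φ)) := by
  classical
  -- representatives
  have hrep : ∀ g h : X ⧸ V, ∃ p : X × X, (∃ x y : X, Commute x y ∧ (x : X ⧸ V) = g ∧ (y : X ⧸ V) = h) →
      (Commute p.1 p.2 ∧ (p.1 : X ⧸ V) = g ∧ (p.2 : X ⧸ V) = h) := by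
    intro g h
    by_cases hex : ∃ x y : X, Commute x y ∧ (x : X ⧸ V) = g ∧ (y : X ⧸ V) = h
    · obtain ⟨x, y, h1, h2, h3⟩ := hex
      exact ⟨(x, y), fun _ => ⟨h1, h2, h3⟩⟩
    · exact ⟨(1, 1), fun h' => absurd h' hex⟩
  choose rep hrep' using hrep
  have hmemV : ∀ x x₀ : X, (x : X ⧸ V) = (x₀ : X ⧸ V) → x * x₀⁻¹ ∈ V := by
    intro x x₀ h
    rw [← QuotientGroup.eq_one_iff, QuotientGroup.mk_mul, QuotientGroup.mk_inv, h, mul_inv_cancel]
  -- the injection
  have key : ∀ p : {p : X × X // Commute p.1 p.2},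
      ∃ q : {q : SemidirectProduct ↥V (X ⧸ V) φ × SemidirectProduct ↥V (X ⧸ V) φ // Commute q.1 q.2},
        q.1.1.right = (p.1.1 : X ⧸ V) ∧ q.1.2.right = (p.1.2 : X ⧸ V) ∧
        ((q.1.1.left : ↥V) : X) = p.1.1 * (rep (p.1.1 : X ⧸ V) (p.1.2 : X ⧸ V)).1⁻¹ ∧
        ((q.1.2.left : ↥V) : X) = p.1.2 * (rep (p.1.1 : X ⧸ V) (p.1.2 : X ⧸ V)).2⁻¹ := by
    rintro ⟨⟨x, y⟩, hxy⟩
    obtain ⟨h1, h2, h3⟩ := hrep' (x : X ⧸ V) (y : X ⧸ V) ⟨x, y, hxy, rfl, rfl⟩
    obtain ⟨r, hr⟩ : ∃ r : X × X, r = rep (x : X ⧸ V) (y : X ⧸ V) := ⟨_, rfl⟩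
    simp only at hxy ⊢
    rw [← hr] at h1 h2 h3 ⊢
    obtain ⟨x₀, y₀⟩ := r
    simp only at h1 h2 h3 ⊢
    have ha : x * x₀⁻¹ ∈ V := hmemV x x₀ h2.symm
    have hb : y * y₀⁻¹ ∈ V := hmemV y y₀ h3.symm
    refine ⟨⟨(⟨⟨x * x₀⁻¹, ha⟩, (x : X ⧸ V)⟩, ⟨⟨y * y₀⁻¹, hb⟩, (y : X ⧸ V)⟩), ?_⟩, rfl, rfl, rfl, rfl⟩
    show _ * _ = _ * _
    apply SemidirectProduct.ext
    · simp only [SemidirectProduct.mul_left]
      apply Subtype.ext
      rw [Subgroup.coe_mul, Subgroup.coe_mul]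
      conv_lhs => rw [← h2, hφ]
      conv_rhs => rw [← h3, hφ]
      simp only
      have e1 : x * x₀⁻¹ * (x₀ * (y * y₀⁻¹) * x₀⁻¹) = (x * y) * (x₀ * y₀)⁻¹ := by group
      have e2 : y * y₀⁻¹ * (y₀ * (x * x₀⁻¹) * y₀⁻¹) = (y * x) * (y₀ * x₀)⁻¹ := by group
      rw [e1, e2, hxy.eq, h1.eq]
    · simp only [SemidirectProduct.mul_right]
      rw [← QuotientGroup.mk_mul, ← QuotientGroup.mk_mul, hxy.eq]
  choose Ψ hΨ using key
  have hinj : Function.Injective Ψ := by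
    intro p p' hpp
    obtain ⟨a1, a2, a3, a4⟩ := hΨ p
    obtain ⟨b1, b2, b3, b4⟩ := hΨ p'
    rw [hpp] at a1 a2 a3 a4
    have c1 : (p.1.1 : X ⧸ V) = (p'.1.1 : X ⧸ V) := a1.symm.trans b1
    have c2 : (p.1.2 : X ⧸ V) = (p'.1.2 : X ⧸ V) := a2.symm.trans b2
    rw [c1, c2] at a3 a4
    have d1 : p.1.1 = p'.1.1 := mul_right_cancel (a3.symm.trans b3)
    have d2 : p.1.2 = p'.1.2 := mul_right_cancel (a4.symm.trans b4)
    exact Subtype.ext (Prod.ext d1 d2)
  have : Finite (SemidirectProduct ↥V (X ⧸ V) φ) :=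
    Finite.of_equiv _ (SemidirectProduct.equivProd (φ := φ)).symm
  have hle := Nat.card_le_card_of_injective Ψ hinj
  rw [card_comm_eq_card_conjClasses_mul_card, card_comm_eq_card_conjClasses_mul_card] at hle
  have hcard : Nat.card (SemidirectProduct ↥V (X ⧸ V) φ) = Nat.card X := by
    rw [Nat.card_congr (SemidirectProduct.equivProd (φ := φ)), Nat.card_prod,
      Subgroup.card_eq_card_quotient_mul_card_subgroup V, mul_comm]
  rw [hcard] at hle
  exact Nat.le_of_mul_le_mul_right hle Nat.card_pos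

end Cfsg.Agent.S4965
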