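import Cfsg.Statements.S4966
import Cfsg.Agent.H9.SelfDualFin
import Cfsg.Agent.H9.SelfDualOdd

set_option autoImplicit false
open Cfsg

namespace Cfsg.Agent.S4966

/-- Let F be a finite field of characteristic p, G a finite group of order prime to p, and V a finite-dimensional representation of G over F carrying a nondegenerate G-invariant bilinear form (equivalently, V is self-dual). Then V is the direct sum of two G-invariant subspaces U and W such that U carries a G-invariant alternating bilinear form that is nondegenerate on U and W carries a G-invariant symmetric bilinear form that is nondegenerate on W; moreover when p = 2 the decomposition can be chosen with G acting trivially on W. -/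
theorem result {F : Type*} [Field F] [Fintype F] (p : ℕ) [Fact p.Prime] [CharP F p] {G : Type*} [Group G] [Finite G] (hcop : ¬ p ∣ Nat.card G) {V : Type*} [AddCommGroup V] [Module F V] [FiniteDimensional F V] (ρ : Representation F G V) (B : LinearMap.BilinForm F V) (hB : B.Nondegenerate) (hBinv : ∀ g : G, ∀ x y : V, B (ρ g x) (ρ g y) = B x y) : ∃ U W : Submodule F V, IsCompl U W ∧ (∀ g : G, ∀ u ∈ U, ρ g u ∈ U) ∧ (∀ g : G, ∀ w ∈ W, ρ g w ∈ W) ∧ (∃ A : LinearMap.BilinForm F V, (∀ x : V, A x x = 0) ∧ (∀ g : G, ∀ x ∈ U, ∀ y ∈ U, A (ρ g x) (ρ g y) = A x y) ∧ (∀ x ∈ U, (∀ y ∈ U, A x y = 0) → x = 0)) ∧ (∃ S : LinearMap.BilinForm F V, (∀ x y : V, S x y = S y x) ∧ (∀ g : G, ∀ x ∈ W, ∀ y ∈ W, S (ρ g x) (ρ g y) = S x y) ∧ (∀ x ∈ W, (∀ y ∈ W, S x y = 0) → x = 0)) ∧ (p = 2 → ∀ g : G, ∀ w ∈ W, ρ g w = w) := by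
  classical
  have : Fintype G := Fintype.ofFinite G
  have hG : (Fintype.card G : F) ≠ 0 := by
    intro h
    rw [CharP.cast_eq_zero_iff F p] at h
    apply hcop
    rwa [Nat.card_eq_fintype_card]
  by_cases hp2 : p = 2
  · have h2 : (2 : F) = 0 := by
      have : ((2 : ℕ) : F) = 0 := by
        rw [CharP.cast_eq_zero_iff F p, hp2]
      exact_mod_cast this
    obtain ⟨U, W, hc, hU, hW, hA, hS, htriv⟩ :=
      Cfsg.Agent.H9.SelfDual.two_case h2 hG ρ B hB hBinv
    exact ⟨U, W, hc, hU, hW, hA, hS, fun _ => htriv⟩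
  · have h2 : (2 : F) ≠ 0 := by
      intro h
      have h' : ((2 : ℕ) : F) = 0 := by exact_mod_cast h
      rw [CharP.cast_eq_zero_iff F p] at h'
      have hp : p.Prime := Fact.out
      exact hp2 ((Nat.prime_dvd_prime_iff_eq hp Nat.prime_two).1 h')
    obtain ⟨U, W, hc, hinv, hUnd, hWnd⟩ := Cfsg.Agent.H9.SelfDual.odd_main h2 B hB
    refine ⟨U, W, hc, fun g => (hinv (ρ g) (hBinv g)).1, fun g => (hinv (ρ g) (hBinv g)).2,
      ⟨B - B.flip, ?_, ?_, ?_⟩, ⟨B + B.flip, ?_, ?_, ?_⟩, fun h => absurd h hp2⟩
    · intro x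
      rw [LinearMap.sub_apply, LinearMap.sub_apply, LinearMap.BilinForm.flip_apply, sub_self]
    · intro g x _ y _
      rw [LinearMap.sub_apply, LinearMap.sub_apply, LinearMap.sub_apply, LinearMap.sub_apply,
        LinearMap.BilinForm.flip_apply, LinearMap.BilinForm.flip_apply, hBinv, hBinv]
    · intro x hx hxy
      apply hUnd x hx
      intro y hy
      have := hxy y hy
      rwa [LinearMap.sub_apply, LinearMap.sub_apply, LinearMap.BilinForm.flip_apply] at this
    · intro x y
      rw [LinearMap.add_apply, LinearMap.add_apply, LinearMap.add_apply, LinearMap.add_apply,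
        LinearMap.BilinForm.flip_apply, LinearMap.BilinForm.flip_apply, add_comm]
    · intro g x _ y _
      rw [LinearMap.add_apply, LinearMap.add_apply, LinearMap.add_apply, LinearMap.add_apply,
        LinearMap.BilinForm.flip_apply, LinearMap.BilinForm.flip_apply, hBinv, hBinv]
    · intro x hx hxy
      apply hWnd x hx
      intro y hy
      have := hxy y hy
      rwa [LinearMap.add_apply, LinearMap.add_apply, LinearMap.BilinForm.flip_apply] at this

end Cfsg.Agent.S4966
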