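import Cfsg.Statements.S4989
import Mathlib
import Cfsg.Agent.Lib.Helper4.Galois

namespace Cfsg.Agent.S4989

open Cfsg Cfsg.Agent.Lib.Helper4.Galois Cfsg.Agent.Lib.helper3.CharBasic

/-- Let H be a subgroup of the finite group G and χ an irreducible complex character of G. Then the inner product of the restriction of χ to H with itself, (1/#H)·Σ_{h ∈ H} |χ(h)|², is at most 1 + #(Z ∖ H)/#H, where Z is the set of zeros of χ in G. -/
theorem result {G : Type*} [Group G] [Finite G] (H : Subgroup G) (χ : Cfsg.IrrCharacter G) : (Nat.card ↥H : ℝ)⁻¹ * ∑ᶠ h : ↥H, ‖(χ : G → ℂ) h‖ ^ 2 ≤ 1 + (Set.ncard ({x : G | (χ : G → ℂ) x = 0} \ (H : Set G)) : ℝ) / (Nat.card ↥H : ℝ) := by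
  classical
  haveI : Fintype G := Fintype.ofFinite G
  set ψ : G → ℂ := (χ : G → ℂ) with hψ
  have hchar : IsCharacter G ψ := by
    obtain ⟨n, ρ, _, h⟩ := χ.2
    exact ⟨n, ρ, h⟩
  set S : Finset G := Finset.univ.filter (fun g => g ∉ H) with hS
  have hSclosed : ∀ g ∈ S, ∀ k : ℕ, k.Coprime (Nat.card G) → g ^ k ∈ S := by
    intro g hg k hk
    rw [hS, Finset.mem_filter] at hg ⊢
    refine ⟨Finset.mem_univ _, fun hgk => hg.2 ?_⟩
    have h1 : (powCoprime (G := G) (Nat.coprime_comm.mp hk)).symm (g ^ k) = g :=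
      (powCoprime (G := G) (Nat.coprime_comm.mp hk)).symm_apply_apply g
    rw [← h1]
    rw [powCoprime_symm_apply]
    exact H.zpow_mem hgk _
  have key := card_nonvanishing_le_sum hchar S hSclosed 2
  have htotal := sum_norm_sq_irr χ.2
  -- split the total sum
  have hsplit : ∑ g : G, ‖ψ g‖ ^ 2 =
      ∑ g ∈ Finset.univ.filter (fun g => g ∈ H), ‖ψ g‖ ^ 2 + ∑ g ∈ S, ‖ψ g‖ ^ 2 := by
    rw [hS, Finset.sum_filter_add_sum_filter_not]
  have hHsum : ∑ g ∈ Finset.univ.filter (fun g => g ∈ H), ‖ψ g‖ ^ 2 = ∑ h : H, ‖ψ h‖ ^ 2 := by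
    rw [← Finset.sum_subtype (Finset.univ.filter (fun g => g ∈ H)) (by simp)
      (fun g => ‖ψ g‖ ^ 2)]
  rw [finsum_eq_sum_of_fintype]
  -- count the elements of `S`
  have hScard : S.card + Nat.card H = Nat.card G := by
    rw [Nat.card_eq_fintype_card, Nat.card_eq_fintype_card, ← Finset.card_univ (α := G),
      Fintype.card_subtype, hS, add_comm]
    exact Finset.card_filter_add_card_filter_not _
  have hSZ : (S.filter (fun g => ψ g ≠ 0)).card + (S.filter (fun g => ¬ ψ g ≠ 0)).card = S.card :=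
    Finset.card_filter_add_card_filter_not _
  have hZ : Set.ncard ({x : G | ψ x = 0} \ (H : Set G)) = (S.filter (fun g => ¬ ψ g ≠ 0)).card := by
    rw [← Set.ncard_coe_finset]
    congr 1
    ext x
    simp [hS, and_comm]
  rw [hZ]
  have hHpos : (0 : ℝ) < Nat.card H := by exact_mod_cast Nat.card_pos
  rw [inv_mul_le_iff₀ hHpos, mul_add, mul_one, mul_div_cancel₀ _ hHpos.ne']
  have e1 : ((S.filter (fun g => ψ g ≠ 0)).card : ℝ) + ((S.filter (fun g => ¬ ψ g ≠ 0)).card : ℝ)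
      + (Nat.card H : ℝ) = (Nat.card G : ℝ) := by
    exact_mod_cast (by rw [hSZ, hScard] : (S.filter (fun g => ψ g ≠ 0)).card +
      (S.filter (fun g => ¬ ψ g ≠ 0)).card + Nat.card H = Nat.card G)
  rw [← hHsum]
  linarith

end Cfsg.Agent.S4989
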