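import Cfsg.Statements.S4996
import Mathlib
import Cfsg.Agent.Lib.Helper4.Galois
import Cfsg.Agent.Lib.Helper4.CosetAvg
import Cfsg.Agent.Lib.helper3.Lin
import Cfsg.Agent.Lib.helper3.Irr11

namespace Cfsg.Agent.S4996

open Cfsg Module Cfsg.Agent.Lib.helper3.IndFun Cfsg.Agent.Lib.helper3.CharBasic
open Cfsg.Agent.Lib.helper3.Irr Cfsg.Agent.Lib.Helper4.Galois Cfsg.Agent.Lib.Helper4.CosetAvg
open Cfsg.Agent.Lib.helper3.Lin
open scoped ComplexConjugate

/-- Let N be a normal subgroup of the finite group G and χ an irreducible complex character of G. Then the restriction of χ to N is not irreducible if and only if χ vanishes on some whole coset Nx of N in G. -/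
theorem result {G : Type*} [Group G] [Finite G] (N : Subgroup G) [N.Normal] (χ : Cfsg.IrrCharacter G) : ¬ Cfsg.IsIrrCharacter ↥N (fun n : ↥N => (χ : G → ℂ) n) ↔ ∃ x : G, ∀ n : ↥N, (χ : G → ℂ) ((n : G) * x) = 0 := by
  classical
  letI : Fintype G := Fintype.ofFinite G
  letI : Fintype N := Fintype.ofFinite N
  letI : Fintype (G ⧸ N) := Fintype.ofFinite _
  set ψ : G → ℂ := (χ : G → ℂ) with hψ
  have hψc : IsCharacter G ψ := isCharacter_of_isIrrCharacter χ.2
  set Ψ : G → ℂ := fun g => ψ g * conj (ψ g) with hΨ
  have hΨc : IsCharacter G Ψ := isCharacter_mul hψc (isCharacter_conj hψc)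
  set F : G ⧸ N → ℂ := cosetAvg N Ψ with hF
  have hFc : IsCharacter (G ⧸ N) F := isCharacter_cosetAvg N hΨc
  have hN0 : (0 : ℝ) < Nat.card N := by exact_mod_cast Nat.card_pos
  -- real form of the values
  have hFreal : ∀ x : G, F (x : G ⧸ N) =
      (((Nat.card N : ℝ)⁻¹ * ∑ n : N, ‖ψ ((n : G) * x)‖ ^ 2 : ℝ) : ℂ) := by
    intro x
    rw [hF, cosetAvg_mk]
    push_cast
    congr 1
    apply Finset.sum_congr rfl
    intro n _
    rw [hΨ]
    simp only
    rw [Complex.mul_conj, Complex.normSq_eq_norm_sq]
    push_cast
    rfl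
  have hFzero : ∀ x : G, F (x : G ⧸ N) = 0 ↔ ∀ n : N, ψ ((n : G) * x) = 0 := by
    intro x
    rw [hFreal x, Complex.ofReal_eq_zero, mul_eq_zero]
    constructor
    · rintro (h | h)
      · exact absurd (inv_eq_zero.mp h) hN0.ne'
      · intro n
        have := (Finset.sum_eq_zero_iff_of_nonneg (fun n _ => by positivity)).mp h n
          (Finset.mem_univ _)
        simpa using this
    · intro h
      right
      apply Finset.sum_eq_zero
      intro n _
      rw [h n]; simp
  -- the value at the identity is the norm of the restriction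
  have hF1 : F ((1 : G) : G ⧸ N) = classInner (fun n : N => ψ n) (fun n : N => ψ n) := by
    rw [hF, cosetAvg_mk, classInner_apply]
    congr 1
    apply Finset.sum_congr rfl
    intro n _
    rw [mul_one]
  have hresc : IsCharacter N (fun n : N => ψ n) := isCharacter_restrict hψc N
  constructor
  · -- reducible restriction gives a vanishing coset
    intro hnirr
    by_contra hcon
    push Not at hcon
    have hFne : ∀ q : G ⧸ N, F q ≠ 0 := by
      intro q
      obtain ⟨x, rfl⟩ := QuotientGroup.mk_surjective q
      intro h0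
      obtain ⟨n, hn⟩ := hcon x
      exact hn ((hFzero x).mp h0 n)
    -- the norm of the restriction is a natural number at least two
    obtain ⟨m, hm⟩ := exists_decomposition_of_isCharacter hresc
    have hnorm : classInner (fun n : N => ψ n) (fun n : N => ψ n) =
        ((∑ θ : IrrCharacter N, m θ * m θ : ℕ) : ℂ) := by
      conv_lhs => rw [hm]
      rw [classInner_decomposition]
      push_cast
      apply Finset.sum_congr rfl
      intro θ _
      rw [Complex.conj_natCast]
    set M : ℕ := ∑ θ : IrrCharacter N, m θ * m θ with hM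
    have hM2 : 2 ≤ M := by
      by_contra hlt
      push Not at hlt
      have hM01 : M = 0 ∨ M = 1 := by omega
      rcases hM01 with h0 | h1
      · have hall : ∀ θ : IrrCharacter N, m θ = 0 := by
          intro θ
          have := (Finset.sum_eq_zero_iff.mp (hM ▸ h0)) θ (Finset.mem_univ _)
          exact mul_self_eq_zero.mp this
        have hz : (fun n : N => ψ n) = 0 := by
          rw [hm]
          apply Finset.sum_eq_zero
          intro θ _
          rw [hall θ]; simp
        have := congrFun hz 1
        exact apply_one_ne_zero χ.2 this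
      · apply hnirr
        apply isIrrCharacter_of_classInner_self_eq_one hresc
        rw [hnorm, h1]; simp
    -- the sum of the values of `F`
    have hone : IsIrrCharacter (G ⧸ N) (fun _ => (1 : ℂ)) := isIrrCharacter_one
    have hsum : ∑ q : G ⧸ N, F q = (Nat.card (G ⧸ N) : ℂ) := by
      have h1 : classInner F (fun _ : G ⧸ N => (1 : ℂ)) = 1 := by
        rw [hF, classInner_cosetAvg]
        have h2 : classInner Ψ (inflate N (fun _ : G ⧸ N => (1 : ℂ))) = classInner ψ ψ := by
          rw [classInner_apply, classInner_apply]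
          congr 1
          apply Finset.sum_congr rfl
          intro g _
          rw [hΨ, inflate_apply]
          simp
        rw [h2]
        exact irr_classInner_self χ.2
      rw [classInner_apply] at h1
      have hQ0 : (Nat.card (G ⧸ N) : ℂ) ≠ 0 := by exact_mod_cast Nat.card_pos.ne'
      simp only [map_one, mul_one] at h1
      field_simp at h1
      exact h1
    -- Burnside--Thompson averaging on the nonidentity cosets
    set S : Finset (G ⧸ N) := Finset.univ.erase 1 with hS
    have hSclosed : ∀ q ∈ S, ∀ k : ℕ, k.Coprime (Nat.card (G ⧸ N)) → q ^ k ∈ S := by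
      intro q hq k hk
      rw [hS, Finset.mem_erase] at hq ⊢
      refine ⟨fun h => hq.1 ?_, Finset.mem_univ _⟩
      have hinj := (powCoprime (G := G ⧸ N) (Nat.coprime_comm.mp hk)).injective
      apply hinj
      show q ^ k = 1 ^ k
      rw [h, one_pow]
    have key := card_nonvanishing_le_sum hFc S hSclosed 1
    have hfilter : S.filter (fun q => F q ≠ 0) = S := by
      apply Finset.filter_true_of_mem
      intro q _
      exact hFne q
    rw [hfilter] at key
    have hScard : (S.card : ℝ) = (Nat.card (G ⧸ N) : ℝ) - 1 := by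
      rw [hS, Finset.card_erase_of_mem (Finset.mem_univ _), Finset.card_univ,
        Nat.card_eq_fintype_card]
      have : 1 ≤ Fintype.card (G ⧸ N) := Fintype.card_pos
      push_cast [Nat.cast_sub this]
      ring
    -- real values
    have hFre : ∀ q : G ⧸ N, ∃ r : ℝ, 0 ≤ r ∧ F q = (r : ℂ) := by
      intro q
      obtain ⟨x, rfl⟩ := QuotientGroup.mk_surjective q
      exact ⟨_, by positivity, hFreal x⟩
    choose r hr0 hr using hFre
    have hnormr : ∀ q, ‖F q‖ ^ 1 = r q := by
      intro q
      rw [pow_one, hr q, Complex.norm_real, Real.norm_eq_abs, abs_of_nonneg (hr0 q)]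
    simp only [hnormr] at key
    have hsumr : ∑ q : G ⧸ N, r q = (Nat.card (G ⧸ N) : ℝ) := by
      have h1 : ((∑ q : G ⧸ N, r q : ℝ) : ℂ) = ((Nat.card (G ⧸ N) : ℝ) : ℂ) := by
        push_cast
        rw [← hsum]
        exact Finset.sum_congr rfl (fun q _ => (hr q).symm)
      exact Complex.ofReal_injective h1
    have hsplit : ∑ q : G ⧸ N, r q = r 1 + ∑ q ∈ S, r q := by
      rw [hS, Finset.add_sum_erase _ _ (Finset.mem_univ _)]
    have hr1 : r 1 = (M : ℝ) := by
      have h1 : ((r 1 : ℝ) : ℂ) = ((M : ℝ) : ℂ) := by
        rw [← hr 1]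
        have : ((1 : G) : G ⧸ N) = 1 := rfl
        rw [← this, hF1, hnorm]
        simp
      exact Complex.ofReal_injective h1
    have hM2' : (2 : ℝ) ≤ M := by exact_mod_cast hM2
    linarith
  · -- an irreducible restriction forbids a vanishing coset
    rintro ⟨x, hx⟩ hirr
    have h0 : F (x : G ⧸ N) = 0 := (hFzero x).mpr hx
    have h1 : F 1 = 1 := by
      have : ((1 : G) : G ⧸ N) = 1 := rfl
      rw [← this, hF1]
      exact irr_classInner_self hirr
    have hpow := pow_eq_one_of_linear hFc h1 (x : G ⧸ N) (orderOf (x : G ⧸ N))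
      (pow_orderOf_eq_one _)
    rw [h0, zero_pow (orderOf_pos _).ne'] at hpow
    exact zero_ne_one hpow

end Cfsg.Agent.S4996
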