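import Mathlib
import Cfsg.Statements.S5001
import Cfsg.Agent.Lib.helper3.HtZeroLin2

set_option autoImplicit false
open Cfsg

namespace Cfsg.Agent.S5001

set_option linter.style.haveILetI false

open Cfsg Cfsg.Agent.Lib.helper3.Irr Cfsg.Agent.Lib.helper3.CharBasic Cfsg.Agent.Lib.helper3.HtZeroLin Cfsg.Agent.Lib.helper3.Lin

/-- Let p be a prime, G a finite group and B a p-block of G (relative to a maximal ideal M of the algebraic integers containing p) with defect group D. Let Z be a central p-subgroup of G contained in D and λ a linear character of Z (a homomorphism to the nonzero complex numbers). Say an irreducible character χ of G lies over λ when χ(z) = χ(1)λ(z) for all z ∈ Z. If some irreducible character in B lying over λ has height zero, then λ extends to a linear character of D. -/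
theorem result {G : Type*} [Group G] [Finite G] (p : ℕ) [Fact p.Prime] (M : Ideal Cfsg.AlgInt) (hM : Cfsg.IsPModular p M) (B : Set (Cfsg.IrrCharacter G)) (hB : Cfsg.IsPBlock M B) (D : Subgroup G) (hD : Cfsg.IsDefectGroup p M B D) (Z : Subgroup G) (hZc : Z ≤ Subgroup.center G) (hZp : IsPGroup p ↥Z) (hZD : Z ≤ D) (lam : ↥Z →* ℂˣ) (χ : Cfsg.IrrCharacter G) (hχ : χ ∈ B) (hover : (∀ z : ↥Z, (χ : G → ℂ) z = (χ : G → ℂ) 1 * (lam z : ℂ))) (h0 : Cfsg.blockHeight p B (χ : G → ℂ) = 0) : (∃ μ : ↥D →* ℂˣ, ∀ z : ↥Z, μ ⟨(z : G), hZD z.2⟩ = lam z) := by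
  classical
  letI : Fintype G := Fintype.ofFinite G
  have hχc := isCharacter_of_isIrrCharacter χ.2
  obtain ⟨g₀, hg₀, P, hDP⟩ := hD
  obtain ⟨ν, hν⟩ := exists_hom_of_height_zero hM B hB g₀ hg₀ P χ hχ h0
  -- the scalar action of elements of Z
  have hnorm : ∀ z : ↥Z, ‖((lam z : ℂˣ) : ℂ)‖ = 1 := by
    intro z
    have hpow : ((lam z : ℂˣ) : ℂ) ^ orderOf z = 1 := by
      rw [← Units.val_pow_eq_pow_val, ← map_pow, pow_orderOf_eq_one, map_one, Units.val_one]
    exact norm_eq_one_of_pow_eq_one (orderOf_pos z) hpow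
  have hscal : ∀ (z : ↥Z) (y : G),
      (χ : G → ℂ) (y * (z : G)) = ((lam z : ℂˣ) : ℂ) * (χ : G → ℂ) y := by
    intro z y
    have h1 : (χ : G → ℂ) (z : G) = ((lam z : ℂˣ) : ℂ) * (χ : G → ℂ) 1 := by
      rw [hover z, mul_comm]
    exact Cfsg.Agent.Lib.helper3.Tri.apply_mul_of_scalar hχc (z : G) ((lam z : ℂˣ) : ℂ) h1
      (hnorm z) y
  -- the isomorphism of P with D
  have hinj : Function.Injective (Subgroup.centralizer ({g₀} : Set G)).subtype :=
    Subtype.coe_injective
  let e := (P : Subgroup (Subgroup.centralizer ({g₀} : Set G))).equivMapOfInjective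
    (Subgroup.centralizer ({g₀} : Set G)).subtype hinj
  have he : ∀ x : ↥(P : Subgroup (Subgroup.centralizer ({g₀} : Set G))),
      ((e x : ↥((P : Subgroup (Subgroup.centralizer ({g₀} : Set G))).map
        (Subgroup.centralizer ({g₀} : Set G)).subtype)) : G)
        = ((x : Subgroup.centralizer ({g₀} : Set G)) : G) := by
    intro x
    rfl
  subst hDP
  refine ⟨ν.comp e.symm.toMonoidHom, ?_⟩
  intro z
  refine Units.val_inj.mp ?_
  rw [MonoidHom.comp_apply]
  obtain ⟨x, hx⟩ : ∃ x, x = e.symm ⟨(z : G), hZD z.2⟩ := ⟨_, rfl⟩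
  have hxz : ((x : Subgroup.centralizer ({g₀} : Set G)) : G) = (z : G) := by
    rw [← he x, hx, MulEquiv.apply_symm_apply]
  change ((ν (e.symm ⟨(z : G), hZD z.2⟩) : ℂˣ) : ℂ) = _
  rw [← hx]
  apply hν x
  intro y
  rw [hxz]
  exact hscal z y

end Cfsg.Agent.S5001
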