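import Cfsg.Statements.S5011
import Mathlib

set_option autoImplicit false
open Cfsg

namespace Cfsg.Agent.S5011

/-- the elements acting as scalars form a normal subgroup -/
def scalarSubgroup {G : Type*} [Group G] {V : Type*} [AddCommGroup V] [Module ℂ V]
    (ρ : Representation ℂ G V) : Subgroup G where
  carrier := {x | ∃ μ : ℂ, ∀ v : V, ρ x v = μ • v}
  one_mem' := ⟨1, fun v => by simp⟩
  mul_mem' := by
    rintro x y ⟨μ, hμ⟩ ⟨ν, hν⟩
    refine ⟨μ * ν, fun v => ?_⟩
    rw [map_mul, Module.End.mul_apply, hν, map_smul, hμ, smul_smul, mul_comm]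
  inv_mem' := by
    rintro x ⟨μ, hμ⟩
    by_cases h0 : μ = 0
    · refine ⟨0, fun v => ?_⟩
      have h1 : ρ x (ρ x⁻¹ v) = v := by
        rw [← Module.End.mul_apply, ← map_mul, mul_inv_cancel, map_one, Module.End.one_apply]
      rw [hμ, h0, zero_smul] at h1
      rw [← h1]; simp
    · refine ⟨μ⁻¹, fun v => ?_⟩
      have h1 : ρ x (ρ x⁻¹ v) = v := by
        rw [← Module.End.mul_apply, ← map_mul, mul_inv_cancel, map_one, Module.End.one_apply]
      rw [hμ] at h1
      rw [← h1, smul_smul, inv_mul_cancel₀ h0, one_smul, h1]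

instance scalarSubgroup_normal {G : Type*} [Group G] {V : Type*} [AddCommGroup V] [Module ℂ V]
    (ρ : Representation ℂ G V) : (scalarSubgroup ρ).Normal := by
  constructor
  rintro x ⟨μ, hμ⟩ y
  refine ⟨μ, fun v => ?_⟩
  rw [map_mul, map_mul, Module.End.mul_apply, Module.End.mul_apply, hμ, map_smul,
    ← Module.End.mul_apply, ← map_mul, mul_inv_cancel, map_one, Module.End.one_apply]

/-- Let G be a finite non-abelian simple group and ρ an irreducible complex representation of G on a space of dimension greater than one (irreducible in the sense that the only subspaces invariant under every ρ(x) are 0 and the whole space). Then for every non-identity element g of G, the centralizer of g does not act irreducibly: there is a non-zero proper subspace invariant under ρ(c) for every c commuting with g. -/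
theorem result {G : Type*} [Group G] [Finite G] [IsSimpleGroup G]
    (hG : ¬ IsMulCommutative G) {V : Type*} [AddCommGroup V] [Module ℂ V] [FiniteDimensional ℂ V]
    (ρ : Representation ℂ G V)
    (hirr : ∀ W : Submodule ℂ V, (∀ x : G, ∀ v ∈ W, ρ x v ∈ W) → W = ⊥ ∨ W = ⊤)
    (hdim : 1 < Module.finrank ℂ V) (g : G) (hg : g ≠ 1) :
    ∃ W : Submodule ℂ V, W ≠ ⊥ ∧ W ≠ ⊤ ∧ ∀ c ∈ Subgroup.centralizer ({g} : Set G), ∀ v ∈ W, ρ c v ∈ W := by
  have hnt : Nontrivial V := Module.nontrivial_of_finrank_pos (R := ℂ) (by omega)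
  obtain ⟨μ, hμ⟩ := Module.End.exists_eigenvalue (ρ g)
  refine ⟨Module.End.eigenspace (ρ g) μ, hμ, ?_, ?_⟩
  · intro htop
    -- then `g` acts as a scalar
    have hgS : g ∈ scalarSubgroup ρ := by
      refine ⟨μ, fun v => ?_⟩
      have : v ∈ Module.End.eigenspace (ρ g) μ := by rw [htop]; trivial
      exact Module.End.mem_eigenspace_iff.mp this
    have hS : scalarSubgroup ρ = ⊤ := by
      rcases (scalarSubgroup_normal ρ).eq_bot_or_eq_top with h | h
      · rw [h, Subgroup.mem_bot] at hgS
        exact absurd hgS hg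
      · exact h
    obtain ⟨v, hv⟩ := exists_ne (0 : V)
    have hinv : ∀ x : G, ∀ w ∈ Submodule.span ℂ ({v} : Set V), ρ x w ∈ Submodule.span ℂ ({v} : Set V) := by
      intro x w hw
      have hx : x ∈ scalarSubgroup ρ := by rw [hS]; trivial
      obtain ⟨ν, hν⟩ := hx
      rw [hν]
      exact Submodule.smul_mem _ _ hw
    rcases hirr _ hinv with h | h
    · rw [Submodule.span_singleton_eq_bot] at h
      exact hv h
    · have h1 : Module.finrank ℂ (Submodule.span ℂ ({v} : Set V)) = 1 :=
        finrank_span_singleton hv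
      rw [h, finrank_top] at h1
      omega
  · intro c hc v hv
    rw [Module.End.mem_eigenspace_iff] at hv ⊢
    have hcg : c * g = g * c := Subgroup.mem_centralizer_singleton_iff.mp hc
    calc ρ g (ρ c v) = ρ (g * c) v := by rw [map_mul, Module.End.mul_apply]
      _ = ρ (c * g) v := by rw [hcg]
      _ = ρ c (ρ g v) := by rw [map_mul, Module.End.mul_apply]
      _ = μ • ρ c v := by rw [hv, map_smul]

end Cfsg.Agent.S5011
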