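import Mathlib
import Cfsg.Statements.S5014
import Cfsg.Agent.H2.RankOne

set_option autoImplicit false

namespace Cfsg.Agent.S5014

open Cfsg Cfsg.Agent.H2.RankOne

/-- Let X = ⟨A, B⟩ be a rank one group with unipotent subgroups A and B and let Ω be the set of conjugates of A under X. Then Ω has at least three members, X acts doubly transitively on Ω by conjugation (any two ordered pairs of distinct members are carried to one another by a single element of X), and A acts regularly on Ω with A removed: for C, D in Ω different from A there is exactly one element of A conjugating C to D. -/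
theorem result {G : Type*} [Group G] {A B : Subgroup G} (h : Cfsg.IsRankOnePair A B) :
    (∃ C₁ ∈ Cfsg.unipotentSubgroups A B, ∃ C₂ ∈ Cfsg.unipotentSubgroups A B, ∃ C₃ ∈ Cfsg.unipotentSubgroups A B,
      C₁ ≠ C₂ ∧ C₁ ≠ C₃ ∧ C₂ ≠ C₃) ∧
    (∀ C₁ ∈ Cfsg.unipotentSubgroups A B, ∀ C₂ ∈ Cfsg.unipotentSubgroups A B, ∀ D₁ ∈ Cfsg.unipotentSubgroups A B,
      ∀ D₂ ∈ Cfsg.unipotentSubgroups A B, C₁ ≠ C₂ → D₁ ≠ D₂ →
        ∃ x ∈ A ⊔ B, Cfsg.conjBy C₁ x = D₁ ∧ Cfsg.conjBy C₂ x = D₂) ∧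
    (∀ C ∈ Cfsg.unipotentSubgroups A B, ∀ D ∈ Cfsg.unipotentSubgroups A B, C ≠ A → D ≠ A →
      ∃! a : G, a ∈ A ∧ Cfsg.conjBy C a = D) := by
  refine ⟨?_, ?_, fun C hC D hD hCA hDA => existsUnique_conjBy_eq h hC hD hCA hDA⟩
  · obtain ⟨a, ha, hne⟩ := exists_nonidentity_left h
    have hB := right_mem_unipotentSubgroups h
    refine ⟨A, left_mem_unipotentSubgroups, B, hB, conjBy B a,
      conjBy_mem_unipotentSubgroups hB (Subgroup.mem_sup_left ha), h.ne,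
      (conjBy_right_ne_left h ha).symm, ?_⟩
    intro he
    have h2 : a ∈ A ⊓ Subgroup.normalizer (B : Set G) := ⟨ha, conjBy_eq_self_iff.1 he.symm⟩
    rw [inf_normalizer_eq_bot h, Subgroup.mem_bot] at h2
    exact hne h2
  · intro C₁ hC₁ C₂ hC₂ D₁ hD₁ D₂ hD₂ hC hD
    obtain ⟨x₁, hx₁, rfl⟩ := hC₁
    obtain ⟨y₁, hy₁, rfl⟩ := hD₁
    have hx₁' : x₁⁻¹ ∈ A ⊔ B := Subgroup.inv_mem _ hx₁
    have hy₁' : y₁⁻¹ ∈ A ⊔ B := Subgroup.inv_mem _ hy₁
    have hC₂' : conjBy C₂ x₁⁻¹ ≠ A := by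
      intro he
      apply hC
      rw [conjBy_eq_iff, inv_inv] at he
      exact he.symm
    have hD₂' : conjBy D₂ y₁⁻¹ ≠ A := by
      intro he
      apply hD
      rw [conjBy_eq_iff, inv_inv] at he
      exact he.symm
    obtain ⟨a, ⟨ha, hae⟩, _⟩ := existsUnique_conjBy_eq h
      (conjBy_mem_unipotentSubgroups hC₂ hx₁') (conjBy_mem_unipotentSubgroups hD₂ hy₁') hC₂' hD₂'
    refine ⟨y₁ * a * x₁⁻¹, Subgroup.mul_mem _ (Subgroup.mul_mem _ hy₁ (Subgroup.mem_sup_left ha)) hx₁',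
      ?_, ?_⟩
    · rw [conjBy_mul]
      have : y₁ * a * x₁⁻¹ * x₁ = y₁ * a := by group
      rw [this, ← conjBy_mul, conjBy_eq_self_of_mem ha]
    · have e : y₁ * a * x₁⁻¹ = y₁ * (a * x₁⁻¹) := by group
      rw [e, ← conjBy_mul, ← conjBy_mul, hae, conjBy_mul]
      simp [conjBy_one]

end Cfsg.Agent.S5014
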