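import Mathlib
import Cfsg.Statements.S5015
import Cfsg.Agent.H2.RankOne

set_option autoImplicit false

namespace Cfsg.Agent.S5015

open Cfsg Cfsg.Agent.H2.RankOne

section

variable {Y Ω : Type*} [Group Y] [MulAction Y Ω] (α : Ω) (A : Subgroup Y)

/-- the conjugate `g A g⁻¹` depends only on the point `g • α` -/
theorem conjBy_eq_of_smul_eq (hAn : ∀ y ∈ MulAction.stabilizer Y α, conjBy A y = A)
    {g g' : Y} (h : g • α = g' • α) : conjBy A g = conjBy A g' := by
  have h1 : g⁻¹ * g' ∈ MulAction.stabilizer Y α := by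
    rw [MulAction.mem_stabilizer_iff, mul_smul, ← h, inv_smul_smul]
  have h2 := hAn _ h1
  have e : g' = g * (g⁻¹ * g') := by group
  rw [e, ← conjBy_mul, h2]

end

/-- Let a group Y act doubly transitively on a set Ω with at least three points, and suppose that the stabilizer of a point α contains a nilpotent subgroup A, normalized by that stabilizer, which acts regularly on the points other than α. Then for any y in Y moving α, the subgroups A and y A y⁻¹ are the unipotent subgroups of a rank one group, and the normal closure of A in Y (the subgroup generated by all conjugates of A) is generated by A and y A y⁻¹ alone. -/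
theorem result {Y Ω : Type*} [Group Y] [MulAction Y Ω]
    (h2 : MulAction.IsMultiplyPretransitive Y Ω 2) (hΩ : 3 ≤ ENat.card Ω) (α : Ω) (A : Subgroup Y)
    (hA : A ≤ MulAction.stabilizer Y α) (hAn : ∀ y ∈ MulAction.stabilizer Y α, Cfsg.conjBy A y = A)
    (hnil : Group.IsNilpotent A) (hreg : ∀ β γ : Ω, β ≠ α → γ ≠ α → ∃! a : Y, a ∈ A ∧ a • β = γ)
    (y : Y) (hy : y ∉ MulAction.stabilizer Y α) :
    Cfsg.IsRankOnePair A (Cfsg.conjBy A y) ∧ Subgroup.normalClosure (A : Set Y) = A ⊔ Cfsg.conjBy A y := by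
  have hβ : y • α ≠ α := fun h => hy (MulAction.mem_stabilizer_iff.2 h)
  have hy' : y⁻¹ • α ≠ α := by
    intro h
    apply hβ
    rw [← h, smul_inv_smul]
    exact h.symm ▸ rfl
  -- elements of A fix α
  have hAα : ∀ a ∈ A, a • α = α := fun a ha => MulAction.mem_stabilizer_iff.1 (hA ha)
  -- a nonidentity element of A moves every other point
  have hAmove : ∀ a ∈ A, ∀ δ : Ω, δ ≠ α → a • δ = δ → a = 1 := by
    intro a ha δ hδ hfix
    obtain ⟨a₀, _, huniq⟩ := hreg δ δ hδ hδ
    rw [huniq a ⟨ha, hfix⟩, huniq 1 ⟨A.one_mem, one_smul _ _⟩]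
  -- elements of B fix β, and nonidentity elements of B move α
  have hBβ : ∀ b ∈ conjBy A y, b • (y • α) = y • α := by
    rintro _ ⟨a, ha, rfl⟩
    show (y * a * y⁻¹) • (y • α) = y • α
    rw [mul_smul, mul_smul, inv_smul_smul, hAα a ha]
  have hBmove : ∀ b ∈ conjBy A y, b • α = α → b = 1 := by
    rintro _ ⟨a, ha, rfl⟩ hfix
    have hfix' : (y * a * y⁻¹) • α = α := hfix
    have h1 : a • (y⁻¹ • α) = y⁻¹ • α := by
      rw [mul_smul, mul_smul] at hfix'
      have := congrArg (fun z => y⁻¹ • z) hfix'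
      simpa using this
    have := hAmove a ha _ hy' h1
    rw [this]
    show y * 1 * y⁻¹ = 1
    group
  -- B is transitive off β
  have hBtrans : ∀ δ ε : Ω, δ ≠ y • α → ε ≠ y • α → ∃ b ∈ conjBy A y, b • δ = ε := by
    intro δ ε hδ hε
    have hδ' : y⁻¹ • δ ≠ α := by
      intro h; apply hδ; rw [← h, smul_inv_smul]
    have hε' : y⁻¹ • ε ≠ α := by
      intro h; apply hε; rw [← h, smul_inv_smul]
    obtain ⟨a, ⟨ha, hae⟩, _⟩ := hreg _ _ hδ' hε'
    refine ⟨y * a * y⁻¹, ⟨a, ha, rfl⟩, ?_⟩
    rw [mul_smul, mul_smul, hae, smul_inv_smul]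
  -- a third point
  obtain ⟨γ, hγα, hγβ⟩ : ∃ γ : Ω, γ ≠ α ∧ γ ≠ y • α := by
    by_contra hcon
    push Not at hcon
    have hsub : (Set.univ : Set Ω) ⊆ {α, y • α} := by
      intro δ _
      by_cases hδ : δ = α
      · left; exact hδ
      · right; exact hcon δ hδ
    have h1 : ENat.card Ω ≤ 2 := by
      rw [← Set.encard_univ]
      exact (Set.encard_le_encard hsub).trans (le_of_eq (Set.encard_pair hβ.symm))
    have h3 := hΩ.trans h1
    exact absurd h3 (by norm_num)
  refine ⟨⟨?_, hnil, ?_, ?_, ?_⟩, ?_⟩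
  · -- A ≠ B
    intro he
    obtain ⟨b, hb, hbγ⟩ := hBtrans α γ hβ.symm hγβ
    rw [← he] at hb
    exact hγα (hbγ ▸ hAα b hb)
  · -- B nilpotent
    exact Group.nilpotent_of_mulEquiv (A.equivMapOfInjective (MulAut.conj y).toMonoidHom
      (MulAut.conj y).injective)
  · -- condition for (A, B)
    intro a ha ha1
    have ha1' : a⁻¹ ≠ 1 := by simpa using ha1
    have hne1 : a⁻¹ • (y • α) ≠ y • α := fun h => ha1' (hAmove _ (A.inv_mem ha) _ hβ h)
    have hne2 : a⁻¹ • (y • α) ≠ α := by
      intro h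
      apply hβ
      have := hAα _ (A.inv_mem ha)
      exact smul_left_cancel a⁻¹ (h.trans this.symm)
    obtain ⟨b', hb', hb'e⟩ := hBtrans α _ hβ.symm hne1
    refine ⟨b'⁻¹, Subgroup.inv_mem _ hb', ?_, ?_⟩
    · intro h1
      rw [inv_eq_one] at h1
      rw [h1, one_smul] at hb'e
      exact hne2 hb'e.symm
    · rw [inv_inv, conjBy_mul]
      apply conjBy_eq_of_smul_eq α A hAn
      rw [hb'e, mul_smul]
  · -- condition for (B, A)
    intro b hb hb1
    have hb1' : b⁻¹ ≠ 1 := by simpa using hb1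
    have hbinv : b⁻¹ ∈ conjBy A y := Subgroup.inv_mem _ hb
    have hne1 : b⁻¹ • α ≠ α := fun h => hb1' (hBmove _ hbinv h)
    have hne2 : b⁻¹ • α ≠ y • α := by
      intro h
      apply hβ
      have := hBβ _ hbinv
      exact (smul_left_cancel b⁻¹ (h.trans this.symm)).symm
    obtain ⟨a', ⟨ha', ha'e⟩, _⟩ := hreg _ _ hβ hne1
    refine ⟨a'⁻¹, A.inv_mem ha', ?_, ?_⟩
    · intro h1
      rw [inv_eq_one] at h1
      rw [h1, one_smul] at ha'e
      exact hne2 ha'e.symm
    · rw [inv_inv, conjBy_mul]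
      apply conjBy_eq_of_smul_eq α A hAn
      rw [mul_smul, ha'e]
  · -- normal closure
    apply le_antisymm
    · unfold Subgroup.normalClosure
      rw [Subgroup.closure_le]
      intro x hx
      rw [Group.mem_conjugatesOfSet_iff] at hx
      obtain ⟨a, ha, hax⟩ := hx
      rw [isConj_iff] at hax
      obtain ⟨g, rfl⟩ := hax
      have hmem : g * a * g⁻¹ ∈ conjBy A g := ⟨a, ha, rfl⟩
      by_cases hg : g • α = α
      · have := hAn g (MulAction.mem_stabilizer_iff.2 hg)
        rw [this] at hmem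
        exact Subgroup.mem_sup_left hmem
      · obtain ⟨a', ⟨ha', ha'e⟩, _⟩ := hreg _ _ hβ hg
        have h1 : conjBy A g = conjBy (conjBy A y) a' := by
          rw [conjBy_mul]
          apply conjBy_eq_of_smul_eq α A hAn
          rw [mul_smul, ha'e]
        rw [h1] at hmem
        obtain ⟨c, hc, hce⟩ := hmem
        rw [← hce]
        show a' * c * a'⁻¹ ∈ A ⊔ conjBy A y
        exact Subgroup.mul_mem _ (Subgroup.mul_mem _ (Subgroup.mem_sup_left ha')
          (Subgroup.mem_sup_right hc)) (Subgroup.inv_mem _ (Subgroup.mem_sup_left ha'))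
    · apply sup_le Subgroup.le_normalClosure
      rintro _ ⟨a, ha, rfl⟩
      exact Subgroup.normalClosure_normal.conj_mem a (Subgroup.le_normalClosure ha) y

end Cfsg.Agent.S5015
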