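import Mathlib
import Cfsg.Statements.S5021
import Cfsg.Agent.H2.SpecialRankOne

set_option autoImplicit false
open Cfsg
open Cfsg.Agent.H2

namespace Cfsg.Agent.S5021

/-- In a special rank one group with abelian unipotent subgroups A and B, either A is an elementary abelian p-group for some prime p, or A is torsion-free and divisible (every element of A has an n-th root in A for every positive n). -/
theorem result {X : Type*} [Group X] {A B : Subgroup X} (h : Cfsg.IsRankOneGroup X A B)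
    (hs : Cfsg.IsSpecialRankOnePair A B) (hab : Cfsg.HasAbelianUnipotents A B) :
    (∃ p : ℕ, p.Prime ∧ Cfsg.IsElementaryAbelian p A) ∨
    ((∀ a ∈ A, a ≠ 1 → ¬ IsOfFinOrder a) ∧ ∀ a ∈ A, ∀ n : ℕ, 0 < n → ∃ c ∈ A, c ^ n = a) := by
  obtain ⟨hA, hB⟩ := hab
  have commA : ∀ x ∈ A, ∀ y ∈ A, x * y = y * x := fun x hx y hy =>
    Subtype.ext_iff.1 (hA.is_comm.comm ⟨x, hx⟩ ⟨y, hy⟩)
  have commB : ∀ x ∈ B, ∀ y ∈ B, x * y = y * x := fun x hx y hy =>
    Subtype.ext_iff.1 (hB.is_comm.comm ⟨x, hx⟩ ⟨y, hy⟩)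
  have hH : SRO.Hyp A B :=
    ⟨hs.1, commA, commB, fun a ha ha1 b hb hb1 hrel => hs.2 a ha ha1 b hb hb1 hrel⟩
  by_cases hT : ∀ a ∈ A, a ≠ 1 → ¬ IsOfFinOrder a
  · right
    refine ⟨hT, ?_⟩
    intro a ha n hn
    by_cases h1 : a = 1
    · exact ⟨1, A.one_mem, by rw [h1, one_pow]⟩
    obtain ⟨b, hab⟩ := SRO.exists_right hH ha h1
    have hbn : b ^ n ≠ 1 := by
      intro e
      have := SRO.torsion_left hH hab e
      exact hT a ha h1 (isOfFinOrder_iff_pow_eq_one.2 ⟨n, hn, this⟩)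
    obtain ⟨c, hc⟩ := SRO.exists_left hH (B.pow_mem hab.2.2.1 n) hbn
    exact ⟨c, hc.1, SRO.main n hH a b c hab hc⟩
  · left
    push Not at hT
    obtain ⟨a0, ha0, ha0ne, hfin⟩ := hT
    have hn0 : orderOf a0 ≠ 0 := by
      rw [Ne, orderOf_eq_zero_iff]; exact fun h => h hfin
    have hn1 : orderOf a0 ≠ 1 := by
      rw [Ne, orderOf_eq_one_iff]; exact ha0ne
    set p := (orderOf a0).minFac with hp
    have hpp : p.Prime := Nat.minFac_prime hn1
    have hpd : p ∣ orderOf a0 := Nat.minFac_dvd _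
    set a1 := a0 ^ (orderOf a0 / p) with ha1def
    have ho1 : orderOf a1 = p := orderOf_pow_orderOf_div hn0 hpd
    have ha1 : a1 ∈ A := A.pow_mem ha0 _
    have ha1ne : a1 ≠ 1 := by
      intro h
      rw [h, orderOf_one] at ho1
      exact hpp.one_lt.ne ho1
    have ha1p : a1 ^ p = 1 := by rw [← ho1]; exact pow_orderOf_eq_one a1
    refine ⟨p, hpp, hA, ?_⟩
    intro x hx
    by_contra hxp
    have hx1 : x ≠ 1 := by
      intro h; apply hxp; rw [h, one_pow]
    have hy : x * a1 ∈ A := A.mul_mem hx ha1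
    have hyp : (x * a1) ^ p = x ^ p := by
      have hc : Commute x a1 := commA x hx a1 ha1
      rw [hc.mul_pow, ha1p, mul_one]
    have hy1 : x * a1 ≠ 1 := by
      intro h; apply hxp; rw [← hyp, h, one_pow]
    obtain ⟨bx, hbx⟩ := SRO.exists_right hH hx hx1
    obtain ⟨by', hby⟩ := SRO.exists_right hH hy hy1
    obtain ⟨β, hβ⟩ := SRO.exists_right hH (A.pow_mem hx p) hxp
    have e1 : β ^ p = bx := SRO.main p hH.swap bx x β hbx.swap hβ.swap
    have hβ' : SRO.Rel A B ((x * a1) ^ p) β := by rw [hyp]; exact hβ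
    have e2 : β ^ p = by' := SRO.main p hH.swap by' (x * a1) β hby.swap hβ'.swap
    rw [← e2, e1] at hby
    have := SRO.rel_unique_left hH hbx hby
    apply ha1ne
    have h3 : x * a1 = x * 1 := by rw [mul_one]; exact this.symm
    exact mul_left_cancel h3

end Cfsg.Agent.S5021
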