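import Cfsg.Statements.S5020
import Cfsg.Agent.Lib.Helper5.SRO.Small
import Cfsg.Agent.Lib.Helper5.SRO.Big
import Cfsg.Agent.S5021

set_option autoImplicit false
open Cfsg

namespace Cfsg.Agent.S5020

/-- Let X be a special rank one group with abelian unipotent subgroups A and B, and H = N(A) ∩ N(B) its diagonal subgroup. Then either A has at most three elements and X is isomorphic to SL₂(2), SL₂(3) or PSL₂(3); or X = X' A with the commutator subgroup X' quasisimple and the commutator subgroup ⁅A, H⁆ having more than three elements. -/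
theorem result {X : Type*} [Group X] {A B : Subgroup X} (h : Cfsg.IsRankOneGroup X A B)
    (hs : Cfsg.IsSpecialRankOnePair A B) (hab : Cfsg.HasAbelianUnipotents A B) :
    (ENat.card A ≤ 3 ∧ (Nonempty (X ≃* Matrix.SpecialLinearGroup (Fin 2) (ZMod 2)) ∨
        Nonempty (X ≃* Matrix.SpecialLinearGroup (Fin 2) (ZMod 3)) ∨
        Nonempty (X ≃* Matrix.ProjectiveSpecialLinearGroup (Fin 2) (ZMod 3)))) ∨
    (commutator X ⊔ A = ⊤ ∧ Cfsg.IsQuasisimple (commutator X) ∧
      3 < ENat.card ↥(⁅A, Cfsg.rankOneDiagonal A B⁆ : Subgroup X)) := by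
  obtain ⟨hA', hB'⟩ := hab
  have commA : ∀ x ∈ A, ∀ y ∈ A, x * y = y * x := fun x hx y hy =>
    Subtype.ext_iff.1 (hA'.is_comm.comm ⟨x, hx⟩ ⟨y, hy⟩)
  have commB : ∀ x ∈ B, ∀ y ∈ B, x * y = y * x := fun x hx y hy =>
    Subtype.ext_iff.1 (hB'.is_comm.comm ⟨x, hx⟩ ⟨y, hy⟩)
  have hH : Cfsg.Agent.H2.SRO.Hyp A B :=
    ⟨hs.1, commA, commB, fun a ha ha1 b hb hb1 hrel => hs.2 a ha ha1 b hb hb1 hrel⟩
  by_cases hcard : ENat.card ↥A ≤ 3
  · left
    exact ⟨hcard, Cfsg.Agent.Lib.Helper5.SRO.small_case hH h hcard⟩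
  · right
    rw [not_le] at hcard
    rcases Cfsg.Agent.S5021.result h hs ⟨hA', hB'⟩ with ⟨p, hp, hel⟩ | ⟨htf, hdiv⟩
    · by_cases hp23 : p = 2 ∨ p = 3
      · have he : Cfsg.Agent.Lib.Helper5.SRO.Exp23 A := by
          rcases hp23 with rfl | rfl
          · left
            intro x hx
            have h2 := hel.2 x hx
            rwa [pow_two] at h2
          · right
            intro x hx
            have h3 := hel.2 x hx
            rwa [pow_succ, pow_two] at h3
        exact Cfsg.Agent.Lib.Helper5.SRO.quasi_small_char hH h he hcard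
      · rw [not_or] at hp23
        have hsq : ∀ a ∈ A, a ≠ 1 → a * a ≠ 1 := by
          intro a ha ha1 e
          apply ha1
          have h2 : a ^ 2 = 1 := by rw [pow_two]; exact e
          have hg := pow_gcd_eq_one.2 ⟨h2, hel.2 a ha⟩
          have hcop : Nat.gcd 2 p = 1 :=
            (Nat.coprime_primes Nat.prime_two hp).2 (Ne.symm hp23.1)
          rwa [hcop, pow_one] at hg
        have hcube : ∀ a ∈ A, ∃ c ∈ A, c * c * c = a := by
          intro a ha
          have hcop : Nat.Coprime 3 p :=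
            (Nat.coprime_primes Nat.prime_three hp).2 (Ne.symm hp23.2)
          obtain ⟨m, -, hm⟩ := Nat.exists_mul_mod_eq_one_of_coprime hcop hp.one_lt
          refine ⟨a ^ m, A.pow_mem ha m, ?_⟩
          have e1 : a ^ m * a ^ m * a ^ m = a ^ (3 * m) := by
            rw [← pow_add, ← pow_add]
            congr 1
            ring
          rw [e1, pow_eq_pow_mod (3 * m) (hel.2 a ha), hm, pow_one]
        exact Cfsg.Agent.Lib.Helper5.SRO.quasi_big_char hH h hsq hcube hcard
    · have hsq : ∀ a ∈ A, a ≠ 1 → a * a ≠ 1 := by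
        intro a ha ha1 e
        apply htf a ha ha1
        rw [isOfFinOrder_iff_pow_eq_one]
        exact ⟨2, by norm_num, by rw [pow_two]; exact e⟩
      have hcube : ∀ a ∈ A, ∃ c ∈ A, c * c * c = a := by
        intro a ha
        obtain ⟨c, hc, hca⟩ := hdiv a ha 3 (by norm_num)
        refine ⟨c, hc, ?_⟩
        rw [← hca, pow_succ, pow_two]
      exact Cfsg.Agent.Lib.Helper5.SRO.quasi_big_char hH h hsq hcube hcard

end Cfsg.Agent.S5020
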