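import Mathlib
import Cfsg.Statements.S5023
import Cfsg.Agent.H2.RankOneQuad

set_option autoImplicit false
open Cfsg
open Cfsg.Agent.H2

namespace Cfsg.Agent.S5023

/-- Let X be a rank one group with unipotent subgroups A and B that acts faithfully on an abelian group V (written additively) with A acting quadratically: a' • (a • v − v) = a • v − v for all a, a' in A and v in V. Then A is either torsion-free or an elementary abelian p-group for some prime p. -/
theorem result {X : Type*} [Group X] {A B : Subgroup X} (h : Cfsg.IsRankOneGroup X A B)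
    {V : Type*} [AddCommGroup V] [DistribMulAction X V] (hf : ∀ x : X, (∀ v : V, x • v = v) → x = 1)
    (hq : ∀ a ∈ A, ∀ a' ∈ A, ∀ v : V, a' • (a • v - v) = a • v - v) :
    (∀ a ∈ A, a ≠ 1 → ¬ IsOfFinOrder a) ∨ ∃ p : ℕ, p.Prime ∧ Cfsg.IsElementaryAbelian p A := by
  obtain ⟨hAB, hpair⟩ := h
  have hA : ROQ.Quad A V := hq
  by_cases hT : ∀ a ∈ A, a ≠ 1 → ¬ IsOfFinOrder a
  · exact Or.inl hT
  right
  push Not at hT
  obtain ⟨a0, ha0, ha0ne, hfin⟩ := hT
  -- an element of prime order
  have hn0 : orderOf a0 ≠ 0 := by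
    rw [Ne, orderOf_eq_zero_iff]; exact fun h => h hfin
  have hn1 : orderOf a0 ≠ 1 := by
    rw [Ne, orderOf_eq_one_iff]; exact ha0ne
  set p := (orderOf a0).minFac with hp
  have hpp : p.Prime := Nat.minFac_prime hn1
  have hpd : p ∣ orderOf a0 := Nat.minFac_dvd _
  set a1 := a0 ^ (orderOf a0 / p) with ha1def
  have ho1 : orderOf a1 = p := orderOf_pow_orderOf_div hn0 hpd
  have ha1 : a1 ∈ A := A.pow_mem ha0 _
  have ha1ne : a1 ≠ 1 := by
    intro h
    rw [h, orderOf_one] at ho1
    exact hpp.one_lt.ne ho1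
  have ha1p : a1 ^ p = 1 := by rw [← ho1]; exact pow_orderOf_eq_one a1
  refine ⟨p, hpp, ?_, ?_⟩
  · -- commutative
    refine ⟨⟨fun x y => ?_⟩⟩
    apply Subtype.ext
    show (x : X) * (y : X) = (y : X) * (x : X)
    have key : ∀ v : V, (((x : X) * (y : X)) * ((y : X) * (x : X))⁻¹) • v = v := by
      intro v
      have e : ∀ u : V, ((x : X) * (y : X)) • u = ((y : X) * (x : X)) • u := by
        intro u
        have h1 := hA (y : X) y.2 (x : X) x.2 u
        have h2 := hA (x : X) x.2 (y : X) y.2 u
        rw [smul_sub] at h1 h2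
        rw [mul_smul, mul_smul]
        have h1' : (x : X) • (y : X) • u = (y : X) • u - u + (x : X) • u := by
          rw [sub_eq_iff_eq_add] at h1; exact h1
        have h2' : (y : X) • (x : X) • u = (x : X) • u - u + (y : X) • u := by
          rw [sub_eq_iff_eq_add] at h2; exact h2
        rw [h1', h2']; abel
      rw [mul_smul, e, smul_inv_smul]
    have := hf _ key
    rwa [mul_inv_eq_one] at this
  · -- exponent p
    intro a ha
    by_contra hne
    obtain ⟨b1, hb1, hb1ne, rel1⟩ := hpair.cond_left a1 ha1 ha1ne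
    obtain ⟨hBA, hAB'⟩ := ROQ.rel_conj rel1
    have hB : ROQ.Quad B V := ROQ.quad_of_conj (a1 * b1⁻¹) hBA hA
    -- (i) p • (fixed by B) is fixed by all
    have s1 : ∀ v : V, (∀ β ∈ B, β • v = v) → ∀ x : X, x • (p • v) = p • v := by
      intro v hv
      obtain ⟨kA, kB⟩ := ROQ.key hA hB ha1 hb1 rel1 hv
      have hz := ROQ.fix_top hAB kA kB
      have hw : p • (a1⁻¹ • v - v) = 0 := by
        have h1 := ROQ.pow_act hA (A.inv_mem ha1) p v
        rw [inv_pow, ha1p, inv_one, one_smul] at h1
        have : v + p • (a1⁻¹ • v - v) = v + 0 := by rw [add_zero]; exact h1.symm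
        exact add_left_cancel this
      have e : p • (v + (b1 • (a1⁻¹ • v - v) - (a1⁻¹ • v - v))) = p • v := by
        rw [smul_add, smul_sub, ← smul_comm b1 p, hw, smul_zero, sub_zero, add_zero]
      intro x
      rw [← e, smul_comm x p, hz x]
    -- (ii) p • (fixed by A) is fixed by all
    have s2 : ∀ u : V, (∀ α ∈ A, α • u = u) → ∀ x : X, x • (p • u) = p • u := by
      intro u hu
      have h1 : ∀ β ∈ B, β • ((a1 * b1⁻¹) • u) = (a1 * b1⁻¹) • u := by
        intro β hβ
        obtain ⟨α, hα, rfl⟩ := hBA β hβ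
        rw [← mul_smul, inv_mul_cancel_right, mul_smul, hu α hα]
      have h2 := s1 _ h1
      intro x
      have h3 := h2 ((a1 * b1⁻¹) * x * (a1 * b1⁻¹)⁻¹)
      have h4 : ((a1 * b1⁻¹) * x * (a1 * b1⁻¹)⁻¹) • (p • ((a1 * b1⁻¹) • u)) =
          (a1 * b1⁻¹) • (x • (p • u)) := by
        rw [smul_comm p (a1 * b1⁻¹) u, ← mul_smul, inv_mul_cancel_right, mul_smul]
      rw [h4, smul_comm p (a1 * b1⁻¹) u] at h3
      exact smul_left_cancel _ h3
    -- (iii)
    have s3 : ∀ α ∈ A, ∀ (u : V) (x : X), x • (α ^ p • u - u) = α ^ p • u - u := by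
      intro α hα u x
      have h1 := ROQ.pow_act hA hα p u
      have : α ^ p • u - u = p • (α • u - u) := by rw [h1]; abel
      rw [this]
      exact s2 _ (fun α' hα' => hA α hα α' hα' u) x
    -- (iv)
    have hap : a ^ p ∈ A := A.pow_mem ha p
    obtain ⟨b', hb', hb'ne, rel'⟩ := hpair.cond_left (a ^ p) hap hne
    have hfix : ∀ v : V, (∀ β ∈ B, β • v = v) → ∀ x : X, x • v = v := by
      intro v hv
      obtain ⟨kA, kB⟩ := ROQ.key hA hB hap hb' rel' hv
      have e1 : b' • ((a ^ p)⁻¹ • v - v) - ((a ^ p)⁻¹ • v - v) = 0 := by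
        rw [← inv_pow, s3 a⁻¹ (A.inv_mem ha) v b', sub_self]
      rw [e1, add_zero] at kA kB
      exact ROQ.fix_top hAB kA kB
    have hall := ROQ.quad_all hAB hA hB (a1 * b1⁻¹) hBA hfix
    -- everything commutes
    have hcomm : ∀ x y : X, x * y = y * x := by
      intro x y
      have key : ∀ v : V, ((x * y) * (y * x)⁻¹) • v = v := by
        intro v
        have e : ∀ u : V, (x * y) • u = (y * x) • u := by
          intro u
          have h1 := hall y x u
          have h2 := hall x y u
          rw [smul_sub] at h1 h2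
          rw [mul_smul, mul_smul]
          have h1' : x • y • u = y • u - u + x • u := by
            rw [sub_eq_iff_eq_add] at h1; exact h1
          have h2' : y • x • u = x • u - u + y • u := by
            rw [sub_eq_iff_eq_add] at h2; exact h2
          rw [h1', h2']; abel
        rw [mul_smul, e, smul_inv_smul]
      have := hf _ key
      rwa [mul_inv_eq_one] at this
    have hconj : ∀ (C : Subgroup X) (g : X), conjBy C g = C := by
      intro C g
      ext x
      rw [ROQ.mem_conjBy]
      constructor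
      · rintro ⟨c, hc, rfl⟩
        rwa [hcomm g c, mul_inv_cancel_right]
      · intro hx
        exact ⟨x, hx, by rw [hcomm g x, mul_inv_cancel_right]⟩
    rw [hconj, hconj] at rel'
    exact hpair.ne rel'

end Cfsg.Agent.S5023
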