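import Mathlib
import Cfsg.Statements.S5024
import Cfsg.Agent.H2.RootSub

namespace Cfsg.Agent.S5024

open Cfsg Cfsg.Agent.H2.RankOne Cfsg.Agent.H2.RootSub

/-- Let S be a set of abstract root subgroups of G, A and C members of S, B a rank one partner of A in S and D a rank one partner of C in S. If the rank one group ⟨A, B⟩ is contained in ⟨C, D⟩ then the two coincide, and C and D are conjugates of A inside ⟨A, B⟩. -/
theorem result {G : Type*} [Group G] {S : Set (Subgroup G)} (hS : Cfsg.IsRootSubgroupSet S)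
    {A B C D : Subgroup G} (hA : A ∈ S) (hC : C ∈ S) (hB : B ∈ Cfsg.rankOnePartners S A) (hD : D ∈ Cfsg.rankOnePartners S C)
    (hle : A ⊔ B ≤ C ⊔ D) : A ⊔ B = C ⊔ D ∧ C ∈ Cfsg.unipotentSubgroups A B ∧ D ∈ Cfsg.unipotentSubgroups A B := by
  obtain ⟨hBS, hAB⟩ := hB
  obtain ⟨hDS, hCD⟩ := hD
  have hAΩ := mem_unipotentSubgroups_of_le hS hA hAB hC hDS hCD hle
  have hBΩ := mem_unipotentSubgroups_of_le hS hBS (RankOnePair_symm hAB) hC hDS hCD
    (by rw [sup_comm]; exact hle)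
  obtain ⟨g, hg, hAg, hBg, heq⟩ := sup_eq_of_mem_unipotentSubgroups hCD hAΩ hBΩ hAB.ne
  have hg' : g⁻¹ ∈ A ⊔ B := by rw [heq]; exact Subgroup.inv_mem _ hg
  have hCA : C = conjBy A g⁻¹ := by
    rw [hAg, conjBy_mul]; simp [conjBy_one]
  have hCmem : C ∈ unipotentSubgroups A B := ⟨g⁻¹, hg', hCA⟩
  refine ⟨heq, hCmem, ?_⟩
  obtain ⟨w, hw, hDw⟩ := right_mem_unipotentSubgroups hCD
  rw [hDw]
  exact conjBy_mem_unipotentSubgroups hCmem (by rw [heq]; exact hw)

end Cfsg.Agent.S5024
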