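import Mathlib
import Cfsg.Statements.S5026
import Cfsg.Agent.H2.RootSub

namespace Cfsg.Agent.S5026

open Cfsg Cfsg.Agent.H2.RankOne Cfsg.Agent.H2.RootSub
open scoped commutatorElement

theorem le_centralizer_zpowers_iff {G : Type*} [Group G] (E : Subgroup G) (x : G) :
    E ≤ Subgroup.centralizer (Subgroup.zpowers x : Set G) ↔ x ∈ Subgroup.centralizer (E : Set G) := by
  rw [Subgroup.le_centralizer_iff, Subgroup.zpowers_le]

theorem key {G : Type*} [Group G] {S : Set (Subgroup G)} (hS : Cfsg.IsRootSubgroupSet S)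
    (hdeg : Cfsg.IsDegenerateRootSet S)
    {a b : G} (ha : a ∈ Cfsg.rootElements S) (hb : b ∈ Cfsg.rootElements S) (hab : a * b = b * a)
    (hab1 : a * b ≠ 1) {E : Subgroup G} (hE : E ∈ S)
    (hx : a * b ∈ Subgroup.centralizer (E : Set G)) : a ∈ Subgroup.centralizer (E : Set G) := by
  obtain ⟨ha1, A, hA, haA⟩ := ha
  rcases hS.pair A hA E hE with h | h | h
  · rw [Subgroup.mem_centralizer_iff]
    intro e he
    have h1 : ⁅a, e⁆ ∈ ⁅A, E⁆ := Subgroup.commutator_mem_commutator haA he
    rw [h, Subgroup.mem_bot, commutatorElement_eq_one_iff_mul_comm] at h1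
    exact h1.symm
  · exfalso
    have ha1' : a⁻¹ ≠ 1 := by simpa using ha1
    obtain ⟨e, he, _, hae⟩ := h.cond_left a⁻¹ (A.inv_mem haA) ha1'
    rw [inv_inv] at hae
    -- `a b` centralizes `⟨A, E⟩`
    have hxa : a ∈ Subgroup.centralizer {a * b} := by
      rw [Subgroup.mem_centralizer_iff]
      intro w hw
      rw [Set.mem_singleton_iff] at hw
      subst hw
      rw [mul_assoc, ← hab]
    have hxE : E ≤ Subgroup.centralizer {a * b} := by
      intro e' he'
      rw [Subgroup.mem_centralizer_iff]
      intro w hw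
      rw [Set.mem_singleton_iff] at hw
      subst hw
      rw [Subgroup.mem_centralizer_iff] at hx
      exact (hx e' he').symm
    have hxA : A ≤ Subgroup.centralizer {a * b} := by
      intro a' ha'
      have h1 : e⁻¹ * a' * e ∈ conjBy A e⁻¹ := by
        rw [mem_conjBy]
        have e1 : (e⁻¹)⁻¹ * (e⁻¹ * a' * e) * e⁻¹ = a' := by group
        rw [e1]; exact ha'
      rw [hae, mem_conjBy] at h1
      have h2 := hxE h1
      have h3 := hxE he
      have e2 : a' = e * (a * (a⁻¹ * (e⁻¹ * a' * e) * a) * a⁻¹) * e⁻¹ := by group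
      rw [e2]
      exact Subgroup.mul_mem _ (Subgroup.mul_mem _ h3 (Subgroup.mul_mem _ (Subgroup.mul_mem _ hxa h2)
        (Subgroup.inv_mem _ hxa))) (Subgroup.inv_mem _ h3)
    have hcent : a * b ∈ Subgroup.centralizer ((A ⊔ E : Subgroup G) : Set G) := by
      rw [Subgroup.mem_centralizer_iff]
      intro w hw
      have := (sup_le hxA hxE) hw
      rw [Subgroup.mem_centralizer_iff] at this
      exact (this _ rfl).symm
    apply mul_notMem_rootElements hS hA hE h hcent hab1 a⁻¹ (A.inv_mem haA) ha1'
    have e3 : a * b * a⁻¹ = b := by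
      rw [hab]; group
    rw [e3]
    exact hb
  · exact absurd h (hdeg A hA E hE)

/-- Let S be a degenerate set of abstract root subgroups of G (a set of abstract transvection groups) and let a, b be commuting non-identity elements of members of S with a b ≠ 1. Then the members of S centralizing a b are exactly those centralizing both a and b. -/
theorem result {G : Type*} [Group G] {S : Set (Subgroup G)} (hS : Cfsg.IsRootSubgroupSet S) (hdeg : Cfsg.IsDegenerateRootSet S)
    {a b : G} (ha : a ∈ Cfsg.rootElements S) (hb : b ∈ Cfsg.rootElements S) (hab : a * b = b * a) (hab1 : a * b ≠ 1) :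
    Cfsg.centralizingMembers S (Subgroup.zpowers (a * b)) =
      Cfsg.centralizingMembers S (Subgroup.zpowers a) ∩ Cfsg.centralizingMembers S (Subgroup.zpowers b) := by
  ext E
  constructor
  · rintro ⟨hE, hle⟩
    rw [le_centralizer_zpowers_iff] at hle
    have h1 := key hS hdeg ha hb hab hab1 hE hle
    have h2 : b ∈ Subgroup.centralizer (E : Set G) := by
      have := Subgroup.mul_mem _ (Subgroup.inv_mem _ h1) hle
      simpa using this
    exact ⟨⟨hE, (le_centralizer_zpowers_iff E a).2 h1⟩, ⟨hE, (le_centralizer_zpowers_iff E b).2 h2⟩⟩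
  · rintro ⟨⟨hE, h1⟩, ⟨_, h2⟩⟩
    rw [le_centralizer_zpowers_iff] at h1 h2
    exact ⟨hE, (le_centralizer_zpowers_iff E _).2 (Subgroup.mul_mem _ h1 h2)⟩

end Cfsg.Agent.S5026
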