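import Mathlib
import Cfsg.Statements.S5027
import Cfsg.Agent.H2.RootSub

namespace Cfsg.Agent.S5027

open Cfsg Cfsg.Agent.H2.RankOne Cfsg.Agent.H2.RootSub
open scoped commutatorElement

/-- Let S be a set of abstract root subgroups of G such that every member of S has a rank one partner in S (the graph of rank one pairs on S has no isolated vertex). Then the second centre of G equals its centre. -/
theorem result {G : Type*} [Group G] {S : Set (Subgroup G)} (hS : Cfsg.IsRootSubgroupSet S)
    (hF : ∀ A ∈ S, ¬ Cfsg.IsIsolatedIn (Cfsg.FAdj S) S A) : Subgroup.upperCentralSeries G 2 = Subgroup.center G := by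
  apply le_antisymm
  · intro z hz
    have hz' : ∀ y : G, ⁅z, y⁆ ∈ Subgroup.center G := by
      intro y
      have := (Subgroup.mem_upperCentralSeries_succ_iff (n := 1)).1 hz y
      rwa [Subgroup.upperCentralSeries_one] at this
    -- `z` commutes with every member of `S`
    have key : (⨆ A ∈ S, A) ≤ Subgroup.centralizer {z} := by
      apply iSup₂_le
      intro A hA a ha
      rw [Subgroup.mem_centralizer_iff]
      intro w hw
      rw [Set.mem_singleton_iff] at hw
      subst hw
      by_cases ha1 : a = 1
      · rw [ha1]; simp
      by_contra hne
      obtain ⟨B, hB, hAB⟩ := exists_partner_of_not_isolated hA (hF A hA)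
      have hζ := hz' a
      have hζ1 : ⁅w, a⁆ ≠ 1 := by
        intro h
        rw [commutatorElement_eq_one_iff_mul_comm] at h
        exact hne h
      have hcent : ⁅w, a⁆ ∈ Subgroup.centralizer ((A ⊔ B : Subgroup G) : Set G) := by
        rw [Subgroup.mem_centralizer_iff]
        intro h _
        exact (Subgroup.mem_center_iff.1 hζ h)
      apply mul_notMem_rootElements hS hA hB hAB hcent hζ1 a ha ha1
      have e : ⁅w, a⁆ * a = w * a * w⁻¹ := by
        rw [commutatorElement_def]; group
      rw [e]
      refine ⟨?_, conjBy A w, hS.conj_mem A hA w, ?_⟩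
      · intro h
        apply ha1
        have : a = w⁻¹ * (w * a * w⁻¹) * w := by group
        rw [this, h]; group
      · rw [mem_conjBy]
        have : w⁻¹ * (w * a * w⁻¹) * w = a := by group
        rw [this]; exact ha
    rw [hS.generates] at key
    rw [Subgroup.mem_center_iff]
    intro g
    have := key (Subgroup.mem_top g)
    rw [Subgroup.mem_centralizer_iff] at this
    exact (this z rfl).symm
  · rw [← Subgroup.upperCentralSeries_one]
    exact Subgroup.upperCentralSeries_mono G (by norm_num)

end Cfsg.Agent.S5027
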