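import Mathlib
import Cfsg.Statements.S5032
import Cfsg.Agent.H2.RootSub4

namespace Cfsg.Agent.S5032

open Cfsg Cfsg.Agent.H2.RankOne Cfsg.Agent.H2.RootSub

/-- Let S be a set of abstract root subgroups of G with more than one member. Then the graph of rank one pairs on S is connected if and only if S is a single conjugacy class of G and some member of S has a rank one partner in S. -/
theorem result {G : Type*} [Group G] {S : Set (Subgroup G)} (hS : Cfsg.IsRootSubgroupSet S) (h2 : ∃ A ∈ S, ∃ B ∈ S, A ≠ B) :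
    Cfsg.IsConnectedFamily (Cfsg.FAdj S) S ↔
      (Cfsg.IsConjClassOfSubgroups S ∧ ∃ A ∈ S, ¬ Cfsg.IsIsolatedIn (Cfsg.FAdj S) S A) := by
  constructor
  · intro hc
    obtain ⟨A₀, hA₀, B₀, hB₀, hne⟩ := h2
    refine ⟨⟨⟨A₀, hA₀⟩, ?_⟩, ⟨A₀, hA₀, ?_⟩⟩
    · intro A hA B hB
      have key : ∀ B : Subgroup G, Relation.ReflTransGen (FAdj S) A B → ∃ g : G, B = conjBy A g := by
        intro B hreach
        induction hreach with
        | refl => exact ⟨1, (conjBy_one A).symm⟩
        | tail _ hbc ih =>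
          obtain ⟨g, hg⟩ := ih
          obtain ⟨x, _, hx⟩ := exists_conjBy_eq_right hbc.2.2
          exact ⟨x * g, by rw [hx, hg, conjBy_mul]⟩
      exact key B (hc A hA B hB)
    · intro hiso
      rcases Relation.ReflTransGen.cases_head (hc A₀ hA₀ B₀ hB₀) with h | ⟨c, h, _⟩
      · exact hne h
      · exact (hiso.2 c).1 h
  · rintro ⟨⟨_, hconj⟩, A₀, hA₀, hiso⟩
    obtain ⟨D₀, hD₀, hAD₀⟩ := exists_partner_of_not_isolated hA₀ hiso
    have hpart : ∀ A ∈ S, ∃ D ∈ S, IsRankOnePair A D := by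
      intro A hA
      obtain ⟨g, rfl⟩ := hconj A₀ hA₀ A hA
      exact ⟨conjBy D₀ g, hS.conj_mem D₀ hD₀ g, isRankOnePair_conjBy hAD₀ g⟩
    intro A hA B hB
    obtain ⟨g, rfl⟩ := hconj A hA B hB
    exact reach_conjBy_of_forall_partner hS hpart hA g

end Cfsg.Agent.S5032
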