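import Cfsg.Statements.S5034
import Cfsg.Agent.Lib.Helper4.RootLineD

set_option autoImplicit false
open Cfsg

namespace Cfsg.Agent.S5034

open Cfsg.Agent.Lib.Helper4.RootLine Cfsg.Agent.H2.RankOne Cfsg.Agent.H2.RootSub

/-- Let S be a non-degenerate class of abstract root subgroups of G, A ∈ S and B a rank one partner of A. Then some line partner C of A has ⁅B, C⁆ ∈ S, and the rank one pair A, B is special. -/
theorem result {G : Type*} [Group G] {S : Set (Subgroup G)} (hS : Cfsg.IsRootSubgroupClass S) (hnd : Cfsg.IsNondegenerateRootSet S)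
    {A B : Subgroup G} (hA : A ∈ S) (hB : B ∈ Cfsg.rankOnePartners S A) :
    (∃ C ∈ Cfsg.linePartners S A, C ∈ Cfsg.commutatorPartners S B) ∧ Cfsg.IsSpecialRankOnePair A B := by
  obtain ⟨hSet, _, hconj⟩ := hS
  obtain ⟨A₀, hA₀, B₀, hB₀, hrcc⟩ := hnd.2.2
  obtain ⟨g, hg⟩ := hconj A₀ hA₀ A hA
  have hE : Cfsg.conjBy B₀ g ∈ S := hSet.conj_mem B₀ hB₀ g
  have hAE : ⁅A, Cfsg.conjBy B₀ g⁆ ∈ S := by
    rw [hg]
    have h1 : ⁅Cfsg.conjBy A₀ g, Cfsg.conjBy B₀ g⁆ = Cfsg.conjBy ⁅A₀, B₀⁆ g :=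
      (Subgroup.map_commutator A₀ B₀ _).symm
    rw [h1]
    exact hSet.conj_mem _ hrcc.1 g
  obtain ⟨C, hC, hBC⟩ := exists_linePartner_rcc hSet hA hB.1 hB.2 hE hAE
  refine ⟨⟨C, hC, hC.1.1, hBC.1⟩, ?_⟩
  obtain ⟨g', hg'⟩ := hconj A hA C hC.1.1
  have hCC₁ : Cfsg.IsRankOnePair C (Cfsg.conjBy B g') := by
    rw [hg']; exact isRankOnePair_conjBy hB.2 g'
  exact isSpecial_of_linePartner hSet hA hB.1 hB.2 hC (hSet.conj_mem B hB.1 g') hCC₁ hBC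

end Cfsg.Agent.S5034
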