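import Mathlib
import Cfsg.Statements.S5035
import Cfsg.Agent.H2.RootSub4

namespace Cfsg.Agent.S5035

open Cfsg Cfsg.Agent.H2.RankOne Cfsg.Agent.H2.RootSub
open scoped commutatorElement

section

variable {G H : Type*} [Group G] [Group H] (f : G →* H)

theorem map_conjBy (A : Subgroup G) (g : G) : (conjBy A g).map f = conjBy (A.map f) (f g) := by
  ext y
  rw [mem_conjBy]
  constructor
  · rintro ⟨x, hx, rfl⟩
    have hx' : x ∈ conjBy A g := hx
    rw [mem_conjBy] at hx'
    exact ⟨g⁻¹ * x * g, hx', by simp⟩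
  · rintro ⟨a, ha, hay⟩
    refine ⟨g * a * g⁻¹, conj_mem_conjBy ha g, ?_⟩
    rw [map_mul, map_mul, hay, map_inv]; group

theorem rankOneCondition_map {A B : Subgroup G} (h : RankOneCondition A B) (hne : A.map f ≠ B.map f) :
    RankOneCondition (A.map f) (B.map f) := by
  rintro _ ⟨a, ha, rfl⟩ ha1
  have ha1' : a ≠ 1 := by
    rintro rfl
    exact ha1 (map_one f)
  obtain ⟨b, hb, _, hab⟩ := h a ha ha1'
  have hab' : conjBy (A.map f) (f b)⁻¹ = conjBy (B.map f) (f a)⁻¹ := by
    rw [← map_inv, ← map_inv, ← map_conjBy, ← map_conjBy, hab]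
  refine ⟨f b, ⟨b, hb, rfl⟩, ?_, hab'⟩
  intro hfb
  apply hne
  rw [hfb, inv_one, conjBy_one] at hab'
  rw [hab']
  symm
  have h1 : (f a)⁻¹ ∈ B.map f → conjBy (B.map f) (f a)⁻¹ = B.map f := conjBy_eq_self_of_mem
  -- `A.map f = conjBy (B.map f) (f a)⁻¹`, so `B.map f = conjBy (A.map f) (f a) = A.map f`
  have h2 : B.map f = conjBy (A.map f) (f a) := by
    rw [hab', conjBy_mul]; simp [conjBy_one]
  have h3 : conjBy (A.map f) (f a) = A.map f := conjBy_eq_self_of_mem ⟨a, ha, rfl⟩
  rw [← hab', ← h3, ← h2]

theorem isNilpotent_map {A : Subgroup G} (h : Group.IsNilpotent A) : Group.IsNilpotent ↥(A.map f) := by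
  have hsurj : Function.Surjective (f.subgroupMap A) := f.subgroupMap_surjective A
  exact Group.nilpotent_of_surjective (f.subgroupMap A) hsurj

theorem isRankOnePair_map {A B : Subgroup G} (h : IsRankOnePair A B) (hne : A.map f ≠ B.map f) :
    IsRankOnePair (A.map f) (B.map f) where
  ne := hne
  nilpotent_left := isNilpotent_map f h.nilpotent_left
  nilpotent_right := isNilpotent_map f h.nilpotent_right
  cond_left := rankOneCondition_map f h.cond_left hne
  cond_right := rankOneCondition_map f h.cond_right hne.symm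

theorem map_closure_comm (a : G) (B : Subgroup G) :
    (Subgroup.closure ((fun b : G => a * b * a⁻¹ * b⁻¹) '' (B : Set G))).map f =
      Subgroup.closure ((fun b : H => f a * b * (f a)⁻¹ * b⁻¹) '' ((B.map f : Subgroup H) : Set H)) := by
  rw [MonoidHom.map_closure]
  congr 1
  ext y
  constructor
  · rintro ⟨_, ⟨b, hb, rfl⟩, rfl⟩
    exact ⟨f b, ⟨b, hb, rfl⟩, by simp⟩
  · rintro ⟨_, ⟨b, hb, rfl⟩, rfl⟩
    exact ⟨_, ⟨b, hb, rfl⟩, by simp⟩

theorem map_closure_comm' (A : Subgroup G) (b : G) :
    (Subgroup.closure ((fun a : G => a * b * a⁻¹ * b⁻¹) '' (A : Set G))).map f =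
      Subgroup.closure ((fun a : H => a * f b * a⁻¹ * (f b)⁻¹) '' ((A.map f : Subgroup H) : Set H)) := by
  rw [MonoidHom.map_closure]
  congr 1
  ext y
  constructor
  · rintro ⟨_, ⟨a, ha, rfl⟩, rfl⟩
    exact ⟨f a, ⟨a, ha, rfl⟩, by simp⟩
  · rintro ⟨_, ⟨a, ha, rfl⟩, rfl⟩
    exact ⟨_, ⟨a, ha, rfl⟩, by simp⟩

theorem rootCommutatorCase_map {S : Set (Subgroup G)} {A B : Subgroup G} (h : RootCommutatorCase S A B) :
    RootCommutatorCase ((fun A : Subgroup G => A.map f) '' S) (A.map f) (B.map f) := by
  have hmap : ⁅A.map f, B.map f⁆ = (⁅A, B⁆).map f := (Subgroup.map_commutator A B f).symm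
  refine ⟨?_, ?_, ?_, ?_⟩
  · rw [hmap]; exact ⟨_, h.1, rfl⟩
  · rw [hmap, ← Subgroup.map_sup]
    rintro _ ⟨c, hc, rfl⟩ _ ⟨x, hx, rfl⟩
    rw [← map_mul, ← map_mul, h.2.1 c hc x hx]
  · rintro _ ⟨a, ha, rfl⟩ ha1
    have ha1' : a ≠ 1 := by
      rintro rfl
      exact ha1 (map_one f)
    rw [hmap, ← h.2.2.1 a ha ha1', map_closure_comm]
  · rintro _ ⟨b, hb, rfl⟩ hb1
    have hb1' : b ≠ 1 := by
      rintro rfl
      exact hb1 (map_one f)
    rw [hmap, ← h.2.2.2 b hb hb1', map_closure_comm']

end

/-- Let S be a set of abstract root subgroups of G whose graph of rank one pairs is connected, and f a homomorphism from G onto a group H. Then either the images of the members of S form a set of abstract root subgroups of H whose graph of rank one pairs is again connected, or H equals the image of a member of S. -/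
theorem result {G H : Type*} [Group G] [Group H] {S : Set (Subgroup G)} (hS : Cfsg.IsRootSubgroupSet S)
    (hc : Cfsg.IsConnectedFamily (Cfsg.FAdj S) S) (f : G →* H) (hf : Function.Surjective f) :
    (Cfsg.IsRootSubgroupSet ((fun A : Subgroup G => A.map f) '' S) ∧
      Cfsg.IsConnectedFamily (Cfsg.FAdj ((fun A : Subgroup G => A.map f) '' S)) ((fun A : Subgroup G => A.map f) '' S)) ∨
    ∃ A ∈ S, A.map f = ⊤ := by
  by_cases hbot : ∃ A ∈ S, A.map f = ⊥
  · right
    obtain ⟨A, hA, hAbot⟩ := hbot
    refine ⟨A, hA, ?_⟩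
    -- all images are trivial
    have hall : ∀ B ∈ S, B.map f = ⊥ := by
      intro B hB
      have key : ∀ B : Subgroup G, Relation.ReflTransGen (FAdj S) A B → B.map f = ⊥ := by
        intro B hreach
        induction hreach with
        | refl => exact hAbot
        | tail _ hbc ih =>
          obtain ⟨x, _, hx⟩ := exists_conjBy_eq_right hbc.2.2
          rw [hx, map_conjBy, ih]
          exact Subgroup.map_bot _
      exact key B (hc A hA B hB)
    have htop : (⊤ : Subgroup H) = ⊥ := by
      rw [← Subgroup.map_top_of_surjective f hf, ← hS.generates, Subgroup.map_iSup]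
      simp only [Subgroup.map_iSup]
      rw [eq_bot_iff]
      apply iSup₂_le
      intro B hB
      rw [hall B hB]
    rw [hAbot, htop]
  · left
    push Not at hbot
    constructor
    · refine ⟨?_, ?_, ?_, ?_, ?_⟩
      · rintro _ ⟨A, hA, rfl⟩
        have := hS.commutative A hA
        rw [isMulCommutative_iff] at this ⊢
        rintro ⟨_, ⟨a, ha, rfl⟩⟩ ⟨_, ⟨b, hb, rfl⟩⟩
        apply Subtype.ext
        show f a * f b = f b * f a
        have h1 := this ⟨a, ha⟩ ⟨b, hb⟩
        have h2 : a * b = b * a := congrArg Subtype.val h1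
        rw [← map_mul, h2, map_mul]
      · rintro _ ⟨A, hA, rfl⟩
        exact hbot A hA
      · rw [eq_top_iff, ← Subgroup.map_top_of_surjective f hf, ← hS.generates, Subgroup.map_iSup]
        simp only [Subgroup.map_iSup]
        apply iSup₂_le
        intro B hB
        exact le_iSup₂ (f := fun (P : Subgroup H) (_ : P ∈ (fun A : Subgroup G => A.map f) '' S) => P)
          (B.map f) ⟨B, hB, rfl⟩
      · rintro _ ⟨A, hA, rfl⟩ h
        obtain ⟨g, rfl⟩ := hf h
        exact ⟨conjBy A g, hS.conj_mem A hA g, map_conjBy f A g⟩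
      · rintro _ ⟨A, hA, rfl⟩ _ ⟨B, hB, rfl⟩
        rcases hS.pair A hA B hB with h | h | h
        · left
          show ⁅A.map f, B.map f⁆ = ⊥
          rw [← Subgroup.map_commutator, h, Subgroup.map_bot]
        · by_cases hne : A.map f = B.map f
          · left
            show ⁅A.map f, B.map f⁆ = ⊥
            rw [← hne, ← Subgroup.map_commutator]
            have : ⁅A, A⁆ = ⊥ := by
              rw [Subgroup.commutator_eq_bot_iff_le_centralizer]
              intro x hx
              rw [Subgroup.mem_centralizer_iff]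
              intro y hy
              have h2 : (⟨y, hy⟩ : A) * ⟨x, hx⟩ = ⟨x, hx⟩ * ⟨y, hy⟩ :=
                isMulCommutative_iff.1 (hS.commutative A hA) _ _
              exact congrArg Subtype.val h2
            rw [this, Subgroup.map_bot]
          · right; left
            exact isRankOnePair_map f h hne
        · right; right
          exact rootCommutatorCase_map f h
    · rintro _ ⟨A, hA, rfl⟩ _ ⟨B, hB, rfl⟩
      have key : ∀ B : Subgroup G, Relation.ReflTransGen (FAdj S) A B →
          Relation.ReflTransGen (FAdj ((fun A : Subgroup G => A.map f) '' S)) (A.map f) (B.map f) := by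
        intro B hreach
        induction hreach with
        | refl => exact Relation.ReflTransGen.refl
        | @tail B' C' _ hbc ih =>
          by_cases hne : B'.map f = C'.map f
          · rw [← hne]; exact ih
          · exact ih.tail ⟨⟨B', hbc.1, rfl⟩, ⟨C', hbc.2.1, rfl⟩, isRankOnePair_map f hbc.2.2 hne⟩
      exact key B (hc A hA B hB)

end Cfsg.Agent.S5035
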