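import Cfsg.Statements.S5038
import Cfsg.Agent.Lib.Helper4.RootLineG

set_option autoImplicit false
open Cfsg

namespace Cfsg.Agent.S5038

open Cfsg.Agent.Lib.Helper4.RootLine Cfsg.Agent.Lib.Helper4.RootChain Cfsg.Agent.H2.RankOne
  Cfsg.Agent.H2.RootSub

/-- Let S be a set of abstract root subgroups of G in which every member has a rank one partner, A ∈ S and B a line partner of A. Then the subgroup generated by the members of S normalizing AB permutes the members of S inside AB doubly transitively by conjugation. -/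
theorem result {G : Type*} [Group G] {S : Set (Subgroup G)} (hS : Cfsg.IsRootSubgroupSet S)
    (hF : ∀ A ∈ S, ¬ Cfsg.IsIsolatedIn (Cfsg.FAdj S) S A) {A B : Subgroup G} (hA : A ∈ S) (hB : B ∈ Cfsg.linePartners S A) :
    ∀ C₁ ∈ Cfsg.membersIn S (A ⊔ B), ∀ C₂ ∈ Cfsg.membersIn S (A ⊔ B), ∀ D₁ ∈ Cfsg.membersIn S (A ⊔ B),
      ∀ D₂ ∈ Cfsg.membersIn S (A ⊔ B), C₁ ≠ C₂ → D₁ ≠ D₂ →
        ∃ x ∈ ⨆ E ∈ Cfsg.normalizingMembers S (A ⊔ B), E, Cfsg.conjBy C₁ x = D₁ ∧ Cfsg.conjBy C₂ x = D₂ := by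
  have hBS : B ∈ S := hB.1.1
  have hcomm : A ≤ Subgroup.centralizer (B : Set G) := le_centralizer_of_commutator_eq_bot hB.1.2.2
  have q : PartLine S (A ⊔ B) :=
    ⟨hS, hF, le_centralizer_of_isMulCommutative
      (isMulCommutative_sup (hS.commutative A hA) (hS.commutative B hBS) hcomm), hB.2⟩
  have hAm : A ∈ Cfsg.membersIn S (A ⊔ B) := ⟨hA, le_sup_left⟩
  have hBm : B ∈ Cfsg.membersIn S (A ⊔ B) := ⟨hBS, le_sup_right⟩
  obtain ⟨F, g⟩ := q.exists_good' hAm hBm hB.1.2.1 rfl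
  have hQm := g.Q_mem q
  have hAQ : A ≠ ⁅A, F⁆ := commutatorCase_ne hS g.rcc
  obtain ⟨F₂, g₂⟩ := q.exists_good' hQm hAm hAQ (by rw [sup_comm ⁅A, F⁆ A]; exact g.eq.symm)
  exact q.two_transitive g g₂ (commutatorCase_ne hS g₂.rcc)

end Cfsg.Agent.S5038
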