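import Cfsg.Statements.S5041
import Cfsg.Agent.S5032
import Cfsg.Agent.Lib.Helper4.RootLineD

set_option autoImplicit false
open Cfsg

namespace Cfsg.Agent.S5041

open Cfsg.Agent.Lib.Helper4.RootLine Cfsg.Agent.Lib.Helper4.RootChain Cfsg.Agent.H2.RankOne
  Cfsg.Agent.H2.RootSub

/-- Let S be a non-degenerate class of abstract root subgroups of G. Then the graph on S joining A to its line partners, and the commuting graph on S, are both connected. -/
theorem result {G : Type*} [Group G] {S : Set (Subgroup G)} (hS : Cfsg.IsRootSubgroupClass S) (hnd : Cfsg.IsNondegenerateRootSet S) :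
    Cfsg.IsConnectedFamily (Cfsg.EAdj S S) S ∧ Cfsg.IsConnectedFamily (Cfsg.DAdj S) S := by
  have hS' := hS
  obtain ⟨hSet, hne, hconj⟩ := hS'
  obtain ⟨A₀, hA₀, B₀, hB₀, hrcc⟩ := hnd.2.2
  obtain ⟨A₁, hA₁, B₁, hB₁, hr1⟩ := hnd.2.1
  -- the rank one graph is connected
  have hFconn : Cfsg.IsConnectedFamily (Cfsg.FAdj S) S := by
    rw [Cfsg.Agent.S5032.result hSet ⟨A₁, hA₁, B₁, hB₁, hr1.ne⟩]
    refine ⟨hS.2, A₁, hA₁, ?_⟩
    intro hiso
    exact (hiso.2 B₁).1 ⟨hA₁, hB₁, hr1⟩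
  -- every member has a rank one partner
  have hpartner : ∀ X ∈ S, ∃ Y ∈ S, Cfsg.IsRankOnePair X Y := by
    intro X hX
    obtain ⟨g, hg⟩ := hconj A₁ hA₁ X hX
    refine ⟨Cfsg.conjBy B₁ g, hSet.conj_mem B₁ hB₁ g, ?_⟩
    rw [hg]; exact isRankOnePair_conjBy hr1 g
  -- every member has a commutator partner
  have hcomm : ∀ X ∈ S, ∃ E ∈ S, ⁅X, E⁆ ∈ S := by
    intro X hX
    obtain ⟨g, hg⟩ := hconj A₀ hA₀ X hX
    refine ⟨Cfsg.conjBy B₀ g, hSet.conj_mem B₀ hB₀ g, ?_⟩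
    rw [hg]
    have h1 : ⁅Cfsg.conjBy A₀ g, Cfsg.conjBy B₀ g⁆ = Cfsg.conjBy ⁅A₀, B₀⁆ g :=
      (Subgroup.map_commutator A₀ B₀ _).symm
    rw [h1]
    exact hSet.conj_mem _ hrcc.1 g
  -- a rank one edge is replaced by a path of three line edges
  have hstep : ∀ X Y, Cfsg.FAdj S X Y → Relation.ReflTransGen (Cfsg.EAdj S S) X Y := by
    rintro X Y ⟨hX, hY, hXY⟩
    obtain ⟨E, hE, hXE⟩ := hcomm X hX
    obtain ⟨C, hC, hYC⟩ := exists_linePartner_rcc hSet hX hY hXY hE hXE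
    have hCS : C ∈ S := hC.1.1
    obtain ⟨C₁, hC₁, hCC₁⟩ := hpartner C hCS
    have hCY : Cfsg.RootCommutatorCase S C Y :=
      commutatorCase_of_commutator_mem hSet hCS hY (by rw [Subgroup.commutator_comm]; exact hYC.1)
    have h1 : C ∈ Cfsg.linePartners S ⁅C, Y⁆ := mem_linePartners_commutator hSet hCS hC₁ hCC₁ hCY
    have h2 : ⁅C, Y⁆ ∈ Cfsg.linePartners S C := linePartners_symm hCY.1 h1
    rw [Subgroup.commutator_comm] at h2
    have h3 : Y ∈ Cfsg.linePartners S ⁅Y, C⁆ :=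
      mem_linePartners_commutator hSet hY hX (Cfsg.RankOnePair_symm hXY) hYC
    exact ((Relation.ReflTransGen.single ⟨hX, hCS, hC⟩).tail ⟨hCS, hYC.1, h2⟩).tail ⟨hYC.1, hY, h3⟩
  have hE : Cfsg.IsConnectedFamily (Cfsg.EAdj S S) S := by
    have hlift : ∀ A B, Relation.ReflTransGen (Cfsg.FAdj S) A B →
        Relation.ReflTransGen (Cfsg.EAdj S S) A B := by
      intro A B h
      induction h with
      | refl => exact Relation.ReflTransGen.refl
      | tail _ hbc ih => exact ih.trans (hstep _ _ hbc)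
    intro A hA B hB
    exact hlift A B (hFconn A hA B hB)
  refine ⟨hE, ?_⟩
  intro A hA B hB
  have hmono : ∀ X Y, Cfsg.EAdj S S X Y → Cfsg.DAdj S X Y := by
    rintro X Y ⟨hX, hY, hXY⟩
    exact ⟨hX, hY, hXY.1.2.1.symm, hXY.1.2.2⟩
  exact Relation.ReflTransGen.mono hmono A B (hE A hA B hB)

end Cfsg.Agent.S5041
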