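import Cfsg.Statements.S5040
import Cfsg.Agent.S5041
import Cfsg.Agent.Lib.Helper4.RootLineJ

set_option autoImplicit false
open Cfsg

namespace Cfsg.Agent.S5040

open Cfsg.Agent.Lib.Helper4.RootLine Cfsg.Agent.Lib.Helper4.RootChain Cfsg.Agent.H2.RankOne
  Cfsg.Agent.H2.RootSub

/-- Let S be a non-degenerate class of abstract root subgroups of G and Δ a weak TI-subset of S. Then the members of Δ commute with one another elementwise. -/
theorem result {G : Type*} [Group G] {S : Set (Subgroup G)} (hS : Cfsg.IsRootSubgroupClass S) (hnd : Cfsg.IsNondegenerateRootSet S)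
    {Δ : Set (Subgroup G)} (hΔ : Cfsg.IsWeakTISubset S Δ) : Cfsg.IsAbelianFamily Δ := by
  have hS' := hS
  obtain ⟨hSet, hne, hconj⟩ := hS'
  obtain ⟨A₁, hA₁, B₁, hB₁, hr1⟩ := hnd.2.1
  have hpartner : ∀ X ∈ S, ∃ Y ∈ S, Cfsg.IsRankOnePair X Y := by
    intro X hX
    obtain ⟨g, hg⟩ := hconj A₁ hA₁ X hX
    refine ⟨Cfsg.conjBy B₁ g, hSet.conj_mem B₁ hB₁ g, ?_⟩
    rw [hg]; exact isRankOnePair_conjBy hr1 g
  by_contra hnab
  -- two non-commuting members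
  have hex : ∃ A ∈ Δ, ∃ B ∈ Δ, ⁅A, B⁆ ≠ ⊥ := by
    by_contra hcon
    push Not at hcon
    apply hnab
    intro A hA B hB a ha b hb
    exact commute_of_commutator_eq_bot (hcon A hA B hB) ha hb
  obtain ⟨A, hA, B, hB, hAB⟩ := hex
  -- a rank one pair inside `Δ`
  have hr : ∃ A' ∈ Δ, ∃ B' ∈ Δ, Cfsg.IsRankOnePair A' B' := by
    rcases hSet.pair A (hΔ.1 hA) B (hΔ.1 hB) with h | h | h
    · exact absurd h hAB
    · exact ⟨A, hA, B, hB, h⟩
    · exact exists_rankOne_of_rcc hSet hpartner hΔ hA hB h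
  obtain ⟨A', hA', B', hB', hA'B'⟩ := hr
  -- propagate along the line graph
  have hclosed : ∀ X Y, Cfsg.EAdj S S X Y → (X ∈ Δ ∧ ∃ Z ∈ Δ, Cfsg.IsRankOnePair X Z) →
      (Y ∈ Δ ∧ ∃ Z ∈ Δ, Cfsg.IsRankOnePair Y Z) := by
    rintro X Y ⟨_, _, hXY⟩ ⟨hX, Z, hZ, hXZ⟩
    exact mem_of_linePartner hSet hpartner hΔ hX hZ hXZ hXY
  have hlift : ∀ X, Relation.ReflTransGen (Cfsg.EAdj S S) A' X →
      (X ∈ Δ ∧ ∃ Z ∈ Δ, Cfsg.IsRankOnePair X Z) := by
    intro X hpath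
    induction hpath with
    | refl => exact ⟨hA', B', hB', hA'B'⟩
    | tail _ hbc ih => exact hclosed _ _ hbc ih
  apply hΔ.2.2.1
  apply Set.Subset.antisymm hΔ.1
  intro X hX
  exact (hlift X ((Cfsg.Agent.S5041.result hS hnd).1 A' (hΔ.1 hA') X hX)).1

end Cfsg.Agent.S5040
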