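import Cfsg.Statements.S5042
import Cfsg.Agent.S5041
import Cfsg.Agent.Lib.Helper4.RootLineI

set_option autoImplicit false
open Cfsg

namespace Cfsg.Agent.S5042

open Cfsg.Agent.Lib.Helper4.RootLine Cfsg.Agent.Lib.Helper4.RootChain Cfsg.Agent.H2.RankOne
  Cfsg.Agent.H2.RootSub

/-- Let S be a non-degenerate class of abstract root subgroups of G, A ∈ S and B a rank one partner of A. Then G is generated by the line partners of A together with B. -/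
theorem result {G : Type*} [Group G] {S : Set (Subgroup G)} (hS : Cfsg.IsRootSubgroupClass S) (hnd : Cfsg.IsNondegenerateRootSet S)
    {A B : Subgroup G} (hA : A ∈ S) (hB : B ∈ Cfsg.rankOnePartners S A) :
    (⨆ C ∈ Cfsg.linePartners S A, C) ⊔ B = ⊤ := by
  have hS' := hS
  obtain ⟨hSet, hne, hconj⟩ := hS'
  obtain ⟨A₀, hA₀, B₀, hB₀, hrcc⟩ := hnd.2.2
  obtain ⟨A₁, hA₁, B₁, hB₁, hr1⟩ := hnd.2.1
  have hpartner : ∀ X ∈ S, ∃ Y ∈ S, Cfsg.IsRankOnePair X Y := by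
    intro X hX
    obtain ⟨g, hg⟩ := hconj A₁ hA₁ X hX
    refine ⟨Cfsg.conjBy B₁ g, hSet.conj_mem B₁ hB₁ g, ?_⟩
    rw [hg]; exact isRankOnePair_conjBy hr1 g
  -- a line partner of `A`
  obtain ⟨g₀, hg₀⟩ := hconj A₀ hA₀ A hA
  have hE : Cfsg.conjBy B₀ g₀ ∈ S := hSet.conj_mem B₀ hB₀ g₀
  have hAE : ⁅A, Cfsg.conjBy B₀ g₀⁆ ∈ S := by
    rw [hg₀]
    have h1 : ⁅Cfsg.conjBy A₀ g₀, Cfsg.conjBy B₀ g₀⁆ = Cfsg.conjBy ⁅A₀, B₀⁆ g₀ :=
      (Subgroup.map_commutator A₀ B₀ _).symm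
    rw [h1]
    exact hSet.conj_mem _ hrcc.1 g₀
  obtain ⟨C, hC, _⟩ := exists_linePartner_rcc hSet hA hB.1 hB.2 hE hAE
  set G₀ := (⨆ C ∈ Cfsg.linePartners S A, C) ⊔ B with hG₀
  have hΛ : ∀ C ∈ Cfsg.linePartners S A, C ≤ G₀ :=
    fun C hC => le_trans (le_iSup₂_of_le C hC le_rfl) le_sup_left
  have hBG : B ≤ G₀ := le_sup_right
  have hAG : A ≤ G₀ := le_trans (le_iSup_linePartners hSet hpartner hA hC) le_sup_left
  -- the `G₀`-conjugates of `A` are closed under taking line partners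
  have hclosed : ∀ X Y, Cfsg.EAdj S S X Y → (∃ g ∈ G₀, X = Cfsg.conjBy A g) →
      ∃ g ∈ G₀, Y = Cfsg.conjBy A g := by
    rintro X Y ⟨_, _, hXY⟩ ⟨g, hg, rfl⟩
    have h1 := linePartners_conjBy hSet hXY g⁻¹
    rw [conjBy_inv_conjBy] at h1
    obtain ⟨h, hh, hh1⟩ := exists_conjBy_eq_of_linePartner hSet hpartner hA hB.1 hB.2 G₀ hΛ hBG h1
    rw [conjBy_mul] at hh1
    refine ⟨(h * g⁻¹)⁻¹, G₀.inv_mem (G₀.mul_mem hh (G₀.inv_mem hg)), ?_⟩
    exact conjBy_eq_iff.1 hh1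
  have hall : ∀ X ∈ S, ∃ g ∈ G₀, X = Cfsg.conjBy A g := by
    have hlift : ∀ X, Relation.ReflTransGen (Cfsg.EAdj S S) A X → ∃ g ∈ G₀, X = Cfsg.conjBy A g := by
      intro X hpath
      induction hpath with
      | refl => exact ⟨1, G₀.one_mem, (conjBy_one A).symm⟩
      | tail _ hbc ih => exact hclosed _ _ hbc ih
    intro X hX
    exact hlift X ((Cfsg.Agent.S5041.result hS hnd).1 A hA X hX)
  rw [eq_top_iff, ← hSet.generates]
  apply iSup₂_le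
  intro X hX
  obtain ⟨g, hg, rfl⟩ := hall X hX
  have := conjBy_mono hAG g
  rwa [conjBy_eq_self_of_mem hg] at this

end Cfsg.Agent.S5042
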