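import Mathlib
import Cfsg.Statements.S5043
import Cfsg.Agent.Lib.Helper8.SLRootF

set_option autoImplicit false
open Matrix
open Cfsg

namespace Cfsg.Agent.S5043


section Part0

open Matrix Cfsg.Agent.S5016 Cfsg.Agent.Lib.Helper8.RootClass
  Cfsg.Agent.H2.RankOne Cfsg.Agent.Lib.Helper8.SLRoot

section Main

variable {k : Type*} [Field k] (n : ℕ)

lemma closure_X01 :
    Subgroup.closure {t : Matrix.SpecialLinearGroup (Fin (n + 3)) k |
      ∃ c : k, (t : Matrix (Fin (n + 3)) (Fin (n + 3)) k) = Matrix.transvection 0 1 c} =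
      X01 n k := by
  have h01 : (0 : Fin (n + 3)) ≠ 1 := by simp
  have : {t : Matrix.SpecialLinearGroup (Fin (n + 3)) k |
      ∃ c : k, (t : Matrix (Fin (n + 3)) (Fin (n + 3)) k) = Matrix.transvection 0 1 c} =
      (X01 n k : Set (Matrix.SpecialLinearGroup (Fin (n + 3)) k)) := by
    ext t
    constructor
    · rintro ⟨c, hc⟩
      refine ⟨c, ?_⟩
      rw [tv_single h01 c]
      exact Subtype.ext hc
    · rintro ⟨c, rfl⟩
      refine ⟨c, ?_⟩
      rw [tv_single h01 c]
      rfl
  rw [this, Subgroup.closure_eq]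

theorem main (S : Set (Subgroup (Matrix.SpecialLinearGroup (Fin (n + 3)) k)))
    (hS : S = {A : Subgroup (Matrix.SpecialLinearGroup (Fin (n + 3)) k) |
      ∃ g : Matrix.SpecialLinearGroup (Fin (n + 3)) k,
        A = Cfsg.conjBy (Subgroup.closure {t : Matrix.SpecialLinearGroup (Fin (n + 3)) k |
          ∃ c : k, (t : Matrix (Fin (n + 3)) (Fin (n + 3)) k) = Matrix.transvection 0 1 c}) g}) :
    Cfsg.IsRootSubgroupClass S ∧ Cfsg.IsNondegenerateRootSet S ∧ Cfsg.IsKRootSubgroupSet k S ∧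
      Cfsg.IsConnectedFamily (Cfsg.FAdj S) S := by
  have hrange : S = Set.range (rootF (N := n + 3) (k := k)) := by
    rw [hS, closure_X01]
    exact conjugates_eq_range
  rw [hrange]
  exact ⟨isRootSubgroupClass, isNondegenerate, isKRoot, isConnected⟩

end Main

theorem result (k : Type*) [Field k] (n : ℕ) :
    Cfsg.IsRootSubgroupClass {A : Subgroup (Matrix.SpecialLinearGroup (Fin (n + 3)) k) |
        ∃ g : Matrix.SpecialLinearGroup (Fin (n + 3)) k,
          A = Cfsg.conjBy (Subgroup.closure {t : Matrix.SpecialLinearGroup (Fin (n + 3)) k |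
            ∃ c : k, (t : Matrix (Fin (n + 3)) (Fin (n + 3)) k) = Matrix.transvection 0 1 c}) g} ∧
    Cfsg.IsNondegenerateRootSet {A : Subgroup (Matrix.SpecialLinearGroup (Fin (n + 3)) k) |
        ∃ g : Matrix.SpecialLinearGroup (Fin (n + 3)) k,
          A = Cfsg.conjBy (Subgroup.closure {t : Matrix.SpecialLinearGroup (Fin (n + 3)) k |
            ∃ c : k, (t : Matrix (Fin (n + 3)) (Fin (n + 3)) k) = Matrix.transvection 0 1 c}) g} ∧
    Cfsg.IsKRootSubgroupSet k {A : Subgroup (Matrix.SpecialLinearGroup (Fin (n + 3)) k) |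
        ∃ g : Matrix.SpecialLinearGroup (Fin (n + 3)) k,
          A = Cfsg.conjBy (Subgroup.closure {t : Matrix.SpecialLinearGroup (Fin (n + 3)) k |
            ∃ c : k, (t : Matrix (Fin (n + 3)) (Fin (n + 3)) k) = Matrix.transvection 0 1 c}) g} ∧
    Cfsg.IsConnectedFamily (Cfsg.FAdj {A : Subgroup (Matrix.SpecialLinearGroup (Fin (n + 3)) k) |
        ∃ g : Matrix.SpecialLinearGroup (Fin (n + 3)) k,
          A = Cfsg.conjBy (Subgroup.closure {t : Matrix.SpecialLinearGroup (Fin (n + 3)) k |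
            ∃ c : k, (t : Matrix (Fin (n + 3)) (Fin (n + 3)) k) = Matrix.transvection 0 1 c}) g})
      {A : Subgroup (Matrix.SpecialLinearGroup (Fin (n + 3)) k) |
        ∃ g : Matrix.SpecialLinearGroup (Fin (n + 3)) k,
          A = Cfsg.conjBy (Subgroup.closure {t : Matrix.SpecialLinearGroup (Fin (n + 3)) k |
            ∃ c : k, (t : Matrix (Fin (n + 3)) (Fin (n + 3)) k) = Matrix.transvection 0 1 c}) g} := by
  exact main n _ rfl

end Part0

end Cfsg.Agent.S5043
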