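import Cfsg.Statements.S5045
import Cfsg.Agent.H2.RootInvA

set_option autoImplicit false
open Cfsg

namespace Cfsg.Agent.S5045

open Cfsg.Agent.H2.RootInv

theorem component_eq_of_reach {G : Type*} [Group G] {D : Set G} (hD : Cfsg.IsRootInvolutionSet D)
    {a b : G} (h : Relation.ReflTransGen (Cfsg.OddAdj D) a b) :
    Cfsg.elemComponentOf (Cfsg.OddAdj D) D a = Cfsg.elemComponentOf (Cfsg.OddAdj D) D b := by
  ext x
  constructor
  · rintro ⟨hx, hr⟩
    exact ⟨hx, (reach_symm hD h).trans hr⟩
  · rintro ⟨hx, hr⟩
    exact ⟨hx, h.trans hr⟩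

theorem closure_normal_of_conj {G : Type*} [Group G] {W : Set G}
    (h : ∀ w ∈ W, ∀ g : G, g * w * g⁻¹ ∈ W) : (Subgroup.closure W).Normal := by
  constructor
  intro n hn g
  induction hn using Subgroup.closure_induction with
  | mem x hx => exact Subgroup.subset_closure (h x hx g)
  | one => simp
  | mul x y _ _ hx hy =>
    have : g * (x * y) * g⁻¹ = (g * x * g⁻¹) * (g * y * g⁻¹) := by group
    rw [this]; exact Subgroup.mul_mem _ hx hy
  | inv x _ hx =>
    have : g * x⁻¹ * g⁻¹ = (g * x * g⁻¹)⁻¹ := by group
    rw [this]; exact Subgroup.inv_mem _ hx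

/-- Let G be a finite group generated by a set D of root involutions, and W the set of members of D whose product with every other member of D has even order or is trivial (the isolated vertices of the odd-order-product graph on D). Then W is conjugation-invariant and generates a normal 2-subgroup of G meeting D in exactly W; the commutator of two members of D lying in different connected components of that graph, each with more than one member, lies in the subgroup generated by W; and for a in such a component, every member of D commuting with a, different from a and with product with a in D, lies in that component or in W. -/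
theorem result {G : Type*} [Group G] [Finite G] {D : Set G} (hD : Cfsg.IsRootInvolutionSet D) :
    (∀ w ∈ {w | Cfsg.IsIsolatedElem (Cfsg.OddAdj D) D w}, ∀ g : G, g * w * g⁻¹ ∈ {w | Cfsg.IsIsolatedElem (Cfsg.OddAdj D) D w}) ∧
    (Subgroup.closure {w | Cfsg.IsIsolatedElem (Cfsg.OddAdj D) D w}).Normal ∧
    IsPGroup 2 ↥(Subgroup.closure {w | Cfsg.IsIsolatedElem (Cfsg.OddAdj D) D w}) ∧
    (Subgroup.closure {w | Cfsg.IsIsolatedElem (Cfsg.OddAdj D) D w} : Set G) ∩ D = {w | Cfsg.IsIsolatedElem (Cfsg.OddAdj D) D w} ∧
    (∀ a ∈ D, ∀ b ∈ D, (∃ a' ∈ Cfsg.elemComponentOf (Cfsg.OddAdj D) D a, a' ≠ a) →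
      (∃ b' ∈ Cfsg.elemComponentOf (Cfsg.OddAdj D) D b, b' ≠ b) →
      Cfsg.elemComponentOf (Cfsg.OddAdj D) D a ≠ Cfsg.elemComponentOf (Cfsg.OddAdj D) D b →
        a * b * a⁻¹ * b⁻¹ ∈ Subgroup.closure {w | Cfsg.IsIsolatedElem (Cfsg.OddAdj D) D w}) ∧
    (∀ a ∈ D, (∃ a' ∈ Cfsg.elemComponentOf (Cfsg.OddAdj D) D a, a' ≠ a) →
      Cfsg.productPartners D a ⊆ Cfsg.elemComponentOf (Cfsg.OddAdj D) D a ∪ {w | Cfsg.IsIsolatedElem (Cfsg.OddAdj D) D w}) := by
  classical
  have h1 : ∀ w ∈ {w | Cfsg.IsIsolatedElem (Cfsg.OddAdj D) D w}, ∀ g : G,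
      g * w * g⁻¹ ∈ {w | Cfsg.IsIsolatedElem (Cfsg.OddAdj D) D w} :=
    fun w hw g => isolated_conj hD hw g
  have h2 : (Subgroup.closure {w | Cfsg.IsIsolatedElem (Cfsg.OddAdj D) D w}).Normal :=
    closure_normal_of_conj h1
  have hle : Subgroup.closure {w | Cfsg.IsIsolatedElem (Cfsg.OddAdj D) D w} ≤ Cfsg.pCore 2 G := by
    rw [Subgroup.closure_le]
    intro w hw
    exact isolated_mem_pCore hD hw
  have h3 : IsPGroup 2 ↥(Subgroup.closure {w | Cfsg.IsIsolatedElem (Cfsg.OddAdj D) D w}) :=
    (Cfsg.Agent.H1.pCore_isPGroup 2).to_le hle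
  have h6 : ∀ a ∈ D, (∃ a' ∈ Cfsg.elemComponentOf (Cfsg.OddAdj D) D a, a' ≠ a) →
      Cfsg.productPartners D a ⊆ Cfsg.elemComponentOf (Cfsg.OddAdj D) D a ∪
        {w | Cfsg.IsIsolatedElem (Cfsg.OddAdj D) D w} := by
    intro a _ ha2 c hc
    obtain ⟨e, he⟩ := exists_oddAdj_of_component ha2
    exact partner_mem hD he hc
  refine ⟨h1, h2, h3, ?_, ?_, h6⟩
  · -- `⟨W⟩ ∩ D = W`
    ext d
    constructor
    · rintro ⟨hdN, hdD⟩
      have key : ∀ b, ¬ Cfsg.OddAdj D d b := by
        intro b hb
        have hbinv : b⁻¹ = b := inv_eq_of_mem hD hb.2.1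
        have hx : (d * b) ^ 2 ∈ Subgroup.closure {w | Cfsg.IsIsolatedElem (Cfsg.OddAdj D) D w} := by
          have e : (d * b) ^ 2 = d * (b * d * b⁻¹) := by rw [hbinv, pow_two]; group
          rw [e]
          exact Subgroup.mul_mem _ hdN (h2.conj_mem d hdN b)
        obtain ⟨k, hk⟩ := h3 ⟨_, hx⟩
        have hk' : ((d * b) ^ 2) ^ 2 ^ k = 1 := by
          have := congrArg Subtype.val hk
          simpa using this
        have hk2 : (d * b) ^ 2 ^ (k + 1) = 1 := by
          rw [pow_succ, mul_comm, pow_mul]; exact hk'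
        exact mul_ne_one_of_oddAdj hD hb (eq_one_of_odd_of_pow hb.2.2.2 hk2)
      exact ⟨hdD, fun b => ⟨key b, fun hb => key b (oddAdj_symm hD hb)⟩⟩
    · intro hd
      exact ⟨Subgroup.subset_closure hd, hd.1⟩
  · -- commutators between different components
    intro a ha b hb ha2 hb2 hne
    have hainv := inv_eq_of_mem hD ha
    have hbinv := inv_eq_of_mem hD hb
    have haa := mul_self_of_mem hD ha
    have hbb := mul_self_of_mem hD hb
    rcases hD.pair a ha b hb with h | h | h
    · have : a * b * a⁻¹ * b⁻¹ = 1 := by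
        rw [h]; group
      rw [this]; exact Subgroup.one_mem _
    · exfalso
      apply hne
      by_cases hab : a = b
      · rw [hab]
      · exact component_eq_of_reach hD (Relation.ReflTransGen.single ⟨ha, hb, hab, h⟩)
    · obtain ⟨h4, hcD⟩ := h
      have hc_eq : a * b * a⁻¹ * b⁻¹ = (a * b) ^ 2 := by
        rw [hainv, hbinv, pow_two]; group
      rw [hc_eq]
      have h44 : (a * b) ^ 4 = 1 := by rw [← h4, pow_orderOf_eq_one]
      -- `(ab)^2 = (ba)^2`
      have hc' : (a * b) ^ 2 = b * a * b * a := by
        have e1 : (a * b) ^ 2 * (a * b) ^ 2 = 1 := by rw [← pow_add]; exact h44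
        have e2 : (a * b) ^ 2 = ((a * b) ^ 2)⁻¹ := eq_inv_of_mul_eq_one_left e1
        rw [e2, pow_two, mul_inv_rev, mul_inv_rev, hainv, hbinv]; group
      have hc2 : (a * b) ^ 2 = a * b * a * b := by rw [pow_two]; group
      have ha1 := ne_one_of_mem hD ha
      have hb1 := ne_one_of_mem hD hb
      have hca : (a * b) ^ 2 * a = b * a * b := by
        rw [hc']
        calc b * a * b * a * a = b * a * b * (a * a) := by group
          _ = b * a * b := by rw [haa, mul_one]
      have hac : a * (a * b) ^ 2 = b * a * b := by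
        rw [hc2]
        calc a * (a * b * a * b) = (a * a) * b * a * b := by group
          _ = b * a * b := by rw [haa, one_mul]
      have hcb : (a * b) ^ 2 * b = a * b * a := by
        rw [hc2]
        calc a * b * a * b * b = a * b * a * (b * b) := by group
          _ = a * b * a := by rw [hbb, mul_one]
      have hbc : b * (a * b) ^ 2 = a * b * a := by
        rw [hc']
        calc b * (b * a * b * a) = (b * b) * a * b * a := by group
          _ = a * b * a := by rw [hbb, one_mul]
      have hpa : (a * b) ^ 2 ∈ Cfsg.productPartners D a := by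
        refine ⟨⟨hcD, by rw [hca, hac], ?_⟩, ?_⟩
        · intro heq
          rw [heq, haa] at hac
          apply ha1
          have : b * a * b = 1 := hac.symm
          calc a = b * (b * a * b) * b := by
                calc a = (b * b) * a * (b * b) := by rw [hbb, one_mul, mul_one]
                  _ = b * (b * a * b) * b := by group
            _ = 1 := by rw [this, mul_one, hbb]
        · rw [hca]
          have := hD.conj_mem a ha b
          rwa [hbinv] at this
      have hpb : (a * b) ^ 2 ∈ Cfsg.productPartners D b := by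
        refine ⟨⟨hcD, by rw [hcb, hbc], ?_⟩, ?_⟩
        · intro heq
          rw [heq, hbb] at hbc
          apply hb1
          have : a * b * a = 1 := hbc.symm
          calc b = a * (a * b * a) * a := by
                calc b = (a * a) * b * (a * a) := by rw [haa, one_mul, mul_one]
                  _ = a * (a * b * a) * a := by group
            _ = 1 := by rw [this, mul_one, haa]
        · rw [hcb]
          have := hD.conj_mem b hb a
          rwa [hainv] at this
      rcases h6 a ha ha2 hpa with hA | hA
      · rcases h6 b hb hb2 hpb with hB | hB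
        · exfalso
          apply hne
          exact component_eq_of_reach hD (hA.2.trans (reach_symm hD hB.2))
        · exact Subgroup.subset_closure hB
      · exact Subgroup.subset_closure hA

end Cfsg.Agent.S5045
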