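import Cfsg.Statements.S5048
import Cfsg.Agent.H2.RootInvA
import Cfsg.Agent.H2.RootInvB
import Cfsg.Agent.H2.RootInvC
import Cfsg.Agent.Lib.Helper6.RootInvP4

set_option autoImplicit false
set_option linter.style.haveILetI false
open Cfsg

namespace Cfsg.Agent.S5048

open Cfsg.Agent.H2.RootInv

/-- Let G be a finite group generated by a set D of root involutions whose odd-order-product graph is connected, with some product of two different commuting members of D again in D. Then the largest solvable normal subgroup of G is the preimage of the centre of G/O₂(G), and the quotient of G by it is a simple group. -/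
theorem result {G : Type*} [Group G] [Finite G] {D : Set G} (hD : Cfsg.IsRootInvolutionSet D)
    (hc : Cfsg.IsConnectedSet (Cfsg.OddAdj D) D) (hDD : (D ∩ Cfsg.commutingProducts D).Nonempty) :
    Cfsg.solvableRadical G = Cfsg.twoZCore G ∧ IsSimpleGroup (G ⧸ Cfsg.twoZCore G) := by
  classical
  obtain ⟨a, e, hae⟩ := exists_oddAdj hD hc hDD
  have hae1 : a * e ≠ 1 := mul_ne_one_of_oddAdj hD hae
  -- dichotomy
  have hdich : ∀ N : Subgroup G, N.Normal → N ≤ twoZCore G ∨ N = ⊤ := by
    intro N hN
    haveI := hN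
    by_cases h : ∀ d ∈ D, ∀ n ∈ N, ¬ (Odd (orderOf (d * (n * d * n⁻¹))) ∧ d * (n * d * n⁻¹) ≠ 1)
    · left; exact le_twoZCore_of_no_odd hD N h
    · right
      push Not at h
      obtain ⟨d, hd, n, hn, hodd, hne⟩ := h
      have hmem : d * (n * d * n⁻¹) ∈ N := by
        have e1 : d * (n * d * n⁻¹) = (d * n * d⁻¹) * n⁻¹ := by
          rw [inv_eq_of_mem hD hd]; group
        rw [e1]
        exact N.mul_mem (hN.conj_mem n hn d) (N.inv_mem hn)
      exact eq_top_of_odd hD hc hDD N hd (hD.conj_mem d hd n) hmem hodd hne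
  -- `O_{2,Z}(G) ≠ G`
  have hZ : twoZCore G ≠ ⊤ := by
    intro htop
    have hcomm : ∀ x y : G ⧸ pCore 2 G, x * y = y * x := by
      intro x y
      obtain ⟨x, rfl⟩ := QuotientGroup.mk_surjective x
      have hx : x ∈ twoZCore G := by rw [htop]; exact Subgroup.mem_top x
      have hx' : (QuotientGroup.mk' (pCore 2 G)) x ∈ Subgroup.center (G ⧸ pCore 2 G) := hx
      exact (Subgroup.mem_center_iff.mp hx' y).symm
    have hmem := mul_mem_of_comm_quotient hD (pCore 2 G) hcomm hae.1 hae.2.1 hae.2.2.2
    obtain ⟨k, hk⟩ := (Cfsg.Agent.H1.pCore_isPGroup (G := G) 2) ⟨_, hmem⟩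
    have hk' : (a * e) ^ 2 ^ k = 1 := by
      have := congrArg Subtype.val hk
      simpa using this
    exact hae1 (eq_one_of_odd_of_pow hae.2.2.2 hk')
  have hsimple : IsSimpleGroup (G ⧸ twoZCore G) :=
    isSimpleGroup_quotient_of_dichotomy (twoZCore G) hZ hdich
  refine ⟨?_, hsimple⟩
  apply le_antisymm
  · apply sSup_le
    rintro N ⟨hN, hsol⟩
    rcases hdich N hN with h | h
    · exact h
    · exfalso
      -- `G` solvable
      haveI : Group.IsSolvable G := by
        have : Group.IsSolvable (⊤ : Subgroup G) := by rw [← h]; exact hsol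
        exact Group.isSolvable_of_surjective (f := (⊤ : Subgroup G).subtype) (by
          intro x; exact ⟨⟨x, Subgroup.mem_top x⟩, rfl⟩)
      haveI : Group.IsSolvable (G ⧸ twoZCore G) :=
        Group.isSolvable_of_surjective (QuotientGroup.mk'_surjective (twoZCore G))
      haveI := hsimple
      have hcomm : ∀ x y : G ⧸ twoZCore G, x * y = y * x :=
        IsSimpleGroup.comm_iff_isSolvable.mpr inferInstance
      have hmem := mul_mem_of_comm_quotient hD (twoZCore G) hcomm hae.1 hae.2.1 hae.2.2.2
      exact hZ (eq_top_of_odd hD hc hDD (twoZCore G) hae.1 hae.2.1 hmem hae.2.2.2 hae1)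
  · apply le_sSup
    exact ⟨inferInstance, twoZCore_isSolvable⟩

end Cfsg.Agent.S5048
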