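import Mathlib
import Cfsg.Statements.S5049
import Cfsg.Agent.H1.Cores

namespace Cfsg.Agent.S5049

open Cfsg
open scoped commutatorElement

section

variable {G : Type*} [Group G]

theorem sq_eq_one_of_mem {D : Set G} (hD : IsRootInvolutionSet D) {d : G} (hd : d ∈ D) : d * d = 1 := by
  have := hD.orderOf_eq d hd
  rw [← pow_two, ← this, pow_orderOf_eq_one]

theorem inv_eq_self_of_mem {D : Set G} (hD : IsRootInvolutionSet D) {d : G} (hd : d ∈ D) : d⁻¹ = d :=
  inv_eq_of_mul_eq_one_left (sq_eq_one_of_mem hD hd)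

/-- an element of 2-power order and odd order is trivial -/
theorem eq_one_of_two_pow_of_odd {t : G} {k m : ℕ} (h2 : t ^ (2 ^ k) = 1) (hm : Odd m) (h : t ^ m = 1) :
    t = 1 := by
  have h1 : orderOf t ∣ 2 ^ k := orderOf_dvd_of_pow_eq_one h2
  have h3 : orderOf t ∣ m := orderOf_dvd_of_pow_eq_one h
  have hcop : Nat.Coprime (2 ^ k) m := by
    apply Nat.Coprime.pow_left
    rw [Nat.coprime_two_left]
    exact hm
  have : orderOf t ∣ 1 := by
    have := Nat.dvd_gcd h1 h3
    rwa [hcop.gcd_eq_one] at this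
  rw [Nat.dvd_one, orderOf_eq_one_iff] at this
  exact this

theorem exists_two_pow_of_mem_pCore [Finite G] {t : G} (ht : t ∈ pCore 2 G) : ∃ k : ℕ, t ^ (2 ^ k) = 1 := by
  obtain ⟨k, hk⟩ := (Cfsg.Agent.H1.pCore_isPGroup (G := G) 2) ⟨t, ht⟩
  refine ⟨k, ?_⟩
  have := congrArg Subtype.val hk
  simpa using this

/-- Lemma L: two odd transpositions whose product lies in `O₂(G)` commute. -/
theorem commute_of_mul_mem_pCore [Finite G] {D : Set G} (hD : IsOddTranspositionSet D) {d d' : G}
    (hd : d ∈ D) (hd' : d' ∈ D) (h : d * d' ∈ pCore 2 G) : d * d' = d' * d := by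
  rcases hD.1.pair d hd d' hd' with h1 | h1 | h1
  · exact h1
  · obtain ⟨k, hk⟩ := exists_two_pow_of_mem_pCore h
    have h2 : d * d' = 1 := eq_one_of_two_pow_of_odd hk h1 (pow_orderOf_eq_one _)
    have h3 : d' = d := by
      have := inv_eq_of_mul_eq_one_right h2
      rw [inv_eq_self_of_mem hD.1 hd] at this
      exact this.symm
    rw [h3]
  · exact absurd h1.1 (hD.2 d hd d' hd')

theorem conj_mul_mem_pCore {x a : G} (hx : x ∈ pCore 2 G) : x * a * x⁻¹ * a⁻¹ ∈ pCore 2 G := by
  have h1 : a * x⁻¹ * a⁻¹ ∈ pCore 2 G :=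
    (Cfsg.Agent.H1.pCore_normal (G := G) 2).conj_mem _ (Subgroup.inv_mem _ hx) a
  have e : x * a * x⁻¹ * a⁻¹ = x * (a * x⁻¹ * a⁻¹) := by group
  rw [e]
  exact Subgroup.mul_mem _ hx h1

theorem pow_odd_of_sq {y : G} (hy : y * y = 1) {m : ℕ} (hm : Odd m) : y ^ m = y := by
  obtain ⟨j, rfl⟩ := hm
  rw [pow_succ, pow_mul, pow_two, hy, one_pow, one_mul]

/-- `e ∈ D` commuting with `a` commutes with every `Q`-conjugate of `a` -/
theorem commute_conj [Finite G] {D : Set G} (hD : IsOddTranspositionSet D) {a e x : G} (ha : a ∈ D)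
    (he : e ∈ D) (hea : e * a = a * e) (hx : x ∈ pCore 2 G) :
    e * (x * a * x⁻¹) = (x * a * x⁻¹) * e := by
  have ha' : x * a * x⁻¹ ∈ D := hD.1.conj_mem a ha x
  have hainv := inv_eq_self_of_mem hD.1 ha
  have ht : x * a * x⁻¹ * a ∈ pCore 2 G := by
    have := conj_mul_mem_pCore (a := a) hx
    rwa [hainv] at this
  have hcomm : (x * a * x⁻¹) * a = a * (x * a * x⁻¹) := commute_of_mul_mem_pCore hD ha' ha ht
  rcases hD.1.pair e he _ ha' with h1 | h1 | h1
  · exact h1
  · -- work modulo `Q`
    have hN := Cfsg.Agent.H1.pCore_normal (G := G) 2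
    have hpow : (e * (x * a * x⁻¹)) ^ orderOf (e * (x * a * x⁻¹)) = 1 := pow_orderOf_eq_one _
    have hπ : (QuotientGroup.mk' (pCore 2 G)) (x * a * x⁻¹) = (QuotientGroup.mk' (pCore 2 G)) a := by
      have : (QuotientGroup.mk' (pCore 2 G)) (x * a * x⁻¹ * a) = 1 := by
        rw [QuotientGroup.mk'_apply, QuotientGroup.eq_one_iff]; exact ht
      rw [map_mul] at this
      have h2 := eq_inv_of_mul_eq_one_left this
      rw [h2, ← map_inv, hainv]
    have hπ2 : ((QuotientGroup.mk' (pCore 2 G)) (e * a)) ^ orderOf (e * (x * a * x⁻¹)) = 1 := by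
      have := congrArg (QuotientGroup.mk' (pCore 2 G)) hpow
      rw [map_pow, map_mul, hπ, ← map_mul, map_one] at this
      exact this
    have hsq : (QuotientGroup.mk' (pCore 2 G)) (e * a) * (QuotientGroup.mk' (pCore 2 G)) (e * a) = 1 := by
      rw [← map_mul]
      have : e * a * (e * a) = 1 := by
        calc e * a * (e * a) = e * (a * e) * a := by group
          _ = e * (e * a) * a := by rw [hea]
          _ = (e * e) * (a * a) := by group
          _ = 1 := by rw [sq_eq_one_of_mem hD.1 he, sq_eq_one_of_mem hD.1 ha, one_mul]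
      rw [this, map_one]
    rw [pow_odd_of_sq hsq h1, QuotientGroup.mk'_apply, QuotientGroup.eq_one_iff] at hπ2
    -- `e a ∈ Q`, so `e a' ∈ Q`
    have h3 : e * (x * a * x⁻¹) ∈ pCore 2 G := by
      have e1 : e * (x * a * x⁻¹) = (e * (x * a * x⁻¹ * a) * e⁻¹) * (e * a⁻¹) := by group
      rw [e1, hainv]
      exact Subgroup.mul_mem _ (hN.conj_mem _ ht e) hπ2
    exact commute_of_mul_mem_pCore hD he ha' h3
  · exact absurd h1.1 (hD.2 e he _ ha')

theorem inv_aux {a T : G} (hainv : a⁻¹ = a) : a * T⁻¹ * a = (a * T * a)⁻¹ := by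
  calc a * T⁻¹ * a = a⁻¹ * T⁻¹ * a⁻¹ := by rw [hainv]
    _ = (a * T * a)⁻¹ := by group

theorem mem_zpowers_involution {a y : G} (ha : a * a = 1) (hy : y ∈ Subgroup.zpowers a) : y = 1 ∨ y = a := by
  obtain ⟨k, rfl⟩ := hy
  rcases Int.even_or_odd' k with ⟨j, hj | hj⟩
  · left
    show a ^ k = 1
    rw [hj, zpow_mul, zpow_ofNat, pow_two, ha, one_zpow]
  · right
    show a ^ k = a
    rw [hj, zpow_add, zpow_mul, zpow_ofNat, pow_two, ha, one_zpow, one_mul, zpow_one]

end

/-- Let G be a finite group generated by a set D of odd transpositions (root involutions with no product of order 4), Q = O₂(G), and for a ∈ D let Q_a be the commutator subgroup of Q with a. Then every member of D commuting with a centralizes Q_a; and for b ∈ D with ab of odd order greater than 1, the centralizer of ab in Q is the intersection of the centralizers of a and b in Q. -/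
theorem result {G : Type*} [Group G] [Finite G] {D : Set G} (hD : Cfsg.IsOddTranspositionSet D) {a : G} (ha : a ∈ D) :
    (∀ e ∈ Cfsg.commutingMembers D a, ∀ q ∈ ⁅Cfsg.pCore 2 G, Subgroup.zpowers a⁆, e * q = q * e) ∧
    (∀ b ∈ Cfsg.oddPartners D a,
      Cfsg.pCore 2 G ⊓ Subgroup.centralizer {a * b} = Cfsg.pCore 2 G ⊓ Subgroup.centralizer {a} ⊓ Subgroup.centralizer {b}) := by
  have hasq := sq_eq_one_of_mem hD.1 ha
  have hainv := inv_eq_self_of_mem hD.1 ha
  constructor
  · rintro e ⟨he, hea⟩ q hq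
    have hle : ⁅Cfsg.pCore 2 G, Subgroup.zpowers a⁆ ≤ Subgroup.centralizer {e} := by
      rw [Subgroup.commutator_le]
      intro x hx y hy
      rw [Subgroup.mem_centralizer_iff]
      intro w hw
      rw [Set.mem_singleton_iff] at hw
      subst hw
      rcases mem_zpowers_involution hasq hy with rfl | rfl
      · simp
      · have h1 := commute_conj hD ha he hea hx
        rw [commutatorElement_def]
        have c1 : Commute w (x * y * x⁻¹) := h1
        have c2 : Commute w y := hea
        exact (c1.mul_right c2.inv_right).eq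
    have := hle hq
    rw [Subgroup.mem_centralizer_iff] at this
    exact this e rfl
  · rintro b ⟨hb, hba, hodd⟩
    have hbsq := sq_eq_one_of_mem hD.1 hb
    have hbinv := inv_eq_self_of_mem hD.1 hb
    apply le_antisymm
    · intro x hx
      obtain ⟨hxQ, hxab⟩ := Subgroup.mem_inf.1 hx
      rw [Subgroup.mem_centralizer_iff] at hxab
      have hxab' : a * b * x = x * (a * b) := hxab _ rfl
      have ha' : x * a * x⁻¹ ∈ D := hD.1.conj_mem a ha x
      have hb' : x * b * x⁻¹ ∈ D := hD.1.conj_mem b hb x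
      have ht : x * a * x⁻¹ * a ∈ pCore 2 G := by
        have := conj_mul_mem_pCore (a := a) hxQ
        rwa [hainv] at this
      have hcomm : (x * a * x⁻¹) * a = a * (x * a * x⁻¹) := commute_of_mul_mem_pCore hD ha' ha ht
      -- `a' b' = a b`
      have hprod : (x * a * x⁻¹) * (x * b * x⁻¹) = a * b := by
        calc (x * a * x⁻¹) * (x * b * x⁻¹) = x * (a * b) * x⁻¹ := by group
          _ = a * b * x * x⁻¹ := by rw [← hxab']
          _ = a * b := by group
      -- `t = a' a`, `b' = t b`
      have hb'eq : x * b * x⁻¹ = (x * a * x⁻¹ * a) * b := by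
        have h1 : x * b * x⁻¹ = (x * a * x⁻¹)⁻¹ * (a * b) := by
          rw [← hprod]; group
        rw [h1, inv_eq_self_of_mem hD.1 ha']; group
      -- `a` and `b` invert `t`
      have hat : a * (x * a * x⁻¹ * a) * a = (x * a * x⁻¹ * a)⁻¹ := by
        have h1 := sq_eq_one_of_mem hD.1 ha'
        apply eq_inv_of_mul_eq_one_left
        calc a * (x * a * x⁻¹ * a) * a * (x * a * x⁻¹ * a)
            = (a * (x * a * x⁻¹)) * (a * a) * (x * a * x⁻¹) * a := by group
          _ = ((x * a * x⁻¹) * a) * (x * a * x⁻¹) * a := by rw [hasq, mul_one, hcomm]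
          _ = (x * a * x⁻¹) * (a * (x * a * x⁻¹)) * a := by group
          _ = (x * a * x⁻¹) * ((x * a * x⁻¹) * a) * a := by rw [hcomm]
          _ = ((x * a * x⁻¹) * (x * a * x⁻¹)) * (a * a) := by group
          _ = 1 := by rw [h1, hasq, one_mul]
      have hbt : b * (x * a * x⁻¹ * a) * b = (x * a * x⁻¹ * a)⁻¹ := by
        have h1 := sq_eq_one_of_mem hD.1 hb'
        rw [hb'eq] at h1
        apply eq_inv_of_mul_eq_one_left
        calc b * (x * a * x⁻¹ * a) * b * (x * a * x⁻¹ * a)
            = b * ((x * a * x⁻¹ * a) * b * ((x * a * x⁻¹ * a) * b)) * b⁻¹ := by group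
          _ = 1 := by rw [h1]; group
      -- `t` commutes with `a b`
      have htu : (x * a * x⁻¹ * a) * (a * b) = (a * b) * (x * a * x⁻¹ * a) := by
        have h1 : a * (b * (x * a * x⁻¹ * a) * b) * a = x * a * x⁻¹ * a := by
          rw [hbt]
          have : a * (x * a * x⁻¹ * a)⁻¹ * a = (a * (x * a * x⁻¹ * a) * a)⁻¹ := inv_aux hainv
          rw [this, hat, inv_inv]
        calc (x * a * x⁻¹ * a) * (a * b) = (a * (b * (x * a * x⁻¹ * a) * b) * a) * (a * b) := by rw [h1]
          _ = a * b * (x * a * x⁻¹ * a) * (b * (a * a) * b) := by group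
          _ = a * b * (x * a * x⁻¹ * a) := by rw [hasq, mul_one, hbsq, mul_one]
      have hu1 : a * b ≠ 1 := by
        intro h
        apply hba
        have := inv_eq_of_mul_eq_one_right h
        rw [hainv] at this
        exact this.symm
      obtain ⟨k, hk⟩ := exists_two_pow_of_mem_pCore ht
      -- `a' b = t (a b)`
      have ha'b : (x * a * x⁻¹) * b = (x * a * x⁻¹ * a) * (a * b) := by
        calc (x * a * x⁻¹) * b = (x * a * x⁻¹) * (a * a) * b := by rw [hasq, mul_one]
          _ = (x * a * x⁻¹ * a) * (a * b) := by group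
      have hcommtu : Commute (x * a * x⁻¹ * a) (a * b) := htu
      have ht1 : x * a * x⁻¹ * a = 1 := by
        rcases hD.1.pair _ ha' b hb with h1 | h1 | h1
        · exfalso
          -- `(t u)^2 = 1`
          have h2 : ((x * a * x⁻¹ * a) * (a * b)) ^ 2 = 1 := by
            rw [← ha'b, pow_two]
            calc (x * a * x⁻¹) * b * ((x * a * x⁻¹) * b) = (x * a * x⁻¹) * (b * (x * a * x⁻¹)) * b := by group
              _ = (x * a * x⁻¹) * ((x * a * x⁻¹) * b) * b := by rw [h1]
              _ = ((x * a * x⁻¹) * (x * a * x⁻¹)) * (b * b) := by group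
              _ = 1 := by rw [sq_eq_one_of_mem hD.1 ha', hbsq, one_mul]
          rw [hcommtu.mul_pow] at h2
          -- `u^(2 * 2^k) = 1`
          have h3 : (a * b) ^ (2 * 2 ^ k) = 1 := by
            have h4 : (a * b) ^ 2 = ((x * a * x⁻¹ * a) ^ 2)⁻¹ := eq_inv_of_mul_eq_one_right h2
            rw [pow_mul, h4, inv_pow, ← pow_mul, mul_comm, pow_mul, hk, one_pow, inv_one]
          apply hu1
          have h5 : (2 : ℕ) * 2 ^ k = 2 ^ (k + 1) := by ring
          rw [h5] at h3
          exact eq_one_of_two_pow_of_odd h3 hodd (pow_orderOf_eq_one _)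
        · -- odd order
          have h2 : ((x * a * x⁻¹ * a) * (a * b)) ^ orderOf ((x * a * x⁻¹) * b) = 1 := by
            rw [← ha'b]; exact pow_orderOf_eq_one _
          rw [hcommtu.mul_pow] at h2
          have h4 : (x * a * x⁻¹ * a) ^ orderOf ((x * a * x⁻¹) * b) =
              ((a * b) ^ orderOf ((x * a * x⁻¹) * b))⁻¹ := eq_inv_of_mul_eq_one_left h2
          have h3 : (x * a * x⁻¹ * a) ^ (orderOf ((x * a * x⁻¹) * b) * orderOf (a * b)) = 1 := by
            rw [pow_mul, h4, inv_pow, ← pow_mul, mul_comm, pow_mul, pow_orderOf_eq_one, one_pow, inv_one]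
          exact eq_one_of_two_pow_of_odd hk (h1.mul hodd) h3
        · exact absurd h1.1 (hD.2 _ ha' b hb)
      -- so `x` commutes with `a`
      have hxa : a * x = x * a := by
        have h1 : x * a * x⁻¹ = a := by
          have := eq_inv_of_mul_eq_one_left ht1
          rw [hainv] at this
          exact this
        calc a * x = (x * a * x⁻¹) * x := by rw [h1]
          _ = x * a := by group
      have hxb : b * x = x * b := by
        calc b * x = a⁻¹ * (a * b * x) := by group
          _ = a⁻¹ * (x * (a * b)) := by rw [hxab']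
          _ = a⁻¹ * (x * a) * b := by group
          _ = a⁻¹ * (a * x) * b := by rw [hxa]
          _ = x * b := by group
      refine Subgroup.mem_inf.2 ⟨Subgroup.mem_inf.2 ⟨hxQ, ?_⟩, ?_⟩
      · rw [Subgroup.mem_centralizer_iff]
        intro w hw
        rw [Set.mem_singleton_iff] at hw
        subst hw
        exact hxa
      · rw [Subgroup.mem_centralizer_iff]
        intro w hw
        rw [Set.mem_singleton_iff] at hw
        subst hw
        exact hxb
    · intro x hx
      obtain ⟨hx1, hxb⟩ := Subgroup.mem_inf.1 hx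
      obtain ⟨hxQ, hxa⟩ := Subgroup.mem_inf.1 hx1
      refine Subgroup.mem_inf.2 ⟨hxQ, ?_⟩
      rw [Subgroup.mem_centralizer_iff] at hxa hxb ⊢
      intro w hw
      rw [Set.mem_singleton_iff] at hw
      subst hw
      have h1 := hxa a rfl
      have h2 := hxb b rfl
      rw [mul_assoc, h2, ← mul_assoc, h1, mul_assoc]

end Cfsg.Agent.S5049
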