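import Mathlib
import Cfsg.Statements.S5057

set_option autoImplicit false
open Cfsg

namespace Cfsg.Agent.S5057

open Equiv

local notation "A6" => Subtype (fun x => x ∈ alternatingGroup (Fin 6))

/-- element orders in `A6` are at most five -/
theorem small_pow : ∀ g : A6, g ^ 2 = 1 ∨ g ^ 3 = 1 ∨ g ^ 4 = 1 ∨ g ^ 5 = 1 := by
  decide +kernel

/-- a fixed involution -/
def a0 : A6 := ⟨swap 0 1 * swap 2 3, by rw [Perm.mem_alternatingGroup]; decide⟩

theorem a0_ne : a0 ≠ 1 := by decide +kernel
theorem a0_sq : a0 ^ 2 = 1 := by decide +kernel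

theorem conj_a0 : ∀ a : A6, a ≠ 1 → a ^ 2 = 1 → ∃ g : A6, a = g * a0 * g⁻¹ := by
  decide +kernel

theorem inv_iff (d : A6) : orderOf d = 2 ↔ d ≠ 1 ∧ d ^ 2 = 1 := by
  constructor
  · intro h
    refine ⟨?_, ?_⟩
    · rintro rfl
      rw [orderOf_one] at h
      omega
    · rw [← h]
      exact pow_orderOf_eq_one d
  · rintro ⟨h1, h2⟩
    exact orderOf_eq_prime h2 h1

theorem order_le (g : A6) : orderOf g ≤ 5 := by
  rcases small_pow g with h | h | h | h
  · exact (orderOf_le_of_pow_eq_one (by norm_num) h).trans (by norm_num)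
  · exact (orderOf_le_of_pow_eq_one (by norm_num) h).trans (by norm_num)
  · exact (orderOf_le_of_pow_eq_one (by norm_num) h).trans (by norm_num)
  · exact orderOf_le_of_pow_eq_one (by norm_num) h

theorem comm_of_sq {a b : A6} (ha : a ^ 2 = 1) (hb : b ^ 2 = 1) (h : (a * b) ^ 2 = 1) :
    a * b = b * a := by
  have ha' : a⁻¹ = a := by
    rw [inv_eq_iff_mul_eq_one, ← sq, ha]
  have hb' : b⁻¹ = b := by
    rw [inv_eq_iff_mul_eq_one, ← sq, hb]
  have h1 : a * b * (a * b) = 1 := by rw [← sq, h]
  have h2 : a * b = (a * b)⁻¹ := eq_inv_of_mul_eq_one_left h1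
  rw [h2, mul_inv_rev, ha', hb']

theorem pair (a b : A6) (ha : orderOf a = 2) (hb : orderOf b = 2) :
    a * b = b * a ∨ Odd (orderOf (a * b)) ∨ (orderOf (a * b) = 4 ∧ orderOf ((a * b) ^ 2) = 2) := by
  have ha2 := ((inv_iff a).1 ha).2
  have hb2 := ((inv_iff b).1 hb).2
  rcases small_pow (a * b) with h | h | h | h
  · exact Or.inl (comm_of_sq ha2 hb2 h)
  · right; left
    have hd : orderOf (a * b) ∣ 3 := orderOf_dvd_of_pow_eq_one h
    rcases (Nat.dvd_prime Nat.prime_three).1 hd with h1 | h1 <;> rw [h1] <;> decide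
  · by_cases h2 : (a * b) ^ 2 = 1
    · exact Or.inl (comm_of_sq ha2 hb2 h2)
    · right; right
      refine ⟨?_, ?_⟩
      · exact orderOf_eq_prime_pow (p := 2) (n := 1) (by simpa using h2) (by simpa using h)
      · apply orderOf_eq_prime
        · rw [← pow_mul]
          exact h
        · exact h2
  · right; left
    have hd : orderOf (a * b) ∣ 5 := orderOf_dvd_of_pow_eq_one h
    rcases (Nat.dvd_prime Nat.prime_five).1 hd with h1 | h1 <;> rw [h1] <;> decide

theorem conj_mem (d : A6) (hd : orderOf d = 2) (g : A6) : orderOf (g * d * g⁻¹) = 2 := by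
  have := MulEquiv.orderOf_eq (MulAut.conj g) d
  rw [MulAut.conj_apply] at this
  rw [this]
  exact hd

theorem generates : Subgroup.closure {g : A6 | orderOf g = 2} = ⊤ := by
  have hconj : Group.conjugatesOfSet {g : A6 | orderOf g = 2} = {g : A6 | orderOf g = 2} := by
    apply Set.Subset.antisymm
    · intro x hx
      rw [Group.mem_conjugatesOfSet_iff] at hx
      obtain ⟨a, ha, hax⟩ := hx
      obtain ⟨c, rfl⟩ := isConj_iff.1 hax
      exact conj_mem a ha c
    · exact Group.subset_conjugatesOfSet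
  have hN : Subgroup.closure {g : A6 | orderOf g = 2} =
      Subgroup.normalClosure {g : A6 | orderOf g = 2} := by
    unfold Subgroup.normalClosure
    rw [hconj]
  have hs : IsSimpleGroup A6 := alternatingGroup.isSimpleGroup (by simp)
  rw [hN]
  rcases (Subgroup.normalClosure_normal (s := {g : A6 | orderOf g = 2})).eq_bot_or_eq_top with h | h
  · exfalso
    have hmem : a0 ∈ Subgroup.normalClosure {g : A6 | orderOf g = 2} :=
      Subgroup.subset_normalClosure ((inv_iff a0).2 ⟨a0_ne, a0_sq⟩)
    rw [h, Subgroup.mem_bot] at hmem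
    exact a0_ne hmem
  · exact h

/-- The involutions of the alternating group of degree 6 form a class of root involutions (a single conjugacy class of involutions generating the group, any two of which commute, have product of odd order, or have product of order 4 whose square is again an involution of the class), and the product of any two of them has order at most 5. -/
theorem result :
    Cfsg.IsRootInvolutionClass {g : ↥(alternatingGroup (Fin 6)) | orderOf g = 2} ∧
    ∀ d ∈ {g : ↥(alternatingGroup (Fin 6)) | orderOf g = 2}, ∀ e ∈ {g : ↥(alternatingGroup (Fin 6)) | orderOf g = 2},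
      orderOf (d * e) ≤ 5 := by
  refine ⟨⟨⟨fun d hd => hd, generates, fun d hd g => conj_mem d hd g,
    fun a ha b hb => pair a b ha hb⟩, ⟨a0, (inv_iff a0).2 ⟨a0_ne, a0_sq⟩⟩, ?_⟩, ?_⟩
  · intro a ha b hb
    obtain ⟨g, hg⟩ := conj_a0 a ((inv_iff a).1 ha).1 ((inv_iff a).1 ha).2
    obtain ⟨h, hh⟩ := conj_a0 b ((inv_iff b).1 hb).1 ((inv_iff b).1 hb).2
    refine ⟨h * g⁻¹, ?_⟩
    rw [hg, hh]
    group
  · intro d _ e _
    exact order_le (d * e)

end Cfsg.Agent.S5057
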