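import Mathlib
import Cfsg.Statements.S5058
import Cfsg.Agent.Lib.Helper8.SLRootF

set_option autoImplicit false
open Matrix
open Cfsg

namespace Cfsg.Agent.S5058


section Part0

open Matrix Cfsg.Agent.S5016 Cfsg.Agent.Lib.Helper8.RootClass
  Cfsg.Agent.H2.RankOne Cfsg.Agent.Lib.Helper8.SLRoot

section SL2

variable {F : Type*} [Field F]

lemma two_eq_zero' [CharP F 2] : (2 : F) = 0 := by
  have := CharP.cast_eq_zero F 2
  exact_mod_cast this

/-- the matrix of `up s * lo t` -/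
lemma up_lo_coe (s t : F) :
    ((up s * lo t : Matrix.SpecialLinearGroup (Fin 2) F) : Matrix (Fin 2) (Fin 2) F) =
      !![1 + s * t, s; t, 1] := by
  rw [Matrix.SpecialLinearGroup.coe_mul, up_coe, lo_coe]
  ext i j
  fin_cases i <;> fin_cases j <;> simp [Matrix.mul_apply, Fin.sum_univ_two]

lemma up_lo_sq [CharP F 2] (s t : F) :
    (!![1 + s * t, s; t, 1] : Matrix (Fin 2) (Fin 2) F) * !![1 + s * t, s; t, 1] =
      (s * t) • !![1 + s * t, s; t, 1] + 1 := by
  have h2 : (2 : F) = 0 := two_eq_zero'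
  ext i j
  fin_cases i <;> fin_cases j
  · simp [Matrix.mul_apply, Fin.sum_univ_two]
    linear_combination (s * t) * h2
  · simp [Matrix.mul_apply, Fin.sum_univ_two]
    linear_combination s * h2
  · simp [Matrix.mul_apply, Fin.sum_univ_two]
    linear_combination t * h2
  · simp [Matrix.mul_apply, Fin.sum_univ_two]
    ring

lemma pow_form [CharP F 2] (s t : F) (m : ℕ) :
    ∃ a b : F, (!![1 + s * t, s; t, 1] : Matrix (Fin 2) (Fin 2) F) ^ m =
      a • (!![1 + s * t, s; t, 1] : Matrix (Fin 2) (Fin 2) F) + b • (1 : Matrix (Fin 2) (Fin 2) F) := by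
  induction m with
  | zero => exact ⟨0, 1, by simp⟩
  | succ m ih =>
    obtain ⟨a, b, hab⟩ := ih
    refine ⟨a * (s * t) + b, a, ?_⟩
    rw [pow_succ, hab, add_mul, smul_mul_assoc, smul_mul_assoc, one_mul, up_lo_sq, smul_add,
      smul_smul, add_smul]
    abel

lemma odd_order_up_lo [Fintype F] [DecidableEq F] [CharP F 2] (s t : F) (hs : s ≠ 0) (ht : t ≠ 0) :
    Odd (orderOf (up s * lo t : Matrix.SpecialLinearGroup (Fin 2) F)) := by
  have h2 : (2 : F) = 0 := two_eq_zero'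
  set g : Matrix.SpecialLinearGroup (Fin 2) F := up s * lo t with hg
  by_contra hodd
  rw [Nat.not_odd_iff_even] at hodd
  obtain ⟨j, hj⟩ := hodd
  have hpos : 0 < orderOf g := orderOf_pos g
  have hj0 : 0 < j := by omega
  have hjlt : j < orderOf g := by omega
  have hne : g ^ j ≠ 1 := pow_ne_one_of_lt_orderOf hj0.ne' hjlt
  have hsq : g ^ j * g ^ j = 1 := by rw [← pow_add, ← hj, pow_orderOf_eq_one]
  obtain ⟨a, b, hab⟩ := pow_form s t j
  have hH : ((g ^ j : Matrix.SpecialLinearGroup (Fin 2) F) : Matrix (Fin 2) (Fin 2) F) =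
      a • (!![1 + s * t, s; t, 1] : Matrix (Fin 2) (Fin 2) F) +
        b • (1 : Matrix (Fin 2) (Fin 2) F) := by
    rw [Matrix.SpecialLinearGroup.coe_pow, hg, up_lo_coe, hab]
  have hHH := congrArg (fun x : Matrix.SpecialLinearGroup (Fin 2) F =>
    (x : Matrix (Fin 2) (Fin 2) F)) hsq
  simp only [Matrix.SpecialLinearGroup.coe_mul, Matrix.SpecialLinearGroup.coe_one, hH] at hHH
  have e10 := congrFun (congrFun hHH 1) 0
  have e00 := congrFun (congrFun hHH 0) 0
  simp [Matrix.mul_apply, Fin.sum_univ_two] at e10 e00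
  have ha : a = 0 := by
    have h3 : a ^ 2 * s * t ^ 2 = 0 := by
      linear_combination e10 - (a * t * (a + b)) * h2
    have h4 : a ^ 2 = 0 := by
      rcases mul_eq_zero.1 h3 with h5 | h5
      · rcases mul_eq_zero.1 h5 with h6 | h6
        · exact h6
        · exact (hs h6).elim
      · exact (ht ((pow_eq_zero_iff (two_ne_zero)).1 h5)).elim
    exact (pow_eq_zero_iff (two_ne_zero)).1 h4
  subst ha
  have hb : b = 1 := by
    have h3 : (b - 1) * (b - 1) = 0 := by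
      simp at e00
      linear_combination e00 + (1 - b) * h2
    have := mul_self_eq_zero.1 h3
    exact sub_eq_zero.1 this
  subst hb
  apply hne
  apply Subtype.ext
  rw [hH]
  simp

lemma order_three_up_lo [CharP F 2] (s t : F) (hst : s * t = 1) :
    orderOf (up s * lo t : Matrix.SpecialLinearGroup (Fin 2) F) = 3 := by
  have h2 : (2 : F) = 0 := two_eq_zero'
  have hs : s ≠ 0 := by
    rintro rfl
    rw [zero_mul] at hst
    exact zero_ne_one hst
  have : Fact (Nat.Prime 3) := ⟨by norm_num⟩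
  apply orderOf_eq_prime
  · apply Subtype.ext
    have hMM : (!![1 + s * t, s; t, 1] : Matrix (Fin 2) (Fin 2) F) * !![1 + s * t, s; t, 1] =
        !![1 + s * t, s; t, 1] + 1 := by
      have := up_lo_sq s t
      rw [this]
      congr 1
      rw [hst, one_smul]
    have : ∀ X : Matrix (Fin 2) (Fin 2) F, X + 1 + X = 1 := by
      intro X
      have hX : X + X = 0 := by rw [← two_smul F X, h2, zero_smul]
      rw [add_comm X 1, add_assoc, hX, add_zero]
    rw [Matrix.SpecialLinearGroup.coe_pow, up_lo_coe, Matrix.SpecialLinearGroup.coe_one,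
      pow_succ, pow_two, hMM, add_mul, one_mul, hMM]
    exact this _
  · intro h
    have := congrArg (fun x : Matrix.SpecialLinearGroup (Fin 2) F =>
      (x : Matrix (Fin 2) (Fin 2) F) 0 1) h
    simp only [up_lo_coe] at this
    simp at this
    exact hs this

end SL2

end Part0

section Part1

open Matrix Cfsg.Agent.S5016 Cfsg.Agent.Lib.Helper8.RootClass
  Cfsg.Agent.H2.RankOne Cfsg.Agent.Lib.Helper8.SLRoot

section Flags

variable {k : Type*} [Field k]

lemma tv_congr {N : ℕ} {v v' φ φ' : Fin N → k} (h : φ ⬝ᵥ v = 0) (h' : φ' ⬝ᵥ v' = 0)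
    (hv : v' = v) (hφ : φ' = φ) (c : k) : tv v' φ' h' c = tv v φ h c := by
  subst hv hφ
  rfl

lemma tv_smul_right {N : ℕ} (v φ : Fin N → k) (h : φ ⬝ᵥ v = 0) (b : k)
    (h' : (b • φ) ⬝ᵥ v = 0) (c : k) : tv v (b • φ) h' c = tv v φ h (c * b) := by
  apply sl_ext
  intro x
  rw [tv_mulVec, tv_mulVec, smul_dotProduct, smul_eq_mul, mul_assoc]

lemma tv_smul_left {N : ℕ} (v φ : Fin N → k) (h : φ ⬝ᵥ v = 0) (b : k)
    (h' : φ ⬝ᵥ (b • v) = 0) (c : k) : tv (b • v) φ h' c = tv v φ h (c * b) := by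
  apply sl_ext
  intro x
  rw [tv_mulVec, tv_mulVec, smul_smul]
  congr 2
  ring

variable {n : ℕ}

/-- `SL` is transitive on flags -/
lemma exists_flag_map (v φ : Fin (n + 3) → k) (hv : v ≠ 0) (hφ : φ ≠ 0) (h : φ ⬝ᵥ v = 0) :
    ∃ g : Matrix.SpecialLinearGroup (Fin (n + 3)) k,
      (g : Matrix (Fin (n + 3)) (Fin (n + 3)) k) *ᵥ Pi.single 0 1 = v ∧
        pushF g (Pi.single 1 1) = φ := by
  obtain ⟨u, hu⟩ := exists_dot_eq_one φ hφ
  have h01 : (0 : Fin (n + 3)) ≠ 1 := by simp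
  have hli : LinearIndependent k ![v, u] := by
    rw [LinearIndependent.pair_iff]
    intro s t hst
    have h1 := congrArg (fun x => φ ⬝ᵥ x) hst
    simp only [dotProduct_add, dotProduct_smul, h, hu, smul_eq_mul, mul_zero, mul_one, zero_add,
      dotProduct_zero] at h1
    subst h1
    rw [zero_smul, add_zero, smul_eq_zero] at hst
    rcases hst with hst | hst
    · exact ⟨hst, rfl⟩
    · exact (hv hst).elim
  have hli' : LinearIndependent k
      ![(Pi.single (0 : Fin (n + 3)) (1 : k) : Fin (n + 3) → k), Pi.single 1 1] := by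
    rw [LinearIndependent.pair_iff]
    intro s t hst
    have h0 := congrFun hst 0
    have h1 := congrFun hst 1
    simp at h0 h1
    exact ⟨h0, h1⟩
  obtain ⟨g₁, hg0, hg1⟩ := Cfsg.Agent.Lib.Helper5.SLTrans.exists_sl_pair (n + 3) (by omega)
    _ _ v u hli' hli
  set ψ' := pushF g₁ (Pi.single (1 : Fin (n + 3)) (1 : k)) with hψ'
  have hψ'v : ψ' ⬝ᵥ v = 0 := by
    rw [← hg0, hψ', pushF_dot_mulVec, single_dot_single h01]
  have hψ'u : ψ' ⬝ᵥ u = 1 := by
    rw [← hg1, hψ', pushF_dot_mulVec, single_dot_self]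
  have hδu : (φ - ψ') ⬝ᵥ u = 0 := by rw [sub_dotProduct, hu, hψ'u, sub_self]
  have hδv : (φ - ψ') ⬝ᵥ v = 0 := by rw [sub_dotProduct, h, hψ'v, sub_self]
  set h₂ := tv u (φ - ψ') hδu (-1) with hh₂
  refine ⟨h₂ * g₁, ?_, ?_⟩
  · rw [sl_mul_mulVec, hg0, hh₂, tv_mulVec, hδv, mul_zero, zero_smul, add_zero]
  · apply dotProduct_eq
    intro x
    rw [pushF_dot, _root_.mul_inv_rev, sl_mul_mulVec, ← pushF_dot, ← hψ', hh₂, tv_inv, tv_mulVec, neg_neg,
      one_mul, dotProduct_add, dotProduct_smul, hψ'u, sub_dotProduct, smul_eq_mul, mul_one]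
    ring

/-- the standard flag transported by `g` -/
lemma std_flag (g : Matrix.SpecialLinearGroup (Fin (n + 3)) k) :
    (g : Matrix (Fin (n + 3)) (Fin (n + 3)) k) *ᵥ Pi.single 0 1 ≠ 0 ∧
      pushF g (Pi.single (1 : Fin (n + 3)) (1 : k)) ≠ 0 ∧
      pushF g (Pi.single (1 : Fin (n + 3)) (1 : k)) ⬝ᵥ
        ((g : Matrix (Fin (n + 3)) (Fin (n + 3)) k) *ᵥ Pi.single 0 1) = 0 := by
  have h01 : (0 : Fin (n + 3)) ≠ 1 := by simp
  refine ⟨?_, ?_, ?_⟩
  · intro h0
    have := sl_inv_mulVec_mulVec g (Pi.single (0 : Fin (n + 3)) (1 : k))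
    rw [h0, Matrix.mulVec_zero] at this
    exact single_ne_zero' (0 : Fin (n + 3)) this.symm
  · intro h0
    have := pushF_dot_mulVec g (Pi.single (1 : Fin (n + 3)) (1 : k)) (Pi.single 1 1)
    rw [h0, zero_dotProduct, single_dot_self] at this
    exact zero_ne_one this
  · rw [pushF_dot_mulVec, single_dot_single h01]

/-- the set of transvections, as in the statement -/
def DD (n : ℕ) (k : Type*) [Field k] : Set (Matrix.SpecialLinearGroup (Fin (n + 3)) k) :=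
  {t : Matrix.SpecialLinearGroup (Fin (n + 3)) k | ∃ c : k, c ≠ 0 ∧
    ∃ g : Matrix.SpecialLinearGroup (Fin (n + 3)) k,
      ((g⁻¹ * t * g : Matrix.SpecialLinearGroup (Fin (n + 3)) k) :
        Matrix (Fin (n + 3)) (Fin (n + 3)) k) = Matrix.transvection 0 1 c}

lemma mem_DD_iff (t : Matrix.SpecialLinearGroup (Fin (n + 3)) k) :
    t ∈ DD n k ↔ ∃ (v φ : Fin (n + 3) → k) (_ : v ≠ 0) (_ : φ ≠ 0) (h : φ ⬝ᵥ v = 0) (c : k),
      c ≠ 0 ∧ t = tv v φ h c := by
  have h01 : (0 : Fin (n + 3)) ≠ 1 := by simp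
  constructor
  · rintro ⟨c, hc, g, hg⟩
    obtain ⟨f1, f2, f3⟩ := std_flag g
    refine ⟨_, _, f1, f2, f3, c, hc, ?_⟩
    have e : g⁻¹ * t * g = tv (Pi.single 0 1) (Pi.single 1 1) (single_dot_single h01) c := by
      rw [tv_single h01 c]
      exact Subtype.ext hg
    rw [← conj_tv g _ _ (single_dot_single h01) c, ← e]
    group
  · rintro ⟨v, φ, hv, hφ, h, c, hc, rfl⟩
    obtain ⟨g, hg0, hg1⟩ := exists_flag_map v φ hv hφ h
    refine ⟨c, hc, g, ?_⟩
    have e : tv v φ h c = g * tv (Pi.single 0 1) (Pi.single 1 1) (single_dot_single h01) c * g⁻¹ := by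
      rw [conj_tv]
      exact (tv_congr h _ hg0 hg1 c).symm
    rw [e]
    have : g⁻¹ * (g * tv (Pi.single 0 1) (Pi.single 1 1) (single_dot_single h01) c * g⁻¹) * g =
        tv (Pi.single 0 1) (Pi.single 1 1) (single_dot_single h01) c := by group
    rw [this, tv_single h01 c]
    rfl

end Flags

end Part1

section Part2

open Matrix Cfsg.Agent.S5016 Cfsg.Agent.Lib.Helper8.RootClass
  Cfsg.Agent.H2.RankOne Cfsg.Agent.Lib.Helper8.SLRoot

section Order

variable {k : Type*} [Field k] {N : ℕ}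

/-- the product of two opposite transvections has the order of `up s * lo t` -/
lemma order_opp (v φ w ψ : Fin N → k) (h : φ ⬝ᵥ v = 0) (h' : ψ ⬝ᵥ w = 0)
    (h1 : φ ⬝ᵥ w ≠ 0) (h2 : ψ ⬝ᵥ v ≠ 0) (α β : k) :
    orderOf (tv v φ h α * tv w ψ h' β) =
      orderOf (up (α * (φ ⬝ᵥ w)) * lo (β * (ψ ⬝ᵥ v)) : Matrix.SpecialLinearGroup (Fin 2) k) := by
  have hφv : ((φ ⬝ᵥ w)⁻¹ • φ) ⬝ᵥ v = 0 := by rw [smul_dotProduct, h, smul_zero]
  have hψw : ((ψ ⬝ᵥ v)⁻¹ • ψ) ⬝ᵥ w = 0 := by rw [smul_dotProduct, h', smul_zero]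
  have hφw : ((φ ⬝ᵥ w)⁻¹ • φ) ⬝ᵥ w = 1 := by
    rw [smul_dotProduct, smul_eq_mul, inv_mul_cancel₀ h1]
  have hψv : ((ψ ⬝ᵥ v)⁻¹ • ψ) ⬝ᵥ v = 1 := by
    rw [smul_dotProduct, smul_eq_mul, inv_mul_cancel₀ h2]
  have ea : tv v φ h α = tv v ((φ ⬝ᵥ w)⁻¹ • φ) hφv (α * (φ ⬝ᵥ w)) := by
    rw [tv_smul_right v φ h]
    congr 1
    field_simp
  have eb : tv w ψ h' β = tv w ((ψ ⬝ᵥ v)⁻¹ • ψ) hψw (β * (ψ ⬝ᵥ v)) := by
    rw [tv_smul_right w ψ h']
    congr 1
    field_simp
  have e : Matrix.SpecialLinearGroup.toGL (tv v φ h α * tv w ψ h' β) =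
      slHom hφv hψw hφw hψv (up (α * (φ ⬝ᵥ w)) * lo (β * (ψ ⬝ᵥ v))) := by
    rw [ea, eb, map_mul, map_mul]
    congr 1
    · apply Units.ext
      rw [slHom_up]
      rfl
    · apply Units.ext
      rw [slHom_lo]
      rfl
  rw [← orderOf_injective _ toGL_injective, e,
    orderOf_injective _ (slHom_injective hφv hψw hφw hψv)]

end Order

lemma orderOf_conj' {G : Type*} [Group G] (g x : G) : orderOf (g * x * g⁻¹) = orderOf x := by
  have := orderOf_injective (MulAut.conj g).toMonoidHom (MulAut.conj g).injective x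
  simpa using this

section Pair

variable {F : Type*} [Field F] [CharP F 2] {n : ℕ}

lemma tv_sq {N : ℕ} (v φ : Fin N → F) (h : φ ⬝ᵥ v = 0) (c : F) :
    tv v φ h c * tv v φ h c = 1 := by
  have h2 : (2 : F) = 0 := two_eq_zero'
  rw [tv_mul]
  have : c + c = 0 := by linear_combination c * h2
  rw [this, tv_zero]

lemma tv_inv_self {N : ℕ} (v φ : Fin N → F) (h : φ ⬝ᵥ v = 0) (c : F) :
    (tv v φ h c)⁻¹ = tv v φ h c :=
  inv_eq_of_mul_eq_one_right (tv_sq v φ h c)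

lemma tv_mem_DD (v φ : Fin (n + 3) → F) (hv : v ≠ 0) (hφ : φ ≠ 0) (h : φ ⬝ᵥ v = 0) (c : F)
    (hc : c ≠ 0) : tv v φ h c ∈ DD n F :=
  (mem_DD_iff _).2 ⟨v, φ, hv, hφ, h, c, hc, rfl⟩

/-- the order four case -/
lemma order_four (v φ w ψ : Fin (n + 3) → F) (hw : w ≠ 0) (hφ : φ ≠ 0)
    (h : φ ⬝ᵥ v = 0) (h' : ψ ⬝ᵥ w = 0) (h1 : φ ⬝ᵥ w = 0) (h2 : ψ ⬝ᵥ v ≠ 0) (α β : F)
    (hα : α ≠ 0) (hβ : β ≠ 0) :
    orderOf (tv v φ h α * tv w ψ h' β) = 4 ∧ (tv v φ h α * tv w ψ h' β) ^ 2 ∈ DD n F := by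
  have hsq : (tv v φ h α * tv w ψ h' β) ^ 2 = tv w φ h1 (-(α * β * (ψ ⬝ᵥ v))) := by
    rw [← tv_commutator v φ w ψ h h' h1, tv_inv_self, tv_inv_self, pow_two]
    group
  have hγ : -(α * β * (ψ ⬝ᵥ v)) ≠ 0 := neg_ne_zero.2 (mul_ne_zero (mul_ne_zero hα hβ) h2)
  refine ⟨?_, ?_⟩
  · have := orderOf_eq_prime_pow (x := tv v φ h α * tv w ψ h' β) (p := 2) (n := 1) ?_ ?_
    · simpa using this
    · rw [pow_one, hsq, tv_eq_one_iff _ _ _ hw hφ]
      exact hγ
    · have e4 : (2 : ℕ) ^ (1 + 1) = 2 * 2 := by norm_num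
      rw [e4, pow_mul, hsq, pow_two, tv_sq]
  · rw [hsq]
    exact tv_mem_DD w φ hw hφ h1 _ hγ

lemma pair_cases (a b : Matrix.SpecialLinearGroup (Fin (n + 3)) F) (ha : a ∈ DD n F)
    (hb : b ∈ DD n F) :
    a * b = b * a ∨
    (∃ s t : F, s ≠ 0 ∧ t ≠ 0 ∧ orderOf (a * b) =
      orderOf (up s * lo t : Matrix.SpecialLinearGroup (Fin 2) F)) ∨
    (orderOf (a * b) = 4 ∧ (a * b) ^ 2 ∈ DD n F) := by
  obtain ⟨v, φ, hv, hφ, h, α, hα, rfl⟩ := (mem_DD_iff a).1 ha
  obtain ⟨w, ψ, hw, hψ, h', β, hβ, rfl⟩ := (mem_DD_iff b).1 hb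
  by_cases h1 : φ ⬝ᵥ w = 0
  · by_cases h2 : ψ ⬝ᵥ v = 0
    · left
      exact tv_comm_of_perp v φ w ψ h h' h1 h2 α β
    · right; right
      exact order_four v φ w ψ hw hφ h h' h1 h2 α β hα hβ
  · by_cases h2 : ψ ⬝ᵥ v = 0
    · right; right
      obtain ⟨o1, o2⟩ := order_four w ψ v φ hv hψ h' h h2 h1 β α hβ hα
      -- `a * b = a * (b * a) * a⁻¹`
      have e : tv v φ h α * tv w ψ h' β =
          tv v φ h α * (tv w ψ h' β * tv v φ h α) * (tv v φ h α)⁻¹ := by group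
      refine ⟨?_, ?_⟩
      · rw [e, orderOf_conj']
        exact o1
      · rw [e, conj_pow]
        obtain ⟨v₂, φ₂, hv₂, hφ₂, h₂, c, hc, e₂⟩ := (mem_DD_iff _).1 o2
        rw [e₂, conj_tv]
        obtain ⟨f1, f2⟩ : (tv v φ h α : Matrix (Fin (n + 3)) (Fin (n + 3)) F) *ᵥ v₂ ≠ 0 ∧
            pushF (tv v φ h α) φ₂ ≠ 0 := by
          constructor
          · intro h0
            have := sl_inv_mulVec_mulVec (tv v φ h α) v₂
            rw [h0, Matrix.mulVec_zero] at this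
            exact hv₂ this.symm
          · intro h0
            apply hφ₂
            apply dotProduct_eq
            intro x
            have := pushF_dot_mulVec (tv v φ h α) φ₂ x
            rw [h0, zero_dotProduct] at this
            rw [zero_dotProduct, ← this]
        exact tv_mem_DD _ _ f1 f2 _ c hc
    · right; left
      exact ⟨α * (φ ⬝ᵥ w), β * (ψ ⬝ᵥ v), mul_ne_zero hα h1, mul_ne_zero hβ h2,
        order_opp v φ w ψ h h' h1 h2 α β⟩

end Pair

end Part2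

section Part3

open Matrix Cfsg.Agent.S5016 Cfsg.Agent.Lib.Helper8.RootClass
  Cfsg.Agent.H2.RankOne Cfsg.Agent.Lib.Helper8.SLRoot

section Main

variable {F : Type*} [Field F] [Fintype F] [CharP F 2] (n : ℕ)

omit [Fintype F] in
lemma DD_order (d : Matrix.SpecialLinearGroup (Fin (n + 3)) F) (hd : d ∈ DD n F) :
    orderOf d = 2 := by
  obtain ⟨v, φ, hv, hφ, h, c, hc, rfl⟩ := (mem_DD_iff d).1 hd
  apply orderOf_eq_prime
  · rw [pow_two, tv_sq]
  · rw [Ne, tv_eq_one_iff _ _ _ hv hφ]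
    exact hc

omit [Fintype F] in
lemma DD_closure : Subgroup.closure (DD n F) = ⊤ := by
  rw [eq_top_iff, ← iSup_rootF_eq_top, iSup₂_le_iff]
  rintro _ ⟨p, rfl⟩ _ ⟨c, rfl⟩
  by_cases hc : c = 0
  · rw [hc, tv_zero]
    exact Subgroup.one_mem _
  · exact Subgroup.subset_closure (tv_mem_DD _ _ p.2.1 p.2.2.1 _ c hc)

omit [Fintype F] [CharP F 2] in
lemma DD_conj (d : Matrix.SpecialLinearGroup (Fin (n + 3)) F) (hd : d ∈ DD n F)
    (g : Matrix.SpecialLinearGroup (Fin (n + 3)) F) : g * d * g⁻¹ ∈ DD n F := by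
  obtain ⟨c, hc, g₀, hg₀⟩ := hd
  refine ⟨c, hc, g * g₀, ?_⟩
  have : (g * g₀)⁻¹ * (g * d * g⁻¹) * (g * g₀) = g₀⁻¹ * d * g₀ := by group
  rw [this]
  exact hg₀

theorem rootInvolutionSet [DecidableEq F] : IsRootInvolutionSet (DD n F) where
  orderOf_eq := DD_order n
  generates := DD_closure n
  conj_mem := DD_conj n
  pair := by
    intro a ha b hb
    rcases pair_cases a b ha hb with hc | ⟨s, t, hs, ht, hc⟩ | hc
    · exact Or.inl hc
    · right; left
      rw [hc]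
      exact odd_order_up_lo s t hs ht
    · exact Or.inr (Or.inr hc)

omit [Fintype F] [CharP F 2] in
lemma DD_class (a b : Matrix.SpecialLinearGroup (Fin (n + 3)) F) (ha : a ∈ DD n F)
    (hb : b ∈ DD n F) : ∃ g : Matrix.SpecialLinearGroup (Fin (n + 3)) F, b = g * a * g⁻¹ := by
  have h01 : (0 : Fin (n + 3)) ≠ 1 := by simp
  obtain ⟨v, φ, hv, hφ, h, α, hα, rfl⟩ := (mem_DD_iff a).1 ha
  obtain ⟨w, ψ, hw, hψ, h', β, hβ, rfl⟩ := (mem_DD_iff b).1 hb
  obtain ⟨g₁, hg10, hg11⟩ := exists_flag_map v φ hv hφ h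
  have hw' : (β / α) • w ≠ 0 := smul_ne_zero (div_ne_zero hβ hα) hw
  have h'' : ψ ⬝ᵥ ((β / α) • w) = 0 := by rw [dotProduct_smul, h', smul_zero]
  obtain ⟨g₂, hg20, hg21⟩ := exists_flag_map ((β / α) • w) ψ hw' hψ h''
  have e1 : tv v φ h α =
      g₁ * tv (Pi.single 0 1) (Pi.single 1 1) (single_dot_single h01) α * g₁⁻¹ := by
    rw [conj_tv]
    exact (tv_congr h _ hg10 hg11 α).symm
  have e2 : tv w ψ h' β =
      g₂ * tv (Pi.single 0 1) (Pi.single 1 1) (single_dot_single h01) α * g₂⁻¹ := by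
    rw [conj_tv, tv_congr h'' _ hg20 hg21 α, tv_smul_left w ψ h']
    congr 1
    field_simp
  refine ⟨g₂ * g₁⁻¹, ?_⟩
  rw [e1, e2]
  group

theorem rootInvolutionClass [DecidableEq F] : IsRootInvolutionClass (DD n F) := by
  have h01 : (0 : Fin (n + 3)) ≠ 1 := by simp
  refine ⟨rootInvolutionSet n, ?_, fun a ha b hb => DD_class n a b ha hb⟩
  exact ⟨_, tv_mem_DD (Pi.single 0 1) (Pi.single 1 1) (single_ne_zero' 0) (single_ne_zero' 1)
    (single_dot_single h01) 1 one_ne_zero⟩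

theorem threeFour [DecidableEq F] (hF : Fintype.card F = 2) :
    IsThreeFourPlusTranspositionSet (DD n F) := by
  have hone : ∀ x : F, x ≠ 0 → x = 1 := by
    intro x hx
    have := FiniteField.pow_card_sub_one_eq_one x hx
    rw [hF] at this
    simpa using this
  refine ⟨rootInvolutionSet n, ?_⟩
  intro a ha b hb hodd
  rcases pair_cases a b ha hb with hc | ⟨s, t, hs, ht, hc⟩ | hc
  · left
    have ha2 : a * a = 1 := by
      rw [← pow_two, ← DD_order n a ha, pow_orderOf_eq_one]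
    have hb2 : b * b = 1 := by
      rw [← pow_two, ← DD_order n b hb, pow_orderOf_eq_one]
    have h2 : (a * b) ^ 2 = 1 := by
      rw [pow_two, mul_assoc, ← mul_assoc b a b, ← hc, mul_assoc a b b, hb2, mul_one, ha2]
    have hdvd := orderOf_dvd_of_pow_eq_one h2
    rcases (Nat.dvd_prime Nat.prime_two).1 hdvd with h1 | h1
    · exact h1
    · rw [h1] at hodd
      exact absurd hodd (by decide)
  · right
    rw [hc, hone s hs, hone t ht]
    exact order_three_up_lo 1 1 (mul_one 1)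
  · rw [hc.1] at hodd
    exact absurd hodd (by decide)

end Main

theorem result (F : Type*) [Field F] [Fintype F] [CharP F 2] (n : ℕ) :
    Cfsg.IsRootInvolutionClass {t : Matrix.SpecialLinearGroup (Fin (n + 3)) F | ∃ c : F, c ≠ 0 ∧
        ∃ g : Matrix.SpecialLinearGroup (Fin (n + 3)) F, ((g⁻¹ * t * g : Matrix.SpecialLinearGroup (Fin (n + 3)) F) :
          Matrix (Fin (n + 3)) (Fin (n + 3)) F) = Matrix.transvection 0 1 c} ∧
    (Fintype.card F = 2 → Cfsg.IsThreeFourPlusTranspositionSet {t : Matrix.SpecialLinearGroup (Fin (n + 3)) F | ∃ c : F, c ≠ 0 ∧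
        ∃ g : Matrix.SpecialLinearGroup (Fin (n + 3)) F, ((g⁻¹ * t * g : Matrix.SpecialLinearGroup (Fin (n + 3)) F) :
          Matrix (Fin (n + 3)) (Fin (n + 3)) F) = Matrix.transvection 0 1 c}) := by
  classical
  exact ⟨rootInvolutionClass n, fun hF => threeFour n hF⟩

end Part3

end Cfsg.Agent.S5058
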