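import Cfsg.Statements.S5059

set_option autoImplicit false
universe u
open Cfsg

namespace Cfsg.Agent.S5059


variable {k : Type u} [Field k] {M : Type u} [AddCommGroup M] [Module k M]

lemma one_add_mul_one_sub (s : M →ₗ[k] M) (hs : s * s = 0) : (1 + s) * (1 - s) = 1 := by
  calc (1 + s) * (1 - s) = 1 - s * s := by noncomm_ring
    _ = 1 := by rw [hs, sub_zero]

lemma one_sub_mul_one_add (s : M →ₗ[k] M) (hs : s * s = 0) : (1 - s) * (1 + s) = 1 := by
  calc (1 - s) * (1 + s) = 1 - s * s := by noncomm_ring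
    _ = 1 := by rw [hs, sub_zero]

lemma smul_sq_zero (t : M →ₗ[k] M) (ht : t * t = 0) (c : k) : (c • t) * (c • t) = 0 := by
  rw [smul_mul_smul_comm, ht, smul_zero]

/-- the unit `1 + c t` for `t^2 = 0`. -/
def sfUnit (t : M →ₗ[k] M) (ht : t * t = 0) (c : k) : LinearMap.GeneralLinearGroup k M :=
  ⟨1 + c • t, 1 - c • t, one_add_mul_one_sub _ (smul_sq_zero t ht c), one_sub_mul_one_add _ (smul_sq_zero t ht c)⟩

lemma range_le_ker_of_sq (t : M →ₗ[k] M) (ht : t * t = 0) : LinearMap.range t ≤ LinearMap.ker t := by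
  rintro _ ⟨m, rfl⟩
  rw [LinearMap.mem_ker]
  have := LinearMap.congr_fun ht m
  simpa using this

lemma mul_eq_zero_of_range_le_ker (t r : M →ₗ[k] M) (h : LinearMap.range r ≤ LinearMap.ker t) : t * r = 0 := by
  ext m
  have : r m ∈ LinearMap.ker t := h ⟨m, rfl⟩
  simpa using this


variable {k : Type u} [Field k] {M : Type u} [AddCommGroup M] [Module k M]

lemma val_ne_one_of_ne_one {x : LinearMap.GeneralLinearGroup k M} (h : x ≠ 1) : (x : M →ₗ[k] M) - 1 ≠ 0 := by
  intro h0
  apply h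
  apply Units.ext
  rw [sub_eq_zero] at h0
  exact h0

variable [FiniteDimensional k M]

/-- Core lemma: if `x ∈ G` is a unit with `x - 1 = u`, `u*u = 0`, `u ≠ 0`, `range u ≤ range s`, `ker s ≤ ker u`, and
the scalar family of x lies in G, and σ is minimal quadratic with `s = σ - 1`, then `x ∈ E_σ`. -/
lemma mem_sameActionClass_of {G : Subgroup (LinearMap.GeneralLinearGroup k M)}
    {σ : LinearMap.GeneralLinearGroup k M} (hσ : σ ∈ Cfsg.minimalQuadraticElements G)
    {x : LinearMap.GeneralLinearGroup k M} (hxG : x ∈ G)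
    (hsq : ((x : M →ₗ[k] M) - 1) * ((x : M →ₗ[k] M) - 1) = 0) (hne : (x : M →ₗ[k] M) - 1 ≠ 0)
    (hsf : Cfsg.scalarFamily x ⊆ (G : Set (LinearMap.GeneralLinearGroup k M)))
    (hrange : LinearMap.range ((x : M →ₗ[k] M) - 1) ≤ LinearMap.range ((σ : M →ₗ[k] M) - 1))
    (hker : LinearMap.ker ((σ : M →ₗ[k] M) - 1) ≤ LinearMap.ker ((x : M →ₗ[k] M) - 1)) :
    x ∈ Cfsg.sameActionClass G σ := by
  have hxQ : x ∈ Cfsg.quadraticElements G := ⟨hxG, ⟨hsq, hne⟩, hsf⟩
  have h1 : Cfsg.commutatorRank σ ≤ Cfsg.commutatorRank x := hσ.2 x hxQ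
  have h2 : Cfsg.commutatorRank x ≤ Cfsg.commutatorRank σ := Submodule.finrank_mono hrange
  have h3 : Module.finrank k (LinearMap.range ((x : M →ₗ[k] M) - 1)) =
      Module.finrank k (LinearMap.range ((σ : M →ₗ[k] M) - 1)) := le_antisymm h2 h1
  have hr : LinearMap.range ((x : M →ₗ[k] M) - 1) = LinearMap.range ((σ : M →ₗ[k] M) - 1) :=
    Submodule.eq_of_le_of_finrank_eq hrange h3
  have hk : LinearMap.ker ((x : M →ₗ[k] M) - 1) = LinearMap.ker ((σ : M →ₗ[k] M) - 1) := by
    symm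
    apply Submodule.eq_of_le_of_finrank_eq hker
    have e1 := LinearMap.finrank_range_add_finrank_ker ((x : M →ₗ[k] M) - 1)
    have e2 := LinearMap.finrank_range_add_finrank_ker ((σ : M →ₗ[k] M) - 1)
    omega
  refine ⟨⟨hxQ, ?_⟩, hk, hr⟩
  intro π hπ
  exact h2.trans (hσ.2 π hπ)




omit [FiniteDimensional k M] in
lemma sfUnit_mem {G : Subgroup (LinearMap.GeneralLinearGroup k M)} {τ : LinearMap.GeneralLinearGroup k M}
    (hsf : Cfsg.scalarFamily τ ⊆ (G : Set (LinearMap.GeneralLinearGroup k M)))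
    (ht : ((τ : M →ₗ[k] M) - 1) * ((τ : M →ₗ[k] M) - 1) = 0) (c : k) :
    sfUnit ((τ : M →ₗ[k] M) - 1) ht c ∈ G := hsf ⟨c, rfl⟩

lemma mul_mem_aux {G : Subgroup (LinearMap.GeneralLinearGroup k M)}
    {σ : LinearMap.GeneralLinearGroup k M} (hσ : σ ∈ Cfsg.minimalQuadraticElements G)
    {τ ρ : LinearMap.GeneralLinearGroup k M} (hτ : τ ∈ Cfsg.sameActionClass G σ) (hρ : ρ ∈ Cfsg.sameActionClass G σ) :
    ((τ * ρ : LinearMap.GeneralLinearGroup k M) : M →ₗ[k] M) - 1 = ((τ : M →ₗ[k] M) - 1) + ((ρ : M →ₗ[k] M) - 1) ∧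
    (τ * ρ ∈ Cfsg.sameActionClass G σ ∨ τ * ρ = 1) := by
  have hs2 := hσ.1.2.1.1
  have ht2 := hτ.1.1.2.1.1
  have hr2 := hρ.1.1.2.1.1
  set s := (σ : M →ₗ[k] M) - 1 with hs
  set t := (τ : M →ₗ[k] M) - 1 with ht
  set r := (ρ : M →ₗ[k] M) - 1 with hr
  have hsk : LinearMap.range s ≤ LinearMap.ker s := range_le_ker_of_sq s hs2
  have htr : t * r = 0 := by
    apply mul_eq_zero_of_range_le_ker
    rw [hρ.2.2, hτ.2.1]; exact hsk
  have hrt : r * t = 0 := by
    apply mul_eq_zero_of_range_le_ker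
    rw [hτ.2.2, hρ.2.1]; exact hsk
  have hval : ((τ * ρ : LinearMap.GeneralLinearGroup k M) : M →ₗ[k] M) - 1 = t + r := by
    rw [Units.val_mul]
    have e1 : (τ : M →ₗ[k] M) = 1 + t := by rw [ht]; abel
    have e2 : (ρ : M →ₗ[k] M) = 1 + r := by rw [hr]; abel
    rw [e1, e2]
    calc (1 + t) * (1 + r) - 1 = t + r + t * r := by noncomm_ring
      _ = t + r := by rw [htr, add_zero]
  refine ⟨hval, ?_⟩
  by_cases h1 : τ * ρ = 1
  · right; exact h1
  left
  have hsq : (t + r) * (t + r) = 0 := by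
    calc (t + r) * (t + r) = t * t + t * r + r * t + r * r := by noncomm_ring
      _ = 0 := by rw [ht2, htr, hrt, hr2]; simp
  apply mem_sameActionClass_of hσ (G.mul_mem hτ.1.1.1 hρ.1.1.1)
  · rw [hval]; exact hsq
  · exact val_ne_one_of_ne_one h1
  · rintro ν ⟨c, hc⟩
    have : ν = sfUnit t ht2 c * sfUnit r hr2 c := by
      apply Units.ext
      rw [hc, hval, Units.val_mul]
      show 1 + c • (t + r) = (1 + c • t) * (1 + c • r)
      have h0 : (c • t) * (c • r) = 0 := by rw [smul_mul_smul_comm, htr, smul_zero]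
      have key : ∀ a b : M →ₗ[k] M, (1 + a) * (1 + b) = 1 + a + b + a * b := by
        intro a b; noncomm_ring
      rw [key, h0, smul_add]; abel
    rw [this]
    exact G.mul_mem (sfUnit_mem hτ.1.1.2.2 ht2 c) (sfUnit_mem hρ.1.1.2.2 hr2 c)
  · rw [hval]
    rintro _ ⟨m, rfl⟩
    have h1 : t m ∈ LinearMap.range s := by rw [← hτ.2.2]; exact ⟨m, rfl⟩
    have h2 : r m ∈ LinearMap.range s := by rw [← hρ.2.2]; exact ⟨m, rfl⟩
    rw [LinearMap.add_apply]
    exact Submodule.add_mem _ h1 h2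
  · rw [hval]
    intro m hm
    have h1 : m ∈ LinearMap.ker t := by rw [hτ.2.1]; exact hm
    have h2 : m ∈ LinearMap.ker r := by rw [hρ.2.1]; exact hm
    rw [LinearMap.mem_ker] at h1 h2 ⊢
    simp [h1, h2]

lemma inv_mem_aux {G : Subgroup (LinearMap.GeneralLinearGroup k M)}
    {σ : LinearMap.GeneralLinearGroup k M} (hσ : σ ∈ Cfsg.minimalQuadraticElements G)
    {τ : LinearMap.GeneralLinearGroup k M} (hτ : τ ∈ Cfsg.sameActionClass G σ) :
    τ⁻¹ ∈ Cfsg.sameActionClass G σ := by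
  have ht2 := hτ.1.1.2.1.1
  set t := (τ : M →ₗ[k] M) - 1 with ht
  have hinv : τ⁻¹ = sfUnit t ht2 (-1) := by
    rw [inv_eq_iff_mul_eq_one]
    apply Units.ext
    rw [Units.val_mul]
    show (τ : M →ₗ[k] M) * (1 + (-1 : k) • t) = 1
    have e1 : (τ : M →ₗ[k] M) = 1 + t := by rw [ht]; abel
    rw [e1, neg_one_smul]
    calc (1 + t) * (1 + -t) = 1 - t * t := by noncomm_ring
      _ = 1 := by rw [ht2, sub_zero]
  have hval : ((τ⁻¹ : LinearMap.GeneralLinearGroup k M) : M →ₗ[k] M) - 1 = -t := by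
    rw [hinv]
    show (1 + (-1 : k) • t) - 1 = -t
    rw [neg_one_smul]; abel
  apply mem_sameActionClass_of hσ (G.inv_mem hτ.1.1.1)
  · rw [hval]; rw [neg_mul_neg]; exact ht2
  · rw [hval]; exact neg_ne_zero.mpr hτ.1.1.2.1.2
  · rintro ν ⟨c, hc⟩
    apply hτ.1.1.2.2
    refine ⟨-c, ?_⟩
    rw [hc, hval, neg_smul, smul_neg]
  · rw [hval, LinearMap.range_neg, hτ.2.2]
  · rw [hval, LinearMap.ker_neg, hτ.2.1]




/-- The subgroup `E_σ ∪ {1}`. -/
def classSubgroup (G : Subgroup (LinearMap.GeneralLinearGroup k M))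
    {σ : LinearMap.GeneralLinearGroup k M} (hσ : σ ∈ Cfsg.minimalQuadraticElements G) :
    Subgroup (LinearMap.GeneralLinearGroup k M) where
  carrier := Cfsg.sameActionClass G σ ∪ {1}
  one_mem' := Or.inr rfl
  mul_mem' := by
    rintro a b (ha | ha) (hb | hb)
    · rcases (mul_mem_aux hσ ha hb).2 with h | h
      · exact Or.inl h
      · exact Or.inr h
    · rw [Set.mem_singleton_iff] at hb; subst hb; rw [mul_one]; exact Or.inl ha
    · rw [Set.mem_singleton_iff] at ha; subst ha; rw [one_mul]; exact Or.inl hb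
    · rw [Set.mem_singleton_iff] at ha hb; subst ha; subst hb; rw [mul_one]; exact Or.inr rfl
  inv_mem' := by
    rintro a (ha | ha)
    · exact Or.inl (inv_mem_aux hσ ha)
    · rw [Set.mem_singleton_iff] at ha; subst ha; rw [inv_one]; exact Or.inr rfl

lemma sameActionSubgroup_eq (G : Subgroup (LinearMap.GeneralLinearGroup k M))
    {σ : LinearMap.GeneralLinearGroup k M} (hσ : σ ∈ Cfsg.minimalQuadraticElements G) :
    Cfsg.sameActionSubgroup G σ = classSubgroup G hσ := by
  apply le_antisymm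
  · rw [Cfsg.sameActionSubgroup, Subgroup.closure_le]
    intro x hx; exact Or.inl hx
  · rintro x (hx | hx)
    · exact Subgroup.subset_closure hx
    · rw [Set.mem_singleton_iff] at hx; subst hx; exact Subgroup.one_mem _

lemma pow_val {τ : LinearMap.GeneralLinearGroup k M}
    (ht2 : ((τ : M →ₗ[k] M) - 1) * ((τ : M →ₗ[k] M) - 1) = 0) (n : ℕ) :
    ((τ ^ n : LinearMap.GeneralLinearGroup k M) : M →ₗ[k] M) = 1 + (n : k) • ((τ : M →ₗ[k] M) - 1) := by
  induction n with
  | zero => simp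
  | succ n ih =>
    rw [pow_succ, Units.val_mul, ih]
    set t := (τ : M →ₗ[k] M) - 1 with ht
    have e1 : (τ : M →ₗ[k] M) = 1 + t := by rw [ht]; abel
    rw [e1]
    have key : ∀ a b : M →ₗ[k] M, (1 + a) * (1 + b) = 1 + a + b + a * b := by
      intro a b; noncomm_ring
    rw [key, smul_mul_assoc, ht2, smul_zero, add_zero]
    push_cast
    rw [add_smul, one_smul]; abel

/-- Let k be a field of characteristic not 2 with k not of order 3, M a finite-dimensional k-vector space and G ≤ GL(M) such that (G, M) is a quadratic pair (M irreducible for G, and G generated by its quadratically acting elements σ whose scalar family 1 + c(σ − 1), c ∈ k, lies in G). Write 𝒬_d for the quadratic elements of G of minimal commutator rank, E(σ) for the subgroup generated by the members of 𝒬_d with the same fixed space and commutator space as σ, and Σ for the set of these subgroups. Then for σ ∈ 𝒬_d the subgroup E(σ) consists exactly of those members together with the identity,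 it is abelian, and if k has prime characteristic p every element of E(σ) has order dividing p. -/
theorem result {k : Type u} [Field k] (hk2 : ringChar k ≠ 2) (hk3 : Nat.card k ≠ 3)
    {M : Type u} [AddCommGroup M] [Module k M] [FiniteDimensional k M]
    {G : Subgroup (LinearMap.GeneralLinearGroup k M)} (hG : Cfsg.IsQuadraticPair G)
    {σ : LinearMap.GeneralLinearGroup k M} (hσ : σ ∈ Cfsg.minimalQuadraticElements G) :
    (Cfsg.sameActionSubgroup G σ : Set (LinearMap.GeneralLinearGroup k M)) = Cfsg.sameActionClass G σ ∪ {1} ∧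
    IsMulCommutative ↥(Cfsg.sameActionSubgroup G σ) ∧
    (∀ p : ℕ, p.Prime → ringChar k = p → ∀ x ∈ Cfsg.sameActionSubgroup G σ, x ^ p = 1) := by
  have hE := sameActionSubgroup_eq G hσ
  refine ⟨?_, ?_, ?_⟩
  · rw [hE]; rfl
  · refine ⟨⟨?_⟩⟩
    rintro ⟨a, ha⟩ ⟨b, hb⟩
    apply Subtype.ext
    show a * b = b * a
    rw [hE] at ha hb
    rcases ha with ha | ha
    · rcases hb with hb | hb
      · apply Units.ext
        have h1 := (mul_mem_aux hσ ha hb).1
        have h2 := (mul_mem_aux hσ hb ha).1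
        rw [sub_eq_iff_eq_add] at h1 h2
        rw [h1, h2, add_comm ((a : M →ₗ[k] M) - 1)]
      · rw [Set.mem_singleton_iff] at hb; subst hb; rw [mul_one, one_mul]
    · rw [Set.mem_singleton_iff] at ha; subst ha; rw [mul_one, one_mul]
  · intro p hp hchar x hx
    rw [hE] at hx
    rcases hx with hx | hx
    · apply Units.ext
      rw [pow_val hx.1.1.2.1.1]
      haveI : CharP k p := by rw [← hchar]; exact ringChar.charP k
      rw [CharP.cast_eq_zero k p, zero_smul, add_zero]
      rfl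
    · rw [Set.mem_singleton_iff] at hx; subst hx; exact one_pow p

end Cfsg.Agent.S5059
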