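import Mathlib
import Cfsg.Statements.S5067
import Cfsg.Agent.S4204

namespace Cfsg.Agent.S5067

open Cfsg.Agent.S4204
open scoped commutatorElement

theorem normal_of_commutator_le {P : Type*} [Group P] (H : Subgroup P)
    (h : ⁅(⊤ : Subgroup P), (⊤ : Subgroup P)⁆ ≤ H) : H.Normal := by
  constructor
  intro n hn g
  have h1 : ⁅g, n⁆ ∈ H := h (Subgroup.commutator_mem_commutator (Subgroup.mem_top g) (Subgroup.mem_top n))
  have e : g * n * g⁻¹ = ⁅g, n⁆ * n := by
    rw [commutatorElement_def]; group
  rw [e]
  exact H.mul_mem h1 hn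

theorem key {P : Type*} [Group P] (E : Subgroup P) (hE : IsMulCommutative ↥E) (k : ℕ) :
    (Subgroup.normalClosure (E : Set P)).lowerCentralSeries (k + 1) ≤
      (⊤ : Subgroup P).lowerCentralSeries (k + 2) := by
  induction k with
  | zero =>
    have hN : Subgroup.normalClosure (E : Set P) ≤ E ⊔ (⊤ : Subgroup P).lowerCentralSeries 1 := by
      have hnorm : (E ⊔ (⊤ : Subgroup P).lowerCentralSeries 1).Normal :=
        normal_of_commutator_le _ le_sup_right
      exact Subgroup.normalClosure_le_normal (N := E ⊔ (⊤ : Subgroup P).lowerCentralSeries 1)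
        (fun x hx => (le_sup_left : E ≤ _) hx)
    have hEE : ⁅E, E⁆ = ⊥ := by
      rw [Subgroup.commutator_eq_bot_iff_le_centralizer]
      intro x hx
      rw [Subgroup.mem_centralizer_iff]
      intro y hy
      have h2 : (⟨y, hy⟩ : E) * ⟨x, hx⟩ = ⟨x, hx⟩ * ⟨y, hy⟩ := isMulCommutative_iff.1 hE _ _
      exact congrArg Subtype.val h2
    have hL2 : ∀ X : Subgroup P, ⁅(⊤ : Subgroup P).lowerCentralSeries 1, X⁆ ≤
        (⊤ : Subgroup P).lowerCentralSeries 2 := by
      intro X
      show _ ≤ ⁅(⊤ : Subgroup P).lowerCentralSeries 1, ⊤⁆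
      exact Subgroup.commutator_mono le_rfl le_top
    have hL2' : ∀ X : Subgroup P, ⁅X, (⊤ : Subgroup P).lowerCentralSeries 1⁆ ≤
        (⊤ : Subgroup P).lowerCentralSeries 2 := by
      intro X
      rw [Subgroup.commutator_comm]; exact hL2 X
    show ⁅Subgroup.normalClosure (E : Set P), Subgroup.normalClosure (E : Set P)⁆ ≤ _
    refine le_trans (Subgroup.commutator_mono hN hN) ?_
    apply commutator_sup_le
    · rw [Subgroup.commutator_comm]
      apply commutator_sup_le
      · rw [hEE]; exact bot_le
      · exact hL2' _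
    · exact hL2' _
  | succ k ih =>
    show ⁅(Subgroup.normalClosure (E : Set P)).lowerCentralSeries (k + 1), _⁆ ≤
      ⁅(⊤ : Subgroup P).lowerCentralSeries (k + 2), ⊤⁆
    exact Subgroup.commutator_mono ih le_top

theorem main {P : Type*} [Group P] [Group.IsNilpotent P]
    (hna : ¬ IsMulCommutative P) {E : Subgroup P} (hE : IsMulCommutative ↥E) :
    Group.nilpotencyClass ↥(Subgroup.normalClosure (E : Set P)) < Group.nilpotencyClass P := by
  have hc : 2 ≤ Group.nilpotencyClass P := by
    by_contra hlt
    apply hna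
    have h1 : Group.nilpotencyClass P ≤ 1 := by omega
    rw [← Subgroup.lowerCentralSeries_eq_bot_iff_nilpotencyClass_le] at h1
    rw [isMulCommutative_iff]
    intro a b
    have h2 : ⁅a, b⁆ ∈ (⊤ : Subgroup P).lowerCentralSeries 1 :=
      Subgroup.commutator_mem_commutator (Subgroup.mem_top a) (Subgroup.mem_top b)
    rw [h1, Subgroup.mem_bot, commutatorElement_eq_one_iff_mul_comm] at h2
    exact h2
  obtain ⟨k, hk⟩ : ∃ k, Group.nilpotencyClass P = k + 2 := ⟨Group.nilpotencyClass P - 2, by omega⟩
  have h1 := key E hE k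
  rw [← hk, Subgroup.lowerCentralSeries_nilpotencyClass, le_bot_iff] at h1
  have h2 : (⊤ : Subgroup ↥(Subgroup.normalClosure (E : Set P))).lowerCentralSeries (k + 1) = ⊥ := by
    rw [← Subgroup.map_eq_bot_iff_of_injective _ (Subgroup.subtype_injective _),
      Subgroup.top_subtype_lowerCentralSeries]
    exact h1
  rw [Subgroup.lowerCentralSeries_eq_bot_iff_nilpotencyClass_le] at h2
  omega

/-- Let P be a non-abelian nilpotent p-group (every element of p-power order; P possibly infinite) generated by two abelian subgroups E and F. Then the normal closure of E in P, and likewise that of F, has nilpotency class strictly smaller than that of P. -/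
theorem result {P : Type*} [Group P] {p : ℕ} [Fact p.Prime] (hP : IsPGroup p P) [Group.IsNilpotent P]
    (hna : ¬ IsMulCommutative P) {E F : Subgroup P} (hE : IsMulCommutative ↥E) (hF : IsMulCommutative ↥F) (hgen : E ⊔ F = ⊤) :
    Group.nilpotencyClass ↥(Subgroup.normalClosure (E : Set P)) < Group.nilpotencyClass P ∧
    Group.nilpotencyClass ↥(Subgroup.normalClosure (F : Set P)) < Group.nilpotencyClass P :=
  ⟨main hna hE, main hna hF⟩

end Cfsg.Agent.S5067
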