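import Mathlib
import Cfsg.Statements.S5070
import Cfsg.Agent.Lib.Helper8.SpRootB

set_option autoImplicit false
open Matrix
open Cfsg

namespace Cfsg.Agent.S5070


section Part0

open Matrix Cfsg.Agent.Lib.Helper5.Symp Cfsg.Agent.S5016 Cfsg.Agent.Lib.Helper8.RootClass
  Cfsg.Agent.H2.RankOne Cfsg.Agent.Lib.Helper8.SpRoot

section Main

variable {F : Type*} [Field F] (m : ℕ)

/-- the defining set of `T(p)` -/
def Yset (m : ℕ) (p : Fin m ⊕ Fin m → F) : Set ↥(Matrix.symplecticGroup (Fin m) F) :=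
  {g : ↥(Matrix.symplecticGroup (Fin m) F) | ∃ c : F, ∀ v : Fin m ⊕ Fin m → F,
    (g : Matrix (Fin m ⊕ Fin m) (Fin m ⊕ Fin m) F) *ᵥ v =
      v + (c * (v ⬝ᵥ (Matrix.J (Fin m) F *ᵥ p))) • p}

lemma closure_Yset (p : Fin m ⊕ Fin m → F) : Subgroup.closure (Yset m p) = rootSp m p := by
  have : Yset m p = (rootSp m p : Set ↥(Matrix.symplecticGroup (Fin m) F)) := by
    ext g
    constructor
    · rintro ⟨c, hc⟩
      refine ⟨c, Subtype.ext ?_⟩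
      rw [sympT_coe, Matrix.ext_iff_mulVec]
      intro v
      rw [hc, sympTransvection_mulVec]
      rfl
    · rintro ⟨c, rfl⟩
      refine ⟨c, fun v => ?_⟩
      rw [sympT_coe, sympTransvection_mulVec]
      rfl
  rw [this, Subgroup.closure_eq]

theorem main (hm : 1 ≤ m) (S : Set (Subgroup ↥(Matrix.symplecticGroup (Fin m) F)))
    (hS : S = {A : Subgroup ↥(Matrix.symplecticGroup (Fin m) F) | ∃ p : Fin m ⊕ Fin m → F,
      p ≠ 0 ∧ A = Subgroup.closure (Yset m p)}) :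
    Cfsg.IsRootSubgroupClass S ∧ Cfsg.IsDegenerateRootSet S ∧ Cfsg.IsKRootSubgroupSet F S ∧
      Cfsg.IsConnectedFamily (Cfsg.FAdj S) S := by
  have ts := transvectionSystem (F := F) m hm
  have hrange : S = Set.range (fun p : Pt m F => rootSp m p.1) := by
    rw [hS]
    ext A
    constructor
    · rintro ⟨p, hp, rfl⟩
      exact ⟨⟨p, hp⟩, (closure_Yset m p).symm⟩
    · rintro ⟨p, rfl⟩
      exact ⟨p.1, p.2, (closure_Yset m p.1).symm⟩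
  rw [hrange]
  exact ⟨ts.isRootSubgroupClass, ts.isDegenerate, ts.isKRoot, ts.isConnected⟩

end Main

theorem result (F : Type*) [Field F] (m : ℕ) :
    Cfsg.IsRootSubgroupClass {A : Subgroup ↥(Matrix.symplecticGroup (Fin (m + 1)) F) | ∃ p : Fin (m + 1) ⊕ Fin (m + 1) → F, p ≠ 0 ∧
        A = Subgroup.closure {g : ↥(Matrix.symplecticGroup (Fin (m + 1)) F) | ∃ c : F, ∀ v : Fin (m + 1) ⊕ Fin (m + 1) → F,
          (g : Matrix (Fin (m + 1) ⊕ Fin (m + 1)) (Fin (m + 1) ⊕ Fin (m + 1)) F) *ᵥ v =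
            v + (c * (v ⬝ᵥ (Matrix.J (Fin (m + 1)) F *ᵥ p))) • p}} ∧
    Cfsg.IsDegenerateRootSet {A : Subgroup ↥(Matrix.symplecticGroup (Fin (m + 1)) F) | ∃ p : Fin (m + 1) ⊕ Fin (m + 1) → F, p ≠ 0 ∧
        A = Subgroup.closure {g : ↥(Matrix.symplecticGroup (Fin (m + 1)) F) | ∃ c : F, ∀ v : Fin (m + 1) ⊕ Fin (m + 1) → F,
          (g : Matrix (Fin (m + 1) ⊕ Fin (m + 1)) (Fin (m + 1) ⊕ Fin (m + 1)) F) *ᵥ v =
            v + (c * (v ⬝ᵥ (Matrix.J (Fin (m + 1)) F *ᵥ p))) • p}} ∧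
    Cfsg.IsKRootSubgroupSet F {A : Subgroup ↥(Matrix.symplecticGroup (Fin (m + 1)) F) | ∃ p : Fin (m + 1) ⊕ Fin (m + 1) → F, p ≠ 0 ∧
        A = Subgroup.closure {g : ↥(Matrix.symplecticGroup (Fin (m + 1)) F) | ∃ c : F, ∀ v : Fin (m + 1) ⊕ Fin (m + 1) → F,
          (g : Matrix (Fin (m + 1) ⊕ Fin (m + 1)) (Fin (m + 1) ⊕ Fin (m + 1)) F) *ᵥ v =
            v + (c * (v ⬝ᵥ (Matrix.J (Fin (m + 1)) F *ᵥ p))) • p}} ∧
    Cfsg.IsConnectedFamily (Cfsg.FAdj {A : Subgroup ↥(Matrix.symplecticGroup (Fin (m + 1)) F) | ∃ p : Fin (m + 1) ⊕ Fin (m + 1) → F, p ≠ 0 ∧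
        A = Subgroup.closure {g : ↥(Matrix.symplecticGroup (Fin (m + 1)) F) | ∃ c : F, ∀ v : Fin (m + 1) ⊕ Fin (m + 1) → F,
          (g : Matrix (Fin (m + 1) ⊕ Fin (m + 1)) (Fin (m + 1) ⊕ Fin (m + 1)) F) *ᵥ v =
            v + (c * (v ⬝ᵥ (Matrix.J (Fin (m + 1)) F *ᵥ p))) • p}})
      {A : Subgroup ↥(Matrix.symplecticGroup (Fin (m + 1)) F) | ∃ p : Fin (m + 1) ⊕ Fin (m + 1) → F, p ≠ 0 ∧
        A = Subgroup.closure {g : ↥(Matrix.symplecticGroup (Fin (m + 1)) F) | ∃ c : F, ∀ v : Fin (m + 1) ⊕ Fin (m + 1) → F,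
          (g : Matrix (Fin (m + 1) ⊕ Fin (m + 1)) (Fin (m + 1) ⊕ Fin (m + 1)) F) *ᵥ v =
            v + (c * (v ⬝ᵥ (Matrix.J (Fin (m + 1)) F *ᵥ p))) • p}} := by
  exact main (m + 1) (by omega) _ rfl

end Part0

end Cfsg.Agent.S5070
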