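import Mathlib
import Cfsg.Statements.S5071
import Cfsg.Agent.Lib.Helper8.SURootC
import Cfsg.Agent.S0781

set_option autoImplicit false
open Matrix
open Cfsg

namespace Cfsg.Agent.S5071


section Part0

open Cfsg.Agent.S5631 Cfsg.Agent.S5643 Cfsg.Agent.Lib.Helper8.Unitary
  Cfsg.Agent.Lib.Helper8.SUGen Cfsg.Agent.Lib.Helper8.SUMax Cfsg.Agent.Lib.Helper8.SUConj
  Cfsg.Agent.S0283 Cfsg.Agent.S5016 Cfsg.Agent.Lib.Helper8.RootClass Cfsg.Agent.H2.RankOne
  Cfsg.Agent.Lib.Helper8.SURoot Cfsg.Agent.S0781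

section SubField

variable {F : Type*} [Field F] [Fintype F] {q : ℕ}

lemma exists_subfield (hF : Fintype.card F = q ^ 2) :
    ∃ (L : Type) (_ : Field L) (_ : Fintype L) (ι : L →+* F), Fintype.card L = q ∧
      (∀ x, (ι x) ^ q = ι x) ∧ (∀ y : F, y ^ q = y → ∃ x, ι x = y) := by
  classical
  obtain ⟨p, hchar⟩ := CharP.exists F
  haveI := hchar
  obtain ⟨m, hp, hm⟩ := FiniteField.card F p
  haveI : Fact p.Prime := ⟨hp⟩
  have hq2 : q ^ 2 = p ^ (m : ℕ) := by rw [← hF, hm]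
  have hqdvd : q ∣ p ^ (m : ℕ) := by rw [← hq2]; exact dvd_pow_self q two_ne_zero
  obtain ⟨k, hkm, hqk⟩ := (Nat.dvd_prime_pow hp).1 hqdvd
  have hcard1 : 1 < Fintype.card F := Fintype.one_lt_card
  have hk0 : k ≠ 0 := by
    rintro rfl
    rw [pow_zero] at hqk
    rw [hF, hqk] at hcard1
    simp at hcard1
  have hq1 : 1 < q := by
    rw [hqk]
    exact Nat.one_lt_pow hk0 hp.one_lt
  have hm2 : (m : ℕ) = k * 2 := by
    rw [hqk, ← pow_mul] at hq2
    exact (Nat.pow_right_injective hp.two_le hq2).symm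
  letI : Algebra (ZMod p) F := ZMod.algebra F p
  have hfr : Module.finrank (ZMod p) F = k * 2 := by
    have := FiniteField.pow_finrank_eq_card p F
    rw [hm, hm2] at this
    exact Nat.pow_right_injective hp.two_le this
  have hfrL : Module.finrank (ZMod p) (GaloisField p k) = k := GaloisField.finrank p hk0
  obtain ⟨ι'⟩ := FiniteField.nonempty_algHom_of_finrank_dvd (F := ZMod p)
    (K := GaloisField p k) (L := F) (by rw [hfrL, hfr]; exact dvd_mul_right k 2)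
  letI : Fintype (GaloisField p k) := Fintype.ofFinite _
  have hcardL : Fintype.card (GaloisField p k) = q := by
    rw [Fintype.card_eq_nat_card, GaloisField.card p k hk0, hqk]
  have hι : ∀ x, ((ι' : GaloisField p k →+* F) x) ^ q = (ι' : GaloisField p k →+* F) x := by
    intro x
    rw [← map_pow, ← hcardL, FiniteField.pow_card]
  refine ⟨GaloisField p k, inferInstance, inferInstance, (ι' : GaloisField p k →+* F), hcardL,
    hι, ?_⟩
  set S : Finset F := Finset.univ.filter (fun y : F => y ^ q = y) with hS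
  set T : Finset F := Finset.univ.image (ι' : GaloisField p k →+* F) with hT
  have hTS : T ⊆ S := by
    intro y hy
    rw [hT, Finset.mem_image] at hy
    obtain ⟨x, -, rfl⟩ := hy
    rw [hS, Finset.mem_filter]
    exact ⟨Finset.mem_univ _, hι x⟩
  have hcT : T.card = q := by
    rw [hT, Finset.card_image_of_injective _ (ι' : GaloisField p k →+* F).injective,
      Finset.card_univ, hcardL]
  have hcS : S.card ≤ q := by
    have hne : (Polynomial.X ^ q - Polynomial.X : Polynomial F) ≠ 0 :=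
      FiniteField.X_pow_card_sub_X_ne_zero F hq1
    have hsub : S ⊆ (Polynomial.X ^ q - Polynomial.X : Polynomial F).roots.toFinset := by
      intro y hy
      rw [hS, Finset.mem_filter] at hy
      rw [Multiset.mem_toFinset, Polynomial.mem_roots hne, Polynomial.IsRoot.def]
      simp [hy.2]
    calc S.card ≤ (Polynomial.X ^ q - Polynomial.X : Polynomial F).roots.toFinset.card :=
          Finset.card_le_card hsub
      _ ≤ Multiset.card (Polynomial.X ^ q - Polynomial.X : Polynomial F).roots :=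
          Multiset.toFinset_card_le _
      _ ≤ (Polynomial.X ^ q - Polynomial.X : Polynomial F).natDegree := Polynomial.card_roots' _
      _ = q := FiniteField.X_pow_card_sub_X_natDegree_eq F hq1
  have hTeq : T = S := Finset.eq_of_subset_of_card_le hTS (by rw [hcT]; exact hcS)
  intro y hy
  have : y ∈ T := by
    rw [hTeq, hS, Finset.mem_filter]
    exact ⟨Finset.mem_univ _, hy⟩
  rw [hT, Finset.mem_image] at this
  obtain ⟨x, -, hx⟩ := this
  exact ⟨x, hx⟩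

end SubField

end Part0

section Part1

open Cfsg.Agent.S5631 Cfsg.Agent.S5643 Cfsg.Agent.Lib.Helper8.Unitary
  Cfsg.Agent.Lib.Helper8.SUGen Cfsg.Agent.Lib.Helper8.SUMax Cfsg.Agent.Lib.Helper8.SUConj
  Cfsg.Agent.S0283 Cfsg.Agent.S5016 Cfsg.Agent.Lib.Helper8.RootClass Cfsg.Agent.H2.RankOne
  Cfsg.Agent.Lib.Helper8.SURoot Cfsg.Agent.S0781

section Xset

variable {F : Type*} [Field F] [Fintype F] {q : ℕ} (hF : Fintype.card F = q ^ 2) (n : ℕ)

/-- the defining set of `T(p)` -/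
def Xset (n q : ℕ) (p : Fin n → F) : Set ↥(Cfsg.SU n F q) :=
  {g : ↥(Cfsg.SU n F q) |
    (∀ v : Fin n → F, ∃ c : F, ((g : Matrix.SpecialLinearGroup (Fin n) F) :
      Matrix (Fin n) (Fin n) F) *ᵥ v = v + c • p) ∧
    ∀ v : Fin n → F, Cfsg.hermForm n F q v p = 0 →
      ((g : Matrix.SpecialLinearGroup (Fin n) F) : Matrix (Fin n) (Fin n) F) *ᵥ v = v}

include hF in
lemma mem_Xset_iff (p : Fin n → F) (hp0 : p ≠ 0) (hp : hermForm n F q p p = 0)
    (g : ↥(Cfsg.SU n F q)) :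
    g ∈ Xset n q p ↔ phi n g ∈ rootGL (herm_unitary hF n) p hp := by
  have hf := herm_unitary hF n
  constructor
  · rintro ⟨h1, h2⟩
    obtain ⟨v₀, hpv⟩ := exists_HP_of_iso hf p hp0 hp
    obtain ⟨c₀, hc₀⟩ := h1 v₀
    have hiso := SUf_iso _ (phi_mem n g) v₀ v₀
    rw [phi_coe, hc₀] at hiso
    simp only [hf.add_left, f_add_right hf, hf.smul_left, f_smul_right hf, hpv.uu, hpv.vv,
      hpv.uv, HP.vu hf hpv] at hiso
    have hc : c₀ + (frobEquiv hF) c₀ = 0 := by linear_combination hiso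
    refine ⟨(frobEquiv hF) c₀, ?_, ?_⟩
    · rw [hf.involutive]; linear_combination hc
    · apply GL_ext
      intro x
      rw [ut_mulVec, hf.involutive, phi_coe]
      have hw : hermForm n F q (x - hermForm n F q x p • v₀) p = 0 := by
        rw [f_sub_left hf, hf.smul_left, HP.vu hf hpv]; ring
      have h3 := h2 _ hw
      have hx : x = (x - hermForm n F q x p • v₀) + hermForm n F q x p • v₀ := by abel
      conv_lhs => rw [hx]
      rw [Matrix.mulVec_add, h3, Matrix.mulVec_smul, hc₀]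
      match_scalars <;> ring
  · rintro ⟨z, hz, e⟩
    have e' : ∀ x, ((g : Matrix.SpecialLinearGroup (Fin n) F) : Matrix (Fin n) (Fin n) F) *ᵥ x =
        x + ((frobEquiv hF) z * hermForm n F q x p) • p := by
      intro x
      rw [← phi_coe, e, ut_mulVec]
    refine ⟨fun v => ⟨_, e' v⟩, fun v hv => ?_⟩
    rw [e', hv, mul_zero, zero_smul, add_zero]

include hF in
lemma closure_Xset (p : Fin n → F) (hp0 : p ≠ 0) (hp : hermForm n F q p p = 0) :
    Subgroup.closure (Xset n q p) = (rootGL (herm_unitary hF n) p hp).comap (phi n) := by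
  have : Xset n q p = (((rootGL (herm_unitary hF n) p hp).comap (phi n) :
      Subgroup ↥(Cfsg.SU n F q)) : Set ↥(Cfsg.SU n F q)) :=
    Set.ext (mem_Xset_iff hF n p hp0 hp)
  rw [this, Subgroup.closure_eq]

include hF in
lemma map_closure_Xset (p : Fin n → F) (hp0 : p ≠ 0) (hp : hermForm n F q p p = 0) :
    (Subgroup.closure (Xset n q p)).map (phi n) = rootGL (herm_unitary hF n) p hp := by
  rw [closure_Xset hF n p hp0 hp]
  apply Subgroup.map_comap_eq_self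
  intro g hg
  obtain ⟨B, hB⟩ := exists_lift n g (rootGL_le_SUf (herm_unitary hF n) p hp hg)
  exact ⟨B, hB⟩

end Xset

end Part1

section Part2

open Cfsg.Agent.S5631 Cfsg.Agent.S5643 Cfsg.Agent.Lib.Helper8.Unitary
  Cfsg.Agent.Lib.Helper8.SUGen Cfsg.Agent.Lib.Helper8.SUMax Cfsg.Agent.Lib.Helper8.SUConj
  Cfsg.Agent.S0283 Cfsg.Agent.S5016 Cfsg.Agent.Lib.Helper8.RootClass Cfsg.Agent.H2.RankOne
  Cfsg.Agent.Lib.Helper8.SURoot Cfsg.Agent.S0781

section Main

variable {F : Type*} [Field F] [Fintype F] {q : ℕ} (hF : Fintype.card F = q ^ 2) (n : ℕ)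

include hF in
theorem main (hn : 2 ≤ n) (S : Set (Subgroup ↥(Cfsg.SU n F q)))
    (hS : S = {A : Subgroup ↥(Cfsg.SU n F q) | ∃ p : Fin n → F, p ≠ 0 ∧
      Cfsg.hermForm n F q p p = 0 ∧ A = Subgroup.closure (Xset n q p)}) :
    Cfsg.IsRootSubgroupClass ((fun A : Subgroup ↥(Cfsg.SU n F q) =>
        A.subgroupOf (⨆ B ∈ S, B)) '' S) ∧
    Cfsg.IsDegenerateRootSet ((fun A : Subgroup ↥(Cfsg.SU n F q) =>
        A.subgroupOf (⨆ B ∈ S, B)) '' S) ∧
    (∃ (L : Type) (_ : Field L) (_ : Fintype L), Fintype.card L = q ∧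
      Cfsg.IsKRootSubgroupSet L ((fun A : Subgroup ↥(Cfsg.SU n F q) =>
        A.subgroupOf (⨆ B ∈ S, B)) '' S)) ∧
    Cfsg.IsConnectedFamily (Cfsg.FAdj ((fun A : Subgroup ↥(Cfsg.SU n F q) =>
        A.subgroupOf (⨆ B ∈ S, B)) '' S)) ((fun A : Subgroup ↥(Cfsg.SU n F q) =>
        A.subgroupOf (⨆ B ∈ S, B)) '' S) := by
  have hf := herm_unitary hF n
  obtain ⟨L, iL, iL', ι, hcard, hι, hfix⟩ := exists_subfield hF
  set G₀ : Subgroup ↥(Cfsg.SU n F q) := ⨆ B ∈ S, B with hG₀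
  set ψ : ↥G₀ →* GL (Fin n) F := (phi n).comp G₀.subtype with hψdef
  have hψ : Function.Injective ψ := (phi_injective n).comp G₀.subtype_injective
  set A : IsoPt (hermForm n F q) → Subgroup ↥G₀ :=
    fun p => (Subgroup.closure (Xset n q p.1)).subgroupOf G₀ with hAdef
  have hTle : ∀ p : IsoPt (hermForm n F q), Subgroup.closure (Xset n q p.1) ≤ G₀ := by
    intro p
    exact le_iSup₂_of_le (Subgroup.closure (Xset n q p.1))
      (by rw [hS]; exact ⟨p.1, p.2.1, p.2.2, rfl⟩) le_rfl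
  have hrange : (fun A : Subgroup ↥(Cfsg.SU n F q) => A.subgroupOf G₀) '' S = Set.range A := by
    ext B
    constructor
    · rintro ⟨C, hC, rfl⟩
      rw [hS] at hC
      obtain ⟨p, hp0, hp, rfl⟩ := hC
      exact ⟨⟨p, hp0, hp⟩, rfl⟩
    · rintro ⟨p, rfl⟩
      exact ⟨Subgroup.closure (Xset n q p.1), by rw [hS]; exact ⟨p.1, p.2.1, p.2.2, rfl⟩, rfl⟩
  have hA : ∀ p : IsoPt (hermForm n F q), (A p).map ψ = rootGL hf p.1 p.2.2 := by
    intro p
    rw [hψdef, ← Subgroup.map_map, hAdef]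
    simp only
    rw [Subgroup.subgroupOf_map_subtype, inf_eq_left.2 (hTle p)]
    exact map_closure_Xset hF n p.1 p.2.1 p.2.2
  have hgen : (⨆ p, A p) = ⊤ := by
    apply Subgroup.map_injective G₀.subtype_injective
    rw [Subgroup.map_iSup, ← MonoidHom.range_eq_map, Subgroup.range_subtype]
    have h1 : ∀ p, (A p).map G₀.subtype = Subgroup.closure (Xset n q p.1) := by
      intro p
      rw [hAdef]
      simp only
      rw [Subgroup.subgroupOf_map_subtype, inf_eq_left.2 (hTle p)]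
    simp only [h1]
    apply le_antisymm
    · rw [iSup_le_iff]
      exact hTle
    · rw [hG₀, iSup₂_le_iff]
      intro B hB
      rw [hS] at hB
      obtain ⟨p, hp0, hp, rfl⟩ := hB
      exact le_iSup (fun p : IsoPt (hermForm n F q) => Subgroup.closure (Xset n q p.1))
        ⟨p, hp0, hp⟩
  have ts := transvectionSystem hf hn ψ hψ ι
    (fun x => by rw [frobEquiv_apply]; exact hι x)
    (fun y hy => hfix y (by rw [← frobEquiv_apply hF]; exact hy)) A hA hgen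
  rw [hrange]
  exact ⟨ts.isRootSubgroupClass, ts.isDegenerate, ⟨L, iL, iL', hcard, ts.isKRoot⟩, ts.isConnected⟩

end Main

theorem result (F : Type*) [Field F] [Fintype F] (q n : ℕ) (hF : Fintype.card F = q ^ 2) :
    Cfsg.IsRootSubgroupClass ((fun A : Subgroup ↥(Cfsg.SU (n + 2) F q) => A.subgroupOf (⨆ B ∈ {A : Subgroup ↥(Cfsg.SU (n + 2) F q) | ∃ p : Fin (n + 2) → F, p ≠ 0 ∧ Cfsg.hermForm (n + 2) F q p p = 0 ∧
          A = Subgroup.closure {g : ↥(Cfsg.SU (n + 2) F q) |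
            (∀ v : Fin (n + 2) → F, ∃ c : F, ((g : Matrix.SpecialLinearGroup (Fin (n + 2)) F) : Matrix (Fin (n + 2)) (Fin (n + 2)) F) *ᵥ v = v + c • p) ∧
            ∀ v : Fin (n + 2) → F, Cfsg.hermForm (n + 2) F q v p = 0 →
              ((g : Matrix.SpecialLinearGroup (Fin (n + 2)) F) : Matrix (Fin (n + 2)) (Fin (n + 2)) F) *ᵥ v = v}}, B)) ''
      {A : Subgroup ↥(Cfsg.SU (n + 2) F q) | ∃ p : Fin (n + 2) → F, p ≠ 0 ∧ Cfsg.hermForm (n + 2) F q p p = 0 ∧
          A = Subgroup.closure {g : ↥(Cfsg.SU (n + 2) F q) |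
            (∀ v : Fin (n + 2) → F, ∃ c : F, ((g : Matrix.SpecialLinearGroup (Fin (n + 2)) F) : Matrix (Fin (n + 2)) (Fin (n + 2)) F) *ᵥ v = v + c • p) ∧
            ∀ v : Fin (n + 2) → F, Cfsg.hermForm (n + 2) F q v p = 0 →
              ((g : Matrix.SpecialLinearGroup (Fin (n + 2)) F) : Matrix (Fin (n + 2)) (Fin (n + 2)) F) *ᵥ v = v}}) ∧
    Cfsg.IsDegenerateRootSet ((fun A : Subgroup ↥(Cfsg.SU (n + 2) F q) => A.subgroupOf (⨆ B ∈ {A : Subgroup ↥(Cfsg.SU (n + 2) F q) | ∃ p : Fin (n + 2) → F, p ≠ 0 ∧ Cfsg.hermForm (n + 2) F q p p = 0 ∧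
          A = Subgroup.closure {g : ↥(Cfsg.SU (n + 2) F q) |
            (∀ v : Fin (n + 2) → F, ∃ c : F, ((g : Matrix.SpecialLinearGroup (Fin (n + 2)) F) : Matrix (Fin (n + 2)) (Fin (n + 2)) F) *ᵥ v = v + c • p) ∧
            ∀ v : Fin (n + 2) → F, Cfsg.hermForm (n + 2) F q v p = 0 →
              ((g : Matrix.SpecialLinearGroup (Fin (n + 2)) F) : Matrix (Fin (n + 2)) (Fin (n + 2)) F) *ᵥ v = v}}, B)) ''
      {A : Subgroup ↥(Cfsg.SU (n + 2) F q) | ∃ p : Fin (n + 2) → F, p ≠ 0 ∧ Cfsg.hermForm (n + 2) F q p p = 0 ∧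
          A = Subgroup.closure {g : ↥(Cfsg.SU (n + 2) F q) |
            (∀ v : Fin (n + 2) → F, ∃ c : F, ((g : Matrix.SpecialLinearGroup (Fin (n + 2)) F) : Matrix (Fin (n + 2)) (Fin (n + 2)) F) *ᵥ v = v + c • p) ∧
            ∀ v : Fin (n + 2) → F, Cfsg.hermForm (n + 2) F q v p = 0 →
              ((g : Matrix.SpecialLinearGroup (Fin (n + 2)) F) : Matrix (Fin (n + 2)) (Fin (n + 2)) F) *ᵥ v = v}}) ∧
    (∃ (L : Type) (_ : Field L) (_ : Fintype L), Fintype.card L = q ∧ Cfsg.IsKRootSubgroupSet L ((fun A : Subgroup ↥(Cfsg.SU (n + 2) F q) => A.subgroupOf (⨆ B ∈ {A : Subgroup ↥(Cfsg.SU (n + 2) F q) | ∃ p : Fin (n + 2) → F, p ≠ 0 ∧ Cfsg.hermForm (n + 2) F q p p = 0 ∧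
          A = Subgroup.closure {g : ↥(Cfsg.SU (n + 2) F q) |
            (∀ v : Fin (n + 2) → F, ∃ c : F, ((g : Matrix.SpecialLinearGroup (Fin (n + 2)) F) : Matrix (Fin (n + 2)) (Fin (n + 2)) F) *ᵥ v = v + c • p) ∧
            ∀ v : Fin (n + 2) → F, Cfsg.hermForm (n + 2) F q v p = 0 →
              ((g : Matrix.SpecialLinearGroup (Fin (n + 2)) F) : Matrix (Fin (n + 2)) (Fin (n + 2)) F) *ᵥ v = v}}, B)) ''
      {A : Subgroup ↥(Cfsg.SU (n + 2) F q) | ∃ p : Fin (n + 2) → F, p ≠ 0 ∧ Cfsg.hermForm (n + 2) F q p p = 0 ∧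
          A = Subgroup.closure {g : ↥(Cfsg.SU (n + 2) F q) |
            (∀ v : Fin (n + 2) → F, ∃ c : F, ((g : Matrix.SpecialLinearGroup (Fin (n + 2)) F) : Matrix (Fin (n + 2)) (Fin (n + 2)) F) *ᵥ v = v + c • p) ∧
            ∀ v : Fin (n + 2) → F, Cfsg.hermForm (n + 2) F q v p = 0 →
              ((g : Matrix.SpecialLinearGroup (Fin (n + 2)) F) : Matrix (Fin (n + 2)) (Fin (n + 2)) F) *ᵥ v = v}})) ∧
    Cfsg.IsConnectedFamily (Cfsg.FAdj ((fun A : Subgroup ↥(Cfsg.SU (n + 2) F q) => A.subgroupOf (⨆ B ∈ {A : Subgroup ↥(Cfsg.SU (n + 2) F q) | ∃ p : Fin (n + 2) → F, p ≠ 0 ∧ Cfsg.hermForm (n + 2) F q p p = 0 ∧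
          A = Subgroup.closure {g : ↥(Cfsg.SU (n + 2) F q) |
            (∀ v : Fin (n + 2) → F, ∃ c : F, ((g : Matrix.SpecialLinearGroup (Fin (n + 2)) F) : Matrix (Fin (n + 2)) (Fin (n + 2)) F) *ᵥ v = v + c • p) ∧
            ∀ v : Fin (n + 2) → F, Cfsg.hermForm (n + 2) F q v p = 0 →
              ((g : Matrix.SpecialLinearGroup (Fin (n + 2)) F) : Matrix (Fin (n + 2)) (Fin (n + 2)) F) *ᵥ v = v}}, B)) ''
      {A : Subgroup ↥(Cfsg.SU (n + 2) F q) | ∃ p : Fin (n + 2) → F, p ≠ 0 ∧ Cfsg.hermForm (n + 2) F q p p = 0 ∧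
          A = Subgroup.closure {g : ↥(Cfsg.SU (n + 2) F q) |
            (∀ v : Fin (n + 2) → F, ∃ c : F, ((g : Matrix.SpecialLinearGroup (Fin (n + 2)) F) : Matrix (Fin (n + 2)) (Fin (n + 2)) F) *ᵥ v = v + c • p) ∧
            ∀ v : Fin (n + 2) → F, Cfsg.hermForm (n + 2) F q v p = 0 →
              ((g : Matrix.SpecialLinearGroup (Fin (n + 2)) F) : Matrix (Fin (n + 2)) (Fin (n + 2)) F) *ᵥ v = v}})) ((fun A : Subgroup ↥(Cfsg.SU (n + 2) F q) => A.subgroupOf (⨆ B ∈ {A : Subgroup ↥(Cfsg.SU (n + 2) F q) | ∃ p : Fin (n + 2) → F, p ≠ 0 ∧ Cfsg.hermForm (n + 2) F q p p = 0 ∧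
          A = Subgroup.closure {g : ↥(Cfsg.SU (n + 2) F q) |
            (∀ v : Fin (n + 2) → F, ∃ c : F, ((g : Matrix.SpecialLinearGroup (Fin (n + 2)) F) : Matrix (Fin (n + 2)) (Fin (n + 2)) F) *ᵥ v = v + c • p) ∧
            ∀ v : Fin (n + 2) → F, Cfsg.hermForm (n + 2) F q v p = 0 →
              ((g : Matrix.SpecialLinearGroup (Fin (n + 2)) F) : Matrix (Fin (n + 2)) (Fin (n + 2)) F) *ᵥ v = v}}, B)) ''
      {A : Subgroup ↥(Cfsg.SU (n + 2) F q) | ∃ p : Fin (n + 2) → F, p ≠ 0 ∧ Cfsg.hermForm (n + 2) F q p p = 0 ∧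
          A = Subgroup.closure {g : ↥(Cfsg.SU (n + 2) F q) |
            (∀ v : Fin (n + 2) → F, ∃ c : F, ((g : Matrix.SpecialLinearGroup (Fin (n + 2)) F) : Matrix (Fin (n + 2)) (Fin (n + 2)) F) *ᵥ v = v + c • p) ∧
            ∀ v : Fin (n + 2) → F, Cfsg.hermForm (n + 2) F q v p = 0 →
              ((g : Matrix.SpecialLinearGroup (Fin (n + 2)) F) : Matrix (Fin (n + 2)) (Fin (n + 2)) F) *ᵥ v = v}}) := by
  exact main hF (n + 2) (by omega) _ rfl

end Part2

end Cfsg.Agent.S5071
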