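import Mathlib
import Cfsg.Statements.S5072
import Cfsg.Agent.Lib.Helper7.SiegelF

set_option autoImplicit false
open Matrix
open Cfsg

namespace Cfsg.Agent.S5072

open Cfsg.Agent.H9.Orth Cfsg.Agent.Lib.Helper7.Siegel Cfsg.Agent.Lib.Helper8.RootClass

section Main

variable {F : Type*} [Field F] (n : ℕ)

/-- the Siegel transvection group of a singular line inside the isometry group -/
def TFI (W : Line (Cfsg.quadFormPlus n F)) :
    Subgroup ↥(Cfsg.isometryGroup F (Cfsg.quadFormPlus n F)) :=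
  (TF (isNondeg_quadFormPlus n) W.1).subgroupOf (Cfsg.isometryGroup F (Cfsg.quadFormPlus n F))

lemma TFI_map (W : Line (Cfsg.quadFormPlus n F)) :
    (TFI n W).map (Cfsg.isometryGroup F (Cfsg.quadFormPlus n F)).subtype =
      TF (isNondeg_quadFormPlus n) W.1 := by
  rw [TFI, Subgroup.subgroupOf_map_subtype, inf_eq_left]
  exact TF_le_iso _ _

lemma closure_eq_TFI {p r : Fin n ⊕ Fin n → F} (h : SL (Cfsg.quadFormPlus n F) p r) :
    Subgroup.closure {σ : ↥(Cfsg.isometryGroup F (Cfsg.quadFormPlus n F)) |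
      ∀ v : Fin n ⊕ Fin n → F,
        Cfsg.quadFormPlus n F (v + p) - Cfsg.quadFormPlus n F v - Cfsg.quadFormPlus n F p = 0 →
        Cfsg.quadFormPlus n F (v + r) - Cfsg.quadFormPlus n F v - Cfsg.quadFormPlus n F r = 0 →
          ((σ : Matrix.GeneralLinearGroup (Fin n ⊕ Fin n) F) :
            Matrix (Fin n ⊕ Fin n) (Fin n ⊕ Fin n) F) *ᵥ v = v} = TFI n (mkLine h) := by
  have hQ := isNondeg_quadFormPlus (F := F) n
  have : {σ : ↥(Cfsg.isometryGroup F (Cfsg.quadFormPlus n F)) |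
      ∀ v : Fin n ⊕ Fin n → F,
        Cfsg.quadFormPlus n F (v + p) - Cfsg.quadFormPlus n F v - Cfsg.quadFormPlus n F p = 0 →
        Cfsg.quadFormPlus n F (v + r) - Cfsg.quadFormPlus n F v - Cfsg.quadFormPlus n F r = 0 →
          ((σ : Matrix.GeneralLinearGroup (Fin n ⊕ Fin n) F) :
            Matrix (Fin n ⊕ Fin n) (Fin n ⊕ Fin n) F) *ᵥ v = v} =
      ((TFI n (mkLine h) : Subgroup ↥(Cfsg.isometryGroup F (Cfsg.quadFormPlus n F))) :
        Set ↥(Cfsg.isometryGroup F (Cfsg.quadFormPlus n F))) := by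
    ext σ
    rw [SetLike.mem_coe, TFI, Subgroup.mem_subgroupOf, mem_TF]
    constructor
    · intro hσ
      refine ⟨σ.2, fun v hv => ?_⟩
      have hv' : v ∈ perp hQ (Submodule.span F {p, r}) := hv
      rw [mem_perp_span_pair] at hv'
      exact hσ v (by have := hv'.1; rw [pol_comm] at this; exact this)
        (by have := hv'.2; rw [pol_comm] at this; exact this)
    · rintro ⟨-, hσ⟩ v hvp hvr
      apply hσ v
      show v ∈ perp hQ (Submodule.span F {p, r})
      rw [mem_perp_span_pair]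
      exact ⟨by rw [pol_comm]; exact hvp, by rw [pol_comm]; exact hvr⟩
  rw [this, Subgroup.closure_eq]

theorem main (hn : 3 ≤ n) (S : Set (Subgroup ↥(Cfsg.isometryGroup F (Cfsg.quadFormPlus n F))))
    (hS : S = {A : Subgroup ↥(Cfsg.isometryGroup F (Cfsg.quadFormPlus n F)) |
      ∃ p r : Fin n ⊕ Fin n → F, LinearIndependent F ![p, r] ∧
        Cfsg.quadFormPlus n F p = 0 ∧ Cfsg.quadFormPlus n F r = 0 ∧
        Cfsg.quadFormPlus n F (p + r) = 0 ∧
        A = Subgroup.closure {σ : ↥(Cfsg.isometryGroup F (Cfsg.quadFormPlus n F)) |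
          ∀ v : Fin n ⊕ Fin n → F,
            Cfsg.quadFormPlus n F (v + p) - Cfsg.quadFormPlus n F v - Cfsg.quadFormPlus n F p = 0 →
            Cfsg.quadFormPlus n F (v + r) - Cfsg.quadFormPlus n F v - Cfsg.quadFormPlus n F r = 0 →
              ((σ : Matrix.GeneralLinearGroup (Fin n ⊕ Fin n) F) :
                Matrix (Fin n ⊕ Fin n) (Fin n ⊕ Fin n) F) *ᵥ v = v}}) :
    Cfsg.IsKRootSubgroupSet F ((fun A : Subgroup ↥(Cfsg.isometryGroup F (Cfsg.quadFormPlus n F)) =>
        A.subgroupOf (⨆ B ∈ S, B)) '' S) ∧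
    Cfsg.IsConnectedFamily (Cfsg.FAdj S) S := by
  have hQ := isNondeg_quadFormPlus (F := F) n
  -- the set `S` is the family of the groups `TFI W`
  have hS' : S = Set.range (TFI (F := F) n) := by
    rw [hS]
    ext A
    constructor
    · rintro ⟨p, r, hli, hp, hr, hpr, rfl⟩
      have h : SL (Cfsg.quadFormPlus n F) p r := by
        refine ⟨hli, hp, hr, ?_⟩
        rw [pol, QuadraticMap.polar, hpr, hp, hr]; ring
      exact ⟨mkLine h, (closure_eq_TFI n h).symm⟩
    · rintro ⟨⟨W, p, r, h, rfl⟩, rfl⟩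
      refine ⟨p, r, h.li, h.qp, h.qr, ?_, (closure_eq_TFI n h).symm⟩
      rw [Q_add (Cfsg.quadFormPlus n F), h.qp, h.qr, h.pr]; ring
  constructor
  · set G₀ : Subgroup ↥(Cfsg.isometryGroup F (Cfsg.quadFormPlus n F)) := ⨆ B ∈ S, B with hG₀
    set ψ : ↥G₀ →* GL (Fin n ⊕ Fin n) F :=
      (Cfsg.isometryGroup F (Cfsg.quadFormPlus n F)).subtype.comp G₀.subtype with hψdef
    have hψ : Function.Injective ψ :=
      (Subgroup.subtype_injective _).comp G₀.subtype_injective
    set A : Line (Cfsg.quadFormPlus n F) → Subgroup ↥G₀ :=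
      fun W => (TFI n W).subgroupOf G₀ with hAdef
    have hTle : ∀ W : Line (Cfsg.quadFormPlus n F), TFI n W ≤ G₀ := by
      intro W
      exact le_iSup₂_of_le (TFI n W) (by rw [hS']; exact ⟨W, rfl⟩) le_rfl
    have hrange : (fun A : Subgroup ↥(Cfsg.isometryGroup F (Cfsg.quadFormPlus n F)) =>
        A.subgroupOf G₀) '' S = Set.range A := by
      rw [hS']
      ext B
      constructor
      · rintro ⟨_, ⟨W, rfl⟩, rfl⟩
        exact ⟨W, rfl⟩
      · rintro ⟨W, rfl⟩
        exact ⟨TFI n W, ⟨W, rfl⟩, rfl⟩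
    have hA1 : ∀ W, (A W).map G₀.subtype = TFI n W := by
      intro W
      rw [hAdef]
      simp only
      rw [Subgroup.subgroupOf_map_subtype, inf_eq_left.2 (hTle W)]
    have hA : ∀ W, (A W).map ψ = TF hQ W.1 := by
      intro W
      rw [hψdef, ← Subgroup.map_map, hA1, TFI_map]
    have hgen : (⨆ W, A W) = ⊤ := by
      apply Subgroup.map_injective G₀.subtype_injective
      rw [Subgroup.map_iSup, ← MonoidHom.range_eq_map, Subgroup.range_subtype]
      simp only [hA1]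
      apply le_antisymm
      · rw [iSup_le_iff]
        exact hTle
      · rw [hG₀, iSup₂_le_iff]
        intro B hB
        rw [hS'] at hB
        obtain ⟨W, rfl⟩ := hB
        exact le_iSup (fun W => TFI (F := F) n W) W
    have hr : ∀ x, ψ x ∈ Cfsg.isometryGroup F (Cfsg.quadFormPlus n F) := fun x => x.1.2
    rw [hrange]
    exact (rootSystem3_of hQ ψ hψ hr A hA).isKRoot hgen
  · rw [hS']
    exact isConnectedFamily (Cfsg.isometryGroup F (Cfsg.quadFormPlus n F)).subtype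
      (Subgroup.subtype_injective _) (TFI n) (TFI_map n) hn

end Main

/-- Let F be a field, m a natural number and V = F^{2(m+3)} with the hyperbolic quadratic form q(x, y) = Σ xᵢ yᵢ (non-degenerate, Witt index m + 3 ≥ 3). For a singular line ℓ (a 2-dimensional subspace on which q vanishes) let T(ℓ) be the group of isometries of q fixing every vector of ℓ^⊥ (the Siegel transvection group of ℓ), let Σ be the set of these groups and G₀ the subgroup they generate. Then, viewed inside G₀, the members of Σ form a set of abstract F-root subgroups of G₀ (any two commute, or are the unipotent subgroups of a rank one group that is an image of SL₂(F) with central kernel, or satisfy the commutator case), and their graph of rank one pairs is connected. -/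
theorem result (F : Type*) [Field F] (m : ℕ) :
    Cfsg.IsKRootSubgroupSet F ((fun A : Subgroup ↥(Cfsg.isometryGroup F (Cfsg.quadFormPlus (m + 3) F)) => A.subgroupOf (⨆ B ∈ {A : Subgroup ↥(Cfsg.isometryGroup F (Cfsg.quadFormPlus (m + 3) F)) | ∃ p r : Fin (m + 3) ⊕ Fin (m + 3) → F, LinearIndependent F ![p, r] ∧
          Cfsg.quadFormPlus (m + 3) F p = 0 ∧ Cfsg.quadFormPlus (m + 3) F r = 0 ∧
          Cfsg.quadFormPlus (m + 3) F (p + r) = 0 ∧
          A = Subgroup.closure {σ : ↥(Cfsg.isometryGroup F (Cfsg.quadFormPlus (m + 3) F)) | ∀ v : Fin (m + 3) ⊕ Fin (m + 3) → F,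
            Cfsg.quadFormPlus (m + 3) F (v + p) - Cfsg.quadFormPlus (m + 3) F v - Cfsg.quadFormPlus (m + 3) F p = 0 →
            Cfsg.quadFormPlus (m + 3) F (v + r) - Cfsg.quadFormPlus (m + 3) F v - Cfsg.quadFormPlus (m + 3) F r = 0 →
              ((σ : Matrix.GeneralLinearGroup (Fin (m + 3) ⊕ Fin (m + 3)) F) : Matrix (Fin (m + 3) ⊕ Fin (m + 3)) (Fin (m + 3) ⊕ Fin (m + 3)) F) *ᵥ v = v}}, B)) ''
      {A : Subgroup ↥(Cfsg.isometryGroup F (Cfsg.quadFormPlus (m + 3) F)) | ∃ p r : Fin (m + 3) ⊕ Fin (m + 3) → F, LinearIndependent F ![p, r] ∧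
          Cfsg.quadFormPlus (m + 3) F p = 0 ∧ Cfsg.quadFormPlus (m + 3) F r = 0 ∧
          Cfsg.quadFormPlus (m + 3) F (p + r) = 0 ∧
          A = Subgroup.closure {σ : ↥(Cfsg.isometryGroup F (Cfsg.quadFormPlus (m + 3) F)) | ∀ v : Fin (m + 3) ⊕ Fin (m + 3) → F,
            Cfsg.quadFormPlus (m + 3) F (v + p) - Cfsg.quadFormPlus (m + 3) F v - Cfsg.quadFormPlus (m + 3) F p = 0 →
            Cfsg.quadFormPlus (m + 3) F (v + r) - Cfsg.quadFormPlus (m + 3) F v - Cfsg.quadFormPlus (m + 3) F r = 0 →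
              ((σ : Matrix.GeneralLinearGroup (Fin (m + 3) ⊕ Fin (m + 3)) F) : Matrix (Fin (m + 3) ⊕ Fin (m + 3)) (Fin (m + 3) ⊕ Fin (m + 3)) F) *ᵥ v = v}}) ∧
    Cfsg.IsConnectedFamily (Cfsg.FAdj {A : Subgroup ↥(Cfsg.isometryGroup F (Cfsg.quadFormPlus (m + 3) F)) | ∃ p r : Fin (m + 3) ⊕ Fin (m + 3) → F, LinearIndependent F ![p, r] ∧
          Cfsg.quadFormPlus (m + 3) F p = 0 ∧ Cfsg.quadFormPlus (m + 3) F r = 0 ∧
          Cfsg.quadFormPlus (m + 3) F (p + r) = 0 ∧
          A = Subgroup.closure {σ : ↥(Cfsg.isometryGroup F (Cfsg.quadFormPlus (m + 3) F)) | ∀ v : Fin (m + 3) ⊕ Fin (m + 3) → F,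
            Cfsg.quadFormPlus (m + 3) F (v + p) - Cfsg.quadFormPlus (m + 3) F v - Cfsg.quadFormPlus (m + 3) F p = 0 →
            Cfsg.quadFormPlus (m + 3) F (v + r) - Cfsg.quadFormPlus (m + 3) F v - Cfsg.quadFormPlus (m + 3) F r = 0 →
              ((σ : Matrix.GeneralLinearGroup (Fin (m + 3) ⊕ Fin (m + 3)) F) : Matrix (Fin (m + 3) ⊕ Fin (m + 3)) (Fin (m + 3) ⊕ Fin (m + 3)) F) *ᵥ v = v}})
      {A : Subgroup ↥(Cfsg.isometryGroup F (Cfsg.quadFormPlus (m + 3) F)) | ∃ p r : Fin (m + 3) ⊕ Fin (m + 3) → F, LinearIndependent F ![p, r] ∧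
          Cfsg.quadFormPlus (m + 3) F p = 0 ∧ Cfsg.quadFormPlus (m + 3) F r = 0 ∧
          Cfsg.quadFormPlus (m + 3) F (p + r) = 0 ∧
          A = Subgroup.closure {σ : ↥(Cfsg.isometryGroup F (Cfsg.quadFormPlus (m + 3) F)) | ∀ v : Fin (m + 3) ⊕ Fin (m + 3) → F,
            Cfsg.quadFormPlus (m + 3) F (v + p) - Cfsg.quadFormPlus (m + 3) F v - Cfsg.quadFormPlus (m + 3) F p = 0 →
            Cfsg.quadFormPlus (m + 3) F (v + r) - Cfsg.quadFormPlus (m + 3) F v - Cfsg.quadFormPlus (m + 3) F r = 0 →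
              ((σ : Matrix.GeneralLinearGroup (Fin (m + 3) ⊕ Fin (m + 3)) F) : Matrix (Fin (m + 3) ⊕ Fin (m + 3)) (Fin (m + 3) ⊕ Fin (m + 3)) F) *ᵥ v = v}} := by
  exact main (m + 3) (by omega) _ rfl

end Cfsg.Agent.S5072
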