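import Cfsg.Statements.S5165
import Cfsg.Agent.H9.AltFt

set_option autoImplicit false
open Cfsg

namespace Cfsg.Agent.S5165

/-- For n ≥ 6, a prime p with p² ≤ n, and n congruent to 0 or 1 modulo p, the p-fusion system of the alternating group of degree n on a Sylow p-subgroup is simple. -/
theorem result (n p : ℕ) (hn : 6 ≤ n) [Fact p.Prime] (hnp : p ^ 2 ≤ n) (hb : n % p ≤ 1) (S : Sylow p (alternatingGroup (Fin n))) : (Cfsg.groupFusionSystem (S : Subgroup (alternatingGroup (Fin n)))).IsSimple p := by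
  have hp : p.Prime := Fact.out
  by_cases h2 : p = 2
  · subst h2
    obtain ⟨H⟩ : Nonempty (Sylow 2 (Equiv.Perm (Fin (n / 2)))) := inferInstance
    have hm : 3 ≤ n / 2 := by omega
    have hr : n % 2 ≤ 1 := hb
    have e : ((Fin (n / 2) × ZMod 2) ⊕ Fin (n % 2)) ≃ Fin n := Finite.equivFinOfCardEq (by
      rw [Nat.card_sum, Nat.card_prod, Nat.card_zmod, Nat.card_fin, Nat.card_fin, mul_comm]
      exact Nat.div_add_mod n 2)
    exact Cfsg.Agent.H9.AltF.isSimple_of_certA n e 2 _
      (Cfsg.Agent.H9.AltF.certA_two (n / 2) (n % 2) hm hr H) S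
  · obtain ⟨H'⟩ : Nonempty (Sylow p (Equiv.Perm (Fin (n / p / p)))) := inferInstance
    have hp2 : 2 ≤ p := hp.two_le
    have hmp : p ≤ n / p := by
      rw [Nat.le_div_iff_mul_le hp.pos, ← pow_two]
      exact hnp
    have hm' : 1 ≤ n / p / p := by
      rw [Nat.le_div_iff_mul_le hp.pos, one_mul]
      exact hmp
    have hr' : n / p % p < p := Nat.mod_lt _ hp.pos
    have e : Cfsg.Agent.H9.AltF.Pt2 p (Fin (n / p / p)) (Fin (n / p % p)) (Fin (n % p)) ≃ Fin n :=
      Finite.equivFinOfCardEq (by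
        rw [Nat.card_sum, Nat.card_prod, Nat.card_sum, Nat.card_prod, Nat.card_zmod, Nat.card_fin,
          Nat.card_fin, Nat.card_fin]
        have h1 := Nat.div_add_mod (n / p) p
        have h2 := Nat.div_add_mod n p
        rw [mul_comm (n / p / p) p, h1, mul_comm (n / p) p, h2])
    exact Cfsg.Agent.H9.AltF.isSimple_of_certA n e p _
      (Cfsg.Agent.H9.AltF.certA_odd p h2 (n / p / p) (n / p % p) (n % p) hm' hr' hb H') S

end Cfsg.Agent.S5165
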