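import Cfsg.Statements.S5186
import Cfsg.Agent.Lib.Helper7.EssChainA
import Cfsg.Agent.Lib.Helper7.EssChainC

set_option autoImplicit false
universe u
open Cfsg

namespace Cfsg.Agent.S5186

/-- Let F be a saturated fusion system over a finite p-group S and H an essential subgroup of order p³. Then H is elementary abelian, or p is odd and H is extraspecial of exponent p, or p = 2 and H is the quaternion group of order 8. -/
theorem result {Ω : Type u} [Group Ω] {S : Subgroup Ω} [Finite S] (p : ℕ) [Fact p.Prime] (hS : IsPGroup p S)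
    (F : Cfsg.FusionSystem S) (hF : F.IsSaturated p) (H : Subgroup Ω) (hH : F.IsEssential p H) (hcard : Nat.card H = p ^ 3) :
    Cfsg.IsElementaryAbelian p H ∨ (Odd p ∧ Cfsg.IsExtraspecial p ↥H ∧ ∀ x ∈ H, x ^ p = 1) ∨
      (p = 2 ∧ Nonempty (↥H ≃* QuaternionGroup 2)) := by
  open Cfsg.Agent.Lib.Helper7.EssChain in
  have hp : p.Prime := Fact.out
  have hHS : H ≤ S := hH.1.1
  have hfinH : Finite ↥H := Finite.of_injective (Subgroup.inclusion hHS) (Subgroup.inclusion_injective hHS)
  have hnochain : ¬ HasChain3 p ↥H := by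
    rintro ⟨X, Y, hXn, hYn, hXY, hX, hY, hXinv, hYinv⟩
    exact not_isEssential_of_chain3 p hS F X Y hXn hYn hXY hX hY hcard hXinv hYinv hH
  by_cases hcomm : ∀ a b : ↥H, a * b = b * a
  · by_cases hexp : ∀ x : ↥H, x ^ p = 1
    · left
      refine ⟨⟨⟨hcomm⟩⟩, fun a ha => ?_⟩
      exact congrArg (fun z : ↥H => (z : Ω)) (hexp ⟨a, ha⟩)
    · exact absurd (hasChain3_of_comm p hcard hcomm hexp) hnochain
  · by_cases hp2 : p = 2
    · subst hp2
      rcases quaternion_or_hasChain3 hcard hcomm with h | h
      · right; right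
        exact ⟨rfl, h⟩
      · exact absurd h hnochain
    · by_cases hexp : ∀ x : ↥H, x ^ p = 1
      · right; left
        refine ⟨hp.odd_of_ne_two hp2, isExtraspecial_of_nonab p hcard hcomm, fun x hx => ?_⟩
        exact congrArg (fun z : ↥H => (z : Ω)) (hexp ⟨x, hx⟩)
      · exact absurd (hasChain3_of_nonab_odd p hcard hcomm hp2 hexp) hnochain

end Cfsg.Agent.S5186
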