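import Cfsg.Statements.S5194
import Cfsg.Agent.Lib.Helper7.TNPe

set_option autoImplicit false
open Cfsg

namespace Cfsg.Agent.S5194

/-- Thompson's normal p-complement Theorem for fusion systems. Let F be a saturated fusion system over a finite p-group S such that p is odd or F is S₄-free (the symmetric group of degree 4 is not involved in any model of the normalizer system of a fully normalized F-centric subgroup), and let J(S) be the subgroup generated by the abelian subgroups of S of largest order. If the centralizer fusion system of Z(S) in F is the inner fusion system of C_S(Z(S)) = S and the normalizer fusion system of J(S) in F is the inner fusion system of N_S(J(S)) = S, then F is the inner fusion system of S. -/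
theorem result {Ω : Type*} [Group Ω] {S : Subgroup Ω} [Finite S] (p : ℕ) [Fact p.Prime] (hS : IsPGroup p S) (F : Cfsg.FusionSystem S) (hF : F.IsSaturated p) (hp : p ≠ 2 ∨ F.IsSectionFree p (Equiv.Perm (Fin 4))) (hC : ∀ C : Cfsg.FusionSystem (Cfsg.FusionSystem.centralizerIn S (S ⊓ Subgroup.centralizer (S : Set Ω))), F.IsCentralizerSystem (S ⊓ Subgroup.centralizer (S : Set Ω)) C → ∀ P : Subgroup Ω, C.Hom P = (Cfsg.innerFusionSystem (Cfsg.FusionSystem.centralizerIn S (S ⊓ Subgroup.centralizer (S : Set Ω)))).Hom P) (hN : ∀ N : Cfsg.FusionSystem (Cfsg.FusionSystem.normalizerIn S (Cfsg.thompsonSubgroupAOf S)), F.IsNormalizerSystem (Cfsg.thompsonSubgroupAOf S) N → ∀ P : Subgroup Ω, N.Hom P = (Cfsg.innerFusionSystem (Cfsg.FusionSystem.normalizerIn S (Cfsg.thompsonSubgroupAOf S))).Hom P) : ∀ P : Subgroup Ω, F.Hom P = (Cfsg.innerFusionSystem S).Hom P := by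
  have hZS : S ⊓ Subgroup.centralizer (S : Set Ω) ≤ S := inf_le_left
  obtain ⟨C, hCsys⟩ := Cfsg.Agent.Lib.Helper7.exists_centralizerSystem F _ hZS
  have hJS : Cfsg.thompsonSubgroupAOf S ≤ S := Subgroup.map_subtype_le _
  obtain ⟨N, hNsys⟩ := Cfsg.Agent.Lib.Helper7.exists_normalizerSystem F _ hJS
  have hC' : ∀ (X : Subgroup Ω) (φ : X →* Ω),
      φ ∈ F.centralizerHom (S ⊓ Subgroup.centralizer (S : Set Ω)) X →
        ∃ s ∈ S, ∀ x : X, φ x = s * (x : Ω) * s⁻¹ := by
    intro X φ hφ
    have h1 : φ ∈ C.Hom X := by rw [hCsys X]; exact hφ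
    rw [hC C hCsys X] at h1
    obtain ⟨-, g, hg, hgφ⟩ := h1
    exact ⟨g, hg.1, hgφ⟩
  have hN' : ∀ (X : Subgroup Ω) (φ : X →* Ω),
      φ ∈ F.normalizerHom (Cfsg.thompsonSubgroupAOf S) X →
        ∃ s ∈ S, ∀ x : X, φ x = s * (x : Ω) * s⁻¹ := by
    intro X φ hφ
    have h1 : φ ∈ N.Hom X := by rw [hNsys X]; exact hφ
    rw [hN N hNsys X] at h1
    obtain ⟨-, g, hg, hgφ⟩ := h1
    exact ⟨g, hg.1, hgφ⟩
  have := Cfsg.Agent.Lib.Helper7.TNP.thompson_fusion p hS F hF hp hC' hN'
  intro P
  rw [this]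

end Cfsg.Agent.S5194
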