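import Cfsg.Statements.S5212
import Cfsg.Agent.Lib.Helper7.MetaSCh
import Cfsg.Agent.Lib.Helper7.FusionInner

set_option autoImplicit false
open Cfsg

namespace Cfsg.Agent.S5212

/-- `C_{2^n} × C_{2^n}` written as functions on `Fin 2` -/
def prodEquivFin (n : ℕ) : Multiplicative (ZMod (2 ^ n)) × Multiplicative (ZMod (2 ^ n)) ≃*
    Multiplicative (Fin 2 → ZMod (2 ^ n)) where
  toFun y := Multiplicative.ofAdd ![Multiplicative.toAdd y.1, Multiplicative.toAdd y.2]
  invFun f := (Multiplicative.ofAdd (Multiplicative.toAdd f 0),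
    Multiplicative.ofAdd (Multiplicative.toAdd f 1))
  left_inv y := by
    obtain ⟨a, b⟩ := y
    rfl
  right_inv f := by
    apply Multiplicative.toAdd.injective
    funext i
    fin_cases i <;> rfl
  map_mul' x y := by
    apply Multiplicative.toAdd.injective
    funext i
    fin_cases i <;> rfl

/-- Let S be a finite metacyclic 2-group that is not homocyclic abelian (a direct product of cyclic groups of one common order), not dihedral, not semidihedral and not generalized quaternion. Then every saturated fusion system over S is the inner fusion system of S. -/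
theorem result {Ω : Type*} [Group Ω] {S : Subgroup Ω} [Finite S] (hS : IsPGroup 2 S) (F : Cfsg.FusionSystem S) (hF : F.IsSaturated 2) (hm : Cfsg.IsMetacyclic ↥S) (hh : ¬ ∃ n k : ℕ, Nonempty (↥S ≃* Multiplicative (Fin k → ZMod (2 ^ n)))) (hd : ¬ ∃ m : ℕ, Nonempty (↥S ≃* DihedralGroup m)) (hq : ¬ ∃ m : ℕ, Nonempty (↥S ≃* QuaternionGroup m)) (hsd : ¬ Cfsg.IsQuasiDihedral ↥S) : ∀ P : Subgroup Ω, F.Hom P = (Cfsg.innerFusionSystem S).Hom P := by
  haveI : Fact (Nat.Prime 2) := ⟨Nat.prime_two⟩
  -- `Aut(S)` is a `2`-group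
  have hAut : IsPGroup 2 (MulAut ↥S) := by
    by_contra hA
    rcases Cfsg.Agent.H2.MetaTwoAut.main hS hm hA with ⟨⟨ψ⟩⟩ | ⟨n, ⟨ψ⟩⟩
    · exact hq ⟨2, ⟨ψ⟩⟩
    · exact hh ⟨n, 2, ⟨ψ.trans (prodEquivFin n)⟩⟩
  have hAutF : IsPGroup 2 (F.autGroup S) := hAut.to_subgroup _
  have hsc : F.StronglyClosed S :=
    ⟨le_rfl, fun R _ φ hφ x => (F.le_of_mem hφ).2 x⟩
  have hFi : F = innerFusionSystem S := by
    apply Cfsg.Agent.Lib.Helper7.fusionSystem_le_antisymm _
      (Cfsg.Agent.Lib.Helper7.innerFusionSystem_le F)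
    apply Cfsg.Agent.Lib.Helper7.alperin_goldschmidt 2 hS F hF
    intro P hP
    have hPS : P = S := by
      rcases hP with h | hess
      · exact h
      · rcases Cfsg.Agent.Lib.Helper7.MetaSC.le_essential_or_dqsd_two hS F hF S hsc hm P hess with
          h | h | h | h
        · exact le_antisymm hess.1.1 h
        · exact absurd h hd
        · exact absurd h hq
        · exact absurd h hsd
    subst hPS
    obtain ⟨-, T, hT⟩ := Cfsg.Agent.Lib.Helper7.isFullyAutomized_top_of_isSaturated 2 hS F hF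
    haveI : Finite (MulAut ↥P) := inferInstance
    have htop := Cfsg.Agent.Lib.Helper7.sylow_eq_top_of_isPGroup hAutF T
    rw [hT] at htop
    intro α hα
    have : (⟨α, hα⟩ : F.autGroup P) ∈ (autInducedBy P P).subgroupOf (F.autGroup P) := by
      rw [htop]; exact Subgroup.mem_top _
    exact Cfsg.Agent.Lib.Helper7.autInducedBy_le_autGroup (innerFusionSystem P) le_rfl
      (Subgroup.mem_subgroupOf.mp this)
  intro P
  rw [← hFi]

end Cfsg.Agent.S5212
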