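import Cfsg.Statements.S5233
import Cfsg.Agent.Lib.Helper7.GenExD
import Cfsg.Agent.Lib.Helper7.EssChainB
import Cfsg.Agent.Lib.Helper5.Grp.D8Recog

set_option autoImplicit false
open Cfsg

namespace Cfsg.Agent.S5233

/-- a copy of `Fin n` without algebraic structure -/
structure Pt (n : ℕ) : Type where
  /-- the underlying index -/
  val : Fin n

/-- the points of `Pt n` are those of `Fin n` -/
def ptEquiv (n : ℕ) : Pt n ≃ Fin n where
  toFun x := x.val
  invFun i := ⟨i⟩
  left_inv _ := rfl
  right_inv _ := rfl

/-- a finite group has a copy in `Type` -/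
theorem exists_small_model (X : Type*) [Group X] [Finite X] :
    ∃ (X' : Type) (_ : Group X'), Nonempty (X ≃* X') := by
  have e : Pt (Nat.card X) ≃ X := (ptEquiv _).trans (Finite.equivFin X).symm
  letI : Group (Pt (Nat.card X)) := e.group
  exact ⟨Pt (Nat.card X), inferInstance, ⟨e.mulEquiv.symm⟩⟩

/-- a finite commutative group has a copy in `Type` -/
theorem exists_small_comm_model (X : Type*) [Group X] [Finite X] (hcomm : ∀ a b : X, a * b = b * a) :
    ∃ (X' : Type) (_ : CommGroup X'), Nonempty (X ≃* X') := by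
  have e : Pt (Nat.card X) ≃ X := (ptEquiv _).trans (Finite.equivFin X).symm
  letI instG : Group (Pt (Nat.card X)) := e.group
  have e' : Pt (Nat.card X) ≃* X := e.mulEquiv
  letI instC : CommGroup (Pt (Nat.card X)) :=
    { instG with
      mul_comm := fun a b => e'.injective (by rw [map_mul, map_mul, hcomm]) }
  exact ⟨Pt (Nat.card X), instC, ⟨e'.symm⟩⟩

/-- Let F be a saturated fusion system over a finite p-group S and P a subgroup of S strongly closed in F that is generalized extraspecial (its Frattini subgroup equals its commutator subgroup and has order p) and not isomorphic to E × A with A elementary abelian and E dihedral of order 8 (p = 2) or extraspecial of order p³ and exponent p (p odd). Then P is normal in F. -/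
theorem result {Ω : Type*} [Group Ω] {S : Subgroup Ω} [Finite S] (p : ℕ) [Fact p.Prime] (hS : IsPGroup p S) (F : Cfsg.FusionSystem S) (hF : F.IsSaturated p) (P : Subgroup Ω) (hP : F.StronglyClosed P) (hge : frattini ↥P = commutator ↥P ∧ Nat.card ↥(commutator ↥P) = p) (h2 : p = 2 → ¬ ∃ (A : Type) (_ : CommGroup A), (∀ a : A, a ^ 2 = 1) ∧ Nonempty (↥P ≃* DihedralGroup 4 × A)) (hodd : p ≠ 2 → ¬ ∃ (E : Type) (_ : Group E) (A : Type) (_ : CommGroup A), Cfsg.IsExtraspecial p E ∧ Nat.card E = p ^ 3 ∧ Monoid.exponent E = p ∧ (∀ a : A, a ^ p = 1) ∧ Nonempty (↥P ≃* E × A)) : F.IsNormal P := by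
  apply Cfsg.Agent.Lib.Helper7.isNormal_of_essential_invariant p hS F hF
  intro R hR'
  rcases hR' with rfl | hess
  · exact ⟨hP.1, fun α hα => Cfsg.Agent.Lib.Helper7.map_eq_of_stronglyClosed F hP le_rfl hP.1 α hα⟩
  · have hle : P ≤ R := by
      rcases Cfsg.Agent.Lib.Helper7.GenEx.le_essential_or_exc p hS F hF P hP hge.1 hge.2 R hess with
        h | ⟨z₁, t, hab, hexp, ht, htp⟩
      · exact h
      · exfalso
        haveI : Finite ↥P := Cfsg.Agent.Lib.Helper7.finite_of_le hP.1
        have hPp : IsPGroup p ↥P := hS.to_le hP.1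
        obtain ⟨E₀, A₀, hE₀card, hz₁E, htE, hA₀exp, hA₀comm, ⟨Ψ⟩, hE₀exp⟩ :=
          Cfsg.Agent.Lib.Helper7.GenEx.exists_decomp hPp hge.1 hge.2 z₁ t hab hexp ht
        obtain ⟨A, instA, ⟨eA⟩⟩ := exists_small_comm_model ↥A₀
          (fun a b => Subtype.ext (hA₀comm a a.2 b b.2))
        have hAexp : ∀ a : A, a ^ p = 1 := by
          intro a
          obtain ⟨x, rfl⟩ := eA.surjective a
          rw [← map_pow]
          have : x ^ p = 1 := Subtype.ext (hA₀exp x x.2)
          rw [this, map_one]
        by_cases hp2 : p = 2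
        · subst hp2
          apply h2 rfl
          have hz₁sq : z₁ * z₁ = 1 := by
            have := hexp z₁ rfl
            rwa [pow_two] at this
          obtain ⟨e⟩ := Cfsg.Agent.Lib.Helper5.D8R.dihedral_of_card_eight (G := ↥E₀)
            (by rw [hE₀card]; norm_num) ⟨z₁, hz₁E⟩ ⟨t, htE⟩ (Subtype.ext hz₁sq)
            (fun h => ht (congrArg Subtype.val h))
          exact ⟨A, instA, hAexp, ⟨Ψ.trans (MulEquiv.prodCongr e.symm eA)⟩⟩
        · apply hodd hp2
          obtain ⟨E, instE, ⟨eE⟩⟩ := exists_small_model ↥E₀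
          haveI : Finite E := Finite.of_equiv _ eE.toEquiv
          have hEcard : Nat.card E = p ^ 3 := by rw [← Nat.card_congr eE.toEquiv, hE₀card]
          have hEna : ¬ ∀ a b : E, a * b = b * a := by
            intro h
            apply ht
            have h1 := h (eE ⟨t, htE⟩) (eE ⟨z₁, hz₁E⟩)
            rw [← map_mul, ← map_mul] at h1
            exact congrArg Subtype.val (eE.injective h1)
          have hEexp : ∀ x : E, x ^ p = 1 := by
            intro x
            obtain ⟨y, rfl⟩ := eE.surjective x
            rw [← map_pow]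
            have : y ^ p = 1 := Subtype.ext (hE₀exp hp2 (htp hp2) y y.2)
            rw [this, map_one]
          have hexpE : Monoid.exponent E = p := by
            have hdvd : Monoid.exponent E ∣ p := Monoid.exponent_dvd_of_forall_pow_eq_one hEexp
            rcases (Nat.dvd_prime (Fact.out : p.Prime)).mp hdvd with h | h
            · exfalso
              haveI : Subsingleton E := Monoid.exp_eq_one_iff.mp h
              exact hEna (fun a b => Subsingleton.elim _ _)
            · exact h
          exact ⟨E, instE, A, instA,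
            Cfsg.Agent.Lib.Helper7.EssChain.isExtraspecial_of_nonab p hEcard hEna, hEcard, hexpE,
            hAexp, ⟨Ψ.trans (MulEquiv.prodCongr eE eA)⟩⟩
    exact ⟨hle, fun α hα => Cfsg.Agent.Lib.Helper7.map_eq_of_stronglyClosed F hP hess.1.1 hle α hα⟩

end Cfsg.Agent.S5233
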