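import Cfsg.Statements.S5249
import Cfsg.Agent.Lib.Helper7.QdSolv
import Cfsg.Agent.S5157
import Cfsg.Agent.Lib.Helper7.GroupFusion3

set_option autoImplicit false
open Cfsg

namespace Cfsg.Agent.S5249

/-- Let p be an odd prime, G a finite group in which Qd(p) (the natural semidirect product of an elementary abelian group of order p² by SL₂(p)) is not involved, and P a Sylow p-subgroup of G. Then the fusion system of G on P is a solvable fusion system. -/
theorem result {G : Type*} [Group G] [Finite G] {p : ℕ} [Fact p.Prime] (hp : p ≠ 2) (hqd : ¬ Cfsg.Involves ↥(Cfsg.qd p) G) (P : Sylow p G) : (Cfsg.groupFusionSystem (P : Subgroup G)).IsSolvableSystem := by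
  rw [Cfsg.Agent.S5157.result p P.isPGroup' _ (Cfsg.Agent.Lib.Helper7.gfs_isSaturated p P)]
  obtain ⟨T, hT0, ⟨m, hTm⟩, hmono, hcl, hcomm⟩ :=
    Cfsg.Agent.Lib.Helper7.QdSolv.exists_series p hp _ G rfl hqd P
  refine ⟨m, fun i => T i.val, hT0, hTm, fun i j hij => hmono hij, fun i => ?_, fun i => hcomm i.val⟩
  refine ⟨(hcl i.val).1, fun R hR φ hφ x => ?_⟩
  obtain ⟨-, hφS, g, hg⟩ := hφ
  have h1 := hφS x
  rw [hg x] at h1 ⊢
  exact (hcl i.val).2 _ (hR x.2) g h1

end Cfsg.Agent.S5249
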