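import Cfsg.Statements.S5265
import Cfsg.Agent.Lib.Helper7.TrvO
import Cfsg.Agent.Lib.Helper5.Grp.D8Recog

set_option autoImplicit false
open Cfsg

namespace Cfsg.Agent.S5265

/-- Let p be a prime, S a nontrivial finite p-group whose centre has index at most p², and F a saturated fusion system over S with no nontrivial normal subgroup and with hyperfocal subgroup equal to S. Then S is extraspecial of order p³; for odd p it has exponent p, and for p = 2 it is dihedral of order 8. -/
theorem result {Ω : Type*} [Group Ω] {S : Subgroup Ω} [Finite S] (p : ℕ) [Fact p.Prime] (hS : IsPGroup p ↥S) (F : Cfsg.FusionSystem S) (hF : F.IsSaturated p) (hS1 : S ≠ ⊥) (hcore : F.core = ⊥) (hhyp : F.hyperfocalSubgroup p = S) (hZ : (Subgroup.center ↥S).index ≤ p ^ 2) : Cfsg.IsExtraspecial p ↥S ∧ Nat.card S = p ^ 3 ∧ (p ≠ 2 → Monoid.exponent ↥S = p) ∧ (p = 2 → Nonempty (↥S ≃* DihedralGroup 4)) := by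
  open Cfsg.Agent.Lib.Helper7.Trv Cfsg.Agent.Lib.Helper7 in
  have hp : p.Prime := Fact.out
  have hna := not_comm_of_core hS F hF hS1 hcore
  have hidx := index_center_eq hS hna hZ
  have h : Sq p S := Sq.of_index hS hidx
  have hcardZ : Nat.card (Zc S) = p := by
    by_cases hp2 : p = 2
    · subst hp2
      exact card_Zc_two h F hF hcore hhyp
    · exact card_Zc_odd h F hF hcore hp2
  have hcard : Nat.card S = p ^ 3 := by
    rw [← Subgroup.card_mul_index (Subgroup.center ↥S), hidx, card_center_eq, hcardZ]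
    ring
  refine ⟨EssChain.isExtraspecial_of_nonab p hcard hna, hcard, fun hp2 => ?_, fun hp2 => ?_⟩
  · have hpow := forall_pow_eq_one h F hF hcore hcardZ hcard hna hp2
    have hdvd : Monoid.exponent ↥S ∣ p := Monoid.exponent_dvd_of_forall_pow_eq_one hpow
    rcases (Nat.dvd_prime hp).mp hdvd with h1 | h1
    · exfalso
      have hsub : Subsingleton ↥S := Monoid.exp_eq_one_iff.mp h1
      have : Nat.card S = 1 := Nat.card_eq_one_iff_unique.mpr ⟨hsub, ⟨1⟩⟩
      rw [hcard] at this
      have h2 : 1 < p ^ 3 := Nat.one_lt_pow (by norm_num) hp.one_lt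
      omega
    · exact h1
  · subst hp2
    obtain ⟨P₁, P₂, hE₁, -, -⟩ := core_ne_of_essential h F hF hcore
    have hM := mid_of_isEssential h F hF hE₁
    obtain ⟨t, htP, htZ⟩ := exists_not_mem_Zc_of_mid hM
    have htt := essential_sq h F hF hcore hE₁ t htP
    have htS : t ∈ S := hM.hPS htP
    obtain ⟨s, hsS, hst⟩ : ∃ s ∈ S, s * t ≠ t * s := by
      by_contra hcon
      push Not at hcon
      exact htZ (mem_Zc.mpr ⟨htS, hcon⟩)
    have h8 : Nat.card ↥S = 8 := by rw [hcard]; norm_num
    obtain ⟨e⟩ := Cfsg.Agent.Lib.Helper5.D8R.dihedral_of_card_eight h8 (⟨t, htS⟩ : ↥S) ⟨s, hsS⟩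
      (Subtype.ext htt) (fun he => hst (congrArg Subtype.val he))
    exact ⟨e.symm⟩

end Cfsg.Agent.S5265
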