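import Cfsg.Statements.S5272
import Cfsg.Agent.Lib.Helper7.AxGTf

set_option autoImplicit false
open Cfsg

namespace Cfsg.Agent.S5272

/-- An axiomatic Glauberman–Thompson nilpotency criterion for fusion systems. Let p be an odd prime, F a saturated fusion system over a finite p-group S, and 𝒜 a nonempty family of abelian subgroups of S. For Q ≤ S write I(Q) for the intersection of the members of 𝒜 contained in Q. Assume (invariance) that for every Q ≤ S containing a member of 𝒜, every F-automorphism of Q maps I(Q) into itself, and (replacement) that for every subgroup B of S of nilpotency class at most 2, if some member of 𝒜 contains [B,B] but not B, then B normalizes some member of 𝒜 that contains [B,B] but not B. Then F is the inner fusion system of S if and only if the normalizer fusion system of I(S) in F is the inner fusion system of N_S(I(S)). -/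
theorem result {Ω : Type*} [Group Ω] {S : Subgroup Ω} [Finite S] (p : ℕ) [Fact p.Prime] (hS : IsPGroup p ↥S) (F : Cfsg.FusionSystem S) (hF : F.IsSaturated p) (hp : p ≠ 2) (𝒜 : Set (Subgroup Ω)) (h𝒜 : ∀ A ∈ 𝒜, A ≤ S ∧ IsMulCommutative ↥A) (hne : 𝒜.Nonempty) (hinv : ∀ Q : Subgroup Ω, Q ≤ S → (∃ A ∈ 𝒜, A ≤ Q) → ∀ α ∈ F.autGroup Q, ∀ x : ↥Q, (x : Ω) ∈ (⨅ A ∈ {A : Subgroup Ω | A ∈ 𝒜 ∧ A ≤ Q}, A) → (((α : MulAut ↥Q) x : ↥Q) : Ω) ∈ (⨅ A ∈ {A : Subgroup Ω | A ∈ 𝒜 ∧ A ≤ Q}, A)) (hrep : ∀ B : Subgroup Ω, B ≤ S → ⁅⁅B, B⁆, B⁆ = ⊥ → (∃ A ∈ 𝒜, ⁅B, B⁆ ≤ A ∧ ¬ B ≤ A) → ∃ A ∈ 𝒜, ⁅B, B⁆ ≤ A ∧ ¬ B ≤ A ∧ B ≤ Subgroup.normalizer (A : Set Ω)) : (∀ P : Subgroup Ω, F.Hom P = (Cfsg.innerFusionSystem S).Hom P) ↔ ∀ N : Cfsg.FusionSystem (Cfsg.FusionSystem.normalizerIn S (⨅ A ∈ 𝒜, A)), F.IsNormalizerSystem (⨅ A ∈ 𝒜, A) N → ∀ P : Subgroup Ω, N.Hom P = (Cfsg.innerFusionSystem (Cfsg.FusionSystem.normalizerIn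 S (⨅ A ∈ 𝒜, A))).Hom P := by
  have hf : Cfsg.Agent.Lib.Helper7.AxGT.FamΩ S 𝒜 := by
    refine ⟨fun A hA => (h𝒜 A hA).1, ?_, hne, hrep⟩
    intro A hA a ha b hb
    have h1 := (h𝒜 A hA).2.is_comm.comm ⟨a, ha⟩ ⟨b, hb⟩
    exact congrArg Subtype.val h1
  have hinv' : Cfsg.Agent.Lib.Helper7.AxGT.HInv F 𝒜 :=
    fun Q hQ hne' α hα x hx => hinv Q hQ hne' α hα x hx
  have hIeq : Cfsg.Agent.Lib.Helper7.AxGT.IOf 𝒜 S = ⨅ A ∈ 𝒜, A := by
    ext x
    rw [Cfsg.Agent.Lib.Helper7.AxGT.mem_IOf, Subgroup.mem_iInf]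
    constructor
    · intro h A
      rw [Subgroup.mem_iInf]
      intro hA
      exact h A hA (h𝒜 A hA).1
    · intro h A hA _
      have h1 := h A
      rw [Subgroup.mem_iInf] at h1
      exact h1 hA
  have hSV : S ≤ Subgroup.normalizer (((⨅ A ∈ 𝒜, A : Subgroup Ω)) : Set Ω) := by
    rw [← hIeq]
    exact Cfsg.Agent.Lib.Helper7.AxGT.le_normalizer_IOf F hf hinv'
  have hIS : (⨅ A ∈ 𝒜, A : Subgroup Ω) ≤ S := by
    obtain ⟨A, hA⟩ := hne
    rw [← hIeq]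
    exact Cfsg.Agent.Lib.Helper7.AxGT.IOf_le_top hf S ⟨A, hA, (h𝒜 A hA).1⟩
  constructor
  · intro hinner N hN
    have h1 : N = Cfsg.innerFusionSystem (Cfsg.FusionSystem.normalizerIn S (⨅ A ∈ 𝒜, A)) := by
      apply Cfsg.Agent.Lib.Helper7.fusionSystem_le_antisymm _
        (Cfsg.Agent.Lib.Helper7.innerFusionSystem_le N)
      intro P φ hφ
      rw [hN P] at hφ
      have h2 := hφ.1
      rw [hinner P] at h2
      obtain ⟨-, g, hg, hgφ⟩ := h2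
      exact ⟨hφ.2.1, g, ⟨hg, hSV hg⟩, hgφ⟩
    intro P
    rw [h1]
  · intro h
    obtain ⟨N, hN⟩ := Cfsg.Agent.Lib.Helper7.exists_normalizerSystem F (⨅ A ∈ 𝒜, A) hIS
    have hNinner := h N hN
    have hin : Cfsg.Agent.Lib.Helper7.GTF.NIn F (Cfsg.Agent.Lib.Helper7.AxGT.IOf 𝒜 S) := by
      rw [hIeq]
      intro X φ hφ
      have h1 : φ ∈ N.Hom X := by rw [hN X]; exact hφ
      rw [hNinner X] at h1
      obtain ⟨-, g, hg, hgφ⟩ := h1
      exact ⟨g, hg.1, hgφ⟩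
    have := Cfsg.Agent.Lib.Helper7.AxGT.axgt hp hS F hF hf hinv' hin
    intro P
    rw [this]

end Cfsg.Agent.S5272
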