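import Cfsg.Statements.S5345

set_option autoImplicit false
open Cfsg

namespace Cfsg.Agent.S5345

open scoped Pointwise

/-- two 3-transpositions whose product is a 2-element commute -/
theorem comm_of_two_elt {G : Type*} [Group G] {D : Set G} (hD : Cfsg.IsThreeTranspositionSet D)
    {d e : G} (hd : d ∈ D) (he : e ∈ D) (k : ℕ) (hk : (d * e) ^ (2 ^ k) = 1) : d * e = e * d := by
  obtain ⟨hord, h23⟩ := hD
  have hdd : d * d = 1 := by rw [← pow_two, ← hord d hd, pow_orderOf_eq_one]
  have hee : e * e = 1 := by rw [← pow_two, ← hord e he, pow_orderOf_eq_one]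
  have h2 : (d * e) ^ 2 = 1 := by
    rcases h23 d hd e he with h | h
    · exact h
    · have hdvd1 : orderOf (d * e) ∣ 2 ^ k := orderOf_dvd_of_pow_eq_one hk
      have hdvd2 : orderOf (d * e) ∣ 3 := orderOf_dvd_of_pow_eq_one h
      have hcop : Nat.Coprime (2 ^ k) 3 := by
        apply Nat.Coprime.pow_left; norm_num
      have h1 : orderOf (d * e) = 1 := Nat.eq_one_of_dvd_coprimes hcop hdvd1 hdvd2
      rw [orderOf_eq_one_iff.mp h1, one_pow]
  have h3 : d * e * (d * e) = 1 := by rw [← pow_two]; exact h2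
  have : d * e = (d * e)⁻¹ := (inv_eq_of_mul_eq_one_right h3).symm
  rw [this, mul_inv_rev, inv_eq_of_mul_eq_one_right hdd, inv_eq_of_mul_eq_one_right hee]

/-- pairwise commuting involutions generate a 2-group -/
theorem isPGroup_closure {G : Type*} [Group G] {E : Set G} (hinv : ∀ e ∈ E, e * e = 1)
    (hcomm : ∀ a ∈ E, ∀ b ∈ E, Commute a b) : IsPGroup 2 (Subgroup.closure E) := by
  have hc : IsMulCommutative (Subgroup.closure E) :=
    Subgroup.isMulCommutative_closure (fun x hx y hy => (hcomm x hx y hy).eq)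
  have hsq : ∀ x ∈ Subgroup.closure E, x * x = 1 := by
    intro x hx
    induction hx using Subgroup.closure_induction with
    | mem x hx => exact hinv x hx
    | one => simp
    | mul x y hx hy ihx ihy =>
      have hxy : x * y = y * x := setLike_mul_comm hx hy
      calc x * y * (x * y) = x * (y * x) * y := by group
        _ = x * (x * y) * y := by rw [hxy]
        _ = (x * x) * (y * y) := by group
        _ = 1 := by rw [ihx, ihy, one_mul]
    | inv x hx ih =>
      have : x⁻¹ = x := inv_eq_of_mul_eq_one_right ih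
      rw [this, ih]
  intro x
  refine ⟨1, ?_⟩
  apply Subtype.ext
  simp only [pow_one, Subgroup.coe_pow, Subgroup.coe_one, pow_two]
  exact hsq x x.2

theorem result {G : Type*} [Group G] [Finite G] {D : Set G} (hD : Cfsg.IsThreeTranspositionGroup D) (T : Sylow 2 G) : IsMulCommutative (Subgroup.closure {d : G | d ∈ D ∧ d ∈ T}) ∧ {d : G | d ∈ D ∧ d ∈ T}.ncard = Cfsg.commutingWidth D := by
  have : Fact (Nat.Prime 2) := ⟨Nat.prime_two⟩
  obtain ⟨hD3, hconj, _⟩ := hD
  have hinvD : ∀ d ∈ D, d * d = 1 := fun d hd => by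
    rw [← pow_two, ← hD3.1 d hd, pow_orderOf_eq_one]
  have hcommT : ∀ a ∈ {d : G | d ∈ D ∧ d ∈ T}, ∀ b ∈ {d : G | d ∈ D ∧ d ∈ T}, Commute a b := by
    rintro a ⟨haD, haT⟩ b ⟨hbD, hbT⟩
    have habT : a * b ∈ (T : Subgroup G) := (T : Subgroup G).mul_mem haT hbT
    obtain ⟨k, hk⟩ := T.isPGroup' ⟨a * b, habT⟩
    have hk' : (a * b) ^ (2 ^ k) = 1 := by
      have := congrArg Subtype.val hk
      simpa using this
    exact comm_of_two_elt hD3 haD hbD k hk'
  refine ⟨Subgroup.isMulCommutative_closure (fun x hx y hy => (hcommT x hx y hy).eq), ?_⟩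
  unfold Cfsg.commutingWidth
  symm
  apply IsGreatest.csSup_eq
  refine ⟨⟨{d : G | d ∈ D ∧ d ∈ T}, fun d hd => hd.1, Set.toFinite _, hcommT, rfl⟩, ?_⟩
  rintro n ⟨E, hED, hEfin, hEcomm, rfl⟩
  -- closure E is a 2-group, conjugate it into T
  have hE2 : IsPGroup 2 (Subgroup.closure E) :=
    isPGroup_closure (fun e he => hinvD e (hED he)) hEcomm
  obtain ⟨Q, hQ⟩ := hE2.exists_le_sylow
  obtain ⟨g, hg⟩ := MulAction.exists_smul_eq G Q T
  have hmem : ∀ e ∈ E, g * e * g⁻¹ ∈ {d : G | d ∈ D ∧ d ∈ T} := by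
    intro e he
    refine ⟨hconj g e (hED he), ?_⟩
    have h1 : e ∈ (Q : Subgroup G) := hQ (Subgroup.subset_closure he)
    have h2 : g * e * g⁻¹ ∈ ((g • Q : Sylow 2 G) : Subgroup G) := by
      rw [Sylow.coe_subgroup_smul]
      exact ⟨e, h1, rfl⟩
    rw [hg] at h2
    exact h2
  apply Set.ncard_le_ncard_of_injOn (fun e => g * e * g⁻¹) hmem
  · intro a _ b _ hab
    simpa using hab

end Cfsg.Agent.S5345
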