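import Cfsg.Statements.S5348

set_option autoImplicit false
open Cfsg

namespace Cfsg.Agent.S5348

theorem exists_ne_of_ne_singleton {α : Type*} {s : Set α} {d : α} (hd : d ∈ s) (h : s ≠ {d}) :
    ∃ v ∈ s, v ≠ d := by
  by_contra hcon
  push Not at hcon
  apply h
  ext x
  constructor
  · intro hx; exact hcon x hx
  · intro hx
    rw [Set.mem_singleton_iff] at hx
    rw [hx]; exact hd

theorem result {G : Type*} [Group G] [Finite G] {D : Set G} (hD : Cfsg.IsThreeTranspositionGroup D) {d : G} (hd : d ∈ D) : {v : G | v ∈ D ∧ ∀ e ∈ D, Commute v e ↔ Commute d e} = {d} ∨ {w : G | w ∈ D ∧ {y : G | y ∈ D ∧ y ≠ d ∧ Commute d y} = {y : G | y ∈ D ∧ y ≠ w ∧ Commute w y}} = {d} := by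
  by_contra hcon
  push Not at hcon
  obtain ⟨hV, hW⟩ := hcon
  obtain ⟨v, ⟨hvD, hv⟩, hvd⟩ := exists_ne_of_ne_singleton (s := {v : G | v ∈ D ∧ ∀ e ∈ D, Commute v e ↔ Commute d e})
    ⟨hd, fun e _ => Iff.rfl⟩ hV
  obtain ⟨w, ⟨hwD, hw⟩, hwd⟩ := exists_ne_of_ne_singleton
    (s := {w : G | w ∈ D ∧ {y : G | y ∈ D ∧ y ≠ d ∧ Commute d y} = {y : G | y ∈ D ∧ y ≠ w ∧ Commute w y}})
    ⟨hd, rfl⟩ hW
  -- w does not commute with d
  have hwd' : ¬ Commute d w := by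
    intro hc
    have : w ∈ {y : G | y ∈ D ∧ y ≠ d ∧ Commute d y} := ⟨hwD, hwd, hc⟩
    rw [hw] at this
    exact this.2.1 rfl
  -- v commutes with d
  have hvd' : Commute d v := ((hv d hd).mpr (Commute.refl d)).symm
  have : v ∈ {y : G | y ∈ D ∧ y ≠ d ∧ Commute d y} := ⟨hvD, hvd, hvd'⟩
  rw [hw] at this
  have hvw : Commute v w := this.2.2.symm
  exact hwd' ((hv w hwD).mp hvw)

end Cfsg.Agent.S5348
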