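import Cfsg.Statements.S5354
import Cfsg.Agent.H9.TT3PrimMax

set_option autoImplicit false
open Cfsg

namespace Cfsg.Agent.S5354

/-- Let D be a conjugation-invariant generating set of 3-transpositions of the finite group G on which G acts primitively by conjugation, and suppose two different members of D commute (width at least 2). Then G has a quasisimple normal subgroup L of index at most 2 with the generalized Fitting subgroup of G equal to L times the centre, the commuting graph of D is connected, and for d in D the subgroup generated by the members of D commuting with d is a maximal D-subgroup: it is proper, and every subgroup generated by members of D that contains it is either it or G. -/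
theorem result {G : Type*} [Group G] [Finite G] {D : Set G} (hD : Cfsg.IsThreeTranspositionGroup D) (hprim : Cfsg.IsPrimitiveUnderConj D) (hw : ∃ a ∈ D, ∃ b ∈ D, a ≠ b ∧ Commute a b) : (∃ L : Subgroup G, L.Normal ∧ Cfsg.IsQuasisimple L ∧ L.index ≤ 2 ∧ Cfsg.generalizedFittingSubgroup G = L ⊔ Subgroup.center G) ∧ (Cfsg.commutingGraph D).Connected ∧ ∀ d ∈ D, Subgroup.closure {y : G | y ∈ D ∧ Commute d y} ≠ ⊤ ∧ ∀ H : Subgroup G, Cfsg.IsDSubgroup D H → Subgroup.closure {y : G | y ∈ D ∧ Commute d y} ≤ H → H = Subgroup.closure {y : G | y ∈ D ∧ Commute d y} ∨ H = ⊤ := by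
  obtain ⟨hT, hconj, hgen⟩ := hD
  have hD2 := hprim.2.1
  obtain ⟨p, hp, q, hq, hpq, hcomm⟩ := hw
  have hw' : ∃ p ∈ D, ∃ q ∈ D, p ≠ q ∧ Commute p q := ⟨p, hp, q, hq, hpq, hcomm⟩
  have hcls : ∀ e ∈ D, ∃ g : G, e = g * p * g⁻¹ := by
    intro e he
    obtain ⟨g, hg⟩ := hprim.1 p hp e he
    exact ⟨g, hg.symm⟩
  have hDcls : Cfsg.IsThreeTranspositionClass D := by
    refine ⟨hT, ⟨p, hp, ?_⟩, hgen⟩
    ext x
    constructor
    · intro hx
      obtain ⟨g, hg⟩ := hcls x hx
      show IsConj p x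
      rw [isConj_iff]
      exact ⟨g, hg.symm⟩
    · intro hx
      have hx' : IsConj p x := hx
      rw [isConj_iff] at hx'
      obtain ⟨g, hg⟩ := hx'
      rw [← hg]
      exact hconj g p hp
  have hnc : ∀ d ∈ D, ∃ a ∈ D, ¬ Commute d a := fun d hd =>
    Cfsg.Agent.Lead.TT.exists_not_comm hDcls hD2 hd
  obtain ⟨a, ha, hpa⟩ := hnc p hp
  obtain ⟨h2, h3⟩ :=
    Cfsg.Agent.H9.TT3Width.pCore_le_center_of_prim hT hconj hprim hgen hw' hp ha hpa
  have hconn := Cfsg.Agent.H9.TT3Width.connected_of_prim hconj hprim hw'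
  have hLc := Cfsg.Agent.H9.TT3Width.layer_isComponent hT hconj hgen hp hcls hD2 h2 h3
  refine ⟨⟨Cfsg.layer G, Cfsg.Agent.H2.layer_normal, hLc.2,
    Cfsg.Agent.H9.TT3Width.index_le_two_of_connected hT hconj hgen hp hcls hLc hconn, ?_⟩,
    hconn, ?_⟩
  · unfold Cfsg.generalizedFittingSubgroup
    rw [Cfsg.Agent.H9.TT3Width.fitting_eq_center hT hconj hgen hp hcls h2 h3]
  · intro d hd
    obtain ⟨a₀, ha₀, hda₀⟩ := hnc d hd
    exact Cfsg.Agent.H9.TT3Width.cd_maximal hT hconj hprim hgen hw' hd ha₀ hda₀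

end Cfsg.Agent.S5354
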