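import Cfsg.Statements.S5358

set_option autoImplicit false
open scoped MatrixGroups
open Cfsg

namespace Cfsg.Agent.S5358

open Matrix

theorem polarVec_dot {n : ℕ} {F : Type*} [Field F] (Q : QuadraticForm F (Fin n → F)) (v x : Fin n → F) :
    Cfsg.polarVec (⇑Q) v ⬝ᵥ x = QuadraticMap.polar (⇑Q) v x := by
  have hx : x = ∑ j, x j • (Pi.single j (1 : F) : Fin n → F) := by
    ext i
    simp [Finset.sum_apply, Pi.single_apply]
  have h1 : QuadraticMap.polar (⇑Q) v x = QuadraticMap.polarBilin Q v x := rfl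
  rw [h1]
  conv_rhs => rw [hx]
  rw [map_sum]
  simp only [map_smul, smul_eq_mul]
  unfold dotProduct Cfsg.polarVec
  apply Finset.sum_congr rfl
  intro j _
  rw [mul_comm]
  rfl

theorem result (n : ℕ) (Q : QuadraticForm (ZMod 3) (Fin n → ZMod 3)) (hQ : (QuadraticMap.polarBilin Q).Nondegenerate) (u v : Fin n → ZMod 3) (hu : Q u ≠ 0) (huv : Q u = Q v) (h1 : v ≠ u) (h2 : v ≠ -u) : Commute (Cfsg.reflectionMatrix (⇑Q) u) (Cfsg.reflectionMatrix (⇑Q) v) ↔ QuadraticMap.polar (⇑Q) u v = 0 := by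
  obtain ⟨a, ha⟩ : ∃ a : ZMod 3, a = (Q u)⁻¹ := ⟨_, rfl⟩
  have ha0 : a ≠ 0 := by rw [ha]; exact inv_ne_zero hu
  obtain ⟨pu, hpu⟩ : ∃ pu, pu = Cfsg.polarVec (⇑Q) u := ⟨_, rfl⟩
  obtain ⟨pv, hpv⟩ : ∃ pv, pv = Cfsg.polarVec (⇑Q) v := ⟨_, rfl⟩
  have hRu : Cfsg.reflectionMatrix (⇑Q) u = 1 - a • vecMulVec u pu := by
    unfold Cfsg.reflectionMatrix; rw [ha, hpu]
  have hRv : Cfsg.reflectionMatrix (⇑Q) v = 1 - a • vecMulVec v pv := by
    unfold Cfsg.reflectionMatrix; rw [ha, hpv, huv]
  obtain ⟨f, hf⟩ : ∃ f, f = QuadraticMap.polar (⇑Q) u v := ⟨_, rfl⟩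
  have hf' : f = QuadraticMap.polar (⇑Q) v u := by rw [hf, QuadraticMap.polar_comm]
  have hUV : vecMulVec u pu * vecMulVec v pv = f • vecMulVec u pv := by
    rw [vecMulVec_mul_vecMulVec, hpu, polarVec_dot, ← hf, vecMulVec_smul]
  have hVU : vecMulVec v pv * vecMulVec u pu = f • vecMulVec v pu := by
    rw [vecMulVec_mul_vecMulVec, hpv, polarVec_dot, ← hf', vecMulVec_smul]
  rw [← hf, hRu, hRv]
  have hcomm_iff : Commute (1 - a • vecMulVec u pu) (1 - a • vecMulVec v pv) ↔
      f • vecMulVec u pv = f • vecMulVec v pu := by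
    unfold Commute SemiconjBy
    have e1 : (1 - a • vecMulVec u pu) * (1 - a • vecMulVec v pv) =
        1 - a • vecMulVec u pu - a • vecMulVec v pv + (a * a) • (f • vecMulVec u pv) := by
      rw [← hUV]
      simp only [sub_mul, mul_sub, one_mul, mul_one, smul_mul_assoc, mul_smul_comm, smul_sub, smul_smul]
      abel
    have e2 : (1 - a • vecMulVec v pv) * (1 - a • vecMulVec u pu) =
        1 - a • vecMulVec u pu - a • vecMulVec v pv + (a * a) • (f • vecMulVec v pu) := by
      rw [← hVU]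
      simp only [sub_mul, mul_sub, one_mul, mul_one, smul_mul_assoc, mul_smul_comm, smul_sub, smul_smul]
      abel
    rw [e1, e2]
    constructor
    · intro h
      have h' := add_left_cancel h
      have haa : a * a ≠ 0 := mul_ne_zero ha0 ha0
      have := congrArg (fun M => (a * a)⁻¹ • M) h'
      simp only [smul_smul] at this
      rw [← mul_assoc, inv_mul_cancel₀ haa, one_mul] at this
      exact this
    · intro h; rw [h]
  rw [hcomm_iff]
  constructor
  · intro h
    by_contra hf0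
    have h3 : vecMulVec u pv = vecMulVec v pu := by
      have := congrArg (fun M => f⁻¹ • M) h
      simpa [smul_smul, inv_mul_cancel₀ hf0] using this
    -- apply to vectors
    have h4 : ∀ x : Fin n → ZMod 3, QuadraticMap.polar (⇑Q) v x • u = QuadraticMap.polar (⇑Q) u x • v := by
      intro x
      have := congrArg (fun M => M *ᵥ x) h3
      simp only [vecMulVec_mulVec, hpu, hpv, polarVec_dot] at this
      simpa using this
    -- v ≠ 0
    have hv0 : v ≠ 0 := by
      intro hv
      apply hu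
      rw [huv, hv, map_zero]
    -- by nondegeneracy find x with polar v x ≠ 0
    have hex : ∃ x, QuadraticMap.polar (⇑Q) v x ≠ 0 := by
      by_contra hall
      push Not at hall
      exact hv0 (hQ.1 v hall)
    obtain ⟨x, hx⟩ := hex
    obtain ⟨c, hc⟩ : ∃ c : ZMod 3, u = c • v := by
      refine ⟨(QuadraticMap.polar (⇑Q) v x)⁻¹ * QuadraticMap.polar (⇑Q) u x, ?_⟩
      have := congrArg (fun w => (QuadraticMap.polar (⇑Q) v x)⁻¹ • w) (h4 x)
      simpa [smul_smul, inv_mul_cancel₀ hx] using this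
    have hQc : Q u = c * c * Q v := by rw [hc, QuadraticMap.map_smul]; simp
    rw [← huv] at hQc
    have hcc : c * c = 1 := by
      have : (c * c - 1) * Q u = 0 := by rw [sub_mul, one_mul, ← hQc, sub_self]
      rcases mul_eq_zero.mp this with h | h
      · exact sub_eq_zero.mp h
      · exact absurd h hu
    have hc1 : c = 1 ∨ c = -1 := mul_self_eq_one_iff.mp hcc
    rcases hc1 with rfl | rfl
    · apply h1; rw [hc, one_smul]
    · apply h2; rw [hc]; simp
  · intro h; rw [h, zero_smul, zero_smul]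

end Cfsg.Agent.S5358
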