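import Cfsg.Statements.S5360
import Cfsg.Agent.H9.TT3Crit
import Cfsg.Agent.H9.ReflPrim

set_option autoImplicit false
open Cfsg

namespace Cfsg.Agent.S5360

/-- Let Q be a non-degenerate quadratic form on the n-dimensional coordinate space over the field with three elements, n ≥ 5, c a non-zero scalar, and R the subgroup of the isometry group generated by the reflections of norm c. Then the commutator subgroup of R is quasisimple of index at most 2, the generalized Fitting subgroup of R is the product of the centre and the commutator subgroup, and R acts primitively by conjugation on its reflections of norm c. -/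
theorem result (n : ℕ) (hn : 5 ≤ n) (Q : QuadraticForm (ZMod 3) (Fin n → ZMod 3)) (hQ : (QuadraticMap.polarBilin Q).Nondegenerate) (c : ZMod 3) (hc : c ≠ 0) : Cfsg.IsQuasisimple (commutator ↥(Cfsg.reflectionSubgroup (⇑Q) c)) ∧ (commutator ↥(Cfsg.reflectionSubgroup (⇑Q) c)).index ≤ 2 ∧ Cfsg.generalizedFittingSubgroup ↥(Cfsg.reflectionSubgroup (⇑Q) c) = Subgroup.center ↥(Cfsg.reflectionSubgroup (⇑Q) c) ⊔ commutator ↥(Cfsg.reflectionSubgroup (⇑Q) c) ∧ Cfsg.IsPrimitiveUnderConj {g : ↥(Cfsg.reflectionSubgroup (⇑Q) c) | (g : ↥(Cfsg.isometryGroup (ZMod 3) (⇑Q))) ∈ Cfsg.reflectionsOfNorm (⇑Q) c} := by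
  have hD := Cfsg.Agent.S5357.result n hn Q hQ c hc
  have hmem : ∀ g : ↥(Cfsg.reflectionSubgroup (⇑Q) c),
      g ∈ {g : ↥(Cfsg.reflectionSubgroup (⇑Q) c) |
        (g : ↥(Cfsg.isometryGroup (ZMod 3) (⇑Q))) ∈ Cfsg.reflectionsOfNorm (⇑Q) c} ↔
      ∃ (v : Fin n → ZMod 3) (hv : Q v = c), g = Cfsg.Agent.S5357.ρ Q c hc v hv := by
    intro g
    show (g : ↥(Cfsg.isometryGroup (ZMod 3) (⇑Q))) ∈ Cfsg.reflectionsOfNorm (⇑Q) c ↔ _
    rw [Cfsg.Agent.Lib.Helper8.Reflection.mem_reflectionsOfNorm_iff Q c hc]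
    constructor
    · rintro ⟨v, hv, h⟩
      exact ⟨v, hv, Subtype.ext h⟩
    · rintro ⟨v, hv, rfl⟩
      exact ⟨v, hv, rfl⟩
  obtain ⟨v₀, hv₀, -⟩ := Cfsg.Agent.S5357.exists_norm Q hQ c hc 0 (by omega) Fin.elim0
    (fun i => i.elim0) (fun i => i.elim0)
  have hD2 : ∃ a ∈ {g : ↥(Cfsg.reflectionSubgroup (⇑Q) c) |
        (g : ↥(Cfsg.isometryGroup (ZMod 3) (⇑Q))) ∈ Cfsg.reflectionsOfNorm (⇑Q) c},
      ∃ b ∈ {g : ↥(Cfsg.reflectionSubgroup (⇑Q) c) |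
        (g : ↥(Cfsg.isometryGroup (ZMod 3) (⇑Q))) ∈ Cfsg.reflectionsOfNorm (⇑Q) c}, a ≠ b := by
    obtain ⟨z, hz, _, _, hne, _⟩ := Cfsg.Agent.H9.ReflPrim.exists_common Q c hc hn hQ v₀ v₀ hv₀ hv₀
    exact ⟨_, (hmem _).2 ⟨v₀, hv₀, rfl⟩, _, (hmem _).2 ⟨z, hz, rfl⟩, hne⟩
  apply Cfsg.Agent.H9.TT3Width.prim_of_sep_of_connected hD hD2
  · intro d hd e he hde
    obtain ⟨u, hu, rfl⟩ := (hmem d).1 hd
    obtain ⟨v, hv, rfl⟩ := (hmem e).1 he
    obtain ⟨w, hw, h1, h2, h3⟩ := Cfsg.Agent.H9.ReflPrim.exists_sep Q c hc hn hQ u v hu hv hde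
    exact ⟨_, (hmem _).2 ⟨w, hw, rfl⟩, h1, h2, h3⟩
  · rw [SimpleGraph.connected_iff]
    refine ⟨?_, ⟨⟨_, (hmem _).2 ⟨v₀, hv₀, rfl⟩⟩⟩⟩
    intro a b
    obtain ⟨u, hu, hau⟩ := (hmem a.1).1 a.2
    obtain ⟨v, hv, hbv⟩ := (hmem b.1).1 b.2
    obtain ⟨z, hz, h1, h2, h3, h4⟩ := Cfsg.Agent.H9.ReflPrim.exists_common Q c hc hn hQ u v hu hv
    have hzD := (hmem (Cfsg.Agent.S5357.ρ Q c hc z hz)).2 ⟨z, hz, rfl⟩
    have hadj1 : (Cfsg.commutingGraph _).Adj a ⟨_, hzD⟩ := by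
      unfold Cfsg.commutingGraph
      rw [SimpleGraph.fromRel_adj]
      refine ⟨fun h => h3 ?_, Or.inl ?_⟩
      · rw [← hau]
        exact congrArg Subtype.val h
      · show Commute a.1 _
        rw [hau]
        exact h1
    have hadj2 : (Cfsg.commutingGraph _).Adj ⟨_, hzD⟩ b := by
      unfold Cfsg.commutingGraph
      rw [SimpleGraph.fromRel_adj]
      refine ⟨fun h => h4 ?_, Or.inl ?_⟩
      · rw [← hbv]
        exact congrArg Subtype.val h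
      · show Commute _ b.1
        rw [hbv]
        exact h2
    exact hadj1.reachable.trans hadj2.reachable

end Cfsg.Agent.S5360
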