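import Cfsg.Statements.S5361
import Cfsg.Agent.H9.TT3Simple
import Cfsg.Agent.S5353

set_option autoImplicit false
open Cfsg

namespace Cfsg.Agent.S5361

/-- Let D be a conjugacy class of 3-transpositions generating the finite group G, and suppose the centre of G is trivial and some two different members of D commute. Then the following are equivalent: (1) the commutator subgroup of G is simple (possibly of prime order); (2) G acts primitively on D by conjugation; (3) the largest normal 2-subgroup and the largest normal 3-subgroup of G are trivial and the commuting graph of D is connected. -/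
theorem result {G : Type*} [Group G] [Finite G] {D : Set G} (hD : Cfsg.IsThreeTranspositionClass D) (hZ : Subgroup.center G = ⊥) (hw : ∃ a ∈ D, ∃ b ∈ D, a ≠ b ∧ Commute a b) : (IsSimpleGroup (commutator G) ↔ Cfsg.IsPrimitiveUnderConj D) ∧ (Cfsg.IsPrimitiveUnderConj D ↔ (Cfsg.pCore 2 G = ⊥ ∧ Cfsg.pCore 3 G = ⊥ ∧ (Cfsg.commutingGraph D).Connected)) := by
  have hD' := hD
  obtain ⟨hT, ⟨d, hd, hcls₀⟩, hgen⟩ := hD
  have hcls : ∀ e ∈ D, ∃ g : G, e = g * d * g⁻¹ := by
    intro e he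
    rw [hcls₀] at he
    have he' : IsConj d e := he
    rw [isConj_iff] at he'
    obtain ⟨c, hc⟩ := he'
    exact ⟨c, hc.symm⟩
  have hconj : ∀ g : G, ∀ a ∈ D, g * a * g⁻¹ ∈ D := by
    intro g a ha
    obtain ⟨c, rfl⟩ := hcls a ha
    rw [hcls₀]
    show IsConj d _
    rw [isConj_iff]
    exact ⟨g * c, by group⟩
  have hD2 : ∃ a ∈ D, ∃ b ∈ D, a ≠ b := by
    obtain ⟨p, hp, q, hq, hpq, _⟩ := hw
    exact ⟨p, hp, q, hq, hpq⟩
  obtain ⟨a, ha, hda⟩ := Cfsg.Agent.Lead.TT.exists_not_comm hD' hD2 hd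
  have hP1 : Cfsg.IsPrimitiveUnderConj D → (Cfsg.pCore 2 G ≤ Subgroup.center G ∧
      Cfsg.pCore 3 G ≤ Subgroup.center G ∧ (Cfsg.commutingGraph D).Connected) := fun hprim =>
    ⟨(Cfsg.Agent.H9.TT3Width.pCore_le_center_of_prim hT hconj hprim hgen hw hd ha hda).1,
      (Cfsg.Agent.H9.TT3Width.pCore_le_center_of_prim hT hconj hprim hgen hw hd ha hda).2,
      Cfsg.Agent.H9.TT3Width.connected_of_prim hconj hprim hw⟩
  have hP2 : Cfsg.pCore 2 G ≤ Subgroup.center G → Cfsg.pCore 3 G ≤ Subgroup.center G →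
      (Cfsg.layer G).index ≤ 2 → Cfsg.IsPrimitiveUnderConj D := by
    intro h2 h3 hidx
    have hLc := Cfsg.Agent.H9.TT3Width.layer_isComponent hT hconj hgen hd hcls hD2 h2 h3
    have hLn : (Cfsg.layer G).Normal := Cfsg.Agent.H2.layer_normal
    have hF : Cfsg.generalizedFittingSubgroup G = Cfsg.layer G ⊔ Subgroup.center G := by
      unfold Cfsg.generalizedFittingSubgroup
      rw [Cfsg.Agent.H9.TT3Width.fitting_eq_center hT hconj hgen hd hcls h2 h3]
    exact (Cfsg.Agent.S5353.result hD' hD2 h2 h3 (Cfsg.layer G) hLc.2 hF).1 hidx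
  refine ⟨⟨?_, ?_⟩, ⟨?_, ?_⟩⟩
  · intro hK
    obtain ⟨h2, h3, hidx⟩ :=
      Cfsg.Agent.H9.TT3Width.structure_of_simple hT hconj hgen hw hd ha hda hcls hK
    exact hP2 h2 h3 hidx
  · intro hprim
    obtain ⟨h2, h3, hconn⟩ := hP1 hprim
    have hLc := Cfsg.Agent.H9.TT3Width.layer_isComponent hT hconj hgen hd hcls hD2 h2 h3
    have hidx := Cfsg.Agent.H9.TT3Width.index_le_two_of_connected hT hconj hgen hd hcls hLc hconn
    rw [Cfsg.Agent.H9.TT3Width.commutator_eq_layer hLc hidx]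
    apply Cfsg.Agent.H9.TT3Width.layer_simple hLc
    rw [Cfsg.Agent.H9.TT3Width.fitting_eq_center hT hconj hgen hd hcls h2 h3, hZ]
  · intro hprim
    obtain ⟨h2, h3, hconn⟩ := hP1 hprim
    rw [hZ] at h2 h3
    exact ⟨le_bot_iff.1 h2, le_bot_iff.1 h3, hconn⟩
  · rintro ⟨h2, h3, hconn⟩
    have h2' : Cfsg.pCore 2 G ≤ Subgroup.center G := by rw [h2]; exact bot_le
    have h3' : Cfsg.pCore 3 G ≤ Subgroup.center G := by rw [h3]; exact bot_le
    have hLc := Cfsg.Agent.H9.TT3Width.layer_isComponent hT hconj hgen hd hcls hD2 h2' h3'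
    exact hP2 h2' h3'
      (Cfsg.Agent.H9.TT3Width.index_le_two_of_connected hT hconj hgen hd hcls hLc hconn)

end Cfsg.Agent.S5361
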