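import Cfsg.Statements.S5363
import Cfsg.Agent.H9.Dihedral

set_option autoImplicit false
open Cfsg

namespace Cfsg.Agent.S5363

theorem result {G : Type*} [Group G] [Finite G] {D : Set G} (hinv : ∀ d ∈ D, orderOf d = 2) (hconj : ∀ g : G, ∀ d ∈ D, g * d * g⁻¹ ∈ D) : (∀ a ∈ D, ∀ b ∈ D, Odd (orderOf (a * b)) ∨ orderOf (a * b) = 2) ↔ ∀ a ∈ D, ∀ b ∈ D, b ≠ a → Commute a b → {y : G | y ∈ D ∧ Commute (a * b) y} = {y : G | y ∈ D ∧ Commute a y} ∩ {y : G | y ∈ D ∧ Commute b y} := by
  have hsq : ∀ d ∈ D, d * d = 1 := fun d hd => by rw [← pow_two, ← hinv d hd, pow_orderOf_eq_one]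
  constructor
  · intro hodd a ha b hb hba hab
    have haa := hsq a ha
    have hbb := hsq b hb
    ext y
    constructor
    · rintro ⟨hyD, hy⟩
      have hyy := hsq y hyD
      -- z = a b is an involution commuting with y and a
      have hzz : (a * b) * (a * b) = 1 := by
        rw [mul_assoc, ← mul_assoc b, ← hab.eq, mul_assoc, hbb, mul_one, haa]
      have hz1 : a * b ≠ 1 := by
        intro h
        apply hba
        have : b = a⁻¹ := (inv_eq_of_mul_eq_one_right h).symm
        rw [this, inv_eq_of_mul_eq_one_right haa]
      have hzord : orderOf (a * b) = 2 := by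
        apply orderOf_eq_prime
        · rw [pow_two]; exact hzz
        · exact hz1
      have hbaz : b = a * (a * b) := by rw [← mul_assoc, haa, one_mul]
      have haz : Commute a (a * b) := by
        unfold Commute SemiconjBy
        rw [mul_assoc, hab.eq]
      -- key: y commutes with a
      have hya : Commute y a := by
        rcases hodd y hyD a ha with hm | hm
        · -- y a has odd order; then y b = (y a) (a b) has order 2 * m
          have hcomm : Commute (y * a) (a * b) := by
            exact (hy.symm).mul_left haz
          have hcop : Nat.Coprime (orderOf (y * a)) (orderOf (a * b)) := by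
            rw [hzord]; exact Nat.Coprime.symm (Nat.coprime_two_left.mpr hm)
          have hord := hcomm.orderOf_mul_eq_mul_orderOf_of_coprime hcop
          have hyb : y * a * (a * b) = y * b := by
            rw [mul_assoc, ← mul_assoc a, haa, one_mul]
          rw [hyb, hzord] at hord
          have h1 : orderOf (y * a) = 1 := by
            rcases hodd y hyD b hb with h | h
            · exfalso
              rw [hord] at h
              exact (Nat.not_odd_iff_even.mpr (even_two.mul_left _)) h
            · rw [hord] at h
              omega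
          have h2 : y * a = 1 := orderOf_eq_one_iff.mp h1
          have h3 : y = a := by
            have : y = a⁻¹ := eq_inv_of_mul_eq_one_left h2
            rw [this, inv_eq_of_mul_eq_one_right haa]
          rw [h3]
        · -- (y a)^2 = 1
          have h1 : (y * a) * (y * a) = 1 := by rw [← pow_two, ← hm, pow_orderOf_eq_one]
          unfold Commute SemiconjBy
          have : y * a = (y * a)⁻¹ := (inv_eq_of_mul_eq_one_right h1).symm
          rw [this, mul_inv_rev, inv_eq_of_mul_eq_one_right haa, inv_eq_of_mul_eq_one_right hyy]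
      refine ⟨⟨hyD, hya.symm⟩, ⟨hyD, ?_⟩⟩
      rw [hbaz]
      exact hya.symm.mul_left hy
    · rintro ⟨⟨hyD, hya⟩, ⟨_, hyb⟩⟩
      exact ⟨hyD, hya.mul_left hyb⟩
  · intro hC a ha b hb
    have haa := hsq a ha
    have hbb := hsq b hb
    rcases Nat.even_or_odd (orderOf (a * b)) with hev | hodd
    · right
      obtain ⟨j, hj⟩ := hev
      have hj' : (a * b) ^ (2 * j) = 1 := by rw [two_mul, ← hj, pow_orderOf_eq_one]
      obtain ⟨htt, hat, hbt, hcj⟩ := Cfsg.Agent.H9.dihedral_central haa hbb j hj'
      obtain ⟨t, ht⟩ : ∃ t : G, t = (a * b) ^ j := ⟨_, rfl⟩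
      rw [← ht] at htt hat hbt hcj
      have hpos : 0 < orderOf (a * b) := orderOf_pos _
      have ht1 : t ≠ 1 := by
        rw [ht]
        exact pow_ne_one_of_lt_orderOf (by omega) (by omega)
      have hatD : a * t ∈ D := by
        rcases hcj with ⟨c, hc⟩ | ⟨c, hc⟩
        · rw [hc]; exact hconj c a ha
        · rw [hc]; exact hconj c b hb
      have hne : a * t ≠ a := by
        intro h
        apply ht1
        have : a * t = a * 1 := by rw [mul_one]; exact h
        exact mul_left_cancel this
      have hcomm : Commute a (a * t) := by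
        unfold Commute SemiconjBy
        rw [mul_assoc, hat]
      have hset := hC a ha (a * t) hatD hne hcomm
      have e : a * (a * t) = t := by rw [← mul_assoc, haa, one_mul]
      rw [e] at hset
      have hb_mem : b ∈ {y : G | y ∈ D ∧ Commute t y} := ⟨hb, hbt.symm⟩
      rw [hset] at hb_mem
      have hab : Commute a b := hb_mem.1.2
      have h2 : (a * b) ^ 2 = 1 := by
        rw [pow_two, mul_assoc, ← mul_assoc b, ← hab.eq, mul_assoc, hbb, mul_one, haa]
      have hdvd : orderOf (a * b) ∣ 2 := orderOf_dvd_of_pow_eq_one h2
      have hle : orderOf (a * b) ≤ 2 := Nat.le_of_dvd (by norm_num) hdvd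
      omega
    · left; exact hodd

end Cfsg.Agent.S5363
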