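import Cfsg.Statements.S5364

set_option autoImplicit false
open Cfsg

namespace Cfsg.Agent.S5364

theorem mem_zpowers_of_sq_eq_one {G : Type*} [Group G] {t x : G} (ht : t * t = 1)
    (hx : x ∈ Subgroup.zpowers t) : x = 1 ∨ x = t := by
  obtain ⟨k, rfl⟩ := Subgroup.mem_zpowers_iff.mp hx
  have ht2 : t ^ (2 : ℤ) = 1 := by
    rw [zpow_ofNat, pow_two, ht]
  rcases Int.even_or_odd' k with ⟨m, hm | hm⟩
  · left
    rw [hm, zpow_mul, ht2, one_zpow]
  · right
    rw [hm, zpow_add, zpow_mul, ht2, one_zpow, one_mul, zpow_one]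

theorem result {G : Type*} [Group G] [Finite G] {D : Set G} (hinv : ∀ d ∈ D, orderOf d = 2) (hconj : ∀ g : G, ∀ d ∈ D, g * d * g⁻¹ ∈ D) (t : G) (ht : orderOf t = 2) (htZ : t ∈ Subgroup.center G) (hDt : ∀ d ∈ D, d * t ∉ D) [(Subgroup.zpowers t).Normal] (himg : Cfsg.IsThreeTranspositionSet ((QuotientGroup.mk : G → G ⧸ Subgroup.zpowers t) '' D)) : Cfsg.IsThreeTranspositionSet D := by
  refine ⟨hinv, fun d hd e he => ?_⟩
  have htt : t * t = 1 := by rw [← pow_two, ← ht, pow_orderOf_eq_one]
  have hdd : d * d = 1 := by rw [← pow_two, ← hinv d hd, pow_orderOf_eq_one]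
  have hee : e * e = 1 := by rw [← pow_two, ← hinv e he, pow_orderOf_eq_one]
  have hdinv : d⁻¹ = d := inv_eq_of_mul_eq_one_right hdd
  have heinv : e⁻¹ = e := inv_eq_of_mul_eq_one_right hee
  have htc : ∀ g : G, g * t = t * g := fun g => Subgroup.mem_center_iff.mp htZ g
  -- d' = e d e ∈ D, e' = d e d ∈ D
  have hd' : e * d * e ∈ D := by
    have := hconj e d hd
    rwa [heinv] at this
  have he' : d * e * d ∈ D := by
    have := hconj d e he
    rwa [hdinv] at this
  have hd'inv : (e * d * e) * (e * d * e) = 1 := by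
    rw [← pow_two, ← hinv _ hd', pow_orderOf_eq_one]
  have key := himg.2 _ (Set.mem_image_of_mem _ hd) _ (Set.mem_image_of_mem _ he)
  rcases key with h | h
  · left
    have h1 : ((d * e) ^ 2 : G) ∈ Subgroup.zpowers t := by
      rw [← QuotientGroup.eq_one_iff]
      simpa using h
    rcases mem_zpowers_of_sq_eq_one htt h1 with h2 | h2
    · exact h2
    · exfalso
      -- d * (e d e) = t, so (e d e) * t = d
      have h3 : d * (e * d * e) = t := by
        rw [← h2, pow_two]; group
      apply hDt _ hd'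
      have : e * d * e * t = d := by
        rw [htc, ← h3, mul_assoc, hd'inv, mul_one]
      rw [this]; exact hd
  · right
    have h1 : ((d * e) ^ 3 : G) ∈ Subgroup.zpowers t := by
      rw [← QuotientGroup.eq_one_iff]
      simpa using h
    rcases mem_zpowers_of_sq_eq_one htt h1 with h2 | h2
    · exact h2
    · exfalso
      have h3 : (d * e * d) * (e * d * e) = t := by
        rw [← h2, pow_succ, pow_two]; group
      apply hDt _ hd'
      have : e * d * e * t = d * e * d := by
        rw [htc, ← h3, mul_assoc, hd'inv, mul_one]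
      rw [this]; exact he'

end Cfsg.Agent.S5364
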