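import Cfsg.Statements.S5365
import Cfsg.Agent.Lib.Lead.TT3G
import Cfsg.Agent.H9.CoxA4

set_option autoImplicit false
open Cfsg

namespace Cfsg.Agent.S5365

open Cfsg.Agent.Lib.Lead.TT3 in
/-- Let D be a non-empty conjugation-invariant set of involutions of a finite group G satisfying the 3-transposition order conditions, and suppose that for every d in D the members of D other than d commuting with d generate a subgroup isomorphic to the symmetric group of degree 3, and the largest normal 3-subgroup of the centralizer of d has order 3. Then the subgroup generated by D is isomorphic to the symmetric group of degree 5 or to the direct product of two symmetric groups of degree 3. -/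
theorem result {G : Type*} [Group G] [Finite G] {D : Set G} (hD : Cfsg.IsThreeTranspositionSet D) (hconj : ∀ g : G, ∀ d ∈ D, g * d * g⁻¹ ∈ D) (hne : D.Nonempty) (hloc : ∀ d ∈ D, Nonempty (↥(Subgroup.closure {y : G | y ∈ D ∧ y ≠ d ∧ Commute d y}) ≃* Equiv.Perm (Fin 3)) ∧ Nat.card (Cfsg.pCore 3 ↥(Subgroup.centralizer ({d} : Set G))) = 3) : Nonempty (↥(Subgroup.closure D) ≃* Equiv.Perm (Fin 5)) ∨ Nonempty (↥(Subgroup.closure D) ≃* Equiv.Perm (Fin 3) × Equiv.Perm (Fin 3)) := by
  have hB : Base D := by
    refine ⟨?_, ?_, ?_, hconj⟩
    · intro d hd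
      have h := hD.1 d hd
      have := pow_orderOf_eq_one d
      rw [h, pow_two] at this
      exact this
    · intro d hd h1
      have h := hD.1 d hd
      rw [h1, orderOf_one] at h
      norm_num at h
    · intro d hd e he
      rcases hD.2 d hd e he with h | h
      · left
        have hdd : d * d = 1 := by
          have := pow_orderOf_eq_one d
          rw [hD.1 d hd, pow_two] at this
          exact this
        have hee : e * e = 1 := by
          have := pow_orderOf_eq_one e
          rw [hD.1 e he, pow_two] at this
          exact this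
        show d * e = e * d
        have h2 : d * e * (d * e) = 1 := by rw [← pow_two]; exact h
        have h3 : d * e = (d * e)⁻¹ := eq_inv_of_mul_eq_one_left h2
        rw [mul_inv_rev, inv_eq_of_mul_eq_one_right hdd, inv_eq_of_mul_eq_one_right hee] at h3
        exact h3
      · right; exact h
  have hloc1 : ∀ d ∈ D, Nonempty (↥(Subgroup.closure (Nbr D d)) ≃* Equiv.Perm (Fin 3)) :=
    fun d hd => (hloc d hd).1
  have hL : Loc D := Loc.of_iso hB hloc1
  exact hL.main (fun d hd => (hloc d hd).2) hloc1
    (fun h1 h2 h3 h4 h5 h6 h7 h8 h9 h10 h11 =>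
      Cfsg.Agent.H9.CoxA4.exists_equiv h1 h2 h3 h4 h5 h6 h7 h8 h9 h10 h11) hne

end Cfsg.Agent.S5365
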