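import Mathlib
import Cfsg.Statements.S5367

set_option autoImplicit false
open Cfsg

namespace Cfsg.Agent.S5367


section Part0

variable {G : Type*} [Group G]

/-- basic data: `D` is a conjugation-invariant set of 3-transpositions -/
structure TD (D : Set G) : Prop where
  ord : ∀ d ∈ D, orderOf d = 2
  prod : ∀ d ∈ D, ∀ e ∈ D, (d * e) ^ 2 = 1 ∨ (d * e) ^ 3 = 1
  conj : ∀ g : G, ∀ d ∈ D, g * d * g⁻¹ ∈ D

theorem TD.of {D : Set G} (hD : Cfsg.IsThreeTranspositionGroup D) : TD D :=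
  ⟨hD.1.1, hD.1.2, hD.2.1⟩

variable {D : Set G}

theorem TD.sq (h : TD D) {d : G} (hd : d ∈ D) : d * d = 1 := by
  have := h.ord d hd
  rw [← pow_two, ← this]
  exact pow_orderOf_eq_one d

theorem TD.inv (h : TD D) {d : G} (hd : d ∈ D) : d⁻¹ = d :=
  inv_eq_of_mul_eq_one_left (h.sq hd)

theorem TD.ne_one (h : TD D) {d : G} (hd : d ∈ D) : d ≠ 1 := by
  rintro rfl
  have := h.ord 1 hd
  rw [orderOf_one] at this
  omega

/-- non-commuting members have product of order 3 -/
theorem TD.cube (h : TD D) {x y : G} (hx : x ∈ D) (hy : y ∈ D) (hxy : ¬ Commute x y) :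
    (x * y) ^ 3 = 1 := by
  rcases h.prod x hx y hy with h2 | h3
  · exfalso
    apply hxy
    have hx2 := h.sq hx
    have hy2 := h.sq hy
    rw [pow_two] at h2
    show x * y = y * x
    calc x * y = x * y * (x * y * (x * y))⁻¹ := by rw [h2, inv_one, mul_one]
      _ = y⁻¹ * x⁻¹ := by group
      _ = y * x := by rw [h.inv hx, h.inv hy]
  · exact h3

/-- the braid relation -/
theorem TD.braid (h : TD D) {x y : G} (hx : x ∈ D) (hy : y ∈ D) (hxy : ¬ Commute x y) :
    y * x * y = x * y * x := by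
  have h3 := h.cube hx hy hxy
  have hx2 := h.inv hx
  have hy2 := h.inv hy
  have h1 : x * y * x * (y * x * y) = 1 := by
    rw [← h3, pow_succ, pow_two]; group
  have h2 : y * x * y = (x * y * x)⁻¹ := eq_inv_of_mul_eq_one_right h1
  rw [h2, mul_inv_rev, mul_inv_rev, hx2, hy2, mul_assoc]

/-- the third point of the line through `x` and `y` -/
def op (x y : G) : G := y * x * y⁻¹

theorem TD.op_mem (h : TD D) {x y : G} (hx : x ∈ D) (_hy : y ∈ D) : op x y ∈ D :=
  h.conj y x hx

theorem TD.op_eq (h : TD D) {x y : G} (hy : y ∈ D) : op x y = y * x * y := by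
  rw [op, h.inv hy]

theorem TD.op_comm (h : TD D) {x y : G} (hx : x ∈ D) (hy : y ∈ D) (hxy : ¬ Commute x y) :
    op y x = op x y := by
  rw [h.op_eq hx, h.op_eq hy, h.braid hx hy hxy]

theorem TD.op_op (h : TD D) {x y : G} (hx : x ∈ D) (hy : y ∈ D) (hxy : ¬ Commute x y) :
    op x (op x y) = y := by
  have h3 := h.cube hx hy hxy
  have hx2 := h.inv hx
  have hy2 := h.inv hy
  have hyx : (y * x) ^ 3 = 1 := by
    have : y * x = (x * y)⁻¹ := by rw [mul_inv_rev, hx2, hy2]
    rw [this, inv_pow, h3, inv_one]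
  rw [op, op]
  calc y * x * y⁻¹ * x * (y * x * y⁻¹)⁻¹ = y * x * y * x * (y * x * y) := by
        rw [mul_inv_rev, mul_inv_rev, inv_inv, hy2, hx2, ← mul_assoc y x y]
    _ = (y * x) ^ 3 * y := by rw [pow_succ, pow_two]; group
    _ = y := by rw [hyx, one_mul]

theorem TD.not_commute_op (h : TD D) {x y : G} (hx : x ∈ D) (hy : y ∈ D) (hxy : ¬ Commute x y) :
    ¬ Commute x (op x y) := by
  intro hc
  apply hxy
  have h1 : op x (op x y) = x := by
    rw [op]
    have : op x y * x = x * op x y := hc.eq.symm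
    rw [this, mul_inv_cancel_right]
  rw [h.op_op hx hy hxy] at h1
  rw [h1]

theorem not_commute_symm {x y : G} (hxy : ¬ Commute x y) : ¬ Commute y x :=
  fun h => hxy h.symm

theorem TD.not_commute_op' (h : TD D) {x y : G} (hx : x ∈ D) (hy : y ∈ D) (hxy : ¬ Commute x y) :
    ¬ Commute y (op x y) := by
  rw [← h.op_comm hx hy hxy]
  exact h.not_commute_op hy hx (not_commute_symm hxy)

/-- the line through `x` and `y` -/
def ln (D : Set G) (x y : G) : Set D := {z : D | (z : G) = x ∨ (z : G) = y ∨ (z : G) = y * x * y⁻¹}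

theorem mem_ln {x y : G} {z : D} : z ∈ ln D x y ↔ (z : G) = x ∨ (z : G) = y ∨ (z : G) = op x y := Iff.rfl

theorem TD.ln_comm (h : TD D) {x y : G} (hx : x ∈ D) (hy : y ∈ D) (hxy : ¬ Commute x y) :
    ln D y x = ln D x y := by
  ext z
  rw [mem_ln, mem_ln, h.op_comm hx hy hxy]
  tauto

theorem TD.ln_op (h : TD D) {x y : G} (hx : x ∈ D) (hy : y ∈ D) (hxy : ¬ Commute x y) :
    ln D x (op x y) = ln D x y := by
  ext z
  rw [mem_ln, mem_ln, h.op_op hx hy hxy]
  tauto

/-- a line is determined by any two of its points -/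
theorem TD.ln_eq (h : TD D) {x y : G} (hx : x ∈ D) (hy : y ∈ D) (hxy : ¬ Commute x y)
    {u v : D} (hu : u ∈ ln D x y) (hv : v ∈ ln D x y) (huv : u ≠ v) :
    ¬ Commute (u : G) (v : G) ∧ ln D (u : G) (v : G) = ln D x y := by
  have huv' : (u : G) ≠ (v : G) := fun h => huv (Subtype.ext h)
  have hyx := not_commute_symm hxy
  have ho := h.op_mem hx hy
  rw [mem_ln] at hu hv
  rcases hu with hu | hu | hu <;> rcases hv with hv | hv | hv
  · exact absurd (hu.trans hv.symm) huv'
  · rw [hu, hv]; exact ⟨hxy, rfl⟩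
  · rw [hu, hv]; exact ⟨h.not_commute_op hx hy hxy, h.ln_op hx hy hxy⟩
  · rw [hu, hv]; exact ⟨hyx, h.ln_comm hx hy hxy⟩
  · exact absurd (hu.trans hv.symm) huv'
  · rw [hu, hv]
    refine ⟨h.not_commute_op' hx hy hxy, ?_⟩
    rw [← h.op_comm hx hy hxy, h.ln_op hy hx hyx, h.ln_comm hx hy hxy]
  · rw [hu, hv]
    refine ⟨not_commute_symm (h.not_commute_op hx hy hxy), ?_⟩
    rw [h.ln_comm hx ho (h.not_commute_op hx hy hxy), h.ln_op hx hy hxy]
  · rw [hu, hv]
    refine ⟨not_commute_symm (h.not_commute_op' hx hy hxy), ?_⟩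
    rw [h.ln_comm hy ho (h.not_commute_op' hx hy hxy), ← h.op_comm hx hy hxy, h.ln_op hy hx hyx,
      h.ln_comm hx hy hxy]
  · exact absurd (hu.trans hv.symm) huv'

end Part0

section Part1

variable {G : Type*} [Group G] {D : Set G}

theorem mem_lines {l : Set D} :
    l ∈ Cfsg.threeTranspositionLines D ↔ ∃ x ∈ D, ∃ y ∈ D, ¬ Commute x y ∧ l = ln D x y := by
  constructor
  · rintro ⟨x, y, hxy, rfl⟩
    exact ⟨x.1, x.2, y.1, y.2, hxy, rfl⟩
  · rintro ⟨x, hx, y, hy, hxy, rfl⟩
    exact ⟨⟨x, hx⟩, ⟨y, hy⟩, hxy, rfl⟩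

theorem TD.partialLinear (h : TD D) : Cfsg.LineSystem.IsPartialLinear (Cfsg.threeTranspositionLines D) := by
  intro l hl m hm p q hpq hpl hql hpm hqm
  obtain ⟨x, hx, y, hy, hxy, rfl⟩ := mem_lines.mp hl
  obtain ⟨x', hx', y', hy', hxy', rfl⟩ := mem_lines.mp hm
  rw [← (h.ln_eq hx hy hxy hpl hql hpq).2, ← (h.ln_eq hx' hy' hxy' hpm hqm hpq).2]

theorem TD.op_ne_left (h : TD D) {x y : G} (hx : x ∈ D) (hy : y ∈ D) (hxy : ¬ Commute x y) :
    op x y ≠ x := by
  intro he
  apply h.not_commute_op hx hy hxy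
  rw [he]

theorem TD.op_ne_right (h : TD D) {x y : G} (hx : x ∈ D) (hy : y ∈ D) (hxy : ¬ Commute x y) :
    op x y ≠ y := by
  intro he
  apply h.not_commute_op' hx hy hxy
  rw [he]

theorem ne_of_not_commute {x y : G} (hxy : ¬ Commute x y) : x ≠ y := by
  rintro rfl
  exact hxy (Commute.refl x)

theorem TD.ln_eq_triple (h : TD D) {x y : G} (hx : x ∈ D) (hy : y ∈ D) :
    ln D x y = {⟨x, hx⟩, ⟨y, hy⟩, ⟨op x y, h.op_mem hx hy⟩} := by
  ext z
  rw [mem_ln]
  simp only [Set.mem_insert_iff, Set.mem_singleton_iff, Subtype.ext_iff]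

theorem TD.ncard_ln (h : TD D) {x y : G} (hx : x ∈ D) (hy : y ∈ D) (hxy : ¬ Commute x y) :
    (ln D x y).ncard = 3 := by
  rw [Set.ncard_eq_three]
  refine ⟨⟨x, hx⟩, ⟨y, hy⟩, ⟨op x y, h.op_mem hx hy⟩, ?_, ?_, ?_, h.ln_eq_triple hx hy⟩
  · intro he
    exact ne_of_not_commute hxy (congrArg Subtype.val he)
  · intro he
    exact h.op_ne_left hx hy hxy (congrArg Subtype.val he).symm
  · intro he
    exact h.op_ne_right hx hy hxy (congrArg Subtype.val he).symm

theorem TD.ncard_lines (h : TD D) : ∀ l ∈ Cfsg.threeTranspositionLines D, l.ncard = 3 := by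
  intro l hl
  obtain ⟨x, hx, y, hy, hxy, rfl⟩ := mem_lines.mp hl
  exact h.ncard_ln hx hy hxy

/-- two points of a line do not commute -/
theorem TD.not_commute_of_mem (h : TD D) {l : Set D} (hl : l ∈ Cfsg.threeTranspositionLines D)
    {u v : D} (hu : u ∈ l) (hv : v ∈ l) (huv : u ≠ v) : ¬ Commute (u : G) (v : G) ∧ l = ln D (u : G) (v : G) := by
  obtain ⟨x, hx, y, hy, hxy, rfl⟩ := mem_lines.mp hl
  have := h.ln_eq hx hy hxy hu hv huv
  exact ⟨this.1, this.2.symm⟩

theorem TD.ln_mem_lines (_h : TD D) {x y : G} (hx : x ∈ D) (hy : y ∈ D) (hxy : ¬ Commute x y) :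
    ln D x y ∈ Cfsg.threeTranspositionLines D :=
  mem_lines.mpr ⟨x, hx, y, hy, hxy, rfl⟩

end Part1

section Part2

open Cfsg.LineSystem

theorem span_eq {X : Type*} (L : Set (Set X)) (A P : Set X) (hAP : A ⊆ P) (hP : IsSubspace L P)
    (hmin : ∀ T : Set X, A ⊆ T → IsSubspace L T → P ⊆ T) : span L A = P := by
  apply Set.Subset.antisymm
  · exact Set.sInter_subset_of_mem ⟨hAP, hP⟩
  · apply Set.subset_sInter
    rintro T ⟨hT1, hT2⟩
    exact hmin T hT1 hT2

theorem abstract_sub {X M : Type*} (L : Set (Set X)) (ℳ : Set (Set M)) (hPL : IsPartialLinear L)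
    (φ : M → X)
    (ha : ∀ lam ∈ ℳ, φ '' lam ∈ L)
    (hb : ∀ p q : M, p ≠ q → (∃ l ∈ L, φ p ∈ l ∧ φ q ∈ l) → ∃ lam ∈ ℳ, p ∈ lam ∧ q ∈ lam) :
    IsSubspace L (Set.range φ) := by
  rintro l hl x ⟨p, rfl⟩ y ⟨q, rfl⟩ hxy hxl hyl
  have hpq : p ≠ q := fun h => hxy (by rw [h])
  obtain ⟨lam, hlam, hp, hq⟩ := hb p q hpq ⟨l, hl, hxl, hyl⟩
  have : l = φ '' lam := hPL l hl _ (ha lam hlam) _ _ hxy hxl hyl ⟨p, hp, rfl⟩ ⟨q, hq, rfl⟩
  rw [this]
  exact Set.image_subset_range _ _

theorem abstract_iso {X M : Type*} (L : Set (Set X)) (ℳ : Set (Set M)) (hPL : IsPartialLinear L)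
    (φ : M → X) (hφ : Function.Injective φ)
    (ha : ∀ lam ∈ ℳ, φ '' lam ∈ L)
    (hb : ∀ p q : M, p ≠ q → (∃ l ∈ L, φ p ∈ l ∧ φ q ∈ l) → ∃ lam ∈ ℳ, p ∈ lam ∧ q ∈ lam)
    (h2 : ∀ l ∈ L, ∃ x ∈ l, ∃ y ∈ l, x ≠ y) :
    Isomorphic (restrict L (Set.range φ)) ℳ := by
  let e0 : M ≃ Set.range φ := Equiv.ofInjective φ hφ
  have he0 : ∀ p, ((e0 p : Set.range φ) : X) = φ p := fun p => rfl
  refine ⟨e0.symm, ?_⟩
  intro l'
  constructor
  · rintro ⟨l, hl, hlS, rfl⟩
    obtain ⟨x, hx, y, hy, hxy⟩ := h2 l hl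
    obtain ⟨p, rfl⟩ := hlS hx
    obtain ⟨q, rfl⟩ := hlS hy
    have hpq : p ≠ q := fun h => hxy (by rw [h])
    obtain ⟨lam, hlam, hp, hq⟩ := hb p q hpq ⟨l, hl, hx, hy⟩
    have hl_eq : l = φ '' lam := hPL l hl _ (ha lam hlam) _ _ hxy hx hy ⟨p, hp, rfl⟩ ⟨q, hq, rfl⟩
    have : e0.symm '' {x : Set.range φ | (x : X) ∈ l} = lam := by
      ext r
      constructor
      · rintro ⟨x, hx, rfl⟩
        rw [Set.mem_setOf_eq, hl_eq] at hx
        obtain ⟨r', hr', hr'x⟩ := hx
        have : x = e0 r' := Subtype.ext hr'x.symm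
        rw [this, Equiv.symm_apply_apply]
        exact hr'
      · intro hr
        refine ⟨e0 r, ?_, Equiv.symm_apply_apply _ _⟩
        rw [Set.mem_setOf_eq, hl_eq, he0]
        exact ⟨r, hr, rfl⟩
    rw [this]
    exact hlam
  · intro hlam
    refine ⟨φ '' (e0.symm '' l'), ha _ hlam, Set.image_subset_range _ _, ?_⟩
    ext x
    constructor
    · intro hx
      rw [Set.mem_setOf_eq]
      refine ⟨e0.symm x, ⟨x, hx, rfl⟩, ?_⟩
      rw [← he0, Equiv.apply_symm_apply]
    · rintro ⟨r, ⟨x', hx', rfl⟩, hr⟩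
      rw [← he0, Equiv.apply_symm_apply] at hr
      have : x = x' := Subtype.ext hr.symm
      rw [this]
      exact hx'

end Part2

section Part3

open Cfsg.LineSystem

theorem isomorphic_trans {X Y Z : Type*} {L : Set (Set X)} {M : Set (Set Y)} {N : Set (Set Z)}
    (h1 : Isomorphic L M) (h2 : Isomorphic M N) : Isomorphic L N := by
  obtain ⟨e, he⟩ := h1
  obtain ⟨f, hf⟩ := h2
  refine ⟨e.trans f, ?_⟩
  intro l
  rw [he l, hf (e '' l), Set.image_image]
  rfl

/-- six named points -/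
inductive P6 : Type
  | a | b | b' | c | c' | d
  deriving DecidableEq

instance : Fintype P6 :=
  ⟨{P6.a, P6.b, P6.b', P6.c, P6.c', P6.d}, by intro x; cases x <;> decide⟩

/-- the identification of the six points with the 2-subsets of `Fin 4` -/
def e6fun : P6 → Cfsg.DualAffinePoint
  | .a => ⟨{0, 1}, by decide⟩
  | .b => ⟨{1, 2}, by decide⟩
  | .b' => ⟨{0, 2}, by decide⟩
  | .c => ⟨{0, 3}, by decide⟩
  | .c' => ⟨{1, 3}, by decide⟩
  | .d => ⟨{2, 3}, by decide⟩

theorem e6_bij : Function.Bijective e6fun := by decide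

/-- the equivalence -/
noncomputable def e6 : P6 ≃ Cfsg.DualAffinePoint := Equiv.ofBijective e6fun e6_bij

/-- the four lines on the six points -/
def lines6 : Set (Set P6) := {l | ∃ i : Fin 4, l = {p | i ∉ (e6fun p).1}}

theorem iso6 : Isomorphic lines6 Cfsg.dualAffinePlaneTwo := by
  refine ⟨e6, ?_⟩
  intro l
  have he : ∀ p, e6 p = e6fun p := fun p => rfl
  constructor
  · rintro ⟨i, rfl⟩
    refine ⟨i, ?_⟩
    ext s
    constructor
    · rintro ⟨p, hp, rfl⟩
      exact hp
    · intro hs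
      obtain ⟨p, rfl⟩ := e6.surjective s
      exact ⟨p, hs, rfl⟩
  · rintro ⟨i, hi⟩
    refine ⟨i, ?_⟩
    ext p
    constructor
    · intro hp
      have : e6 p ∈ e6 '' l := ⟨p, hp, rfl⟩
      rw [hi] at this
      exact this
    · intro hp
      have : e6 p ∈ e6 '' l := by rw [hi]; exact hp
      obtain ⟨q, hq, hqp⟩ := this
      rw [← e6.injective hqp]
      exact hq

end Part3

section Part4

open Cfsg.LineSystem

variable {G : Type*} [Group G] {D : Set G}

/-- `a x a = op a x` for `x` not commuting with `a` -/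
theorem TD.conj_eq_op (h : TD D) {a x : G} (ha : a ∈ D) (hx : x ∈ D) (hax : ¬ Commute a x) :
    op a x = a * x * a := by
  rw [h.op_eq hx, h.braid ha hx hax]

/-- the six points of the dual affine plane -/
def pt6 (a b c : G) : P6 → G
  | .a => a
  | .b => b
  | .b' => op a b
  | .c => c
  | .c' => op a c
  | .d => op b (op a c)

theorem TD.pt6_mem (h : TD D) {a b c : G} (ha : a ∈ D) (hb : b ∈ D) (hc : c ∈ D) (p : P6) :
    pt6 a b c p ∈ D := by
  cases p
  · exact ha
  · exact hb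
  · exact h.op_mem ha hb
  · exact hc
  · exact h.op_mem ha hc
  · exact h.op_mem hb (h.op_mem ha hc)

section CaseI

variable (h : TD D) {a b c : G} (ha : a ∈ D) (hb : b ∈ D) (hc : c ∈ D)
  (hab : ¬ Commute a b) (hac : ¬ Commute a c) (hbc : Commute b c) (hne : b ≠ c)

include h ha hb hc hab hac hbc

theorem F2 : Commute (op a b) (op a c) := by
  rw [h.conj_eq_op ha hb hab, h.conj_eq_op ha hc hac]
  have ha2 := h.sq ha
  show a * b * a * (a * c * a) = a * c * a * (a * b * a)
  calc a * b * a * (a * c * a) = a * b * (a * a) * c * a := by group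
    _ = a * (b * c) * a := by rw [ha2]; group
    _ = a * (c * b) * a := by rw [hbc.eq]
    _ = a * c * (a * a) * b * a := by rw [ha2]; group
    _ = a * c * a * (a * b * a) := by group

theorem F3 : ¬ Commute b (op a c) := by
  intro hcc
  apply hab
  have h1 : op c (op a c) = a := by
    rw [← h.op_comm ha hc hac]
    exact h.op_op hc ha (not_commute_symm hac)
  have h2 : Commute b (op c (op a c)) := by
    rw [op]
    exact (hcc.mul_right hbc).mul_right hcc.inv_right
  rw [h1] at h2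
  exact h2.symm

theorem F4 : ¬ Commute (op a b) c := by
  intro hcc
  apply F3 h ha hb hc hab hac hbc
  rw [h.conj_eq_op ha hb hab] at hcc
  rw [h.conj_eq_op ha hc hac]
  have ha2 := h.sq ha
  have e := hcc.eq
  show b * (a * c * a) = a * c * a * b
  calc b * (a * c * a) = (a * a) * b * (a * c * a) := by rw [ha2, one_mul]
    _ = a * (a * b * a * c) * a := by group
    _ = a * (c * (a * b * a)) * a := by rw [e]
    _ = a * c * a * b * (a * a) := by group
    _ = a * c * a * b := by rw [ha2, mul_one]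

theorem F5 : op (op a b) c = op b (op a c) := by
  have hoc := h.op_mem ha hc
  rw [h.op_eq hc, h.op_eq hoc, h.conj_eq_op ha hb hab, h.conj_eq_op ha hc hac]
  have hbr : a * c * a = c * a * c := h.braid hc ha (not_commute_symm hac)
  have hc2 := h.sq hc
  have hcbc : c * b * c = b := by
    rw [← hbc.eq, mul_assoc, hc2, mul_one]
  symm
  calc a * c * a * b * (a * c * a) = c * a * c * b * (c * a * c) := by rw [hbr]
    _ = c * a * (c * b * c) * a * c := by group
    _ = c * (a * b * a) * c := by rw [hcbc]; group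

theorem F6 : Commute a (op b (op a c)) := by
  have ha2 := h.sq ha
  have hoc := h.op_mem ha hc
  have e5 := F5 h ha hb hc hab hac hbc
  have hd1 : op b (op a c) = a * c * a * b * (a * c * a) := by
    rw [h.op_eq hoc, h.conj_eq_op ha hc hac]
  have hd2 : op b (op a c) = c * (a * b * a) * c := by
    rw [← e5, h.op_eq hc, h.conj_eq_op ha hb hab]
  have h1 : a * op b (op a c) * a = op b (op a c) := by
    conv_lhs => rw [hd1]
    rw [hd2]
    calc a * (a * c * a * b * (a * c * a)) * a = (a * a) * c * (a * b * a) * c * (a * a) := by group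
      _ = c * (a * b * a) * c := by rw [ha2]; group
  show a * op b (op a c) = op b (op a c) * a
  calc a * op b (op a c) = a * op b (op a c) * (a * a) := by rw [ha2, mul_one]
    _ = (a * op b (op a c) * a) * a := by group
    _ = op b (op a c) * a := by rw [h1]

include hne

theorem F7 : a ≠ op b (op a c) := by
  intro he
  apply hne
  have hoc := h.op_mem ha hc
  have h1 : op a (op a c) = c := h.op_op ha hc hac
  rw [← h1]
  -- `op b c' = c' b c'⁻¹ = a`, so `b = c'⁻¹ a c' = c' a c'⁻¹`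
  rw [op] at he
  have hinv := h.inv hoc
  rw [op]
  calc b = (op a c)⁻¹ * (op a c * b * (op a c)⁻¹) * op a c := by group
    _ = (op a c)⁻¹ * a * op a c := by rw [← he]
    _ = op a c * a * (op a c)⁻¹ := by rw [hinv]

theorem F8 : op a b ≠ op a c := by
  intro he
  apply hne
  rw [h.conj_eq_op ha hb hab, h.conj_eq_op ha hc hac] at he
  exact mul_left_cancel (mul_right_cancel he)

theorem key6 (p q : P6) (hpq : p ≠ q) :
    (¬ Commute (pt6 a b c p) (pt6 a b c q) ∧ ∃ i : Fin 4, i ∉ (e6fun p).1 ∧ i ∉ (e6fun q).1) ∨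
      (Commute (pt6 a b c p) (pt6 a b c q) ∧ pt6 a b c p ≠ pt6 a b c q) := by
  have hob := h.op_mem ha hb
  have hoc := h.op_mem ha hc
  have n1 : ¬ Commute a (op a b) := h.not_commute_op ha hb hab
  have n2 : ¬ Commute b (op a b) := h.not_commute_op' ha hb hab
  have n3 : ¬ Commute a (op a c) := h.not_commute_op ha hc hac
  have n4 : ¬ Commute c (op a c) := h.not_commute_op' ha hc hac
  have n5 : ¬ Commute b (op a c) := F3 h ha hb hc hab hac hbc
  have n6 : ¬ Commute (op a b) c := F4 h ha hb hc hab hac hbc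
  have n7 : ¬ Commute b (op b (op a c)) := h.not_commute_op hb hoc n5
  have n8 : ¬ Commute (op a c) (op b (op a c)) := h.not_commute_op' hb hoc n5
  have e5 := F5 h ha hb hc hab hac hbc
  have n9 : ¬ Commute (op a b) (op b (op a c)) := by
    rw [← e5]; exact h.not_commute_op hob hc n6
  have n10 : ¬ Commute c (op b (op a c)) := by
    rw [← e5]; exact h.not_commute_op' hob hc n6
  have c1 : Commute (op a b) (op a c) := F2 h ha hb hc hab hac hbc
  have c2 : Commute a (op b (op a c)) := F6 h ha hb hc hab hac hbc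
  have d1 : a ≠ op b (op a c) := F7 h ha hb hc hab hac hbc hne
  have d2 : op a b ≠ op a c := F8 h ha hb hc hab hac hbc hne
  cases p <;> cases q <;>
  first
  | exact absurd rfl hpq
  | exact Or.inl ⟨hab, by decide⟩
  | exact Or.inl ⟨not_commute_symm hab, by decide⟩
  | exact Or.inl ⟨hac, by decide⟩
  | exact Or.inl ⟨not_commute_symm hac, by decide⟩
  | exact Or.inl ⟨n1, by decide⟩
  | exact Or.inl ⟨not_commute_symm n1, by decide⟩
  | exact Or.inl ⟨n2, by decide⟩
  | exact Or.inl ⟨not_commute_symm n2, by decide⟩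
  | exact Or.inl ⟨n3, by decide⟩
  | exact Or.inl ⟨not_commute_symm n3, by decide⟩
  | exact Or.inl ⟨n4, by decide⟩
  | exact Or.inl ⟨not_commute_symm n4, by decide⟩
  | exact Or.inl ⟨n5, by decide⟩
  | exact Or.inl ⟨not_commute_symm n5, by decide⟩
  | exact Or.inl ⟨n6, by decide⟩
  | exact Or.inl ⟨not_commute_symm n6, by decide⟩
  | exact Or.inl ⟨n7, by decide⟩
  | exact Or.inl ⟨not_commute_symm n7, by decide⟩
  | exact Or.inl ⟨n8, by decide⟩
  | exact Or.inl ⟨not_commute_symm n8, by decide⟩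
  | exact Or.inl ⟨n9, by decide⟩
  | exact Or.inl ⟨not_commute_symm n9, by decide⟩
  | exact Or.inl ⟨n10, by decide⟩
  | exact Or.inl ⟨not_commute_symm n10, by decide⟩
  | exact Or.inr ⟨hbc, hne⟩
  | exact Or.inr ⟨hbc.symm, hne.symm⟩
  | exact Or.inr ⟨c1, d2⟩
  | exact Or.inr ⟨c1.symm, d2.symm⟩
  | exact Or.inr ⟨c2, d1⟩
  | exact Or.inr ⟨c2.symm, d1.symm⟩

end CaseI

end Part4

section Part5

open Cfsg.LineSystem

variable {G : Type*} [Group G] {D : Set G}

theorem TD.two_points (h : TD D) : ∀ l ∈ Cfsg.threeTranspositionLines D, ∃ x ∈ l, ∃ y ∈ l, x ≠ y := by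
  intro l hl
  obtain ⟨x, hx, y, hy, hxy, rfl⟩ := mem_lines.mp hl
  refine ⟨⟨x, hx⟩, Or.inl rfl, ⟨y, hy⟩, Or.inr (Or.inl rfl), ?_⟩
  intro he
  exact ne_of_not_commute hxy (congrArg Subtype.val he)

section CaseI

variable (h : TD D) {a b c : G} (ha : a ∈ D) (hb : b ∈ D) (hc : c ∈ D)
  (hab : ¬ Commute a b) (hac : ¬ Commute a c) (hbc : Commute b c) (hne : b ≠ c)

/-- the map from the six points into `D` -/
def phi6 (h : TD D) {a b c : G} (ha : a ∈ D) (hb : b ∈ D) (hc : c ∈ D) (p : P6) : D :=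
  ⟨pt6 a b c p, h.pt6_mem ha hb hc p⟩

include hab hac hbc hne

theorem phi6_inj : Function.Injective (phi6 h ha hb hc) := by
  intro p q hpq
  by_contra hne'
  have hv : pt6 a b c p = pt6 a b c q := congrArg Subtype.val hpq
  rcases key6 h ha hb hc hab hac hbc hne p q hne' with ⟨h1, -⟩ | ⟨-, h2⟩
  · exact ne_of_not_commute h1 hv
  · exact h2 hv

theorem phi6_lines : ∀ lam ∈ lines6, phi6 h ha hb hc '' lam ∈ Cfsg.threeTranspositionLines D := by
  have hob := h.op_mem ha hb
  have hoc := h.op_mem ha hc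
  have n5 : ¬ Commute b (op a c) := F3 h ha hb hc hab hac hbc
  have n6 : ¬ Commute (op a b) c := F4 h ha hb hc hab hac hbc
  have e5 := F5 h ha hb hc hab hac hbc
  rintro lam ⟨i, rfl⟩
  fin_cases i
  · -- i = 0 : b, c', d
    have : phi6 h ha hb hc '' {p | (0 : Fin 4) ∉ (e6fun p).1} = ln D b (op a c) := by
      ext z
      rw [mem_ln]
      constructor
      · rintro ⟨p, hp, rfl⟩
        cases p <;>
        first
        | exact absurd hp (by decide)
        | exact Or.inl rfl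
        | exact Or.inr (Or.inl rfl)
        | exact Or.inr (Or.inr rfl)
      · rintro (hz | hz | hz)
        · exact ⟨P6.b, by decide, Subtype.ext hz.symm⟩
        · exact ⟨P6.c', by decide, Subtype.ext hz.symm⟩
        · exact ⟨P6.d, by decide, Subtype.ext hz.symm⟩
    show phi6 h ha hb hc '' {p | (0 : Fin 4) ∉ (e6fun p).1} ∈ _
    rw [this]
    exact h.ln_mem_lines hb hoc n5
  · -- i = 1 : b', c, d
    have : phi6 h ha hb hc '' {p | (1 : Fin 4) ∉ (e6fun p).1} = ln D (op a b) c := by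
      ext z
      rw [mem_ln]
      constructor
      · rintro ⟨p, hp, rfl⟩
        cases p <;>
        first
        | exact absurd hp (by decide)
        | exact Or.inl rfl
        | exact Or.inr (Or.inl rfl)
        | exact Or.inr (Or.inr e5.symm)
      · rintro (hz | hz | hz)
        · exact ⟨P6.b', by decide, Subtype.ext hz.symm⟩
        · exact ⟨P6.c, by decide, Subtype.ext hz.symm⟩
        · exact ⟨P6.d, by decide, Subtype.ext (e5.symm.trans hz.symm)⟩
    show phi6 h ha hb hc '' {p | (1 : Fin 4) ∉ (e6fun p).1} ∈ _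
    rw [this]
    exact h.ln_mem_lines hob hc n6
  · -- i = 2 : a, c, c'
    have : phi6 h ha hb hc '' {p | (2 : Fin 4) ∉ (e6fun p).1} = ln D a c := by
      ext z
      rw [mem_ln]
      constructor
      · rintro ⟨p, hp, rfl⟩
        cases p <;>
        first
        | exact absurd hp (by decide)
        | exact Or.inl rfl
        | exact Or.inr (Or.inl rfl)
        | exact Or.inr (Or.inr rfl)
      · rintro (hz | hz | hz)
        · exact ⟨P6.a, by decide, Subtype.ext hz.symm⟩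
        · exact ⟨P6.c, by decide, Subtype.ext hz.symm⟩
        · exact ⟨P6.c', by decide, Subtype.ext hz.symm⟩
    show phi6 h ha hb hc '' {p | (2 : Fin 4) ∉ (e6fun p).1} ∈ _
    rw [this]
    exact h.ln_mem_lines ha hc hac
  · -- i = 3 : a, b, b'
    have : phi6 h ha hb hc '' {p | (3 : Fin 4) ∉ (e6fun p).1} = ln D a b := by
      ext z
      rw [mem_ln]
      constructor
      · rintro ⟨p, hp, rfl⟩
        cases p <;>
        first
        | exact absurd hp (by decide)
        | exact Or.inl rfl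
        | exact Or.inr (Or.inl rfl)
        | exact Or.inr (Or.inr rfl)
      · rintro (hz | hz | hz)
        · exact ⟨P6.a, by decide, Subtype.ext hz.symm⟩
        · exact ⟨P6.b, by decide, Subtype.ext hz.symm⟩
        · exact ⟨P6.b', by decide, Subtype.ext hz.symm⟩
    show phi6 h ha hb hc '' {p | (3 : Fin 4) ∉ (e6fun p).1} ∈ _
    rw [this]
    exact h.ln_mem_lines ha hb hab

theorem phi6_collinear : ∀ p q : P6, p ≠ q →
    (∃ l ∈ Cfsg.threeTranspositionLines D, phi6 h ha hb hc p ∈ l ∧ phi6 h ha hb hc q ∈ l) →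
    ∃ lam ∈ lines6, p ∈ lam ∧ q ∈ lam := by
  rintro p q hpq ⟨l, hl, hp, hq⟩
  have hne' : phi6 h ha hb hc p ≠ phi6 h ha hb hc q := fun he =>
    hpq (phi6_inj h ha hb hc hab hac hbc hne he)
  have hnc := (h.not_commute_of_mem hl hp hq hne').1
  rcases key6 h ha hb hc hab hac hbc hne p q hpq with ⟨-, i, hi1, hi2⟩ | ⟨h2, -⟩
  · exact ⟨_, ⟨i, rfl⟩, hi1, hi2⟩
  · exact absurd h2 hnc

include h ha hb hc in
theorem caseI : Isomorphic (restrict (Cfsg.threeTranspositionLines D)
    (span (Cfsg.threeTranspositionLines D) (ln D a b ∪ ln D a c))) Cfsg.dualAffinePlaneTwo := by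
  have hPL := h.partialLinear
  have hsub := abstract_sub _ lines6 hPL (phi6 h ha hb hc)
    (phi6_lines h ha hb hc hab hac hbc hne) (phi6_collinear h ha hb hc hab hac hbc hne)
  have hiso := abstract_iso _ lines6 hPL (phi6 h ha hb hc) (phi6_inj h ha hb hc hab hac hbc hne)
    (phi6_lines h ha hb hc hab hac hbc hne) (phi6_collinear h ha hb hc hab hac hbc hne) h.two_points
  have hspan : span (Cfsg.threeTranspositionLines D) (ln D a b ∪ ln D a c) =
      Set.range (phi6 h ha hb hc) := by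
    apply span_eq _ _ _ _ hsub
    · -- minimality
      intro T hT hTs
      have hTa : phi6 h ha hb hc P6.a ∈ T := hT (Or.inl (Or.inl rfl))
      have hTb : phi6 h ha hb hc P6.b ∈ T := hT (Or.inl (Or.inr (Or.inl rfl)))
      have hTb' : phi6 h ha hb hc P6.b' ∈ T := hT (Or.inl (Or.inr (Or.inr rfl)))
      have hTc : phi6 h ha hb hc P6.c ∈ T := hT (Or.inr (Or.inr (Or.inl rfl)))
      have hTc' : phi6 h ha hb hc P6.c' ∈ T := hT (Or.inr (Or.inr (Or.inr rfl)))
      have hoc := h.op_mem ha hc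
      have n5 : ¬ Commute b (op a c) := F3 h ha hb hc hab hac hbc
      have hTd : phi6 h ha hb hc P6.d ∈ T := by
        have hline := h.ln_mem_lines hb hoc n5
        have hsub' := hTs _ hline (phi6 h ha hb hc P6.b) hTb (phi6 h ha hb hc P6.c') hTc'
          (fun he => ne_of_not_commute n5 (congrArg Subtype.val he)) (Or.inl rfl) (Or.inr (Or.inl rfl))
        exact hsub' (Or.inr (Or.inr rfl))
      rintro _ ⟨p, rfl⟩
      cases p <;> assumption
    · -- containment
      rintro z (hz | hz)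
      · rcases hz with hz | hz | hz
        · exact ⟨P6.a, Subtype.ext hz.symm⟩
        · exact ⟨P6.b, Subtype.ext hz.symm⟩
        · exact ⟨P6.b', Subtype.ext hz.symm⟩
      · rcases hz with hz | hz | hz
        · exact ⟨P6.a, Subtype.ext hz.symm⟩
        · exact ⟨P6.c, Subtype.ext hz.symm⟩
        · exact ⟨P6.c', Subtype.ext hz.symm⟩
  rw [hspan]
  exact isomorphic_trans hiso iso6

end CaseI

end Part5

section Part6

variable {G : Type*} [Group G]

theorem b23_aux {u v : G} (hu : u ^ 3 = 1) (huv : (u * v) ^ 3 = 1)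
    (huv' : (u * v⁻¹) ^ 3 = 1) : Commute v (u⁻¹ * v * u) := by
  have hu2 : u * u = u⁻¹ := by
    have : u * u * u = 1 := by rw [← hu, pow_succ, pow_two]
    exact eq_inv_of_mul_eq_one_left this
  have hui : u⁻¹ * u⁻¹ = u := by
    rw [← hu2]; rw [← mul_assoc, hu2]; group
  have hvu : (v * u) ^ 3 = 1 := by
    have : v * u = u⁻¹ * (u * v) * u⁻¹⁻¹ := by group
    rw [this, conj_pow, huv]; group
  have hvu' : (v * u⁻¹) ^ 3 = 1 := by
    have : v * u⁻¹ = (u * v⁻¹)⁻¹ := by group
    rw [this, inv_pow, huv', inv_one]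
  have hA : v * (u⁻¹ * v * u) * (u * v * u⁻¹) = 1 := by
    calc v * (u⁻¹ * v * u) * (u * v * u⁻¹) = v * u⁻¹ * v * (u * u) * v * u⁻¹ := by group
      _ = v * u⁻¹ * v * u⁻¹ * v * u⁻¹ := by rw [hu2]
      _ = (v * u⁻¹) ^ 3 := by rw [pow_succ, pow_two]; group
      _ = 1 := hvu'
  have hB : v * (u * v * u⁻¹) * (u⁻¹ * v * u) = 1 := by
    calc v * (u * v * u⁻¹) * (u⁻¹ * v * u) = v * u * v * (u⁻¹ * u⁻¹) * v * u := by group
      _ = v * u * v * u * v * u := by rw [hui]
      _ = (v * u) ^ 3 := by rw [pow_succ, pow_two]; group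
      _ = 1 := hvu
  -- v1 * v2 = v⁻¹ = v2 * v1
  have h12 : (u⁻¹ * v * u) * (u * v * u⁻¹) = (u * v * u⁻¹) * (u⁻¹ * v * u) := by
    have e1 : (u⁻¹ * v * u) * (u * v * u⁻¹) = v⁻¹ := by
      rw [mul_assoc] at hA
      exact (eq_inv_of_mul_eq_one_right hA)
    have e2 : (u * v * u⁻¹) * (u⁻¹ * v * u) = v⁻¹ := by
      rw [mul_assoc] at hB
      exact (eq_inv_of_mul_eq_one_right hB)
    rw [e1, e2]
  -- conjugate by u
  have h3 : u * ((u⁻¹ * v * u) * (u * v * u⁻¹)) * u⁻¹ = u * ((u * v * u⁻¹) * (u⁻¹ * v * u)) * u⁻¹ := by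
    rw [h12]
  have h4 : u * ((u⁻¹ * v * u) * (u * v * u⁻¹)) * u⁻¹ = v * ((u * u) * v * (u⁻¹ * u⁻¹)) := by group
  have h5 : u * ((u * v * u⁻¹) * (u⁻¹ * v * u)) * u⁻¹ = ((u * u) * v * (u⁻¹ * u⁻¹)) * v := by group
  rw [h4, h5, hu2, hui] at h3
  exact h3

/-- the `B(2,3)` lemma: the commutator of `u` and `v` is central in `⟨u, v⟩` -/
theorem b23 {u v : G} (hu : u ^ 3 = 1) (hv : v ^ 3 = 1) (huv : (u * v) ^ 3 = 1)
    (huv' : (u * v⁻¹) ^ 3 = 1) :
    Commute v (v⁻¹ * u⁻¹ * v * u) ∧ Commute u (v⁻¹ * u⁻¹ * v * u) := by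
  have h1 := b23_aux hu huv huv'
  have hvu : (v * u) ^ 3 = 1 := by
    have : v * u = u⁻¹ * (u * v) * u⁻¹⁻¹ := by group
    rw [this, conj_pow, huv]; group
  have hvu' : (v * u⁻¹) ^ 3 = 1 := by
    have : v * u⁻¹ = (u * v⁻¹)⁻¹ := by group
    rw [this, inv_pow, huv', inv_one]
  have h2 := b23_aux hv hvu hvu'
  constructor
  · have : v⁻¹ * u⁻¹ * v * u = v⁻¹ * (u⁻¹ * v * u) := by group
    rw [this]
    exact (Commute.refl v).inv_right.mul_right h1
  · have : v⁻¹ * u⁻¹ * v * u = (v⁻¹ * u * v)⁻¹ * u := by group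
    rw [this]
    exact h2.inv_right.mul_right (Commute.refl u)

end Part6

section Part7

variable {G : Type*} [Group G]

/-- abstract data of the affine case -/
structure AffData (a u v w : G) : Prop where
  a2 : a * a = 1
  u3 : u ^ 3 = 1
  v3 : v ^ 3 = 1
  wu : Commute w u
  wv : Commute w v
  wa : Commute w a
  vu : v * u = w * u * v
  au : a * u * a = u⁻¹
  av : a * v * a = v⁻¹

/-- the points -/
def PP (a u v : G) (i j : ℕ) : G := (u ^ i * v ^ j)⁻¹ * a * (u ^ i * v ^ j)

namespace AffData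

variable {a u v w : G} (A : AffData a u v w)
include A

theorem comm1 (k : ℕ) : v * u ^ k = w ^ k * u ^ k * v := by
  induction k with
  | zero => simp
  | succ k ih =>
    calc v * u ^ (k + 1) = (v * u ^ k) * u := by rw [pow_succ]; group
      _ = w ^ k * u ^ k * (v * u) := by rw [ih]; group
      _ = w ^ k * u ^ k * (w * u * v) := by rw [A.vu]
      _ = w ^ k * (u ^ k * w) * u * v := by group
      _ = w ^ k * (w * u ^ k) * u * v := by rw [(A.wu.pow_right k).eq]
      _ = w ^ (k + 1) * u ^ (k + 1) * v := by rw [pow_succ, pow_succ]; group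

theorem comm2 (j k : ℕ) : v ^ j * u ^ k = w ^ (j * k) * u ^ k * v ^ j := by
  induction j with
  | zero => simp
  | succ j ih =>
    calc v ^ (j + 1) * u ^ k = v * (v ^ j * u ^ k) := by rw [pow_succ']; group
      _ = v * (w ^ (j * k) * u ^ k * v ^ j) := by rw [ih]
      _ = (v * w ^ (j * k)) * u ^ k * v ^ j := by group
      _ = (w ^ (j * k) * v) * u ^ k * v ^ j := by rw [((A.wv.pow_left (j * k)).eq)]
      _ = w ^ (j * k) * (v * u ^ k) * v ^ j := by group
      _ = w ^ (j * k) * (w ^ k * u ^ k * v) * v ^ j := by rw [A.comm1 k]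
      _ = w ^ ((j + 1) * k) * u ^ k * v ^ (j + 1) := by
        rw [add_mul, one_mul, pow_add, pow_succ']; group

theorem nmul (i j k l : ℕ) :
    (u ^ i * v ^ j) * (u ^ k * v ^ l) = w ^ (j * k) * (u ^ (i + k) * v ^ (j + l)) := by
  calc (u ^ i * v ^ j) * (u ^ k * v ^ l) = u ^ i * (v ^ j * u ^ k) * v ^ l := by group
    _ = u ^ i * (w ^ (j * k) * u ^ k * v ^ j) * v ^ l := by rw [A.comm2 j k]
    _ = (u ^ i * w ^ (j * k)) * u ^ k * v ^ j * v ^ l := by group
    _ = (w ^ (j * k) * u ^ i) * u ^ k * v ^ j * v ^ l := by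
      rw [((A.wu.pow_left (j * k)).pow_right i).eq]
    _ = w ^ (j * k) * (u ^ (i + k) * v ^ (j + l)) := by rw [pow_add, pow_add]; group

/-- translation -/
theorem trans (i j k l : ℕ) :
    (u ^ k * v ^ l)⁻¹ * PP a u v i j * (u ^ k * v ^ l) = PP a u v (i + k) (j + l) := by
  have hw : Commute (w ^ (j * k)) a := A.wa.pow_left _
  rw [PP, PP]
  calc (u ^ k * v ^ l)⁻¹ * ((u ^ i * v ^ j)⁻¹ * a * (u ^ i * v ^ j)) * (u ^ k * v ^ l)
      = ((u ^ i * v ^ j) * (u ^ k * v ^ l))⁻¹ * a * ((u ^ i * v ^ j) * (u ^ k * v ^ l)) := by group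
    _ = (w ^ (j * k) * (u ^ (i + k) * v ^ (j + l)))⁻¹ * a * (w ^ (j * k) * (u ^ (i + k) * v ^ (j + l))) := by
      rw [A.nmul]
    _ = (u ^ (i + k) * v ^ (j + l))⁻¹ * ((w ^ (j * k))⁻¹ * (a * w ^ (j * k))) * (u ^ (i + k) * v ^ (j + l)) := by
      group
    _ = (u ^ (i + k) * v ^ (j + l))⁻¹ * a * (u ^ (i + k) * v ^ (j + l)) := by
      rw [← hw.eq]; group

theorem ainv : a⁻¹ = a := inv_eq_of_mul_eq_one_left A.a2

theorem inv_pow_eq (x : G) (hx : x ^ 3 = 1) (i : ℕ) : (x⁻¹) ^ i = x ^ (2 * i) := by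
  have : x⁻¹ = x ^ 2 := by
    have h : x ^ 2 * x = 1 := by rw [← pow_succ]; exact hx
    exact (eq_inv_of_mul_eq_one_left h).symm ▸ rfl
  rw [this, ← pow_mul]

/-- reflection -/
theorem refl (i j : ℕ) : a * PP a u v i j * a = PP a u v (2 * i) (2 * j) := by
  have hai := A.ainv
  have h1 : a * (u ^ i * v ^ j) * a = u ^ (2 * i) * v ^ (2 * j) := by
    calc a * (u ^ i * v ^ j) * a = a * (u ^ i * v ^ j) * a⁻¹ := by rw [hai]
      _ = (a * u ^ i * a⁻¹) * (a * v ^ j * a⁻¹) := by group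
      _ = (a * u * a⁻¹) ^ i * (a * v * a⁻¹) ^ j := by rw [conj_pow, conj_pow]
      _ = u ^ (2 * i) * v ^ (2 * j) := by
        rw [hai, A.au, A.av, A.inv_pow_eq u A.u3, A.inv_pow_eq v A.v3]
  rw [PP, PP, ← h1]
  have h2 : (a * (u ^ i * v ^ j) * a)⁻¹ = a * (u ^ i * v ^ j)⁻¹ * a := by
    rw [mul_inv_rev, mul_inv_rev, hai, mul_assoc]
  rw [h2]
  calc a * ((u ^ i * v ^ j)⁻¹ * a * (u ^ i * v ^ j)) * a
      = a * (u ^ i * v ^ j)⁻¹ * 1 * a * (u ^ i * v ^ j) * a := by group
    _ = a * (u ^ i * v ^ j)⁻¹ * (a * a) * a * (u ^ i * v ^ j) * a := by rw [A.a2]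
    _ = a * (u ^ i * v ^ j)⁻¹ * a * a * (a * (u ^ i * v ^ j) * a) := by group

theorem PP_mod (i j : ℕ) : PP a u v i j = PP a u v (i % 3) (j % 3) := by
  rw [PP, PP, ← pow_eq_pow_mod i A.u3, ← pow_eq_pow_mod j A.v3]

theorem PP_zero : PP a u v 0 0 = a := by simp [PP]

theorem PP_congr {i j i' j' : ℕ} (hi : i % 3 = i' % 3) (hj : j % 3 = j' % 3) :
    PP a u v i j = PP a u v i' j' := by
  rw [A.PP_mod i j, A.PP_mod i' j', hi, hj]

/-- if `P i j = a` then all translates agree -/
theorem shift {i j : ℕ} (hij : PP a u v i j = a) (k l : ℕ) :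
    PP a u v (i + k) (j + l) = PP a u v k l := by
  rw [← A.trans i j k l, hij]
  rfl

end AffData

end Part7

section Part8

variable {G : Type*} [Group G]

/-- abstract data of the affine case with the base inequalities -/
structure AffBase (a u v w : G) : Prop extends AffData a u v w where
  ne1 : PP a u v 1 0 ≠ a
  ne2 : PP a u v 2 0 ≠ a
  ne3 : PP a u v 0 1 ≠ a
  ne4 : PP a u v 0 2 ≠ a
  ne5 : PP a u v 1 0 ≠ PP a u v 0 2
  ne6 : PP a u v 2 0 ≠ PP a u v 0 2

namespace AffBase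

variable {a u v w : G} (B : AffBase a u v w)
include B

theorem eq_a {i j : ℕ} (hij : PP a u v i j = a) : i % 3 = 0 ∧ j % 3 = 0 := by
  have A := B.toAffData
  have h0 : PP a u v (i % 3) (j % 3) = a := by rw [← A.PP_mod]; exact hij
  have hi : i % 3 < 3 := Nat.mod_lt _ (by norm_num)
  have hj : j % 3 < 3 := Nat.mod_lt _ (by norm_num)
  generalize i % 3 = i' at *
  generalize j % 3 = j' at *
  interval_cases i' <;> interval_cases j'
  · exact ⟨rfl, rfl⟩
  · exact absurd h0 B.ne3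
  · exact absurd h0 B.ne4
  · exact absurd h0 B.ne1
  · -- (1,1)
    have h1 := A.shift h0 0 2
    rw [A.PP_congr (i := 1 + 0) (j := 1 + 2) (i' := 1) (j' := 0) rfl rfl] at h1
    exact absurd h1 B.ne5
  · -- (1,2)
    have h1 := A.shift h0 2 0
    rw [A.PP_congr (i := 1 + 2) (j := 2 + 0) (i' := 0) (j' := 2) rfl rfl] at h1
    exact absurd h1.symm B.ne6
  · exact absurd h0 B.ne2
  · -- (2,1)
    have h1 := A.shift h0 0 2
    rw [A.PP_congr (i := 2 + 0) (j := 1 + 2) (i' := 2) (j' := 0) rfl rfl] at h1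
    exact absurd h1 B.ne6
  · -- (2,2)
    have h1 := A.shift h0 1 0
    rw [A.PP_congr (i := 2 + 1) (j := 2 + 0) (i' := 0) (j' := 2) rfl rfl] at h1
    exact absurd h1.symm B.ne5

theorem key {i j k l : ℕ} (hne : ¬ (i % 3 = k % 3 ∧ j % 3 = l % 3)) :
    ¬ Commute (PP a u v i j) (PP a u v k l) ∧
      PP a u v k l * PP a u v i j * (PP a u v k l)⁻¹ = PP a u v (2 * i + 2 * k) (2 * j + 2 * l) := by
  have A := B.toAffData
  have hai := A.ainv
  set m := u ^ k * v ^ l with hm
  have hkl : PP a u v k l = m⁻¹ * a * m := rfl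
  have hij : PP a u v i j = m⁻¹ * PP a u v (i + 2 * k) (j + 2 * l) * m := by
    rw [hm, A.trans]
    exact A.PP_congr (by omega) (by omega)
  set p' := PP a u v (i + 2 * k) (j + 2 * l) with hp'
  constructor
  · intro hc
    rw [hij, hkl] at hc
    have hc' : Commute p' a := by
      have e := hc.eq
      show p' * a = a * p'
      calc p' * a = m * ((m⁻¹ * p' * m) * (m⁻¹ * a * m)) * m⁻¹ := by group
        _ = m * ((m⁻¹ * a * m) * (m⁻¹ * p' * m)) * m⁻¹ := by rw [e]
        _ = a * p' := by group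
    have h1 : a * p' * a = p' := by
      rw [← hc'.eq, mul_assoc, A.a2, mul_one]
    rw [hp', A.refl] at h1
    -- translate
    have h2 := A.trans (2 * (i + 2 * k)) (2 * (j + 2 * l)) (2 * (i + 2 * k)) (2 * (j + 2 * l))
    rw [h1, A.trans] at h2
    have h3 : PP a u v (i + 2 * k + 2 * (i + 2 * k)) (j + 2 * l + 2 * (j + 2 * l)) = a := by
      rw [A.PP_congr (i' := 0) (j' := 0) (by omega) (by omega)]
      exact A.PP_zero
    rw [h3] at h2
    have h4 := B.eq_a h2.symm
    apply hne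
    omega
  · rw [hij, hkl]
    calc m⁻¹ * a * m * (m⁻¹ * p' * m) * (m⁻¹ * a * m)⁻¹ = m⁻¹ * (a * p' * a⁻¹) * m := by group
      _ = m⁻¹ * (a * p' * a) * m := by rw [hai]
      _ = m⁻¹ * PP a u v (2 * (i + 2 * k)) (2 * (j + 2 * l)) * m := by rw [hp', A.refl]
      _ = PP a u v (2 * (i + 2 * k) + k) (2 * (j + 2 * l) + l) := by rw [hm, A.trans]
      _ = PP a u v (2 * i + 2 * k) (2 * j + 2 * l) := A.PP_congr (by omega) (by omega)

end AffBase

end Part8

section Part9

open Cfsg.LineSystem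

variable {G : Type*} [Group G] {D : Set G}

section CaseII

variable (h : TD D) {a b c : G} (ha : a ∈ D) (hb : b ∈ D) (hc : c ∈ D)
  (hab : ¬ Commute a b) (hac : ¬ Commute a c) (hbc : ¬ Commute b c) (hb'c : ¬ Commute (op a b) c)

/-- the central element -/
def ww (a b c : G) : G := (a * c)⁻¹ * (a * b)⁻¹ * (a * c) * (a * b)

include h ha hb hc hab hac hbc hb'c

theorem affData : AffData a (a * b) (a * c) (ww a b c) := by
  have ha2 := h.sq ha
  have hai := h.inv ha
  have hbi := h.inv hb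
  have hci := h.inv hc
  have hu3 : (a * b) ^ 3 = 1 := h.cube ha hb hab
  have hv3 : (a * c) ^ 3 = 1 := h.cube ha hc hac
  have huv : (a * b * (a * c)) ^ 3 = 1 := by
    have : a * b * (a * c) = op a b * c := by rw [h.conj_eq_op ha hb hab]; group
    rw [this]
    exact h.cube (h.op_mem ha hb) hc hb'c
  have huv' : (a * b * (a * c)⁻¹) ^ 3 = 1 := by
    have : a * b * (a * c)⁻¹ = a * (b * c) * a⁻¹ := by
      rw [mul_inv_rev, hci]; group
    rw [this, conj_pow, h.cube hb hc hbc]; group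
  obtain ⟨hwv, hwu⟩ := b23 hu3 hv3 huv huv'
  have hwv' : Commute (ww a b c) (a * c) := hwv.symm
  have hwu' : Commute (ww a b c) (a * b) := hwu.symm
  have hvu : a * c * (a * b) = ww a b c * (a * b) * (a * c) := by
    have e1 : a * c * (a * b) = a * b * (a * c) * ww a b c := by rw [ww]; group
    rw [e1]
    calc a * b * (a * c) * ww a b c = a * b * ((a * c) * ww a b c) := by group
      _ = a * b * (ww a b c * (a * c)) := by rw [hwv'.eq]
      _ = (a * b * ww a b c) * (a * c) := by group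
      _ = (ww a b c * (a * b)) * (a * c) := by rw [hwu'.eq]
  have hau : a * (a * b) * a = (a * b)⁻¹ := by
    rw [mul_inv_rev, hai, hbi, ← mul_assoc, ha2, one_mul]
  have hav : a * (a * c) * a = (a * c)⁻¹ := by
    rw [mul_inv_rev, hai, hci, ← mul_assoc, ha2, one_mul]
  have hau' : a * (a * b)⁻¹ * a = a * b := by
    rw [mul_inv_rev, hai, hbi]
    calc a * (b * a) * a = a * b * (a * a) := by group
      _ = a * b := by rw [ha2, mul_one]
  have hav' : a * (a * c)⁻¹ * a = a * c := by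
    rw [mul_inv_rev, hai, hci]
    calc a * (c * a) * a = a * c * (a * a) := by group
      _ = a * c := by rw [ha2, mul_one]
  have hwa : Commute (ww a b c) a := by
    have h1 : a * ww a b c * a = ww a b c := by
      calc a * ww a b c * a
          = (a * (a * c)⁻¹ * a) * (a⁻¹ * a⁻¹) * (a * (a * b)⁻¹ * a) * (a⁻¹ * a⁻¹) * (a * (a * c) * a)
              * (a⁻¹ * a⁻¹) * (a * (a * b) * a) := by rw [ww]; group
        _ = (a * c) * (a * b) * (a * c)⁻¹ * (a * b)⁻¹ := by
          rw [hai, ha2, hau, hav, hau', hav']; group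
        _ = (ww a b c * (a * b) * (a * c)) * (a * c)⁻¹ * (a * b)⁻¹ := by rw [hvu]
        _ = ww a b c := by group
    show ww a b c * a = a * ww a b c
    calc ww a b c * a = (a * a) * ww a b c * a := by rw [ha2, one_mul]
      _ = a * (a * ww a b c * a) := by group
      _ = a * ww a b c := by rw [h1]
  exact ⟨ha2, hu3, hv3, hwu', hwv', hwa, hvu, hau, hav⟩

theorem PP10 : PP a (a * b) (a * c) 1 0 = op a b := by
  rw [PP, pow_one, pow_zero, mul_one, mul_inv_rev, h.inv ha, h.inv hb, h.op_eq hb]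
  have ha2 := h.sq ha
  calc b * a * a * (a * b) = b * (a * a) * a * b := by group
    _ = b * a * b := by rw [ha2, mul_one]

theorem PP01 : PP a (a * b) (a * c) 0 1 = op a c := by
  rw [PP, pow_one, pow_zero, one_mul, mul_inv_rev, h.inv ha, h.inv hc, h.op_eq hc]
  have ha2 := h.sq ha
  calc c * a * a * (a * c) = c * (a * a) * a * c := by group
    _ = c * a * c := by rw [ha2, mul_one]

theorem PP20 : PP a (a * b) (a * c) 2 0 = b := by
  have ha2 := h.sq ha
  have hb2 := h.sq hb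
  have hbr : b * a * b = a * b * a := h.braid ha hb hab
  rw [PP, pow_zero, mul_one, pow_two, mul_inv_rev, mul_inv_rev, h.inv ha, h.inv hb]
  calc b * a * (b * a) * a * (a * b * (a * b)) = b * a * b * (a * a) * (a * b * a) * b := by group
    _ = (b * a * b) * (a * b * a) * b := by rw [ha2, mul_one]
    _ = (a * b * a) * (a * b * a) * b := by rw [hbr]
    _ = a * b * (a * a) * b * a * b := by group
    _ = a * (b * b) * a * b := by rw [ha2, mul_one]; group
    _ = (a * a) * b := by rw [hb2, mul_one]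
    _ = b := by rw [ha2, one_mul]

theorem PP02 : PP a (a * b) (a * c) 0 2 = c := by
  have ha2 := h.sq ha
  have hc2 := h.sq hc
  have hbr : c * a * c = a * c * a := h.braid ha hc hac
  rw [PP, pow_zero, one_mul, pow_two, mul_inv_rev, mul_inv_rev, h.inv ha, h.inv hc]
  calc c * a * (c * a) * a * (a * c * (a * c)) = c * a * c * (a * a) * (a * c * a) * c := by group
    _ = (c * a * c) * (a * c * a) * c := by rw [ha2, mul_one]
    _ = (a * c * a) * (a * c * a) * c := by rw [hbr]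
    _ = a * c * (a * a) * c * a * c := by group
    _ = a * (c * c) * a * c := by rw [ha2, mul_one]; group
    _ = (a * a) * c := by rw [hc2, mul_one]
    _ = c := by rw [ha2, one_mul]

theorem affBase : AffBase a (a * b) (a * c) (ww a b c) := by
  refine ⟨affData h ha hb hc hab hac hbc hb'c, ?_, ?_, ?_, ?_, ?_, ?_⟩
  · rw [PP10 h ha hb hc hab hac hbc hb'c]; exact h.op_ne_left ha hb hab
  · rw [PP20 h ha hb hc hab hac hbc hb'c]; exact (ne_of_not_commute hab).symm
  · rw [PP01 h ha hb hc hab hac hbc hb'c]; exact h.op_ne_left ha hc hac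
  · rw [PP02 h ha hb hc hab hac hbc hb'c]; exact (ne_of_not_commute hac).symm
  · rw [PP10 h ha hb hc hab hac hbc hb'c, PP02 h ha hb hc hab hac hbc hb'c]
    exact ne_of_not_commute hb'c
  · rw [PP20 h ha hb hc hab hac hbc hb'c, PP02 h ha hb hc hab hac hbc hb'c]
    exact ne_of_not_commute hbc

end CaseII

end Part9

section Part10

open Cfsg.LineSystem

variable {G : Type*} [Group G] {D : Set G}

theorem val_two_mul_add : ∀ s t : ZMod 3, (2 * s + 2 * t).val % 3 = (2 * s.val + 2 * t.val) % 3 := by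
  decide

theorem three_zero : (3 : ZMod 3) = 0 := by decide

theorem TD.PP_mem (h : TD D) {a : G} (ha : a ∈ D) (u v : G) (i j : ℕ) : PP a u v i j ∈ D := by
  have := h.conj (u ^ i * v ^ j)⁻¹ a ha
  rw [inv_inv] at this
  exact this

section CaseII

variable (h : TD D) {a b c : G} (ha : a ∈ D) (hb : b ∈ D) (hc : c ∈ D)
  (hab : ¬ Commute a b) (hac : ¬ Commute a c) (hbc : ¬ Commute b c) (hb'c : ¬ Commute (op a b) c)

/-- the map from the affine plane, values in `G` -/
def phi9₀ (a b c : G) (x : Fin 2 → ZMod 3) : G := PP a (a * b) (a * c) (x 0).val (x 1).val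

/-- the map from the affine plane into `D` -/
def phi9 (h : TD D) {a : G} (ha : a ∈ D) (b c : G) (x : Fin 2 → ZMod 3) : D :=
  ⟨phi9₀ a b c x, h.PP_mem ha _ _ _ _⟩

include h ha hb hc hab hac hbc hb'c

theorem key9 {x y : Fin 2 → ZMod 3} (hxy : x ≠ y) :
    ¬ Commute (phi9₀ a b c x) (phi9₀ a b c y) ∧
      op (phi9₀ a b c x) (phi9₀ a b c y) = phi9₀ a b c (fun t => 2 * x t + 2 * y t) := by
  have B := affBase h ha hb hc hab hac hbc hb'c
  have hne : ¬ ((x 0).val % 3 = (y 0).val % 3 ∧ (x 1).val % 3 = (y 1).val % 3) := by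
    rintro ⟨h0, h1⟩
    apply hxy
    have l0 := ZMod.val_lt (x 0)
    have l1 := ZMod.val_lt (x 1)
    have l2 := ZMod.val_lt (y 0)
    have l3 := ZMod.val_lt (y 1)
    rw [Nat.mod_eq_of_lt l0, Nat.mod_eq_of_lt l2] at h0
    rw [Nat.mod_eq_of_lt l1, Nat.mod_eq_of_lt l3] at h1
    ext t
    fin_cases t
    · exact ZMod.val_injective 3 h0
    · exact ZMod.val_injective 3 h1
  obtain ⟨k1, k2⟩ := B.key hne
  refine ⟨k1, ?_⟩
  rw [op, phi9₀, phi9₀, k2, phi9₀]
  exact B.toAffData.PP_congr (val_two_mul_add _ _).symm (val_two_mul_add _ _).symm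

theorem phi9_inj : Function.Injective (phi9 h ha b c) := by
  intro x y hxy
  by_contra hne
  have := (key9 h ha hb hc hab hac hbc hb'c hne).1
  exact ne_of_not_commute this (congrArg Subtype.val hxy)

theorem phi9_lines : ∀ lam ∈ Cfsg.affinePlaneThree, phi9 h ha b c '' lam ∈ Cfsg.threeTranspositionLines D := by
  rintro lam ⟨v0, w0, hw0, rfl⟩
  have hne : v0 ≠ v0 + w0 := by
    intro he
    apply hw0
    have : v0 + w0 = v0 + 0 := by rw [add_zero]; exact he.symm
    exact add_left_cancel this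
  obtain ⟨k1, k2⟩ := key9 h ha hb hc hab hac hbc hb'c hne
  have h3 : (fun t => 2 * v0 t + 2 * (v0 + w0) t) = v0 + (2 : ZMod 3) • w0 := by
    ext t
    simp only [Pi.add_apply, Pi.smul_apply, smul_eq_mul]
    linear_combination (v0 t) * three_zero
  rw [h3] at k2
  have : phi9 h ha b c '' {x | ∃ c' : ZMod 3, x = v0 + c' • w0} =
      ln D (phi9₀ a b c v0) (phi9₀ a b c (v0 + w0)) := by
    ext z
    rw [mem_ln]
    constructor
    · rintro ⟨x, ⟨c', rfl⟩, rfl⟩
      fin_cases c'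
      · left
        show phi9₀ a b c (v0 + (0 : ZMod 3) • w0) = _
        rw [zero_smul, add_zero]
      · right; left
        show phi9₀ a b c (v0 + (1 : ZMod 3) • w0) = _
        rw [one_smul]
      · right; right
        show phi9₀ a b c (v0 + (2 : ZMod 3) • w0) = _
        rw [k2]
    · rintro (hz | hz | hz)
      · exact ⟨v0, ⟨0, by rw [zero_smul, add_zero]⟩, Subtype.ext hz.symm⟩
      · exact ⟨v0 + w0, ⟨1, by rw [one_smul]⟩, Subtype.ext hz.symm⟩
      · exact ⟨v0 + (2 : ZMod 3) • w0, ⟨2, rfl⟩, Subtype.ext (k2.symm.trans hz.symm)⟩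
  rw [this]
  exact h.ln_mem_lines (h.PP_mem ha _ _ _ _) (h.PP_mem ha _ _ _ _) k1

omit h ha hb hc hab hac hbc hb'c in
theorem aff_collinear : ∀ p q : Fin 2 → ZMod 3, p ≠ q →
    ∃ lam ∈ Cfsg.affinePlaneThree, p ∈ lam ∧ q ∈ lam := by
  intro p q hpq
  refine ⟨_, ⟨p, q - p, sub_ne_zero.mpr (Ne.symm hpq), rfl⟩, ⟨0, by rw [zero_smul, add_zero]⟩,
    ⟨1, by rw [one_smul]; abel⟩⟩

end CaseII

end Part10

section Part11

open Cfsg.LineSystem

variable {G : Type*} [Group G] {D : Set G}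

section CaseII

variable (h : TD D) {a b c : G} (ha : a ∈ D) (hb : b ∈ D) (hc : c ∈ D)
  (hab : ¬ Commute a b) (hac : ¬ Commute a c) (hbc : ¬ Commute b c) (hb'c : ¬ Commute (op a b) c)

include h ha hb hc hab hac hbc hb'c

theorem caseII : Isomorphic (restrict (Cfsg.threeTranspositionLines D)
    (span (Cfsg.threeTranspositionLines D) (ln D a b ∪ ln D a c))) Cfsg.affinePlaneThree := by
  have hPL := h.partialLinear
  have hlines := phi9_lines h ha hb hc hab hac hbc hb'c
  have hcol : ∀ p q : Fin 2 → ZMod 3, p ≠ q →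
      (∃ l ∈ Cfsg.threeTranspositionLines D, phi9 h ha b c p ∈ l ∧ phi9 h ha b c q ∈ l) →
      ∃ lam ∈ Cfsg.affinePlaneThree, p ∈ lam ∧ q ∈ lam := fun p q hpq _ => aff_collinear p q hpq
  have hsub := abstract_sub _ Cfsg.affinePlaneThree hPL (phi9 h ha b c) hlines hcol
  have hiso := abstract_iso _ Cfsg.affinePlaneThree hPL (phi9 h ha b c)
    (phi9_inj h ha hb hc hab hac hbc hb'c) hlines hcol h.two_points
  have e00 : phi9₀ a b c ![0, 0] = a := (affData h ha hb hc hab hac hbc hb'c).PP_zero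
  have e10 : phi9₀ a b c ![1, 0] = op a b := PP10 h ha hb hc hab hac hbc hb'c
  have e20 : phi9₀ a b c ![2, 0] = b := PP20 h ha hb hc hab hac hbc hb'c
  have e01 : phi9₀ a b c ![0, 1] = op a c := PP01 h ha hb hc hab hac hbc hb'c
  have e02 : phi9₀ a b c ![0, 2] = c := PP02 h ha hb hc hab hac hbc hb'c
  have hspan : span (Cfsg.threeTranspositionLines D) (ln D a b ∪ ln D a c) =
      Set.range (phi9 h ha b c) := by
    apply span_eq _ _ _ _ hsub
    · -- minimality
      intro T hT hTs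
      have hT00 : phi9 h ha b c ![0, 0] ∈ T := hT (Or.inl (Or.inl e00))
      have hT20 : phi9 h ha b c ![2, 0] ∈ T := hT (Or.inl (Or.inr (Or.inl e20)))
      have hT10 : phi9 h ha b c ![1, 0] ∈ T := hT (Or.inl (Or.inr (Or.inr e10)))
      have hT02 : phi9 h ha b c ![0, 2] ∈ T := hT (Or.inr (Or.inr (Or.inl e02)))
      have hT01 : phi9 h ha b c ![0, 1] ∈ T := hT (Or.inr (Or.inr (Or.inr e01)))
      have hclos : ∀ x y : Fin 2 → ZMod 3, x ≠ y → phi9 h ha b c x ∈ T → phi9 h ha b c y ∈ T →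
          phi9 h ha b c (fun t => 2 * x t + 2 * y t) ∈ T := by
        intro x y hxy hxT hyT
        obtain ⟨k1, k2⟩ := key9 h ha hb hc hab hac hbc hb'c hxy
        have hline := h.ln_mem_lines (h.PP_mem ha _ _ _ _) (h.PP_mem ha _ _ _ _) k1
        have hsub' := hTs _ hline (phi9 h ha b c x) hxT (phi9 h ha b c y) hyT
          (fun he => ne_of_not_commute k1 (congrArg Subtype.val he)) (Or.inl rfl) (Or.inr (Or.inl rfl))
        exact hsub' (Or.inr (Or.inr k2.symm))
      have ax1 : ∀ s : ZMod 3, phi9 h ha b c ![s, 0] ∈ T := by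
        intro s
        fin_cases s
        · exact hT00
        · exact hT10
        · exact hT20
      have ax2 : ∀ s : ZMod 3, phi9 h ha b c ![0, s] ∈ T := by
        intro s
        fin_cases s
        · exact hT00
        · exact hT01
        · exact hT02
      rintro _ ⟨x, rfl⟩
      have hx : x = ![x 0, x 1] := by
        ext t; fin_cases t <;> rfl
      by_cases h0 : x 0 = 0
      · rw [hx, h0]; exact ax2 _
      by_cases h1 : x 1 = 0
      · rw [hx, h1]; exact ax1 _
      have hne : (![2 * x 0, 0] : Fin 2 → ZMod 3) ≠ ![0, 2 * x 1] := by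
        intro he
        have := congrFun he 0
        simp only [Matrix.cons_val_zero] at this
        apply h0
        have h4 : x 0 = 2 * (2 * x 0) := by linear_combination (- x 0) * three_zero
        rw [h4, this, mul_zero]
      have := hclos _ _ hne (ax1 (2 * x 0)) (ax2 (2 * x 1))
      have hx' : (fun t => 2 * (![2 * x 0, 0] : Fin 2 → ZMod 3) t + 2 * (![0, 2 * x 1] : Fin 2 → ZMod 3) t) = x := by
        ext t
        fin_cases t
        · show 2 * (2 * x 0) + 2 * 0 = x 0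
          linear_combination (x 0) * three_zero
        · show 2 * 0 + 2 * (2 * x 1) = x 1
          linear_combination (x 1) * three_zero
      rw [hx'] at this
      exact this
    · -- containment
      rintro z (hz | hz)
      · rcases hz with hz | hz | hz
        · exact ⟨![0, 0], Subtype.ext (e00.trans hz.symm)⟩
        · exact ⟨![2, 0], Subtype.ext (e20.trans hz.symm)⟩
        · exact ⟨![1, 0], Subtype.ext (e10.trans hz.symm)⟩
      · rcases hz with hz | hz | hz
        · exact ⟨![0, 0], Subtype.ext (e00.trans hz.symm)⟩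
        · exact ⟨![0, 2], Subtype.ext (e02.trans hz.symm)⟩
        · exact ⟨![0, 1], Subtype.ext (e01.trans hz.symm)⟩
  rw [hspan]
  exact hiso

end CaseII

theorem result {G : Type*} [Group G] [Finite G] {D : Set G} (hD : Cfsg.IsThreeTranspositionGroup D) : Cfsg.IsFischerSpace (Cfsg.threeTranspositionLines D) := by
  have h := TD.of hD
  refine ⟨h.partialLinear, h.ncard_lines, ?_⟩
  rintro l hl m hm hlm ⟨p, hpl, hpm⟩
  -- second points
  have second : ∀ l' ∈ Cfsg.threeTranspositionLines D, p ∈ l' → ∃ q : D, q ∈ l' ∧ q ≠ p := by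
    intro l' hl' _
    obtain ⟨x, hx, y, hy, hxy⟩ := h.two_points l' hl'
    by_cases hp : x = p
    · exact ⟨y, hy, fun he => hxy (hp.trans he.symm)⟩
    · exact ⟨x, hx, hp⟩
  obtain ⟨q, hql, hqp⟩ := second l hl hpl
  obtain ⟨r, hrm, hrp⟩ := second m hm hpm
  obtain ⟨hab, hl_eq⟩ := h.not_commute_of_mem hl hpl hql (Ne.symm hqp)
  obtain ⟨hac, hm_eq⟩ := h.not_commute_of_mem hm hpm hrm (Ne.symm hrp)
  have ha := p.2
  have hb := q.2
  have hc := r.2
  -- `r ∉ l`
  have hrl : r ∉ l := by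
    intro hrl
    apply hlm
    rw [hm_eq, (h.not_commute_of_mem hl hpl hrl (Ne.symm hrp)).2]
  have hbc_ne : (q : G) ≠ (r : G) := by
    intro he
    apply hrl
    rw [hl_eq]
    exact Or.inr (Or.inl he.symm)
  have hb'c_ne : op (p : G) (q : G) ≠ (r : G) := by
    intro he
    apply hrl
    rw [hl_eq]
    exact Or.inr (Or.inr he.symm)
  rw [hl_eq, hm_eq]
  by_cases h1 : Commute (q : G) (r : G)
  · exact Or.inl (caseI h ha hb hc hab hac h1 hbc_ne)
  by_cases h2 : Commute (op (p : G) (q : G)) (r : G)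
  · left
    rw [← h.ln_op ha hb hab]
    exact caseI h ha (h.op_mem ha hb) hc (h.not_commute_op ha hb hab) hac h2 hb'c_ne
  · exact Or.inr (caseII h ha hb hc hab hac h1 h2)

end Part11

end Cfsg.Agent.S5367
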