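import Mathlib
import Cfsg.Statements.S5366
import Cfsg.Agent.S5367

set_option autoImplicit false
open Cfsg

namespace Cfsg.Agent.S5366


section Part0

open Cfsg.LineSystem

variable {X : Type*} {L : Set (Set X)}

theorem lineMap_eq (hPL : IsPartialLinear L) {x y z : X} (hzx : z ≠ x) (hzy : z ≠ y) (hxy : x ≠ y)
    (hl : ({x, y, z} : Set X) ∈ L) : lineMap L x y = z := by
  have h : ∃ z : X, z ≠ x ∧ z ≠ y ∧ x ≠ y ∧ ({x, y, z} : Set X) ∈ L := ⟨z, hzx, hzy, hxy, hl⟩
  unfold lineMap
  rw [dif_pos h]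
  obtain ⟨h1, h2, -, h4⟩ := h.choose_spec
  have := hPL _ h4 _ hl x y hxy (by simp) (by simp) (by simp) (by simp)
  have hmem : h.choose ∈ ({x, y, z} : Set X) := by
    rw [← this]; simp
  rcases hmem with h' | h' | h'
  · exact absurd h' h1
  · exact absurd h' h2
  · exact h'

theorem lineMap_eq_self {x y : X}
    (h : ¬ ∃ z : X, z ≠ x ∧ z ≠ y ∧ x ≠ y ∧ ({x, y, z} : Set X) ∈ L) : lineMap L x y = y := by
  unfold lineMap
  rw [dif_neg h]

theorem lineMap_self (x : X) : lineMap L x x = x := by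
  apply lineMap_eq_self
  rintro ⟨z, -, -, h, -⟩
  exact h rfl

theorem triple_comm (x y z : X) : ({x, z, y} : Set X) = {x, y, z} := by
  ext w
  simp only [Set.mem_insert_iff, Set.mem_singleton_iff]
  tauto

theorem lineMap_invol (hPL : IsPartialLinear L) (x y : X) : lineMap L x (lineMap L x y) = y := by
  by_cases h : ∃ z : X, z ≠ x ∧ z ≠ y ∧ x ≠ y ∧ ({x, y, z} : Set X) ∈ L
  · obtain ⟨z, hzx, hzy, hxy, hl⟩ := h
    rw [lineMap_eq hPL hzx hzy hxy hl]
    apply lineMap_eq hPL (Ne.symm hxy) (Ne.symm hzy) (Ne.symm hzx)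
    rw [triple_comm]
    exact hl
  · rw [lineMap_eq_self h, lineMap_eq_self h]

/-- the lineMap along an isomorphism -/
theorem lineMap_iso {Y : Type*} {M : Set (Set Y)} (hPL : IsPartialLinear L) (hPM : IsPartialLinear M)
    (e : X ≃ Y) (he : IsIso L M e) (x y : X) : e (lineMap L x y) = lineMap M (e x) (e y) := by
  have himg : ∀ x y z : X, e '' ({x, y, z} : Set X) = {e x, e y, e z} := by
    intro x y z
    ext w
    simp only [Set.mem_image, Set.mem_insert_iff, Set.mem_singleton_iff]
    constructor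
    · rintro ⟨v, hv | hv | hv, rfl⟩ <;> simp [hv]
    · rintro (h | h | h)
      · exact ⟨x, Or.inl rfl, h.symm⟩
      · exact ⟨y, Or.inr (Or.inl rfl), h.symm⟩
      · exact ⟨z, Or.inr (Or.inr rfl), h.symm⟩
  by_cases h : ∃ z : X, z ≠ x ∧ z ≠ y ∧ x ≠ y ∧ ({x, y, z} : Set X) ∈ L
  · obtain ⟨z, hzx, hzy, hxy, hl⟩ := h
    rw [lineMap_eq hPL hzx hzy hxy hl]
    symm
    apply lineMap_eq hPM (e.injective.ne hzx) (e.injective.ne hzy) (e.injective.ne hxy)
    rw [← himg]
    exact (he _).mp hl
  · rw [lineMap_eq_self h]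
    symm
    apply lineMap_eq_self
    rintro ⟨z', h1, h2, h3, h4⟩
    apply h
    refine ⟨e.symm z', ?_, ?_, ?_, ?_⟩
    · intro hh; apply h1; rw [← hh, Equiv.apply_symm_apply]
    · intro hh; apply h2; rw [← hh, Equiv.apply_symm_apply]
    · intro hh; apply h3; rw [hh]
    · rw [he, himg, Equiv.apply_symm_apply]
      exact h4

theorem isIso_symm {Y : Type*} {M : Set (Set Y)} (e : X ≃ Y) (he : IsIso L M e) : IsIso M L e.symm := by
  intro m
  rw [he (e.symm '' m)]
  have : e '' (e.symm '' m) = m := by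
    rw [Set.image_image]
    simp
  rw [this]

theorem isomorphic_symm {Y : Type*} {M : Set (Set Y)} (h : Isomorphic L M) : Isomorphic M L := by
  obtain ⟨e, he⟩ := h
  exact ⟨e.symm, isIso_symm e he⟩

theorem partialLinear_iso {Y : Type*} {M : Set (Set Y)} (hPL : IsPartialLinear L)
    (e : X ≃ Y) (he : IsIso L M e) : IsPartialLinear M := by
  intro l hl m hm x y hxy hxl hyl hxm hym
  have he' := isIso_symm e he
  have h1 := (he' l).mp hl
  have h2 := (he' m).mp hm
  have := hPL _ h1 _ h2 (e.symm x) (e.symm y) (e.symm.injective.ne hxy) ⟨x, hxl, rfl⟩ ⟨y, hyl, rfl⟩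
    ⟨x, hxm, rfl⟩ ⟨y, hym, rfl⟩
  exact e.symm.injective.image_injective this

end Part0

section Part1

open Cfsg.LineSystem

variable {X : Type*} {L : Set (Set X)}

theorem span_subspace (L : Set (Set X)) (A : Set X) : IsSubspace L (span L A) := by
  intro l hl x hx y hy hxy hxl hyl
  apply Set.subset_sInter
  rintro T ⟨hAT, hT⟩
  exact hT l hl x (hx T ⟨hAT, hT⟩) y (hy T ⟨hAT, hT⟩) hxy hxl hyl

theorem subset_span (L : Set (Set X)) (A : Set X) : A ⊆ span L A := by
  apply Set.subset_sInter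
  rintro T ⟨hAT, -⟩
  exact hAT

theorem restrict_partialLinear (hPL : IsPartialLinear L) (S : Set X) : IsPartialLinear (restrict L S) := by
  rintro l' ⟨l, hl, -, rfl⟩ m' ⟨m, hm, -, rfl⟩ x y hxy hxl hyl hxm hym
  have hxy' : (x : X) ≠ (y : X) := fun h => hxy (Subtype.ext h)
  have := hPL l hl m hm x y hxy' hxl hyl hxm hym
  rw [this]

theorem triple_restrict (S : Set X) (x y z : S) :
    ({x, y, z} : Set S) = {w : S | (w : X) ∈ ({(x : X), (y : X), (z : X)} : Set X)} := by
  ext w
  simp only [Set.mem_insert_iff, Set.mem_singleton_iff, Set.mem_setOf_eq, Subtype.ext_iff]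

theorem lineMap_restrict (hPL : IsPartialLinear L) (S : Set X) (hS : IsSubspace L S) (x y : S) :
    ((lineMap (restrict L S) x y : S) : X) = lineMap L (x : X) (y : X) := by
  by_cases h : ∃ z : X, z ≠ (x : X) ∧ z ≠ (y : X) ∧ (x : X) ≠ (y : X) ∧ ({(x : X), (y : X), z} : Set X) ∈ L
  · obtain ⟨z, hzx, hzy, hxy, hl⟩ := h
    have hsub := hS _ hl x x.2 y y.2 hxy (by simp) (by simp)
    have hz : z ∈ S := hsub (by simp)
    rw [lineMap_eq hPL hzx hzy hxy hl]
    have : lineMap (restrict L S) x y = ⟨z, hz⟩ := by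
      apply lineMap_eq (restrict_partialLinear hPL S)
      · intro hh; exact hzx (congrArg Subtype.val hh)
      · intro hh; exact hzy (congrArg Subtype.val hh)
      · intro hh; exact hxy (congrArg Subtype.val hh)
      · exact ⟨_, hl, hsub, triple_restrict S x y ⟨z, hz⟩⟩
    rw [this]
  · rw [lineMap_eq_self h]
    have : lineMap (restrict L S) x y = y := by
      apply lineMap_eq_self
      rintro ⟨z', h1, h2, h3, ⟨l, hl, hlS, heq⟩⟩
      apply h
      refine ⟨z', fun hh => h1 (Subtype.ext hh), fun hh => h2 (Subtype.ext hh),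
        fun hh => h3 (Subtype.ext hh), ?_⟩
      have : l = {(x : X), (y : X), (z' : X)} := by
        ext v
        constructor
        · intro hv
          have hvS := hlS hv
          have : (⟨v, hvS⟩ : S) ∈ ({x, y, z'} : Set S) := by
            rw [heq]; exact hv
          simp only [Set.mem_insert_iff, Set.mem_singleton_iff, Subtype.ext_iff] at this
          simpa using this
        · intro hv
          simp only [Set.mem_insert_iff, Set.mem_singleton_iff] at hv
          have hx : x ∈ ({x, y, z'} : Set S) := by simp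
          have hy : y ∈ ({x, y, z'} : Set S) := by simp
          have hz : z' ∈ ({x, y, z'} : Set S) := by simp
          rw [heq] at hx hy hz
          rcases hv with rfl | rfl | rfl
          · exact hx
          · exact hy
          · exact hz
      rw [← this]
      exact hl
    rw [this]

end Part1

section Part2

open Cfsg.LineSystem

theorem three_zero' : (3 : ZMod 3) = 0 := by decide

theorem ag_lineMap (hPM : IsPartialLinear Cfsg.affinePlaneThree) (p t : Fin 2 → ZMod 3) :
    lineMap Cfsg.affinePlaneThree p t = (2 : ZMod 3) • p + (2 : ZMod 3) • t := by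
  by_cases hpt : p = t
  · subst hpt
    rw [lineMap_self]
    ext i
    simp only [Pi.add_apply, Pi.smul_apply, smul_eq_mul]
    linear_combination (- p i) * three_zero'
  · have hz1 : (2 : ZMod 3) • p + (2 : ZMod 3) • t ≠ p := by
      intro h
      apply hpt
      ext i
      have := congrFun h i
      simp only [Pi.add_apply, Pi.smul_apply, smul_eq_mul] at this
      linear_combination this - (t i) * three_zero'
    have hz2 : (2 : ZMod 3) • p + (2 : ZMod 3) • t ≠ t := by
      intro h
      apply hpt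
      ext i
      have := congrFun h i
      simp only [Pi.add_apply, Pi.smul_apply, smul_eq_mul] at this
      linear_combination (-1 : ZMod 3) * this + (p i) * three_zero'
    apply lineMap_eq hPM hz1 hz2 hpt
    refine ⟨p, t - p, sub_ne_zero.mpr (Ne.symm hpt), ?_⟩
    ext x
    simp only [Set.mem_insert_iff, Set.mem_singleton_iff, Set.mem_setOf_eq]
    constructor
    · rintro (rfl | rfl | rfl)
      · exact ⟨0, by rw [zero_smul, add_zero]⟩
      · exact ⟨1, by rw [one_smul]; abel⟩
      · refine ⟨2, ?_⟩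
        ext i
        simp only [Pi.add_apply, Pi.smul_apply, Pi.sub_apply, smul_eq_mul]
        linear_combination (p i) * three_zero'
    · rintro ⟨c, rfl⟩
      fin_cases c
      · left
        show p + (0 : ZMod 3) • (t - p) = p
        rw [zero_smul, add_zero]
      · right; left
        show p + (1 : ZMod 3) • (t - p) = t
        rw [one_smul]; abel
      · right; right
        show p + (2 : ZMod 3) • (t - p) = _
        ext i
        simp only [Pi.add_apply, Pi.smul_apply, Pi.sub_apply, smul_eq_mul]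
        linear_combination (- p i) * three_zero'

theorem ag_auto (hPM : IsPartialLinear Cfsg.affinePlaneThree) (p : Fin 2 → ZMod 3) :
    ∀ lam ∈ Cfsg.affinePlaneThree, lineMap Cfsg.affinePlaneThree p '' lam ∈ Cfsg.affinePlaneThree := by
  rintro lam ⟨v, w, hw, rfl⟩
  refine ⟨(2 : ZMod 3) • p + (2 : ZMod 3) • v, (2 : ZMod 3) • w, ?_, ?_⟩
  · intro h
    apply hw
    ext i
    have := congrFun h i
    simp only [Pi.smul_apply, smul_eq_mul, Pi.zero_apply] at this ⊢
    linear_combination (2 : ZMod 3) * this - (w i) * three_zero'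
  · ext x
    simp only [Set.mem_image, Set.mem_setOf_eq]
    constructor
    · rintro ⟨t, ⟨c, rfl⟩, rfl⟩
      refine ⟨c, ?_⟩
      rw [ag_lineMap hPM]
      ext i
      simp only [Pi.add_apply, Pi.smul_apply, smul_eq_mul]
      ring
    · rintro ⟨c, rfl⟩
      refine ⟨v + c • w, ⟨c, rfl⟩, ?_⟩
      rw [ag_lineMap hPM]
      ext i
      simp only [Pi.add_apply, Pi.smul_apply, smul_eq_mul]
      ring

open Cfsg.Agent.S5367 in
/-- the table of the maps `t(x)` on the six points -/
def tau6 : P6 → P6 → P6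
  | .a, .b => .b' | .a, .b' => .b | .a, .c => .c' | .a, .c' => .c | .a, .a => .a | .a, .d => .d
  | .b, .a => .b' | .b, .b' => .a | .b, .c' => .d | .b, .d => .c' | .b, .b => .b | .b, .c => .c
  | .b', .a => .b | .b', .b => .a | .b', .c => .d | .b', .d => .c | .b', .b' => .b' | .b', .c' => .c'
  | .c, .a => .c' | .c, .c' => .a | .c, .b' => .d | .c, .d => .b' | .c, .c => .c | .c, .b => .b
  | .c', .a => .c | .c', .c => .a | .c', .b => .d | .c', .d => .b | .c', .c' => .c' | .c', .b' => .b'
  | .d, .b => .c' | .d, .c' => .b | .d, .b' => .c | .d, .c => .b' | .d, .d => .d | .d, .a => .a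

open Cfsg.Agent.S5367 in
theorem tau6_spec (p t : P6) :
    (∃ i : Fin 4, i ∉ (e6fun p).1 ∧ i ∉ (e6fun t).1 ∧ i ∉ (e6fun (tau6 p t)).1 ∧ tau6 p t ≠ p ∧
        tau6 p t ≠ t ∧ p ≠ t ∧ ∀ q : P6, i ∉ (e6fun q).1 → q = p ∨ q = t ∨ q = tau6 p t) ∨
      ((p = t ∨ ∀ i : Fin 4, ¬ (i ∉ (e6fun p).1 ∧ i ∉ (e6fun t).1)) ∧ tau6 p t = t) := by
  cases p <;> cases t <;> decide

open Cfsg.Agent.S5367 in
theorem tau6_line (p : P6) (i : Fin 4) :
    ∃ j : Fin 4, ∀ q : P6, j ∉ (e6fun q).1 ↔ ∃ t : P6, i ∉ (e6fun t).1 ∧ tau6 p t = q := by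
  cases p <;> fin_cases i <;> decide

end Part2

section Part3

open Cfsg.LineSystem
open Cfsg.Agent.S5367 (P6 e6fun lines6 iso6 isomorphic_trans)

theorem p6_lineMap (hP : IsPartialLinear lines6) (p t : P6) : lineMap lines6 p t = tau6 p t := by
  rcases tau6_spec p t with ⟨i, h1, h2, h3, h4, h5, h6, h7⟩ | ⟨h1, h2⟩
  · apply lineMap_eq hP h4 h5 h6
    refine ⟨i, ?_⟩
    ext q
    simp only [Set.mem_insert_iff, Set.mem_singleton_iff, Set.mem_setOf_eq]
    constructor
    · rintro (rfl | rfl | rfl)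
      · exact h1
      · exact h2
      · exact h3
    · exact h7 q
  · rw [h2]
    apply lineMap_eq_self
    rintro ⟨z, -, -, hpt, ⟨i, hi⟩⟩
    have hp : p ∈ ({p, t, z} : Set P6) := by simp
    have ht : t ∈ ({p, t, z} : Set P6) := by simp
    rw [hi] at hp ht
    rcases h1 with h1 | h1
    · exact hpt h1
    · exact h1 i ⟨hp, ht⟩

theorem p6_auto (hP : IsPartialLinear lines6) (p : P6) :
    ∀ lam ∈ lines6, lineMap lines6 p '' lam ∈ lines6 := by
  rintro lam ⟨i, rfl⟩
  obtain ⟨j, hj⟩ := tau6_line p i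
  refine ⟨j, ?_⟩
  ext q
  simp only [Set.mem_image, Set.mem_setOf_eq]
  rw [hj q]
  constructor
  · rintro ⟨t, ht, rfl⟩
    exact ⟨t, ht, (p6_lineMap hP p t).symm⟩
  · rintro ⟨t, ht, rfl⟩
    exact ⟨t, ht, p6_lineMap hP p t⟩

theorem auto_transport {X Y : Type*} {L : Set (Set X)} {M : Set (Set Y)} (hPL : IsPartialLinear L)
    (e : X ≃ Y) (he : IsIso L M e) (hM : ∀ p, ∀ lam ∈ M, lineMap M p '' lam ∈ M) :
    ∀ x, ∀ l ∈ L, lineMap L x '' l ∈ L := by
  intro x l hl
  have hPM := partialLinear_iso hPL e he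
  rw [he]
  have h1 := hM (e x) _ ((he l).mp hl)
  have : e '' (lineMap L x '' l) = lineMap M (e x) '' (e '' l) := by
    rw [Set.image_image, Set.image_image]
    apply Set.image_congr
    intro u _
    exact lineMap_iso hPL hPM e he x u
  rw [this]
  exact h1

theorem image_self {X : Type*} {L : Set (Set X)} (hPL : IsPartialLinear L) {x y z : X}
    (hzx : z ≠ x) (hzy : z ≠ y) (hxy : x ≠ y) (hl : ({x, y, z} : Set X) ∈ L) :
    lineMap L x '' ({x, y, z} : Set X) = {x, y, z} := by
  have h1 : lineMap L x x = x := lineMap_self x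
  have h2 : lineMap L x y = z := lineMap_eq hPL hzx hzy hxy hl
  have h3 : lineMap L x z = y := by
    apply lineMap_eq hPL (Ne.symm hxy) (Ne.symm hzy) (Ne.symm hzx)
    rw [triple_comm]; exact hl
  rw [Set.image_insert_eq, Set.image_insert_eq, Set.image_singleton, h1, h2, h3, triple_comm]

theorem triple_rot {X : Type*} (x y z : X) : ({y, x, z} : Set X) = {x, y, z} := by
  ext w
  simp only [Set.mem_insert_iff, Set.mem_singleton_iff]
  tauto

theorem triple_rot' {X : Type*} (x y z : X) : ({z, x, y} : Set X) = {x, y, z} := by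
  ext w
  simp only [Set.mem_insert_iff, Set.mem_singleton_iff]
  tauto

end Part3

section Part4

open Cfsg.LineSystem
open Cfsg.Agent.S5367 (P6 e6fun lines6 iso6 isomorphic_trans)

variable {X : Type*} {L : Set (Set X)}

theorem plane_auto (hPL : IsPartialLinear L) (S : Set X)
    (hiso : Isomorphic (restrict L S) Cfsg.dualAffinePlaneTwo ∨
      Isomorphic (restrict L S) Cfsg.affinePlaneThree) :
    ∀ x' : S, ∀ l' ∈ restrict L S, lineMap (restrict L S) x' '' l' ∈ restrict L S := by
  have hPL' := restrict_partialLinear hPL S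
  rcases hiso with h | h
  · obtain ⟨e, he⟩ := isomorphic_trans h (isomorphic_symm iso6)
    exact auto_transport hPL' e he (p6_auto (partialLinear_iso hPL' e he))
  · obtain ⟨e, he⟩ := h
    exact auto_transport hPL' e he (ag_auto (partialLinear_iso hPL' e he))

theorem lineMap_line (hL : Cfsg.IsFischerSpace L) (x : X) : ∀ l ∈ L, lineMap L x '' l ∈ L := by
  obtain ⟨hPL, h3, hF⟩ := hL
  intro l hl
  by_cases hxl : x ∈ l
  · obtain ⟨p, q, r, hpq, hpr, hqr, rfl⟩ := Set.ncard_eq_three.mp (h3 l hl)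
    rcases hxl with rfl | rfl | rfl
    · rw [image_self hPL (Ne.symm hpr) (Ne.symm hqr) hpq hl]; exact hl
    · have hl' : ({x, p, r} : Set X) ∈ L := by rw [← triple_rot x p r]; exact hl
      rw [triple_rot x p r, image_self hPL hqr.symm hpr.symm hpq.symm hl']
      exact hl'
    · have hl' : ({x, p, q} : Set X) ∈ L := by rw [triple_rot' p q x]; exact hl
      rw [← triple_rot' p q x, image_self hPL hqr hpq.symm hpr.symm hl']
      exact hl'
  · by_cases hcol : ∃ y ∈ l, ∃ z : X, z ≠ x ∧ z ≠ y ∧ x ≠ y ∧ ({x, y, z} : Set X) ∈ L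
    · obtain ⟨y, hyl, z, hzx, hzy, hxy, hm⟩ := hcol
      set m : Set X := {x, y, z} with hm_def
      have hxm : x ∈ m := by simp [hm_def]
      have hym : y ∈ m := by simp [hm_def]
      have hlm : l ≠ m := by
        intro h; apply hxl; rw [h]; exact hxm
      have hpl := hF l hl m hm hlm ⟨y, hyl, hym⟩
      set S := span L (l ∪ m) with hS
      have hSsub : IsSubspace L S := span_subspace L _
      have hlS : l ⊆ S := fun v hv => subset_span L _ (Or.inl hv)
      have hmS : m ⊆ S := fun v hv => subset_span L _ (Or.inr hv)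
      have hxS : x ∈ S := hmS hxm
      have hauto := plane_auto hPL S hpl ⟨x, hxS⟩ {w : S | (w : X) ∈ l} ⟨l, hl, hlS, rfl⟩
      obtain ⟨l₂, hl₂, hl₂S, heq⟩ := hauto
      have : lineMap L x '' l = l₂ := by
        ext v
        constructor
        · rintro ⟨u, hul, rfl⟩
          have h1 : lineMap (restrict L S) ⟨x, hxS⟩ ⟨u, hlS hul⟩ ∈
              lineMap (restrict L S) ⟨x, hxS⟩ '' {w : S | (w : X) ∈ l} := ⟨⟨u, hlS hul⟩, hul, rfl⟩
          rw [heq] at h1
          have h2 := lineMap_restrict hPL S hSsub ⟨x, hxS⟩ ⟨u, hlS hul⟩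
          rw [← h2]
          exact h1
        · intro hv
          have h1 : (⟨v, hl₂S hv⟩ : S) ∈ {w : S | (w : X) ∈ l₂} := hv
          rw [← heq] at h1
          obtain ⟨u', hu', hu'v⟩ := h1
          refine ⟨u', hu', ?_⟩
          have h2 := lineMap_restrict hPL S hSsub ⟨x, hxS⟩ u'
          rw [hu'v] at h2
          exact h2.symm
      rw [this]
      exact hl₂
    · have : lineMap L x '' l = l := by
        have : ∀ u ∈ l, lineMap L x u = id u := by
          intro u hu
          apply lineMap_eq_self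
          rintro ⟨z, h1, h2, h3, h4⟩
          exact hcol ⟨u, hu, z, h1, h2, h3, h4⟩
        rw [Set.image_congr this, Set.image_id]
      rw [this]
      exact hl

end Part4

section Part5

open Cfsg.LineSystem

variable {X : Type*} {L : Set (Set X)}

/-- the permutation `t(x)` -/
noncomputable def tPerm (hPL : IsPartialLinear L) (x : X) : Equiv.Perm X where
  toFun := lineMap L x
  invFun := lineMap L x
  left_inv := lineMap_invol hPL x
  right_inv := lineMap_invol hPL x

theorem tPerm_coe (hPL : IsPartialLinear L) (x : X) : ⇑(tPerm hPL x) = lineMap L x := rfl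

theorem tPerm_sq (hPL : IsPartialLinear L) (x : X) : tPerm hPL x * tPerm hPL x = 1 := by
  ext y
  exact lineMap_invol hPL x y

theorem eq_tPerm (hPL : IsPartialLinear L) {σ : Equiv.Perm X} {x : X} (h : ⇑σ = lineMap L x) :
    σ = tPerm hPL x := by
  ext y
  rw [h]; rfl

theorem tPerm_iso (hL : Cfsg.IsFischerSpace L) (x : X) : IsIso L L (tPerm hL.1 x) := by
  intro l
  constructor
  · intro hl
    exact lineMap_line hL x l hl
  · intro hl
    have := lineMap_line hL x _ hl
    have h2 : lineMap L x '' (⇑(tPerm hL.1 x) '' l) = l := by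
      rw [tPerm_coe, Set.image_image]
      have : (fun y => lineMap L x (lineMap L x y)) = id := funext (lineMap_invol hL.1 x)
      rw [this, Set.image_id]
    rw [h2] at this
    exact this

theorem tPerm_order (hL : Cfsg.IsFischerSpace L) (hnd : IsNondegenerate L) (x : X) :
    orderOf (tPerm hL.1 x) = 2 := by
  have hPL := hL.1
  haveI : Fact (Nat.Prime 2) := ⟨Nat.prime_two⟩
  apply orderOf_eq_prime
  · rw [pow_two]; exact tPerm_sq hPL x
  · obtain ⟨l, hl, hxl⟩ := hnd x
    obtain ⟨p, q, r, hpq, hpr, hqr, rfl⟩ := Set.ncard_eq_three.mp (hL.2.1 l hl)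
    -- find `y z` with `{x,y,z} ∈ L`
    have key : ∃ y z : X, z ≠ x ∧ z ≠ y ∧ x ≠ y ∧ ({x, y, z} : Set X) ∈ L := by
      rcases hxl with rfl | rfl | rfl
      · exact ⟨q, r, hpr.symm, hqr.symm, hpq, hl⟩
      · exact ⟨p, r, hqr.symm, hpr.symm, hpq.symm, by rw [← triple_rot x p r]; exact hl⟩
      · exact ⟨p, q, hqr, hpq.symm, hpr.symm, by rw [triple_rot' p q x]; exact hl⟩
    obtain ⟨y, z, hzx, hzy, hxy, hl'⟩ := key
    intro h1
    have : tPerm hPL x y = y := by rw [h1]; rfl
    rw [tPerm_coe, lineMap_eq hPL hzx hzy hxy hl'] at this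
    exact hzy this

/-- conjugation formula -/
theorem tPerm_conj (hL : Cfsg.IsFischerSpace L) (x y : X) :
    tPerm hL.1 x * tPerm hL.1 y = tPerm hL.1 (lineMap L x y) * tPerm hL.1 x := by
  ext t
  show lineMap L x (lineMap L y t) = lineMap L (lineMap L x y) (lineMap L x t)
  exact lineMap_iso hL.1 hL.1 (tPerm hL.1 x) (tPerm_iso hL x) y t

theorem result {X : Type*} (L : Set (Set X)) (hL : Cfsg.IsFischerSpace L) (hnd : Cfsg.LineSystem.IsNondegenerate L) : (∀ x : X, ∃ σ : Equiv.Perm X, ⇑σ = Cfsg.LineSystem.lineMap L x ∧ orderOf σ = 2 ∧ Cfsg.LineSystem.IsIso L L σ) ∧ Cfsg.IsThreeTranspositionSet {σ : Equiv.Perm X | ∃ x : X, ⇑σ = Cfsg.LineSystem.lineMap L x} := by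
  have hPL := hL.1
  refine ⟨fun x => ⟨tPerm hPL x, rfl, tPerm_order hL hnd x, tPerm_iso hL x⟩, ?_, ?_⟩
  · rintro d ⟨x, hx⟩
    rw [eq_tPerm hPL hx]
    exact tPerm_order hL hnd x
  · rintro d ⟨x, hx⟩ e ⟨y, hy⟩
    rw [eq_tPerm hPL hx, eq_tPerm hPL hy]
    set σ := tPerm hPL x with hσ
    set ρ := tPerm hPL y with hρ
    have hσ2 : σ * σ = 1 := tPerm_sq hPL x
    have hρ2 : ρ * ρ = 1 := tPerm_sq hPL y
    by_cases h : ∃ z : X, z ≠ x ∧ z ≠ y ∧ x ≠ y ∧ ({x, y, z} : Set X) ∈ L
    · right
      obtain ⟨z, hzx, hzy, hxy, hl⟩ := h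
      have h1 : lineMap L x y = z := lineMap_eq hPL hzx hzy hxy hl
      have h2 : lineMap L y x = z := by
        apply lineMap_eq hPL hzy hzx (Ne.symm hxy)
        rw [triple_rot]; exact hl
      have c1 : σ * ρ = tPerm hPL z * σ := by
        have := tPerm_conj hL x y
        rw [h1] at this
        exact this
      have c2 : ρ * σ = tPerm hPL z * ρ := by
        have := tPerm_conj hL y x
        rw [h2] at this
        exact this
      have e1 : σ * ρ * σ = tPerm hPL z := by
        rw [c1, mul_assoc, hσ2, mul_one]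
      have e2 : ρ * σ * ρ = tPerm hPL z := by
        rw [c2, mul_assoc, hρ2, mul_one]
      calc (σ * ρ) ^ 3 = (σ * ρ * σ) * (ρ * σ * ρ) := by rw [pow_succ, pow_two]; group
        _ = (ρ * σ * ρ) * (ρ * σ * ρ) := by rw [e1, e2]
        _ = ρ * σ * (ρ * ρ) * σ * ρ := by group
        _ = ρ * (σ * σ) * ρ := by rw [hρ2]; group
        _ = 1 := by rw [hσ2, mul_one, hρ2]
    · left
      have h1 : lineMap L x y = y := lineMap_eq_self h
      have c1 : σ * ρ = ρ * σ := by
        have := tPerm_conj hL x y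
        rw [h1] at this
        exact this
      calc (σ * ρ) ^ 2 = σ * (ρ * σ) * ρ := by rw [pow_two]; group
        _ = σ * (σ * ρ) * ρ := by rw [c1]
        _ = (σ * σ) * (ρ * ρ) := by group
        _ = 1 := by rw [hσ2, hρ2, mul_one]

end Part5

end Cfsg.Agent.S5366
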