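import Cfsg.Statements.S5394
import Cfsg.Agent.Lib.Helper6.GolayNF3

set_option autoImplicit false
open Cfsg

namespace Cfsg.Agent.S5394

/-- The automorphism group of the length-24 code built from the squares modulo 23 has exactly two conjugacy classes of involutions: an involution either fixes exactly the eight points of an octad or has no fixed points, both kinds occur, and any two involutions of the same kind are conjugate in the group. -/
theorem result : (∀ g ∈ Cfsg.M24, orderOf g = 2 → (Finset.univ.filter fun p => g p = p) ∈ Cfsg.octads ∨ ∀ p, g p ≠ p) ∧ (∃ g ∈ Cfsg.M24, orderOf g = 2 ∧ (Finset.univ.filter fun p => g p = p) ∈ Cfsg.octads) ∧ (∃ g ∈ Cfsg.M24, orderOf g = 2 ∧ ∀ p, g p ≠ p) ∧ ∀ g ∈ Cfsg.M24, ∀ h ∈ Cfsg.M24, orderOf g = 2 → orderOf h = 2 → ((∀ p, g p ≠ p) ↔ (∀ p, h p ≠ p)) → ∃ k ∈ Cfsg.M24, k * g * k⁻¹ = h := by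
  open Cfsg.Agent.Lib.Helper6.Golay Cfsg.Agent.Lib.Helper6.PermChain in
  refine ⟨?_, ?_, ?_, ?_⟩
  · intro g hg h2
    by_cases h : ∀ p, g p ≠ p
    · exact Or.inr h
    · push Not at h
      obtain ⟨p, hp⟩ := h
      exact Or.inl (invol_fix_octad hg h2 hp)
  · obtain ⟨wr, u, hu, huf⟩ := rep_refs r2A (by simp)
    have hsq : u * u = 1 := mul_self_of_lfun wr huf (by decide +kernel)
    have hne : u ≠ 1 := ne_one_of_lfun huf 0 (by norm_num) (by decide) (by decide)
    have h2 : orderOf u = 2 := orderOf_eq_prime (by rw [sq]; exact hsq) hne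
    refine ⟨u, hu, h2, ?_⟩
    have hp : u (pt 5) = pt 5 := by rw [huf]; decide
    exact invol_fix_octad hu h2 hp
  · obtain ⟨wr, u, hu, huf⟩ := rep_refs r2B (by simp)
    have hsq : u * u = 1 := mul_self_of_lfun wr huf (by decide +kernel)
    have hne : u ≠ 1 := ne_one_of_lfun huf 0 (by norm_num) (by decide) (by decide)
    have h2 : orderOf u = 2 := orderOf_eq_prime (by rw [sq]; exact hsq) hne
    refine ⟨u, hu, h2, ?_⟩
    intro p
    rw [huf]
    exact fpf_r2B p
  · intro g hg h hh hg2 hh2 hiff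
    obtain ⟨gsq, gne⟩ := sq_of_orderOf_two hg2
    obtain ⟨hsq, hne⟩ := sq_of_orderOf_two hh2
    by_cases hfp : ∀ p, g p ≠ p
    · exact (invol_fpf_conj hg gsq hfp).exists_conj (invol_fpf_conj hh hsq (hiff.mp hfp))
    · have hfp' : ¬ ∀ p, h p ≠ p := fun hx => hfp (hiff.mpr hx)
      push Not at hfp hfp'
      obtain ⟨p, hp⟩ := hfp
      obtain ⟨p', hp'⟩ := hfp'
      exact (invol_fix_conj hg gsq gne hp).exists_conj (invol_fix_conj hh hsq hne hp')

end Cfsg.Agent.S5394
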