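import Cfsg.Statements.S5396
import Cfsg.Agent.Lib.Lead.Extraspecial2Model

set_option autoImplicit false
open Cfsg
open scoped commutatorElement

namespace Cfsg.Agent.S5396

open Cfsg.Agent.Lead.ES2

theorem nonab {E : Type} [Group E] [Finite E] {z : E} (hes : ES z) (n : ℕ) (hn : 1 ≤ n)
    (hc : Nat.card E = 2 ^ (2 * n + 1)) : ¬ ∀ x y : E, ⁅x, y⁆ = 1 := by
  intro hab
  have h2 := (abelian_case hes hab).2.1
  rw [hc] at h2
  have : 2 ^ 3 ≤ 2 ^ (2 * n + 1) := Nat.pow_le_pow_right (by norm_num) (by omega)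
  omega

theorem result (n : ℕ) (hn : 1 ≤ n) : ∀ r ∈ ({n, n + 1} : Set ℕ), ∃ (E : Type) (_ : Group E) (_ : Finite E), Cfsg.IsExtraspecial 2 E ∧ Nat.card E = 2 ^ (2 * n + 1) ∧ sSup {k : ℕ | ∃ A : Subgroup E, Cfsg.IsElementaryAbelian 2 A ∧ Nat.card A = 2 ^ k} = r := by
  intro r hr
  rcases hr with rfl | rfl
  · -- minus type
    obtain ⟨m, rfl⟩ : ∃ m, r = m + 1 := ⟨r - 1, by omega⟩
    obtain ⟨E, i1, i2, z, hes, hc, hN⟩ := exists_minus m
    have hE := extraspecial_of_ES hes (nonab hes (m + 1) hn hc)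
    obtain ⟨hle, -, A, hA, hAc⟩ := rank_minus hE (m + 1) hn hc hN
    refine ⟨E, i1, i2, hE, hc, ?_⟩
    apply IsGreatest.csSup_eq
    refine ⟨⟨A, hA, hAc⟩, ?_⟩
    rintro k ⟨B, hB, hBc⟩
    have := hle B hB.1 hB.2
    rw [hBc] at this
    exact (Nat.pow_le_pow_iff_right (by norm_num)).mp this
  · -- plus type
    obtain ⟨E, i1, i2, z, hes, hc, hN⟩ := exists_plus n
    have hE := extraspecial_of_ES hes (nonab hes n hn hc)
    obtain ⟨hle, -, A, hA, hAc⟩ := rank_plus hE n hc hN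
    refine ⟨E, i1, i2, hE, hc, ?_⟩
    apply IsGreatest.csSup_eq
    refine ⟨⟨A, hA, hAc⟩, ?_⟩
    rintro k ⟨B, hB, hBc⟩
    have := hle B hB.1 hB.2
    rw [hBc] at this
    exact (Nat.pow_le_pow_iff_right (by norm_num)).mp this

end Cfsg.Agent.S5396
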