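import Cfsg.Statements.S5420
import Cfsg.Agent.H9.Cores

set_option autoImplicit false
open Cfsg

namespace Cfsg.Agent.S5420

theorem result {G : Type*} [Group G] [Finite G] (Q : Subgroup G) (hL1 : Cfsg.IsExtraspecial 2 ↥Q) (hL2 : Subgroup.centralizer (Q : Set G) = ((Subgroup.center ↥Q).map Q.subtype)) (hL3 : Subgroup.centralizer (((Subgroup.center ↥Q).map Q.subtype) : Set G) ≤ Subgroup.normalizer (Q : Set G)) (hZ : ((Subgroup.center ↥Q).map Q.subtype) ≤ Cfsg.pCore 2 G) : Cfsg.IsLargeExtraspecial Q := by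
  refine ⟨hL1, hL2, hL3, ?_⟩
  intro K hK hQK
  have hQ2 : IsPGroup 2 Q := hL1.1.1
  have hcore2 : IsPGroup 2 (Cfsg.pCore 2 G) := Cfsg.Agent.H9.pCore_isPGroup 2 G
  have hcoren : (Cfsg.pCore 2 G).Normal := Cfsg.Agent.H9.pCore_normal 2 G
  have hZQ : (Subgroup.center ↥Q).map Q.subtype ≤ Q := Subgroup.map_subtype_le _
  -- Step 1: K centralizes Z
  have h1 : K ≤ Subgroup.centralizer (((Subgroup.center ↥Q).map Q.subtype : Subgroup G) : Set G) := by
    intro k hk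
    rw [Subgroup.mem_centralizer_iff]
    intro z hz
    have hzN : z ∈ Subgroup.normalizer (K : Set G) := hQK (hZQ hz)
    have hc1 : z * k * z⁻¹ * k⁻¹ ∈ K :=
      K.mul_mem ((Subgroup.mem_normalizer_iff.mp hzN k).mp hk) (K.inv_mem hk)
    have hc2 : z * k * z⁻¹ * k⁻¹ ∈ Cfsg.pCore 2 G := by
      have hz' : z ∈ Cfsg.pCore 2 G := hZ hz
      have : k * z⁻¹ * k⁻¹ ∈ Cfsg.pCore 2 G := hcoren.conj_mem _ ((Cfsg.pCore 2 G).inv_mem hz') k
      have := (Cfsg.pCore 2 G).mul_mem hz' this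
      have e : z * (k * z⁻¹ * k⁻¹) = z * k * z⁻¹ * k⁻¹ := by group
      rwa [e] at this
    have := Cfsg.Agent.H9.eq_one_of_mem_odd_of_mem_two hK hcore2 hc1 hc2
    calc z * k = (z * k * z⁻¹ * k⁻¹) * (k * z) := by group
      _ = k * z := by rw [this, one_mul]
  -- Step 2: K normalizes Q
  have h2 : K ≤ Subgroup.normalizer (Q : Set G) := h1.trans hL3
  -- Step 3: K centralizes Q
  have h3 : K ≤ Subgroup.centralizer (Q : Set G) := by
    intro k hk
    rw [Subgroup.mem_centralizer_iff]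
    intro q hq
    have hqN : q ∈ Subgroup.normalizer (K : Set G) := hQK hq
    have hkN : k ∈ Subgroup.normalizer (Q : Set G) := h2 hk
    have hc1 : k * q * k⁻¹ * q⁻¹ ∈ Q :=
      Q.mul_mem ((Subgroup.mem_normalizer_iff.mp hkN q).mp hq) (Q.inv_mem hq)
    have hc2 : k * q * k⁻¹ * q⁻¹ ∈ K := by
      have : q * k⁻¹ * q⁻¹ ∈ K := (Subgroup.mem_normalizer_iff.mp hqN k⁻¹).mp (K.inv_mem hk)
      have := K.mul_mem hk this
      have e : k * (q * k⁻¹ * q⁻¹) = k * q * k⁻¹ * q⁻¹ := by group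
      rwa [e] at this
    have := Cfsg.Agent.H9.eq_one_of_mem_odd_of_mem_two hK hQ2 hc2 hc1
    calc q * k = (k * q * k⁻¹ * q⁻¹)⁻¹ * (k * q) := by group
      _ = k * q := by rw [this, inv_one, one_mul]
  -- Step 4
  rw [eq_bot_iff]
  intro k hk
  rw [Subgroup.mem_bot]
  have hkQ : k ∈ Q := hZQ (hL2 ▸ h3 hk)
  exact Cfsg.Agent.H9.eq_one_of_mem_odd_of_mem_two hK hQ2 hk hkQ

end Cfsg.Agent.S5420
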