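import Mathlib
import Cfsg.Statements.S5424
import Cfsg.Agent.Lib.Helper8.TvCentG

set_option autoImplicit false
open Cfsg

namespace Cfsg.Agent.S5424

open scoped MatrixGroups

/-- over the field with two elements the general linear group is the special linear group -/
noncomputable def glEquivSL (n : ℕ) :
    GL (Fin n) (ZMod 2) ≃* Matrix.SpecialLinearGroup (Fin n) (ZMod 2) :=
  (MulEquiv.ofBijective (Matrix.SpecialLinearGroup.toGL (n := Fin n) (R := ZMod 2)) (by
    constructor
    · intro A B h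
      apply Subtype.ext
      have := congrArg (fun u : GL (Fin n) (ZMod 2) => (u : Matrix (Fin n) (Fin n) (ZMod 2))) h
      simpa using this
    · intro A
      have hdet : (A : Matrix (Fin n) (Fin n) (ZMod 2)).det = 1 := by
        apply Cfsg.Agent.Lib.Helper8.TvCent.det_eq_one_of_mul _
          ((A⁻¹ : GL (Fin n) (ZMod 2)) : Matrix (Fin n) (Fin n) (ZMod 2))
        rw [← Units.val_mul, mul_inv_cancel, Units.val_one]
      refine ⟨⟨(A : Matrix (Fin n) (Fin n) (ZMod 2)), hdet⟩, ?_⟩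
      apply Units.ext
      rfl)).symm

/-- Let G be the special linear group of degree n + 2 over the field with two elements, n ≥ 2, let z be a transvection, and let Q be the largest normal 2-subgroup of the centralizer C of z. Then Q is extraspecial of order 2^(2n+1) with an elementary abelian subgroup of order 2^(n+1) (plus type), Q is a large extraspecial 2-subgroup of G, and C is the split extension of Q by the special linear group of degree n over the field with two elements. -/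
theorem result (n : ℕ) (hn : 2 ≤ n) (z : Matrix.SpecialLinearGroup (Fin (n + 2)) (ZMod 2)) (hz : (z : Matrix (Fin (n + 2)) (Fin (n + 2)) (ZMod 2)) = Matrix.transvection 0 1 1) (Q : Subgroup (Matrix.SpecialLinearGroup (Fin (n + 2)) (ZMod 2))) (hQ : Q = (Cfsg.pCore 2 ↥(Subgroup.centralizer ({z} : Set (Matrix.SpecialLinearGroup (Fin (n + 2)) (ZMod 2))))).map (Subgroup.centralizer ({z} : Set (Matrix.SpecialLinearGroup (Fin (n + 2)) (ZMod 2)))).subtype) : Cfsg.IsExtraspecial 2 ↥Q ∧ Nat.card ↥Q = 2 ^ (2 * n + 1) ∧ (∃ E : Subgroup (Matrix.SpecialLinearGroup (Fin (n + 2)) (ZMod 2)), E ≤ Q ∧ Cfsg.IsElementaryAbelian 2 E ∧ Nat.card ↥E = 2 ^ (n + 1)) ∧ Cfsg.IsLargeExtraspecial Q ∧ ∃ K : Subgroup (Matrix.SpecialLinearGroup (Fin (n + 2)) (ZMod 2)), K ≤ Subgroup.centralizer ({z} : Set (Matrix.SpecialLinearGroup (Fin (n + 2)) (ZMod 2))) ∧ Q ⊓ K = ⊥ ∧ Q ⊔ K = Subgroup.centralizer ({z} : Set (Matrix.SpecialLinearGroup (Fin (n + 2)) (ZMod 2))) ∧ Nonempty (↥K ≃* Matrix.SpecialLinearGroup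 (Fin n) (ZMod 2)) := by
  have hzz : z = Cfsg.Agent.Lib.Helper8.TvCent.zS n :=
    Subtype.ext (hz.trans Cfsg.Agent.Lib.Helper8.TvCent.coe_zS.symm)
  subst hzz
  have P := Cfsg.Agent.Lib.Helper8.TvCent.pack_S (n := n) (by omega)
  have hcore := P.core_eq (fun N hN hp => Cfsg.Agent.Lib.Helper8.TvCent.O2_GL N hN hp)
  rw [hcore] at hQ
  subst hQ
  obtain ⟨h1, h2, h3, h4, K, hK1, hK2, hK3, ⟨e⟩⟩ := P.concl
  exact ⟨h1, h2, h3, h4, K, hK1, hK2, hK3, ⟨e.trans (glEquivSL n)⟩⟩

end Cfsg.Agent.S5424
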