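import Cfsg.Statements.S5425
import Cfsg.Agent.S5424
import Cfsg.Agent.H9.M24OctadMain

set_option autoImplicit false
open Cfsg

namespace Cfsg.Agent.S5425

open Cfsg.Agent.H9.M24Cent Cfsg.Agent.H9.CentStruct

theorem cs_sl5 : CS ↥(Subgroup.centralizer ({sT} : Set (Matrix.SpecialLinearGroup (Fin 5) (ZMod 2)))) 3
    (Matrix.SpecialLinearGroup (Fin 3) (ZMod 2)) := by
  obtain ⟨h1, h2, h3, h4, h5⟩ := Cfsg.Agent.S5424.result 3 (by norm_num) sT sT_val _ rfl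
  exact CS.of_subgroup _ _ rfl h1 h2 h3 h4.2.1 h5

theorem result (z : ↥Cfsg.M24) (hz : orderOf z = 2) (hfix : (Finset.univ.filter fun p : Cfsg.GolayPt => (z : Equiv.Perm Cfsg.GolayPt) p = p) ∈ Cfsg.octads) (Q : Subgroup ↥Cfsg.M24) (hQ : Q = (Cfsg.pCore 2 ↥(Subgroup.centralizer ({z} : Set ↥Cfsg.M24))).map (Subgroup.centralizer ({z} : Set ↥Cfsg.M24)).subtype) : Cfsg.IsExtraspecial 2 ↥Q ∧ Nat.card ↥Q = 2 ^ 7 ∧ (∃ E : Subgroup ↥Cfsg.M24, E ≤ Q ∧ Cfsg.IsElementaryAbelian 2 E ∧ Nat.card ↥E = 2 ^ 4) ∧ Cfsg.IsLargeExtraspecial Q ∧ ∃ K : Subgroup ↥Cfsg.M24, K ≤ Subgroup.centralizer ({z} : Set ↥Cfsg.M24) ∧ Q ⊓ K = ⊥ ∧ Q ⊔ K = Subgroup.centralizer ({z} : Set ↥Cfsg.M24) ∧ Nonempty (↥K ≃* Matrix.SpecialLinearGroup (Fin 3) (ZMod 2)) :=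
  main_of_cs cs_sl5 z hz hfix Q hQ

end Cfsg.Agent.S5425
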