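import Cfsg.Statements.S5426
import Cfsg.Agent.H2.LESBasic
import Cfsg.Agent.H2.LESComp
import Cfsg.Agent.H2.LESTwoDecomp
import Cfsg.Agent.H1.LESCaseTwo
import Cfsg.Agent.Lib.helper3.LESR4b
import Cfsg.Agent.Lib.Helper6.LESR4c
import Cfsg.Agent.H9.LESR4d
import Cfsg.Agent.H9.LESR4e
import Cfsg.Agent.Lib.Helper4.LESTwo
import Cfsg.Agent.Lib.Helper4.LESNe
import Cfsg.Agent.Lib.Helper7.LESFrat

set_option autoImplicit false
open Cfsg

namespace Cfsg.Agent.S5426
open Cfsg.Agent.H2.LES

/-- Let Q be a large extraspecial 2-subgroup of the finite group G (extraspecial; centralizer equal to its centre; normal in the centralizer of its centre; normalizing no non-trivial subgroup of odd order) with centre generated by z, and let M be the normal closure of z in G. Then one of the following holds: Q is normal in G; or M is abelian and the generalized Fitting subgroup of G is its largest normal 2-subgroup; or M is the generalized Fitting subgroup of G and is a non-abelian simple group; or M is the generalized Fitting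 subgroup of G and is the direct product of a non-abelian simple subgroup L and its conjugate u L u⁻¹ by some u in Q (the two meet trivially and commute elementwise), with z = z₁ (u z₁ u⁻¹) for some z₁ in L whose centralizer in L is a Sylow 2-subgroup of L with Frattini subgroup inside the subgroup generated by z₁, and Q is not the largest normal 2-subgroup of the centralizer of z. -/
theorem result {G : Type*} [Group G] [Finite G] (Q : Subgroup G) (hQ : Cfsg.IsLargeExtraspecial Q) (z : G) (hz : ((Subgroup.center ↥Q).map Q.subtype) = Subgroup.zpowers z) (M : Subgroup G) (hM : M = Subgroup.normalClosure ({z} : Set G)) : Q.Normal ∨ (IsMulCommutative ↥M ∧ Cfsg.generalizedFittingSubgroup G = Cfsg.pCore 2 G) ∨ (M = Cfsg.generalizedFittingSubgroup G ∧ IsSimpleGroup ↥M ∧ ¬ IsMulCommutative ↥M) ∨ (M = Cfsg.generalizedFittingSubgroup G ∧ ∃ (L : Subgroup G) (u : G), u ∈ Q ∧ IsSimpleGroup ↥L ∧ ¬ IsMulCommutative ↥L ∧ L ⊓ (L).map (MulAut.conj u).toMonoidHom = ⊥ ∧ (∀ x ∈ L, ∀ y ∈ (L).map (MulAut.conj u).toMonoidHom,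 x * y = y * x) ∧ L ⊔ (L).map (MulAut.conj u).toMonoidHom = M ∧ ∃ z₁ ∈ L, z = z₁ * (u * z₁ * u⁻¹) ∧ (∃ R : Sylow 2 ↥L, (R : Subgroup ↥L) = (Subgroup.centralizer ({z₁} : Set G)).subgroupOf L ∧ (frattini ↥(R : Subgroup ↥L)).map ((L.subtype).comp (R : Subgroup ↥L).subtype) ≤ Subgroup.zpowers z₁) ∧ Q ≠ (Cfsg.pCore 2 ↥(Subgroup.centralizer ({z} : Set G))).map (Subgroup.centralizer ({z} : Set G)).subtype) := by
  classical
  have c : Ctx Q z := ctx_of_hyps hQ hz
  by_cases h2 : Cfsg.pCore 2 G = ⊥
  swap
  · right; left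
    rw [hM]
    exact c.case_two_core h2
  have hFs : M = Cfsg.generalizedFittingSubgroup G := by rw [hM]; exact c.normalClosure_eq h2
  obtain ⟨K, hK⟩ := c.exists_component h2
  obtain ⟨hs, hna, hcen, heven⟩ := c.component_facts h2 K hK
  by_cases hK' : ∃ K' : Subgroup G, Cfsg.IsComponent K' ∧ K' ≠ K
  · obtain ⟨K', hK'c, hne⟩ := hK'
    obtain ⟨u, hu, rfl⟩ := c.transitive h2 K K' hK hK'c
    have hall : ∀ K'' : Subgroup G, Cfsg.IsComponent K'' →
        K'' = K ∨ K'' = K.map (MulAut.conj u).toMonoidHom := by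
      intro K'' hK''
      by_contra hcon
      push Not at hcon
      exact c.at_most_two h2 K _ K'' hK hK'c hK'' hne.symm (Ne.symm hcon.1) (Ne.symm hcon.2)
    obtain ⟨hsup, z₁, t⟩ := c.two_decomp h2 K hK u hu hne hall
    right; right; right
    refine ⟨hFs, K, u, hu, hs, hna, ?_, ?_, ?_, z₁, t.z₁K, t.hz, t.sylow_frattini c hK.1, ?_⟩
    · rw [eq_bot_iff]
      rintro x ⟨hx1, y, hy, hxy⟩
      have hxy' : x = u * y * u⁻¹ := by rw [← hxy]; simp [MulAut.conj_apply]
      rw [Subgroup.mem_bot]
      exact t.disj x hx1 y hy hxy'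
    · rintro x hx _ ⟨y, hy, rfl⟩
      have := t.comm x hx y hy
      simpa [MulAut.conj_apply] using this
    · rw [hsup, hFs]
    · apply t.ne_pCore c hK.1 hs hna heven
      rw [hsup, ← hFs, hM]
      exact Subgroup.normalClosure_normal
  · right; right; left
    push Not at hK'
    have hFK : Cfsg.generalizedFittingSubgroup G = K := c.one_component h2 K hK hK'
    have hMK : M = K := hFs.trans hFK
    refine ⟨hFs, ?_, ?_⟩
    · rw [hMK]; exact hs
    · rw [hMK]; exact hna

end Cfsg.Agent.S5426
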