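import Cfsg.Statements.S5428
import Cfsg.Agent.H1.LESAFix
import Cfsg.Agent.Lib.Helper7.LESAP03
import Cfsg.Agent.H9.LESAP2
import Cfsg.Agent.Lib.Helper8.LESAP4
import Cfsg.Agent.Lib.helper3.LESAP5

/-!
# S5428 (helper1; pieces by helper3, helper7, helper8, helper9): see `notes/S5428_helper1.md`
-/

set_option autoImplicit false
set_option linter.unusedVariables false

namespace Cfsg.Agent.S5428

open Cfsg.Agent.Lead.ES2 Cfsg.Agent.Lead.LargeES Cfsg.Agent.H1.LESA

theorem result {G : Type*} [Group G] [Finite G] (z : G) (hz : orderOf z = 2) (Q : Subgroup G) (hQC : Q ≤ Subgroup.centralizer ({z} : Set G)) (hF : (Cfsg.generalizedFittingSubgroup ↥(Subgroup.centralizer ({z} : Set G))).map (Subgroup.centralizer ({z} : Set G)).subtype = Q) (hQ : Cfsg.IsExtraspecial 2 ↥Q) (A : Subgroup G) (hA : A ≤ Subgroup.centralizer ({z} : Set G)) (hAodd : Odd (Nat.card ↥A)) (R : Subgroup G) (hR : R = Q ⊓ Subgroup.centralizer (A : Set G)) (hR32 : 32 ≤ Nat.card ↥R) (hO :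 (Cfsg.oddCore ↥(Subgroup.centralizer ((A ⊔ R : Subgroup G) : Set G))).map (Subgroup.centralizer ((A ⊔ R : Subgroup G) : Set G)).subtype ≤ A) (h4 : ¬ 4 ∣ Nat.card ↥(Subgroup.centralizer ((A ⊔ R : Subgroup G) : Set G))) (g : G) (hgR : g * z * g⁻¹ ∈ R) (hgZ : g * z * g⁻¹ ∉ ((Subgroup.center ↥Q).map Q.subtype)) (M : Subgroup G) (hM : M = Subgroup.centralizer (A : Set G) ⊔ A) [hn : (A.subgroupOf M).Normal] : (M ⊓ Subgroup.centralizer ((R ⊔ A : Subgroup G) : Set G)) ⊔ A = A ⊔ ((Subgroup.center ↥Q).map Q.subtype) ∧ Cfsg.IsLargeExtraspecial ((R.subgroupOf M).map (QuotientGroup.mk' (A.subgroupOf M))) ∧ ∃ x ∈ R ⊔ ((Q).map (MulAut.conj g).toMonoidHom ⊓ Subgroup.centralizer (A : Set G)), x * (g * z * g⁻¹) * x⁻¹ = z := by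
  classical
  obtain ⟨z₀, hz₀, hes, hL⟩ := les_of_fstar z hz Q hQC hF hQ
  -- basic facts
  have hAz : ∀ a ∈ A, a * z = z * a := fun a ha =>
    Subgroup.mem_centralizer_singleton_iff.1 (hA ha)
  have hZmem : ∀ c : G, c ∈ (Subgroup.center ↥Q).map Q.subtype ↔ c = 1 ∨ c = z := by
    intro c
    constructor
    · rintro ⟨c', hc', rfl⟩
      rcases hes.cent c' (fun x => Subgroup.mem_center_iff.mp hc' x) with h | h
      · left; rw [h]; rfl
      · right; rw [h]; exact hz₀
    · rintro (rfl | rfl)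
      · exact Subgroup.one_mem _
      · refine ⟨z₀, Subgroup.mem_center_iff.mpr (fun x => hes.ctx.cen x), hz₀⟩
  have hRQ : R ≤ Q := by rw [hR]; exact inf_le_left
  have hRCA : R ≤ Subgroup.centralizer (A : Set G) := by rw [hR]; exact inf_le_right
  have hCAM : Subgroup.centralizer (A : Set G) ≤ M := by rw [hM]; exact le_sup_left
  have hAM : A ≤ M := by rw [hM]; exact le_sup_right
  have hRM : R ≤ M := hRCA.trans hCAM
  have hRA : ∀ r ∈ R, ∀ a ∈ A, r * a = a * r := fun r hr a ha =>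
    ((Subgroup.mem_centralizer_iff.1 (hRCA hr)) a ha).symm
  have htQ : g * z * g⁻¹ ∈ Q := hRQ hgR
  have htA : ∀ a ∈ A, a * (g * z * g⁻¹) = (g * z * g⁻¹) * a := fun a ha =>
    (Subgroup.mem_centralizer_iff.1 (hRCA hgR)) a ha
  have htz : g * z * g⁻¹ ≠ z := fun h => hgZ ((hZmem _).2 (Or.inr h))
  have hcardQ : 32 ≤ Nat.card ↥Q := le_trans hR32 (Subgroup.card_le_of_le hRQ)
  have hzR : z ∈ R := by
    rw [hR]
    refine ⟨hL.zQ, ?_⟩
    show z ∈ Subgroup.centralizer (A : Set G)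
    rw [Subgroup.mem_centralizer_iff]
    intro a ha
    exact hAz a ha
  -- conclusion (3)
  obtain ⟨x, hx, hxt⟩ := exists_conj z₀ hz₀ hes hL hcardQ A hAodd hAz g htQ htA htz
  have hx' : x ∈ R ⊔ (Q.map (MulAut.conj g).toMonoidHom ⊓ Subgroup.centralizer (A : Set G)) := by
    rw [hR]; exact hx
  have hxCA : x ∈ Subgroup.centralizer (A : Set G) := by
    have : R ⊔ (Q.map (MulAut.conj g).toMonoidHom ⊓ Subgroup.centralizer (A : Set G)) ≤
        Subgroup.centralizer (A : Set G) := sup_le hRCA inf_le_right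
    exact this hx'
  -- the centralizer `D`
  have hzD : z ∈ Subgroup.centralizer ((A ⊔ R : Subgroup G) : Set G) := by
    rw [Subgroup.mem_centralizer_iff]
    intro h hh
    have hle : A ⊔ R ≤ Subgroup.centralizer ({z} : Set G) := sup_le hA (hRQ.trans hQC)
    exact Subgroup.mem_centralizer_singleton_iff.1 (hle hh)
  have hD := cent_mem z hz A _ hzD hO h4
  refine ⟨?_, ?_, x, hx', hxt⟩
  · -- conclusion (1)
    rw [sup_comm R A]
    apply le_antisymm
    · apply sup_le _ le_sup_left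
      rintro d ⟨-, hd⟩
      obtain ⟨a, ha, h | h⟩ := hD d hd
      · rw [h]; exact Subgroup.mem_sup_left ha
      · rw [h]
        exact Subgroup.mul_mem _ (Subgroup.mem_sup_left ha)
          (Subgroup.mem_sup_right ((hZmem z).2 (Or.inr rfl)))
    · apply sup_le le_sup_right
      intro c hc
      apply Subgroup.mem_sup_left
      rcases (hZmem c).1 hc with rfl | rfl
      · exact Subgroup.one_mem _
      · exact ⟨hRM hzR, hzD⟩
  · -- conclusion (2)
    have hR4 : ∀ r ∈ R, r ^ 4 = 1 := by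
      intro r hr
      have h : r ^ 4 = (r * r) * (r * r) := by
        rw [show (4 : ℕ) = 2 + 2 from rfl, pow_add, pow_two]
      rw [h]
      rcases hL.sq r (hRQ hr) with h | h <;> rw [h]
      · simp
      · exact hL.zz
    have hAodd' : Odd (Nat.card ↥(A.subgroupOf M)) := by
      rw [Nat.card_congr (Subgroup.subgroupOfEquivOfLe hAM).toEquiv]; exact hAodd
    have hcard' : 32 ≤ Nat.card ↥(R.subgroupOf M) := by
      rw [Nat.card_congr (Subgroup.subgroupOfEquivOfLe hRM).toEquiv]; exact hR32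
    have hxM : x⁻¹ ∈ M := M.inv_mem (hCAM hxCA)
    have hmemM : ∀ m : ↥M, (m : G) ∈ Subgroup.centralizer (A : Set G) ⊔ A := by
      intro m; rw [← hM]; exact m.2
    refine large_of_quotient (A.subgroupOf M) hAodd' (R.subgroupOf M) ⟨z, hRM hzR⟩
      (Subgroup.mem_subgroupOf.2 hzR) (fun h => hL.z1 (congrArg Subtype.val h))
      (Subtype.ext hL.zz) ?_ ?_ ?_ ?_ hcard' ?_ ?_ ⟨x⁻¹, hxM⟩ ?_ ?_
    · intro a ha
      exact Subtype.ext (hL.zc a (hRQ (Subgroup.mem_subgroupOf.1 ha)))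
    · intro a ha b hb
      rcases hL.comm a (hRQ (Subgroup.mem_subgroupOf.1 ha)) b (hRQ (Subgroup.mem_subgroupOf.1 hb))
        with h | h
      · left; exact Subtype.ext h
      · right; exact Subtype.ext h
    · intro a ha
      rcases hL.sq a (hRQ (Subgroup.mem_subgroupOf.1 ha)) with h | h
      · left; exact Subtype.ext h
      · right; exact Subtype.ext h
    · intro y hy hcom
      have hyR : (y : G) ∈ R := Subgroup.mem_subgroupOf.1 hy
      have := fixed_center hL A hAodd hAz (y : G) (hRQ hyR)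
        (fun a ha => ((hRA _ hyR) a ha).symm) ?_
      · rcases this with h | h
        · left; exact Subtype.ext h
        · right; exact Subtype.ext h
      · intro r hrQ hrA
        have hrR : r ∈ R := by
          rw [hR]
          refine ⟨hrQ, ?_⟩
          show r ∈ Subgroup.centralizer (A : Set G)
          rw [Subgroup.mem_centralizer_iff]
          intro a ha
          exact hrA a ha
        have := hcom ⟨r, hRM hrR⟩ (Subgroup.mem_subgroupOf.2 hrR)
        exact congrArg Subtype.val this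
    · intro m hm
      have := h2G z A R hAodd hAz hRA hR4 hD (m : G) (hmemM m) ?_
      · obtain ⟨a, ha, h | h⟩ := this
        · exact ⟨⟨a, hAM ha⟩, Subgroup.mem_subgroupOf.2 ha, Or.inl (Subtype.ext h)⟩
        · exact ⟨⟨a, hAM ha⟩, Subgroup.mem_subgroupOf.2 ha, Or.inr (Subtype.ext h)⟩
      · intro r hr
        have := hm ⟨r, hRM hr⟩ (Subgroup.mem_subgroupOf.2 hr)
        exact Subgroup.mem_subgroupOf.1 this
    · intro m hm r hr
      have hrR : (r : G) ∈ R := Subgroup.mem_subgroupOf.1 hr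
      have hrR' : (r : G) ∈ Q ⊓ Subgroup.centralizer (A : Set G) := by rw [← hR]; exact hrR
      obtain ⟨a, ha, r', hr', h⟩ := h3G hL A hAodd hAz (m : G) (hmemM m)
        (Subgroup.mem_subgroupOf.1 hm) (r : G) hrR'
      have hr'R : r' ∈ R := by rw [hR]; exact hr'
      exact ⟨⟨a, hAM ha⟩, Subgroup.mem_subgroupOf.2 ha, ⟨r', hRM hr'R⟩,
        Subgroup.mem_subgroupOf.2 hr'R, Subtype.ext h⟩
    · rw [Subgroup.mem_subgroupOf]
      show x⁻¹ * z * x⁻¹⁻¹ ∈ R
      have e : x⁻¹ * z * x⁻¹⁻¹ = g * z * g⁻¹ := by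
        calc x⁻¹ * z * x⁻¹⁻¹ = x⁻¹ * (x * (g * z * g⁻¹) * x⁻¹) * x := by rw [hxt, inv_inv]
          _ = g * z * g⁻¹ := by group
      rw [e]; exact hgR
    · intro h
      have h' := congrArg Subtype.val h
      have e : x⁻¹ * z * x⁻¹⁻¹ = g * z * g⁻¹ := by
        calc x⁻¹ * z * x⁻¹⁻¹ = x⁻¹ * (x * (g * z * g⁻¹) * x⁻¹) * x := by rw [hxt, inv_inv]
          _ = g * z * g⁻¹ := by group
      apply htz
      rw [← e]
      exact h'

end Cfsg.Agent.S5428
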