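import Cfsg.Statements.S5429
import Cfsg.Agent.Lib.Helper4.LES29B
import Cfsg.Agent.H2.LESBasic
import Cfsg.Agent.Lib.Helper7.LES29LQ
import Cfsg.Agent.Lib.helper3.ESInvCent

set_option autoImplicit false
open Cfsg

namespace Cfsg.Agent.S5429

open Cfsg.Agent.Lead.ES2 Cfsg.Agent.Lead.LargeES Cfsg.Agent.Lib.Helper4.LES29

/-- Let z be an involution of the finite group G with centralizer C whose generalized Fitting subgroup Q is extraspecial of width at least 3 (order 2^(2w+1), w ≥ 3); let g be an element of G with g z g⁻¹ in Q but outside the centre Z of Q, and t an involution lying in both Q and g Q g⁻¹ that is not conjugate to z; write P for the centralizer of t in Q and suppose that the elements of C acting trivially by conjugation on P modulo the subgroup generated by t and z are exactly the elements of Q. Then the image of P in the centralizer of t modulo the subgroup generated by t is a large extraspecial 2-subgroup there, and g z g⁻¹ is conjugate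 to z inside the subgroup generated by P and the centralizer of t in g Q g⁻¹. -/
theorem result {G : Type*} [Group G] [Finite G] (z : G) (hz : orderOf z = 2) (Q : Subgroup G) (hQC : Q ≤ Subgroup.centralizer ({z} : Set G)) (hF : (Cfsg.generalizedFittingSubgroup ↥(Subgroup.centralizer ({z} : Set G))).map (Subgroup.centralizer ({z} : Set G)).subtype = Q) (hQ : Cfsg.IsExtraspecial 2 ↥Q) (w : ℕ) (hw : 3 ≤ w) (hcard : Nat.card ↥Q = 2 ^ (2 * w + 1)) (g : G) (hgQ : g * z * g⁻¹ ∈ Q) (hgZ : g * z * g⁻¹ ∉ ((Subgroup.center ↥Q).map Q.subtype)) (t : G) (ht : orderOf t = 2) (htQ : t ∈ Q ⊓ (Q).map (MulAut.conj g).toMonoidHom) (htz : ¬ IsConj z t) (P : Subgroup G) (hP : P = Q ⊓ Subgroup.centralizer ({t} : Set G)) (hCP : ∀ c ∈ Subgroup.centralizer ({z} : Set G), (∀ x ∈ P, ∃ y ∈ Subgroup.closure ({t, z} : Set G), c * x * c⁻¹ = x * y) ↔ c ∈ Q) [hn : ((Subgroup.zpowers t).subgroupOf (Subgroup.centralizer ({t} : Set G))).Normal] : Cfsg.IsLargeExtraspecial ((P.subgroupOf (Subgroup.centralizer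 ({t} : Set G))).map (QuotientGroup.mk' ((Subgroup.zpowers t).subgroupOf (Subgroup.centralizer ({t} : Set G))))) ∧ ∃ x ∈ P ⊔ ((Q).map (MulAut.conj g).toMonoidHom ⊓ Subgroup.centralizer ({t} : Set G)), x * (g * z * g⁻¹) * x⁻¹ = z := by
  classical
  obtain ⟨hzQ, hes, hles⟩ := les_of_gfs z hz Q hQC hF hQ
  have hcard32 : 32 ≤ Nat.card ↥Q := by
    rw [hcard]
    calc 32 = 2 ^ 5 := by norm_num
      _ ≤ 2 ^ (2 * w + 1) := Nat.pow_le_pow_right (by norm_num) (by omega)
  have hgz : g * z * g⁻¹ ≠ z := by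
    intro h
    apply hgZ
    rw [h]
    exact ⟨⟨z, hzQ⟩, Subgroup.mem_center_iff.mpr (fun x => hes.ctx.cen x), rfl⟩
  obtain ⟨hat, hazt, htz', htt, ht1, hzt, hnc, hDC, hNA, q, hqQ, q', hq'Y, hqt, hq't, hx⟩ :=
    core z Q hzQ hes hles hcard32 g hgQ hgz t ht htQ.1 htQ.2 htz
  set Ct : Subgroup G := Subgroup.centralizer ({t} : Set G) with hCt
  have hmemCt : ∀ x : G, x ∈ Ct ↔ x * t = t * x := by
    intro x
    rw [hCt, Subgroup.mem_centralizer_iff]
    constructor
    · intro h; exact (h t rfl).symm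
    · intro h y hy
      rw [Set.mem_singleton_iff] at hy
      rw [hy]; exact h.symm
  have hmemP : ∀ x : G, x ∈ P ↔ x ∈ Q ∧ x * t = t * x := by
    intro x
    rw [hP, Subgroup.mem_inf, hmemCt]
  have hqP : q ∈ P := (hmemP q).mpr ⟨hqQ, hqt⟩
  have hq'K : q' ∈ (Q).map (MulAut.conj g).toMonoidHom ⊓ Ct := ⟨hq'Y, (hmemCt q').mpr hq't⟩
  refine ⟨?_, q' * q, Subgroup.mul_mem _ (Subgroup.mem_sup_right hq'K) (Subgroup.mem_sup_left hqP), hx⟩
  -- the quotient part
  have hzz : z * z = 1 := hles.zz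
  have hz1 : z ≠ 1 := hles.z1
  have htCt : t ∈ Ct := (hmemCt t).mpr rfl
  have hzCt : z ∈ Ct := (hmemCt z).mpr hzt
  have htP : t ∈ P := (hmemP t).mpr ⟨htQ.1, rfl⟩
  have hzP : z ∈ P := (hmemP z).mpr ⟨hzQ, hzt⟩
  -- `a` commutes with `t`
  have hatc : (g * z * g⁻¹) * t = t * (g * z * g⁻¹) := by
    have h1 : g⁻¹ * t * g ∈ Q := mem_map_conj.mp htQ.2
    have h2 := hles.zc _ h1
    calc (g * z * g⁻¹) * t = g * (z * (g⁻¹ * t * g)) * g⁻¹ := by group
      _ = g * ((g⁻¹ * t * g) * z) * g⁻¹ := by rw [h2]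
      _ = t * (g * z * g⁻¹) := by group
  have haCt : g * z * g⁻¹ ∈ Ct := (hmemCt _).mpr hatc
  have haP : g * z * g⁻¹ ∈ P := (hmemP _).mpr ⟨hgQ, hatc⟩
  have hxCt : (q' * q)⁻¹ ∈ Ct := Ct.inv_mem (Ct.mul_mem ((hmemCt q').mpr hq't) ((hmemCt q).mpr hqt))
  -- conjugates of `z` by elements of `Ct` in the coset `z {1,t}`
  have hfix : ∀ c : G, c * z * c⁻¹ * z⁻¹ = 1 ∨ c * z * c⁻¹ * z⁻¹ = t → c * z = z * c := by
    intro c h
    rcases h with h | h
    · calc c * z = (c * z * c⁻¹ * z⁻¹) * (z * c) := by group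
        _ = z * c := by rw [h, one_mul]
    · exfalso
      apply hnc c
      calc c * z * c⁻¹ = (c * z * c⁻¹ * z⁻¹) * z := by group
        _ = t * z := by rw [h]
        _ = z * t := hzt.symm
  have hmemCz : ∀ x : G, x * z = z * x → x ∈ Subgroup.centralizer ({z} : Set G) := by
    intro x h
    rw [Subgroup.mem_centralizer_iff]
    intro y hy
    rw [Set.mem_singleton_iff] at hy
    rw [hy]; exact h.symm
  -- cardinality of `P`
  have hcardP : Nat.card ↥(P.subgroupOf Ct) = 2 ^ (2 * (w - 1) + 2) := by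
    have h1 := Cfsg.Agent.Lib.helper3.ESInvCent.card_centralizer (E := ↥Q) (z := ⟨z, hzQ⟩) hes
      (t := ⟨t, htQ.1⟩) (fun h => ht1 (congrArg Subtype.val h))
      (fun h => htz' (congrArg Subtype.val h))
    have h2 : Nat.card ↥(Subgroup.centralizer ({(⟨t, htQ.1⟩ : ↥Q)} : Set ↥Q)) = Nat.card ↥P := by
      have e : Subgroup.centralizer ({(⟨t, htQ.1⟩ : ↥Q)} : Set ↥Q) = P.subgroupOf Q := by
        ext x
        rw [Subgroup.mem_subgroupOf, hmemP, Subgroup.mem_centralizer_iff]
        constructor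
        · intro h
          refine ⟨x.2, ?_⟩
          have := h ⟨t, htQ.1⟩ rfl
          exact (congrArg Subtype.val this).symm
        · rintro ⟨-, h⟩ y hy
          rw [Set.mem_singleton_iff] at hy
          rw [hy]
          exact Subtype.ext h.symm
      rw [e]
      have hPQ : P ≤ Q := by rw [hP]; exact inf_le_left
      exact Nat.card_congr (Subgroup.subgroupOfEquivOfLe hPQ).toEquiv
    have h3 : Nat.card ↥(P.subgroupOf Ct) = Nat.card ↥P := by
      have hPC : P ≤ Ct := by rw [hP]; exact inf_le_right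
      exact Nat.card_congr (Subgroup.subgroupOfEquivOfLe hPC).toEquiv
    rw [h3, ← h2]
    rw [hcard] at h1
    have h4 : 2 ^ (2 * w + 1) = 2 * 2 ^ (2 * (w - 1) + 2) := by
      have : 2 * w + 1 = (2 * (w - 1) + 2) + 1 := by omega
      rw [this, pow_succ]; ring
    rw [h4] at h1
    exact Nat.eq_of_mul_eq_mul_left (by norm_num) h1
  -- apply (LQ)
  refine large_quotient (H := ↥Ct) ((Subgroup.zpowers t).subgroupOf Ct) ⟨t, htCt⟩ ?_ ?_ ?_
    (P.subgroupOf Ct) ⟨z, hzCt⟩ ?_ ?_ ?_ ?_ ?_ ?_ ?_ ?_ ?_ ?_ (w - 1) (by omega) hcardP ?_ ?_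
    ⟨(q' * q)⁻¹, hxCt⟩ ⟨g * z * g⁻¹, haCt⟩ ?_ ?_ ?_ ?_
  · -- hN
    intro n
    rw [Subgroup.mem_subgroupOf]
    constructor
    · intro h
      rcases Cfsg.Agent.H2.LES.eq_one_or_eq_of_mem_zpowers ht h with h | h
      · left; exact Subtype.ext h
      · right; exact Subtype.ext h
    · rintro (h | h)
      · rw [h]; exact Subgroup.one_mem _
      · rw [h]; exact Subgroup.mem_zpowers t
  · -- htc
    intro h
    exact Subtype.ext ((hmemCt (h : G)).mp h.2)
  · exact Subtype.ext htt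
  · exact Subgroup.mem_subgroupOf.mpr hzP
  · exact Subgroup.mem_subgroupOf.mpr htP
  · exact fun h => hz1 (congrArg Subtype.val h)
  · exact fun h => htz' (congrArg Subtype.val h).symm
  · exact Subtype.ext hzz
  · -- hPz
    intro p hp
    have hpP : (p : G) ∈ P := Subgroup.mem_subgroupOf.mp hp
    exact Subtype.ext (hles.zc _ ((hmemP _).mp hpP).1)
  · -- hcomm
    intro a ha b hb
    have haQ : (a : G) ∈ Q := ((hmemP _).mp (Subgroup.mem_subgroupOf.mp ha)).1
    have hbQ : (b : G) ∈ Q := ((hmemP _).mp (Subgroup.mem_subgroupOf.mp hb)).1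
    rcases hles.comm _ haQ _ hbQ with h | h
    · left; exact Subtype.ext h
    · right; exact Subtype.ext h
  · -- hsq
    intro a ha
    have haQ : (a : G) ∈ Q := ((hmemP _).mp (Subgroup.mem_subgroupOf.mp ha)).1
    rcases hles.sq _ haQ with h | h
    · left; exact Subtype.ext h
    · right; exact Subtype.ext h
  · -- hZP
    intro d hd hall
    have hdQ : (d : G) ∈ Q := ((hmemP _).mp (Subgroup.mem_subgroupOf.mp hd)).1
    have h1 : ∀ x ∈ Q, x * t = t * x → x * (d : G) = (d : G) * x := by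
      intro x hxQ hxt
      have hxCt : x ∈ Ct := (hmemCt x).mpr hxt
      have := hall ⟨x, hxCt⟩ (Subgroup.mem_subgroupOf.mpr ((hmemP x).mpr ⟨hxQ, hxt⟩))
      exact congrArg Subtype.val this
    rcases hDC _ hdQ h1 with h | h | h | h
    · left; exact Subtype.ext h
    · right; left; exact Subtype.ext h
    · right; right; left; exact Subtype.ext h
    · right; right; right; exact Subtype.ext h
  · -- hna
    obtain ⟨x₁, hx₁, x₂, hx₂, h1, h2, h3⟩ := hNA
    refine ⟨⟨x₁, (hmemCt x₁).mpr h1⟩, Subgroup.mem_subgroupOf.mpr ((hmemP x₁).mpr ⟨hx₁, h1⟩),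
      ⟨x₂, (hmemCt x₂).mpr h2⟩, Subgroup.mem_subgroupOf.mpr ((hmemP x₂).mpr ⟨hx₂, h2⟩), ?_⟩
    exact Subtype.ext h3
  · -- hcent
    intro c hc
    have hcz : (c : G) * z = z * (c : G) := by
      apply hfix
      rcases hc ⟨z, hzCt⟩ (Subgroup.mem_subgroupOf.mpr hzP) with h | h
      · left; exact congrArg Subtype.val h
      · right; exact congrArg Subtype.val h
    have hcQ : (c : G) ∈ Q := by
      rw [← hCP (c : G) (hmemCz _ hcz)]
      intro x hx
      have hx' := (hmemP x).mp hx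
      have hxCt : x ∈ Ct := (hmemCt x).mpr hx'.2
      rcases hc ⟨x, hxCt⟩ (Subgroup.mem_subgroupOf.mpr hx) with h | h
      · refine ⟨1, Subgroup.one_mem _, ?_⟩
        have h' : (c : G) * x * (c : G)⁻¹ * x⁻¹ = 1 := congrArg Subtype.val h
        calc (c : G) * x * (c : G)⁻¹ = ((c : G) * x * (c : G)⁻¹ * x⁻¹) * x := by group
          _ = x * 1 := by rw [h', one_mul, mul_one]
      · refine ⟨t, Subgroup.subset_closure (Set.mem_insert t _), ?_⟩
        have h' : (c : G) * x * (c : G)⁻¹ * x⁻¹ = t := congrArg Subtype.val h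
        calc (c : G) * x * (c : G)⁻¹ = ((c : G) * x * (c : G)⁻¹ * x⁻¹) * x := by group
          _ = t * x := by rw [h']
          _ = x * t := hx'.2.symm
    exact Subgroup.mem_subgroupOf.mpr ((hmemP _).mpr ⟨hcQ, (hmemCt _).mp c.2⟩)
  · -- hnorm
    intro c hc p hp
    have hcz : (c : G) * z = z * (c : G) := by
      rcases hc with h | h
      · have h' : (c : G) * z * (c : G)⁻¹ = z := congrArg Subtype.val h
        calc (c : G) * z = ((c : G) * z * (c : G)⁻¹) * (c : G) := by group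
          _ = z * (c : G) := by rw [h']
      · exfalso
        have h' : (c : G) * z * (c : G)⁻¹ = z * t := congrArg Subtype.val h
        exact hnc _ h'
    have hpP := (hmemP _).mp (Subgroup.mem_subgroupOf.mp hp)
    have h1 := hles.norm _ hcz _ hpP.1
    refine Subgroup.mem_subgroupOf.mpr ((hmemP _).mpr ⟨h1, ?_⟩)
    exact (hmemCt _).mp (c * p * c⁻¹).2
  · -- ha
    apply Subtype.ext
    show (q' * q)⁻¹ * z * ((q' * q)⁻¹)⁻¹ = g * z * g⁻¹
    have e : (q' * q)⁻¹ * z * ((q' * q)⁻¹)⁻¹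
        = (q' * q)⁻¹ * ((q' * q) * (g * z * g⁻¹) * (q' * q)⁻¹) * ((q' * q)⁻¹)⁻¹ := by rw [hx]
    rw [e]; group
  · exact Subgroup.mem_subgroupOf.mpr haP
  · exact fun h => hgz (congrArg Subtype.val h)
  · exact fun h => hazt (congrArg Subtype.val h)

end Cfsg.Agent.S5429
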