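import Cfsg.Statements.S5431
import Cfsg.Agent.Lib.Lead.LargeESPair

set_option autoImplicit false
open Cfsg

namespace Cfsg.Agent.S5431

open Cfsg.Agent.Lead.ES2 Cfsg.Agent.Lead.ES2Perp Cfsg.Agent.Lead.LargeES

/-- common setup: from the large extraspecial hypotheses to a `Pair` -/
theorem pair_of_large {G : Type*} [Group G] [Finite G] (Q : Subgroup G) (hQ : Cfsg.IsLargeExtraspecial Q) (z : G) (hz : ((Subgroup.center ↥Q).map Q.subtype) = Subgroup.zpowers z) (hz2 : orderOf z = 2) (w : ℕ) (hw : 2 ≤ w) (hcard : Nat.card ↥Q = 2 ^ (2 * w + 1)) (g : G) (hgH : g ∉ Subgroup.centralizer ({z} : Set G)) (hgQ : g * z * g⁻¹ ∈ Q) :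
    Pair Q (Q.map (MulAut.conj g).toMonoidHom) z (g * z * g⁻¹) := by
  classical
  obtain ⟨hL1, hL2, hL3, -⟩ := hQ
  obtain ⟨z₀, hes, -⟩ := es_of_extraspecial hL1
  have C := hes.ctx
  have hzz : z * z = 1 := by rw [← pow_two, ← hz2]; exact pow_orderOf_eq_one z
  have hz1 : z ≠ 1 := by intro h; rw [h, orderOf_one] at hz2; omega
  have hZmem : ∀ c : G, c ∈ (Subgroup.center ↥Q).map Q.subtype ↔ c = 1 ∨ c = z := by
    intro c; rw [hz]; exact mem_zpowers_two hz2 c
  have hz₀ : (z₀ : G) = z := by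
    have : (z₀ : G) ∈ (Subgroup.center ↥Q).map Q.subtype :=
      ⟨z₀, Subgroup.mem_center_iff.mpr (fun x => C.cen x), rfl⟩
    rcases (hZmem _).mp this with h | h
    · exact absurd (Subtype.ext h) C.ne
    · exact h
  have hzQ : z ∈ Q := hz₀ ▸ z₀.2
  have hLQ : LES Q z := by
    have := LES.of_ES hes (fun c hc => by
        have : c ∈ Subgroup.centralizer (Q : Set G) := by
          rw [Subgroup.mem_centralizer_iff]; exact hc
        rw [hL2, hZmem] at this
        rcases this with rfl | rfl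
        · exact Q.one_mem
        · exact hzQ)
      (by
        rw [hz₀]
        intro c hc a ha
        have hcZ : c ∈ Subgroup.centralizer (((Subgroup.center ↥Q).map Q.subtype : Subgroup G) : Set G) := by
          rw [Subgroup.mem_centralizer_iff]
          intro h hh
          rcases (hZmem h).mp hh with rfl | rfl
          · simp
          · exact hc.symm
        exact ((Subgroup.mem_normalizer_iff.mp (hL3 hcZ)) a).mp ha)
    rwa [hz₀] at this
  obtain ⟨t, ht⟩ : ∃ t : G, t = g * z * g⁻¹ := ⟨_, rfl⟩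
  rw [← ht] at hgQ ⊢
  have htz : t ≠ z := by
    intro h
    apply hgH
    rw [Subgroup.mem_centralizer_singleton_iff]
    calc g * z = (g * z * g⁻¹) * g := by group
      _ = z * g := by rw [← ht, h]
  have hLY : LES (Q.map (MulAut.conj g).toMonoidHom) t := by rw [ht]; exact hLQ.conj g
  have hcard32 : 32 ≤ Nat.card ↥Q := by
    rw [hcard]
    calc 32 = 2 ^ 5 := by norm_num
      _ ≤ 2 ^ (2 * w + 1) := Nat.pow_le_pow_right (by norm_num) (by omega)
  have hlink : ∀ n : G, n * z * n⁻¹ = t → ∀ a ∈ Q, n * a * n⁻¹ ∈ Q.map (MulAut.conj g).toMonoidHom := by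
    intro n hn a ha
    have h1 : (g⁻¹ * n) * z = z * (g⁻¹ * n) := by
      calc (g⁻¹ * n) * z = g⁻¹ * (n * z * n⁻¹) * n := by group
        _ = g⁻¹ * (g * z * g⁻¹) * n := by rw [hn, ht]
        _ = z * (g⁻¹ * n) := by group
    have h2 := hLQ.norm _ h1 a ha
    rw [mem_map_conj]
    have : g⁻¹ * (n * a * n⁻¹) * g = (g⁻¹ * n) * a * (g⁻¹ * n)⁻¹ := by group
    rw [this]; exact h2
  have hzY : z ∈ Q.map (MulAut.conj g).toMonoidHom := by
    have := center_mem' hes hcard32 (by rw [hz₀]; exact hLQ) hLY hgQ (by rw [hz₀]; exact htz)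
      (by rw [hz₀]; exact hlink)
    rwa [hz₀] at this
  have hDC := (dc_na_sub hes hcard32 hgQ hLY.zz hLY.z1 (by rw [hz₀]; exact htz)).1
  rw [hz₀] at hDC
  exact ⟨hLQ, hLY, hgQ, hzY, htz, hDC⟩

/-- Let Q be a large extraspecial 2-subgroup of the finite group G (extraspecial; centralizer equal to its centre; normal in the centralizer of its centre; normalizing no non-trivial subgroup of odd order) with centre generated by z, an involution, of width w ≥ 2 (order 2^(2w+1)); let g be an element outside the centralizer H of z with g z g⁻¹ in Q; write V for the subgroup generated by z and g z g⁻¹, X for the subgroup generated by Q and g Q g⁻¹, R for the subgroup generated by the centralizer of z in g Q g⁻¹ and the centralizer of g z g⁻¹ in Q, and E for the intersection of Q and g Q g⁻¹. Then V is the centre of R, E lies in the second centre of R, R is nilpotent of class at most 3, E and R/E are elementary abelian, R/E is the direct product of the images of the centralizer of g z g⁻¹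 in Q and of the centralizer of z in g Q g⁻¹ (R is their product and they meet in E), and the commutator subgroup of X and E lies in V. -/
theorem result {G : Type*} [Group G] [Finite G] (Q : Subgroup G) (hQ : Cfsg.IsLargeExtraspecial Q) (z : G) (hz : ((Subgroup.center ↥Q).map Q.subtype) = Subgroup.zpowers z) (hz2 : orderOf z = 2) (w : ℕ) (hw : 2 ≤ w) (hcard : Nat.card ↥Q = 2 ^ (2 * w + 1)) (g : G) (hgH : g ∉ Subgroup.centralizer ({z} : Set G)) (hgQ : g * z * g⁻¹ ∈ Q) (V X R E : Subgroup G) (hV : V = Subgroup.closure ({z, g * z * g⁻¹} : Set G)) (hX : X = Q ⊔ (Q).map (MulAut.conj g).toMonoidHom) (hR : R = ((Q).map (MulAut.conj g).toMonoidHom ⊓ Subgroup.centralizer ({z} : Set G)) ⊔ (Q ⊓ Subgroup.centralizer ({g * z * g⁻¹} : Set G))) (hE : E = Q ⊓ (Q).map (MulAut.conj g).toMonoidHom) : (Subgroup.center ↥R).map R.subtype = V ∧ E ≤ (Subgroup.upperCentralSeries ↥R 2).map R.subtype ∧ Subgroup.upperCentralSeries ↥R 3 = ⊤ ∧ Cfsg.IsElementaryAbelian 2 E ∧ (∀ x ∈ R, ∀ y ∈ R, x * y * x⁻¹ * y⁻¹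 ∈ E ∧ x ^ 2 ∈ E) ∧ ((Q).map (MulAut.conj g).toMonoidHom ⊓ Subgroup.centralizer ({z} : Set G)) ⊓ (Q ⊓ Subgroup.centralizer ({g * z * g⁻¹} : Set G)) = E ∧ ⁅X, E⁆ ≤ V := by
  have P := pair_of_large Q hQ z hz hz2 w hw hcard g hgH hgQ
  exact P.structure V X R E hV hX hR hE

end Cfsg.Agent.S5431
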