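import Cfsg.Statements.S5433

set_option autoImplicit false
open Cfsg

namespace Cfsg.Agent.S5433

theorem result {G : Type*} [Group G] [Finite G] (Q : Subgroup G) (hQ : Cfsg.IsLargeExtraspecial Q) (L : Subgroup G) [L.Normal] (hQL : Q ≤ L) : L ⊔ Subgroup.normalizer (Q : Set G) = ⊤ := by
  have : Fact (Nat.Prime 2) := ⟨Nat.prime_two⟩
  obtain ⟨hL1, hL2, hL3, _⟩ := hQ
  have hQ2 : IsPGroup 2 Q := hL1.1.1
  have hZcard : Nat.card (Subgroup.center ↥Q) = 2 := hL1.2
  -- the nontrivial central element z
  obtain ⟨z0, hz0ne, hz0u⟩ := (Nat.card_eq_two_iff' (1 : Subgroup.center ↥Q)).mp hZcard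
  obtain ⟨z, hz⟩ : ∃ z : G, z = ((z0 : Q) : G) := ⟨_, rfl⟩
  have hzZ : z ∈ (Subgroup.center ↥Q).map Q.subtype := by
    rw [hz]; exact ⟨(z0 : Q), z0.2, rfl⟩
  have hz1 : z ≠ 1 := by
    intro h
    apply hz0ne
    apply Subtype.ext
    apply Subtype.ext
    rw [hz] at h
    simpa using h
  have hZelts : ∀ w ∈ (Subgroup.center ↥Q).map Q.subtype, w = 1 ∨ w = z := by
    rintro w ⟨w', hw', rfl⟩
    by_cases h : (⟨w', hw'⟩ : Subgroup.center ↥Q) = 1
    · left
      have := congrArg (fun x : Subgroup.center ↥Q => ((x : Q) : G)) h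
      simpa using this
    · right
      have := hz0u ⟨w', hw'⟩ h
      rw [hz, ← this]
      rfl
  -- Sylow 2-subgroup T of L containing Q
  have hQL2 : IsPGroup 2 (Q.subgroupOf L) := hQ2.comap_subtype
  obtain ⟨T, hT⟩ := hQL2.exists_le_sylow
  have hQT : Q ≤ (T : Subgroup L).map L.subtype := by
    intro q hq
    exact ⟨⟨q, hQL hq⟩, hT (by rw [Subgroup.mem_subgroupOf]; exact hq), rfl⟩
  have hT2 : IsPGroup 2 ((T : Subgroup L).map L.subtype) := T.isPGroup'.map _
  -- center of T' is nontrivial
  have hzT : z ∈ (T : Subgroup L).map L.subtype := hQT ((Subgroup.map_subtype_le _) hzZ)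
  have hTnt : Nontrivial ((T : Subgroup L).map L.subtype) :=
    ⟨⟨⟨z, hzT⟩, 1, fun h => hz1 (by simpa using congrArg Subtype.val h)⟩⟩
  have hcnt : Nontrivial (Subgroup.center ((T : Subgroup L).map L.subtype)) := hT2.center_nontrivial
  obtain ⟨c, hc⟩ := exists_ne (1 : Subgroup.center ((T : Subgroup L).map L.subtype))
  -- c is in the centralizer of Q, hence in Z, hence equals z
  have hcG1 : (((c : (T : Subgroup L).map L.subtype)) : G) ≠ 1 := by
    intro h
    apply hc
    apply Subtype.ext
    apply Subtype.ext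
    simpa using h
  have hccomm : ∀ y ∈ (T : Subgroup L).map L.subtype, y * ((c : (T : Subgroup L).map L.subtype) : G) = ((c : (T : Subgroup L).map L.subtype) : G) * y := by
    intro y hy
    have := Subgroup.mem_center_iff.mp c.2 ⟨y, hy⟩
    have := congrArg Subtype.val this
    simpa using this
  have hcZ : ((c : (T : Subgroup L).map L.subtype) : G) ∈ (Subgroup.center ↥Q).map Q.subtype := by
    rw [← hL2, Subgroup.mem_centralizer_iff]
    intro q hq
    exact hccomm q (hQT hq)
  have hcz : ((c : (T : Subgroup L).map L.subtype) : G) = z := (hZelts _ hcZ).resolve_left hcG1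
  -- hence z is central in T'
  have hzcomm : ∀ y ∈ (T : Subgroup L).map L.subtype, y * z = z * y := by
    intro y hy; rw [← hcz]; exact hccomm y hy
  -- N(T') ≤ N(Q)
  have hNN : Subgroup.normalizer (((T : Subgroup L).map L.subtype : Subgroup G) : Set G) ≤ Subgroup.normalizer (Q : Set G) := by
    intro g hg
    apply hL3
    rw [Subgroup.mem_centralizer_iff]
    intro w hw
    rcases hZelts w hw with rfl | rfl
    · simp
    · -- g⁻¹ w g is central in T', lies in Z, and is nontrivial
      have hgi : g⁻¹ ∈ Subgroup.normalizer (((T : Subgroup L).map L.subtype : Subgroup G) : Set G) :=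
        Subgroup.inv_mem _ hg
      have h1 : g⁻¹ * w * g ∈ (T : Subgroup L).map L.subtype := by
        have := (Subgroup.mem_normalizer_iff.mp hgi w).mp hzT
        rwa [inv_inv] at this
      have h2 : g⁻¹ * w * g ∈ (Subgroup.center ↥Q).map Q.subtype := by
        rw [← hL2, Subgroup.mem_centralizer_iff]
        intro q hq
        -- g q g⁻¹ ∈ T'
        have hq' : g * q * g⁻¹ ∈ (T : Subgroup L).map L.subtype :=
          (Subgroup.mem_normalizer_iff.mp hg q).mp (hQT hq)
        have := hzcomm _ hq'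
        calc q * (g⁻¹ * w * g) = g⁻¹ * ((g * q * g⁻¹) * w) * g := by group
          _ = g⁻¹ * (w * (g * q * g⁻¹)) * g := by rw [this]
          _ = g⁻¹ * w * g * q := by group
      have h3 : g⁻¹ * w * g ≠ 1 := by
        intro h
        apply hz1
        have : w = g * (g⁻¹ * w * g) * g⁻¹ := by group
        rw [this, h]; group
      have h4 : g⁻¹ * w * g = w := (hZelts _ h2).resolve_left h3
      calc w * g = g * (g⁻¹ * w * g) := by group
        _ = g * w := by rw [h4]
  have hfr := Sylow.normalizer_sup_eq_top T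
  rw [eq_top_iff, ← hfr]
  rw [sup_comm]
  exact sup_le_sup_left hNN L

end Cfsg.Agent.S5433
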