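import Cfsg.Statements.S5434
import Cfsg.Agent.Lib.Lead.Extraspecial2Model
import Cfsg.Agent.S0026
import Cfsg.Agent.S0027

set_option autoImplicit false
open Cfsg
open scoped commutatorElement

namespace Cfsg.Agent.S5434

open Cfsg.Agent.Lead.ES2
open Cfsg.Agent.S2880 (Ctx)

section aux

variable {G : Type*} [Group G]

/-- ambient description of an extraspecial 2-subgroup -/
structure Amb (Q : Subgroup G) (z : G) : Prop where
  mem : z ∈ Q
  ne : z ≠ 1
  sq : z * z = 1
  cen : ∀ x ∈ Q, x * z = z * x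
  comm : ∀ x ∈ Q, ∀ y ∈ Q, ⁅x, y⁆ = 1 ∨ ⁅x, y⁆ = z
  sqr : ∀ x ∈ Q, x * x = 1 ∨ x * x = z
  cent : ∀ w ∈ Q, (∀ x ∈ Q, x * w = w * x) → w = 1 ∨ w = z

theorem amb_of_es (Q : Subgroup G) (zq : Q) (h : ES zq) : Amb Q (zq : G) := by
  have C := h.ctx
  refine ⟨zq.2, fun h1 => C.ne (Subtype.ext h1), congrArg Subtype.val C.sq, ?_, ?_, ?_, ?_⟩
  · intro x hx; exact congrArg Subtype.val (C.cen ⟨x, hx⟩)
  · intro x hx y hy
    rcases C.comm ⟨x, hx⟩ ⟨y, hy⟩ with h1 | h1
    · left; have := congrArg Subtype.val h1; simpa [commutatorElement_def] using this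
    · right; have := congrArg Subtype.val h1; simpa [commutatorElement_def] using this
  · intro x hx
    rcases C.sqr ⟨x, hx⟩ with h1 | h1
    · left; exact congrArg Subtype.val h1
    · right; exact congrArg Subtype.val h1
  · intro w hw hcw
    rcases h.cent ⟨w, hw⟩ (fun x => Subtype.ext (hcw x.1 x.2)) with h1 | h1
    · left; exact congrArg Subtype.val h1
    · right; exact congrArg Subtype.val h1

theorem es_sub_of_amb {Q : Subgroup G} {z : G} (h : Amb Q z) (H : Subgroup G) (hHQ : H ≤ Q)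
    (hz : z ∈ H) (hcent : ∀ w ∈ H, (∀ x ∈ H, x * w = w * x) → w = 1 ∨ w = z) :
    ES (⟨z, hz⟩ : H) := by
  refine ⟨⟨fun h1 => h.ne (congrArg Subtype.val h1), Subtype.ext h.sq,
    fun x => Subtype.ext (h.cen x.1 (hHQ x.2)), ?_, ?_⟩, ?_⟩
  · intro x y
    rcases h.comm x.1 (hHQ x.2) y.1 (hHQ y.2) with h1 | h1
    · left; apply Subtype.ext; simpa [commutatorElement_def] using h1
    · right; apply Subtype.ext; simpa [commutatorElement_def] using h1
  · intro x
    rcases h.sqr x.1 (hHQ x.2) with h1 | h1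
    · left; exact Subtype.ext h1
    · right; exact Subtype.ext h1
  · intro w hw
    rcases hcent w.1 w.2 (fun x hx => congrArg Subtype.val (hw ⟨x, hx⟩)) with h1 | h1
    · left; exact Subtype.ext h1
    · right; exact Subtype.ext h1

end aux

theorem result {G : Type*} [Group G] [Finite G] (Q : Subgroup G) (hQ : Cfsg.IsLargeExtraspecial Q) (A : Subgroup G) (hA : A ≤ Subgroup.normalizer (Q : Set G)) (hAodd : Odd (Nat.card ↥A)) (hA1 : A ≠ ⊥) : (Q ⊓ Subgroup.centralizer (A : Set G)) ⊔ ⁅Q, A⁆ = Q ∧ (∀ x ∈ Q ⊓ Subgroup.centralizer (A : Set G), ∀ y ∈ ⁅Q, A⁆, x * y = y * x) ∧ Cfsg.IsExtraspecial 2 ↥⁅Q, A⁆ ∧ (Q ⊓ Subgroup.centralizer (A : Set G) = ((Subgroup.center ↥Q).map Q.subtype) ∨ Cfsg.IsExtraspecial 2 ↥(Q ⊓ Subgroup.centralizer (A : Set G))) := by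
  obtain ⟨hE, hCQ, -, -⟩ := hQ
  haveI : Fact (Nat.Prime 2) := ⟨Nat.prime_two⟩
  obtain ⟨zq, hes, hna⟩ := es_of_extraspecial hE
  have hamb := amb_of_es Q zq hes
  obtain ⟨z, hz⟩ : ∃ z : G, z = (zq : G) := ⟨_, rfl⟩
  rw [← hz] at hamb
  have hZmem : ∀ w : G, w ∈ (Subgroup.center ↥Q).map Q.subtype ↔ w = 1 ∨ w = z := by
    intro w
    constructor
    · rintro ⟨⟨w', hw'⟩, hc, rfl⟩
      exact hamb.cent w' hw' (fun x hx =>
        congrArg Subtype.val (Subgroup.mem_center_iff.mp hc ⟨x, hx⟩))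
    · rintro (h | h) <;> rw [h]
      · exact one_mem _
      · exact ⟨⟨z, hamb.mem⟩,
          Subgroup.mem_center_iff.mpr (fun x => Subtype.ext (hamb.cen x.1 x.2)), rfl⟩
  have hAz : z ∈ Subgroup.centralizer (A : Set G) := by
    rw [Subgroup.mem_centralizer_iff]
    intro a ha
    have hn := hA ha
    rw [Subgroup.mem_normalizer_iff] at hn
    have h1 : a * z * a⁻¹ ∈ Q := (hn z).mp hamb.mem
    have h2 : ∀ x ∈ Q, x * (a * z * a⁻¹) = (a * z * a⁻¹) * x := by
      intro x hx
      have hx' : a⁻¹ * x * a ∈ Q := by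
        apply (hn (a⁻¹ * x * a)).mpr
        have : a * (a⁻¹ * x * a) * a⁻¹ = x := by group
        rw [this]; exact hx
      have := hamb.cen _ hx'
      calc x * (a * z * a⁻¹) = a * ((a⁻¹ * x * a) * z) * a⁻¹ := by group
        _ = a * (z * (a⁻¹ * x * a)) * a⁻¹ := by rw [this]
        _ = (a * z * a⁻¹) * x := by group
    rcases hamb.cent _ h1 h2 with h3 | h3
    · exfalso; apply hamb.ne
      have : z = a⁻¹ * (a * z * a⁻¹) * a := by group
      rw [this, h3]; group
    · calc a * z = (a * z * a⁻¹) * a := by group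
        _ = z * a := by rw [h3]
  have hcop : (Nat.card A).Coprime (Nat.card Q) := by
    obtain ⟨k, hk⟩ := IsPGroup.iff_card.mp hE.1.1
    rw [hk]
    exact Nat.Coprime.pow_right _ (Nat.coprime_two_right.mpr hAodd)
  have hsolv : Group.IsSolvable Q := by
    haveI := hE.1.1.isNilpotent
    exact IsNilpotent.to_isSolvable
  obtain ⟨C, hC⟩ : ∃ C : Subgroup G, C = Q ⊓ Subgroup.centralizer (A : Set G) := ⟨_, rfl⟩
  obtain ⟨D, hD⟩ : ∃ D : Subgroup G, D = ⁅Q, A⁆ := ⟨_, rfl⟩
  rw [← hC, ← hD]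
  have h26 : D ⊔ C = Q := by
    rw [hD, hC]; exact Cfsg.Agent.S0026.result A Q hA hcop (Or.inr hsolv)
  have h27 : ⁅D, A⁆ = D := by
    rw [hD]; exact Cfsg.Agent.S0027.result A Q hA hcop (Or.inr hsolv)
  have hDQ : D ≤ Q := by rw [← h26]; exact le_sup_left
  have hCQ' : C ≤ Q := by rw [hC]; exact inf_le_left
  have hCA : C ≤ Subgroup.centralizer (A : Set G) := by rw [hC]; exact inf_le_right
  have hzC : z ∈ C := by rw [hC]; exact ⟨hamb.mem, hAz⟩
  have hCD : ∀ x ∈ C, ∀ y ∈ D, x * y = y * x := by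
    have h1 : ⁅⁅A, C⁆, Q⁆ = ⊥ := by
      have : ⁅A, C⁆ = ⊥ := by
        rw [Subgroup.commutator_eq_bot_iff_le_centralizer]
        intro a ha
        rw [Subgroup.mem_centralizer_iff]
        intro c hc
        exact (Subgroup.mem_centralizer_iff.mp (hCA hc) a ha).symm
      rw [this]; exact Subgroup.commutator_bot_left Q
    have h2 : ⁅⁅C, Q⁆, A⁆ = ⊥ := by
      rw [Subgroup.commutator_eq_bot_iff_le_centralizer, Subgroup.commutator_le]
      intro c hc q hq
      rcases hamb.comm c (hCQ' hc) q hq with h3 | h3 <;> rw [h3]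
      · exact one_mem _
      · exact hAz
    have h3 : ⁅⁅Q, A⁆, C⁆ = ⊥ := Subgroup.commutator_commutator_eq_bot_of_rotate h1 h2
    rw [← hD, Subgroup.commutator_eq_bot_iff_le_centralizer] at h3
    intro x hx y hy
    exact Subgroup.mem_centralizer_iff.mp (h3 hy) x hx
  have hcentQ : ∀ w ∈ Q, (∀ x ∈ C, x * w = w * x) → (∀ x ∈ D, x * w = w * x) →
      w = 1 ∨ w = z := by
    intro w hw h1 h2
    apply hamb.cent w hw
    intro x hx
    have hle : D ⊔ C ≤ Subgroup.centralizer ({w} : Set G) := by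
      apply sup_le
      · intro d hd
        rw [Subgroup.mem_centralizer_iff]
        intro h hh
        rw [Set.mem_singleton_iff] at hh
        rw [hh]; exact (h2 d hd).symm
      · intro d hd
        rw [Subgroup.mem_centralizer_iff]
        intro h hh
        rw [Set.mem_singleton_iff] at hh
        rw [hh]; exact (h1 d hd).symm
    have hxm : x ∈ D ⊔ C := by rw [h26]; exact hx
    exact (Subgroup.mem_centralizer_iff.mp (hle hxm) w rfl).symm
  have hDne : D ≠ ⊥ := by
    intro hbot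
    have h1 : A ≤ Subgroup.centralizer (Q : Set G) := by
      have : Q ≤ Subgroup.centralizer (A : Set G) := by
        rw [← Subgroup.commutator_eq_bot_iff_le_centralizer, ← hD]; exact hbot
      intro a ha
      rw [Subgroup.mem_centralizer_iff]
      intro q hq
      exact (Subgroup.mem_centralizer_iff.mp (this hq) a ha).symm
    rw [hCQ] at h1
    apply hA1
    rw [Subgroup.eq_bot_iff_forall]
    intro a ha
    rcases (hZmem a).mp (h1 ha) with h2 | h2
    · exact h2
    · exfalso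
      have hzA : z ∈ A := h2 ▸ ha
      have hdvd : orderOf (⟨z, hzA⟩ : A) ∣ Nat.card A := orderOf_dvd_natCard _
      have ho : orderOf (⟨z, hzA⟩ : A) = 2 := by
        rw [← Subgroup.orderOf_coe]
        exact orderOf_eq_prime (by rw [pow_two]; exact hamb.sq) hamb.ne
      rw [ho] at hdvd
      exact (Nat.not_even_iff_odd.mpr hAodd) (even_iff_two_dvd.mpr hdvd)
  have hDna : ∃ x ∈ D, ∃ y ∈ D, x * y ≠ y * x := by
    by_contra hcon
    push_neg at hcon
    apply hDne
    have h1 : D ≤ Subgroup.centralizer (A : Set G) := by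
      intro w hw
      rcases hcentQ w (hDQ hw) (fun x hx => hCD x hx w hw) (fun x hx => hcon x hx w hw)
        with h2 | h2 <;> rw [h2]
      · exact one_mem _
      · exact hAz
    rw [← h27, Subgroup.commutator_eq_bot_iff_le_centralizer]; exact h1
  have hzD : z ∈ D := by
    obtain ⟨x, hx, y, hy, hxy⟩ := hDna
    rcases hamb.comm x (hDQ hx) y (hDQ hy) with h1 | h1
    · exact absurd (commutatorElement_eq_one_iff_mul_comm.mp h1) hxy
    · rw [← h1, commutatorElement_def]
      exact D.mul_mem (D.mul_mem (D.mul_mem hx hy) (D.inv_mem hx)) (D.inv_mem hy)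
  have hesD : ES (⟨z, hzD⟩ : D) := es_sub_of_amb hamb D hDQ hzD
    (fun w hw hcw => hcentQ w (hDQ hw) (fun x hx => hCD x hx w hw) hcw)
  have hesC : ES (⟨z, hzC⟩ : C) := es_sub_of_amb hamb C hCQ' hzC
    (fun w hw hcw => hcentQ w (hCQ' hw) hcw (fun x hx => (hCD w hw x hx).symm))
  refine ⟨by rw [sup_comm]; exact h26, hCD, ?_, ?_⟩
  · apply extraspecial_of_ES hesD
    intro hab
    obtain ⟨x, hx, y, hy, hxy⟩ := hDna
    apply hxy
    have := hab ⟨x, hx⟩ ⟨y, hy⟩
    rw [commutatorElement_eq_one_iff_mul_comm] at this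
    exact congrArg Subtype.val this
  · by_cases hab : ∀ x y : C, ⁅x, y⁆ = 1
    · left
      ext w
      rw [hZmem]
      constructor
      · intro hw
        rcases (abelian_case hesC hab).1 ⟨w, hw⟩ with h1 | h1
        · left; exact congrArg Subtype.val h1
        · right; exact congrArg Subtype.val h1
      · rintro (h | h) <;> rw [h]
        · exact one_mem _
        · exact hzC
    · right; exact extraspecial_of_ES hesC hab

end Cfsg.Agent.S5434
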