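import Cfsg.Statements.S5435
import Cfsg.Agent.H9.SylowD8
import Cfsg.Agent.S0215
import Cfsg.Agent.Lib.Helper7.ThompsonTransferO2
import Cfsg.Agent.H1.PGroup
import Cfsg.Agent.H1.PResidual

set_option autoImplicit false
open Cfsg

namespace Cfsg.Agent.S5435

/-- Let L be a finite non-abelian simple group with an involution z whose centralizer R is a Sylow 2-subgroup of L whose Frattini subgroup is the subgroup generated by z. Then R is dihedral of order 8. -/
theorem result {L : Type*} [Group L] [Finite L] [IsSimpleGroup L] (hL : ¬ IsMulCommutative L) (z : L) (hz : orderOf z = 2) (R : Sylow 2 L) (hR : (R : Subgroup L) = Subgroup.centralizer ({z} : Set L)) (hΦ : (frattini ↥(R : Subgroup L)).map (R : Subgroup L).subtype = Subgroup.zpowers z) : Nonempty (↥(R : Subgroup L) ≃* DihedralGroup 4) := by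
  haveI : Fact (Nat.Prime 2) := ⟨Nat.prime_two⟩
  have hz2 : z * z = 1 := by rw [← pow_two, ← hz, pow_orderOf_eq_one]
  have hz1 : z ≠ 1 := by
    intro h
    rw [h, orderOf_one] at hz
    omega
  have hzR : z ∈ (R : Subgroup L) := by
    rw [hR, Subgroup.mem_centralizer_iff]
    intro h hh
    rw [Set.mem_singleton_iff] at hh
    rw [hh]
  have hzc : ∀ r ∈ (R : Subgroup L), z * r = r * z := by
    intro r hr
    rw [hR, Subgroup.mem_centralizer_iff] at hr
    exact hr z rfl
  have hsq : ∀ r ∈ (R : Subgroup L), r * r = 1 ∨ r * r = z := by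
    intro r hr
    have h1 := Cfsg.Agent.H1.pow_p_mem_frattini (p := 2) R.isPGroup' ⟨r, hr⟩
    have h2 : r ^ 2 ∈ (frattini ↥(R : Subgroup L)).map (R : Subgroup L).subtype :=
      ⟨_, h1, by simp⟩
    rw [hΦ, pow_two] at h2
    exact Cfsg.Agent.H9.SylowD8.mem_zpowers_of_sq hz2 h2
  -- commutativity criterion
  have hcomm_of_center : ∀ c : L, c ∈ Subgroup.center L → c ≠ 1 → False := by
    intro c hc hc1
    rcases (inferInstance : (Subgroup.center L).Normal).eq_bot_or_eq_top with h | h
    · rw [h, Subgroup.mem_bot] at hc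
      exact hc1 hc
    · apply hL
      refine ⟨⟨fun a b => ?_⟩⟩
      have ha : a ∈ Subgroup.center L := by rw [h]; trivial
      exact ((Subgroup.mem_center_iff.1 ha) b).symm
  -- the normalizer of `R` is `R`
  obtain ⟨r₀, hr₀, hr₀z⟩ : ∃ r₀ ∈ (R : Subgroup L), r₀ * r₀ = z := by
    by_contra hcon
    push Not at hcon
    have hall : ∀ r ∈ (R : Subgroup L), r * r = 1 := fun r hr =>
      (hsq r hr).resolve_right (hcon r hr)
    have hfr : frattini ↥(R : Subgroup L) = ⊥ := by
      apply Cfsg.Agent.H1.frattini_eq_bot_of_elementary_abelian (p := 2)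
      · intro a b
        apply Subtype.ext
        show (a : L) * b = b * a
        have ha := hall a a.2
        have hb := hall b b.2
        have hab := hall (a * b) (Subgroup.mul_mem _ a.2 b.2)
        symm
        calc (b : L) * a = ((a : L) * a) * (b * a) * (b * b) := by rw [ha, hb, one_mul, mul_one]
          _ = a * (a * b * (a * b)) * b := by group
          _ = a * b := by rw [hab, mul_one]
      · intro v
        apply Subtype.ext
        show (v : L) ^ 2 = 1
        rw [pow_two]
        exact hall v v.2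
    rw [hfr, Subgroup.map_bot] at hΦ
    have : z ∈ (⊥ : Subgroup L) := by rw [hΦ]; exact Subgroup.mem_zpowers z
    exact hz1 (Subgroup.mem_bot.1 this)
  have hnorm : ∀ g ∈ Subgroup.normalizer ((R : Subgroup L) : Set L), g ∈ (R : Subgroup L) := by
    intro g hg
    rw [Subgroup.mem_normalizer_iff] at hg
    have h1 : g * r₀ * g⁻¹ ∈ (R : Subgroup L) := (hg r₀).1 hr₀
    have h2 : (g * r₀ * g⁻¹) * (g * r₀ * g⁻¹) = g * z * g⁻¹ := by rw [← hr₀z]; group
    rcases hsq _ h1 with h | h
    · exfalso
      rw [h2] at h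
      apply hz1
      have : z = g⁻¹ * (g * z * g⁻¹) * g := by group
      rw [this, h]
      group
    · rw [h2] at h
      rw [hR, Subgroup.mem_centralizer_iff]
      intro w hw
      rw [Set.mem_singleton_iff] at hw
      subst hw
      calc w * g = (g * w * g⁻¹) * g := by rw [h]
        _ = g * w := by group
  -- `O²(L) = L`
  have hres : Cfsg.pResidual 2 L = ⊤ := by
    rcases (inferInstance : (Cfsg.pResidual 2 L).Normal).eq_bot_or_eq_top with h | h
    · exfalso
      have hq := Cfsg.Agent.H1.isPGroup_quotient_pResidual (G := L) 2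
      have hP : IsPGroup 2 L := by
        intro g
        obtain ⟨k, hk⟩ := hq (QuotientGroup.mk g)
        refine ⟨k, ?_⟩
        rw [← QuotientGroup.mk_pow, QuotientGroup.eq_one_iff, h, Subgroup.mem_bot] at hk
        exact hk
      have hc := hP.bot_lt_center
      obtain ⟨c, hc1, hc2⟩ := SetLike.exists_of_lt hc
      exact hcomm_of_center c hc1 (fun h' => hc2 (by rw [h']; exact Subgroup.one_mem _))
    · exact h
  -- central involutions of `R`
  have hcenR : ∀ b ∈ (R : Subgroup L), (∀ r ∈ (R : Subgroup L), b * r = r * b) → b * b = 1 →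
      b = 1 ∨ b = z := by
    rcases Cfsg.Agent.Lib.Helper7.sylow_two_center_trichotomy R with h | h | h
    · exact absurd hres h
    · intro b hb hbc hb2
      have h1 : b ∈ Cfsg.omegaOne 2
          ((R : Subgroup L) ⊓ Subgroup.centralizer ((R : Subgroup L) : Set L)) := by
        apply Subgroup.subset_closure
        have hbC : b ∈ Subgroup.centralizer ((R : Subgroup L) : Set L) := by
          rw [Subgroup.mem_centralizer_iff]
          intro r hr
          exact (hbc r hr).symm
        exact ⟨Subgroup.mem_inf.2 ⟨hb, hbC⟩, by rw [pow_two]; exact hb2⟩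
      have h2 := h h1
      rw [hΦ] at h2
      exact Cfsg.Agent.H9.SylowD8.mem_zpowers_of_sq hz2 h2
    · exfalso
      obtain ⟨g, hg, z', hz', hne⟩ := h
      have hgR := hnorm g hg
      have hle : Cfsg.omegaOne 2
          ((R : Subgroup L) ⊓ Subgroup.centralizer ((R : Subgroup L) : Set L)) ≤
          (R : Subgroup L) ⊓ Subgroup.centralizer ((R : Subgroup L) : Set L) := by
        unfold Cfsg.omegaOne
        rw [Subgroup.closure_le]
        intro w hw
        exact hw.1
      have h1 : z' ∈ Subgroup.centralizer ((R : Subgroup L) : Set L) :=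
        (Subgroup.mem_inf.1 (hle hz')).2
      rw [Subgroup.mem_centralizer_iff] at h1
      apply hne
      rw [h1 g hgR]
      group
  -- `z` is not isolated
  obtain ⟨g, hgR, hgne⟩ : ∃ g : L, g * z * g⁻¹ ∈ (R : Subgroup L) ∧ g * z * g⁻¹ ≠ z := by
    by_contra hcon
    push Not at hcon
    obtain ⟨N, hN, hodd, hcomm⟩ := Cfsg.Agent.S0215.result R z hz hzR hcon
    rcases hN.eq_bot_or_eq_top with h | h
    · apply hcomm_of_center z _ hz1
      rw [Subgroup.mem_center_iff]
      intro k
      have h1 := hcomm k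
      rw [h, Subgroup.mem_bot] at h1
      calc k * z = (z * k * z⁻¹ * k⁻¹)⁻¹ * (z * k) := by group
        _ = z * k := by rw [h1, inv_one, one_mul]
    · rw [h, Subgroup.card_top] at hodd
      have h2 : 2 ∣ Nat.card L := by rw [← hz]; exact orderOf_dvd_natCard z
      exact (Nat.not_even_iff_odd.2 hodd) (even_iff_two_dvd.2 h2)
  have hy2 : (g * z * g⁻¹) * (g * z * g⁻¹) = 1 := by
    calc (g * z * g⁻¹) * (g * z * g⁻¹) = g * (z * z) * g⁻¹ := by group
      _ = 1 := by rw [hz2]; group
  have hy1 : g * z * g⁻¹ ≠ 1 := by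
    intro h
    apply hz1
    have : z = g⁻¹ * (g * z * g⁻¹) * g := by group
    rw [this, h]
    group
  have hA : ∀ r ∈ (R : Subgroup L), r * (g * z * g⁻¹) = (g * z * g⁻¹) * r → r * r = 1 := by
    intro r hr hry
    have h1 : g⁻¹ * r * g ∈ (R : Subgroup L) := by
      rw [hR, Subgroup.mem_centralizer_iff]
      intro w hw
      rw [Set.mem_singleton_iff] at hw
      subst hw
      calc w * (g⁻¹ * r * g) = g⁻¹ * ((g * w * g⁻¹) * r) * g := by group
        _ = g⁻¹ * (r * (g * w * g⁻¹)) * g := by rw [hry]
        _ = g⁻¹ * r * g * w := by group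
    have e : r * r = g * ((g⁻¹ * r * g) * (g⁻¹ * r * g)) * g⁻¹ := by group
    rcases hsq _ h1 with h | h
    · rw [e, h]; group
    · rw [h] at e
      rcases hsq r hr with h' | h'
      · exact h'
      · exfalso
        apply hgne
        rw [← e, h']
  obtain ⟨x, hx, hxy⟩ : ∃ x ∈ (R : Subgroup L), x * (g * z * g⁻¹) ≠ (g * z * g⁻¹) * x := by
    by_contra hcon
    push Not at hcon
    rcases hcenR _ hgR (fun r hr => (hcon r hr).symm) hy2 with h | h
    · exact hy1 h
    · exact hgne h
  exact Cfsg.Agent.H9.SylowD8.d8_of_data (R : Subgroup L) z (g * z * g⁻¹) x hz2 hz1 hzR hzc hsq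
    hgR hy2 hgne hy1 hA hcenR hx hxy

end Cfsg.Agent.S5435
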