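import Cfsg.Statements.S5437

set_option autoImplicit false
open Cfsg

namespace Cfsg.Agent.S5437

theorem mem_map_conj_iff {G : Type*} [Group G] (H : Subgroup G) (g x : G) :
    x ∈ (H : Subgroup G).map (MulAut.conj g).toMonoidHom ↔ g⁻¹ * x * g ∈ H := by
  constructor
  · rintro ⟨y, hy, rfl⟩
    have : g⁻¹ * (MulAut.conj g).toMonoidHom y * g = y := by simp; group
    rw [this]; exact hy
  · intro h
    exact ⟨_, h, by simp; group⟩

theorem smul_mk_eq_iff {G : Type*} [Group G] (H : Subgroup G) (g x : G) :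
    x • (QuotientGroup.mk g : G ⧸ H) = QuotientGroup.mk g ↔ g⁻¹ * x * g ∈ H := by
  rw [MulAction.Quotient.smul_mk, QuotientGroup.eq, smul_eq_mul]
  constructor
  · intro h
    have := H.inv_mem h
    have e : ((x * g)⁻¹ * g)⁻¹ = g⁻¹ * x * g := by group
    rwa [e] at this
  · intro h
    have := H.inv_mem h
    have e : (g⁻¹ * x * g)⁻¹ = (x * g)⁻¹ * g := by group
    rwa [e] at this

theorem result {G : Type*} [Group G] [Finite G] (I : Set G) (hI : ∀ x ∈ I, orderOf x = 2) (hIc : ∀ g : G, ∀ x ∈ I, g * x * g⁻¹ ∈ I) (H : Subgroup G) : ((∀ x ∈ I, x ∈ H → (∀ g : G, g * x * g⁻¹ ∈ H → ∃ h ∈ H, h * x * h⁻¹ = g * x * g⁻¹) ∧ Subgroup.centralizer ({x} : Set G) ≤ H) ↔ (∀ g : G, g ∉ H → ∀ x ∈ I, ¬ (x ∈ H ∧ x ∈ (H : Subgroup G).map (MulAut.conj g).toMonoidHom))) ∧ ((∀ g : G, g ∉ H → ∀ x ∈ I, ¬ (x ∈ H ∧ x ∈ (H : Subgroup G).map (MulAut.conj g).toMonoidHom)) ↔ ∀ x ∈ I, x ∈ H → ∃! c : G ⧸ H, x • c = c) := by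
  simp only [mem_map_conj_iff]
  refine ⟨⟨?_, ?_⟩, ⟨?_, ?_⟩⟩
  · -- A → B
    intro hA g hg x hxI ⟨hxH, hxg⟩
    apply hg
    have hyI : g⁻¹ * x * g ∈ I := by
      have := hIc g⁻¹ x hxI
      rwa [inv_inv] at this
    obtain ⟨hA1, hA2⟩ := hA _ hyI hxg
    have e : g * (g⁻¹ * x * g) * g⁻¹ = x := by group
    obtain ⟨h, hh, hhe⟩ := hA1 g (by rw [e]; exact hxH)
    rw [e] at hhe
    -- g⁻¹ h centralizes y
    have hc : g⁻¹ * h ∈ Subgroup.centralizer ({g⁻¹ * x * g} : Set G) := by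
      rw [Subgroup.mem_centralizer_iff]
      intro w hw
      rw [Set.mem_singleton_iff] at hw
      subst hw
      have e2 : h * (g⁻¹ * x * g) = x * h := by
        calc h * (g⁻¹ * x * g) = h * (g⁻¹ * x * g) * h⁻¹ * h := by group
          _ = x * h := by rw [hhe]
      calc g⁻¹ * x * g * (g⁻¹ * h) = g⁻¹ * (x * h) := by group
        _ = g⁻¹ * (h * (g⁻¹ * x * g)) := by rw [e2]
        _ = g⁻¹ * h * (g⁻¹ * x * g) := by group
    have h1 := hA2 hc
    have h2 : g⁻¹ ∈ H := by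
      have := H.mul_mem h1 (H.inv_mem hh)
      simpa using this
    simpa using H.inv_mem h2
  · -- B → A
    intro hB x hxI hxH
    refine ⟨?_, ?_⟩
    · intro g hgx
      by_cases hg : g ∈ H
      · exact ⟨g, hg, rfl⟩
      · exfalso
        apply hB g hg (g * x * g⁻¹) (hIc g x hxI)
        refine ⟨hgx, ?_⟩
        have e : g⁻¹ * (g * x * g⁻¹) * g = x := by group
        rw [e]; exact hxH
    · intro c hc
      by_contra hcH
      apply hB c hcH x hxI
      refine ⟨hxH, ?_⟩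
      rw [Subgroup.mem_centralizer_iff] at hc
      have := hc x rfl
      have e : c⁻¹ * x * c = x := by
        rw [mul_assoc, this, ← mul_assoc, inv_mul_cancel, one_mul]
      rw [e]; exact hxH
  · -- B → C
    intro hB x hxI hxH
    refine ⟨QuotientGroup.mk 1, ?_, ?_⟩
    · show x • (QuotientGroup.mk 1 : G ⧸ H) = QuotientGroup.mk 1
      rw [smul_mk_eq_iff]; simpa using hxH
    · intro c hc
      obtain ⟨g, rfl⟩ := QuotientGroup.mk_surjective c
      rw [smul_mk_eq_iff] at hc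
      by_contra hne
      have hg : g ∉ H := by
        intro hg
        apply hne
        rw [QuotientGroup.eq]
        simpa using H.inv_mem hg
      exact hB g hg x hxI ⟨hxH, hc⟩
  · -- C → B
    intro hC g hg x hxI ⟨hxH, hxg⟩
    obtain ⟨c, _, hcu⟩ := hC x hxI hxH
    have h1 : (QuotientGroup.mk 1 : G ⧸ H) = c := hcu _ (by
      show x • (QuotientGroup.mk 1 : G ⧸ H) = QuotientGroup.mk 1
      rw [smul_mk_eq_iff]; simpa using hxH)
    have h2 : (QuotientGroup.mk g : G ⧸ H) = c := hcu _ (by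
      show x • (QuotientGroup.mk g : G ⧸ H) = QuotientGroup.mk g
      rw [smul_mk_eq_iff]; exact hxg)
    apply hg
    have := h1.trans h2.symm
    rw [QuotientGroup.eq] at this
    simpa using this

end Cfsg.Agent.S5437
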