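import Cfsg.Statements.S5438
import Cfsg.Agent.H9.Basic

set_option autoImplicit false
open Cfsg

namespace Cfsg.Agent.S5438

open scoped Pointwise

theorem result {G : Type*} [Group G] [Finite G] (z : G) (hz : Cfsg.IsTwoCentralInvolution z) (H : Subgroup G) (hzH : z ∈ H) (hfix : ∀ g : G, g⁻¹ * z * g ∈ H → g ∈ H) : Odd H.index ∧ ∀ x ∈ H, (∃ k : ℕ, orderOf x = 2 ^ k) → ∀ g : G, g * x * g⁻¹ ∈ H → ∃ h ∈ H, h * x * h⁻¹ = g * x * g⁻¹ := by
  obtain ⟨hz2, P, hzP, hPc⟩ := hz
  have : Fact (Nat.Prime 2) := ⟨Nat.prime_two⟩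
  have hCH : ∀ g : G, g * z = z * g → g ∈ H := by
    intro g hg
    apply hfix
    rw [mul_assoc, ← hg, ← mul_assoc, inv_mul_cancel, one_mul]
    exact hzH
  have hPH : (P : Subgroup G) ≤ H := fun x hx => hCH x (hPc x hx)
  -- 2-subgroups containing z lie in H
  have h2sub : ∀ S : Subgroup G, IsPGroup 2 S → z ∈ S → S ≤ H := by
    intro S hS hzS
    obtain ⟨P', hSP'⟩ := hS.exists_le_sylow
    obtain ⟨k, hk⟩ := MulAction.exists_smul_eq G P P'
    have hmem : ∀ s : G, s ∈ P' → k⁻¹ * s * k ∈ P := by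
      intro s hs
      rw [← hk] at hs
      have hs' : s ∈ ((k • P : Sylow 2 G) : Subgroup G) := hs
      rw [Sylow.coe_subgroup_smul] at hs'
      have := Subgroup.mem_pointwise_smul_iff_inv_smul_mem.mp hs'
      have h3 : k⁻¹ * s * k ∈ (P : Subgroup G) := by simpa [MulAut.smul_def] using this
      exact h3
    have hkH : k ∈ H := hfix k (hPH (hmem z (hSP' hzS)))
    intro s hs
    have h1 : k⁻¹ * s * k ∈ H := hPH (hmem s (hSP' hs))
    have : s = k * (k⁻¹ * s * k) * k⁻¹ := by group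
    rw [this]
    exact H.mul_mem (H.mul_mem hkH h1) (H.inv_mem hkH)
  refine ⟨?_, ?_⟩
  · have h1 : H.index ∣ (P : Subgroup G).index := Subgroup.index_dvd_of_le hPH
    have h2 : ¬ 2 ∣ (P : Subgroup G).index := P.not_dvd_index
    rw [← Nat.not_even_iff_odd, even_iff_two_dvd]
    exact fun h => h2 (h.trans h1)
  · intro x hxH ⟨kx, hkx⟩ g hyH
    obtain ⟨y, hy⟩ : ∃ y : G, y = g * x * g⁻¹ := ⟨_, rfl⟩
    rw [← hy] at hyH ⊢
    have hordy : orderOf y = 2 ^ kx := by
      rw [hy, ← hkx]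
      have : g * x * g⁻¹ = MulAut.conj g x := by simp
      rw [this, MulEquiv.orderOf_eq]
    -- conjugate x and y into P by elements of H
    obtain ⟨h1, hh1, hx'⟩ := Cfsg.Agent.H9.exists_conj_mem_sylow_of_le P H hPH (Subgroup.zpowers x)
      (Cfsg.Agent.H9.isPGroup_zpowers_of_orderOf hkx) (by rwa [Subgroup.zpowers_le])
    obtain ⟨h2, hh2, hy'⟩ := Cfsg.Agent.H9.exists_conj_mem_sylow_of_le P H hPH (Subgroup.zpowers y)
      (Cfsg.Agent.H9.isPGroup_zpowers_of_orderOf hordy) (by rwa [Subgroup.zpowers_le])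
    have hx'P := hx' x (Subgroup.mem_zpowers x)
    have hy'P := hy' y (Subgroup.mem_zpowers y)
    obtain ⟨x', hx'def⟩ : ∃ x' : G, x' = h1 * x * h1⁻¹ := ⟨_, rfl⟩
    obtain ⟨y', hy'def⟩ : ∃ y' : G, y' = h2 * y * h2⁻¹ := ⟨_, rfl⟩
    rw [← hx'def] at hx'P
    rw [← hy'def] at hy'P
    -- g'' conjugates x' to y'
    obtain ⟨g'', hg''def⟩ : ∃ g'' : G, g'' = h2 * g * h1⁻¹ := ⟨_, rfl⟩
    have hxy' : y' = g'' * x' * g''⁻¹ := by
      rw [hy'def, hy, hg''def, hx'def]; group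
    -- z and z' = g'' z g''⁻¹ both commute with y'
    have hzy' : y' * z = z * y' := hPc y' hy'P
    have hzx' : x' * z = z * x' := hPc x' hx'P
    obtain ⟨z', hz'def⟩ : ∃ z' : G, z' = g'' * z * g''⁻¹ := ⟨_, rfl⟩
    have hz'y' : y' * z' = z' * y' := by
      rw [hz'def, hxy']
      calc g'' * x' * g''⁻¹ * (g'' * z * g''⁻¹) = g'' * (x' * z) * g''⁻¹ := by group
        _ = g'' * (z * x') * g''⁻¹ := by rw [hzx']
        _ = g'' * z * g''⁻¹ * (g'' * x' * g''⁻¹) := by group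
    -- work in C = centralizer of y'
    set C : Subgroup G := Subgroup.centralizer {y'} with hCdef
    have hzC : z ∈ C := by
      rw [hCdef, Subgroup.mem_centralizer_iff]; intro w hw; rw [Set.mem_singleton_iff] at hw; rw [hw]; exact hzy'
    have hz'C : z' ∈ C := by
      rw [hCdef, Subgroup.mem_centralizer_iff]; intro w hw; rw [Set.mem_singleton_iff] at hw; rw [hw]; exact hz'y'
    have hzpg : IsPGroup 2 (Subgroup.zpowers z) :=
      Cfsg.Agent.H9.isPGroup_zpowers_of_orderOf (k := 1) (by rw [hz2, pow_one])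
    have hz'2 : orderOf z' = 2 := by
      rw [hz'def, ← hz2]
      have : g'' * z * g''⁻¹ = MulAut.conj g'' z := by simp
      rw [this, MulEquiv.orderOf_eq]
    have hz'pg : IsPGroup 2 (Subgroup.zpowers z') :=
      Cfsg.Agent.H9.isPGroup_zpowers_of_orderOf (k := 1) (by rw [hz'2, pow_one])
    -- a Sylow 2-subgroup S of C containing z
    have hzC' : IsPGroup 2 ((Subgroup.zpowers z).subgroupOf C) := hzpg.comap_subtype
    obtain ⟨S, hS⟩ := hzC'.exists_le_sylow
    -- S mapped to G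
    have hSG : IsPGroup 2 ((S : Subgroup C).map C.subtype) := S.isPGroup'.map _
    have hzS : z ∈ (S : Subgroup C).map C.subtype := by
      refine ⟨⟨z, hzC⟩, hS ?_, rfl⟩
      rw [Subgroup.mem_subgroupOf]; exact Subgroup.mem_zpowers z
    have hSH : (S : Subgroup C).map C.subtype ≤ H := h2sub _ hSG hzS
    -- conjugate z' into S within C
    obtain ⟨c, hcC, hc⟩ := Cfsg.Agent.H9.exists_conj_mem_sylow_of_le (G := C) S ⊤ le_top
      ((Subgroup.zpowers z').subgroupOf C) hz'pg.comap_subtype le_top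
    have hcz' : c * ⟨z', hz'C⟩ * c⁻¹ ∈ S := hc ⟨z', hz'C⟩ (by
      rw [Subgroup.mem_subgroupOf]; exact Subgroup.mem_zpowers z')
    have hcz'H : (c : G) * z' * (c : G)⁻¹ ∈ H := by
      apply hSH
      exact ⟨_, hcz', by simp⟩
    -- hence k = c g'' ∈ H
    have hkH : (c : G) * g'' ∈ H := by
      have : ((c : G) * g'')⁻¹ ∈ H := by
        apply hfix
        rw [inv_inv]
        have : (c : G) * g'' * z * ((c : G) * g'')⁻¹ = (c : G) * z' * (c : G)⁻¹ := by
          rw [hz'def]; group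
        rw [this]; exact hcz'H
      simpa using H.inv_mem this
    have hcy' : (c : G) * y' = y' * (c : G) := by
      have := Subgroup.mem_centralizer_iff.mp c.2
      exact (this y' rfl).symm
    refine ⟨h2⁻¹ * ((c : G) * g'') * h1, H.mul_mem (H.mul_mem (H.inv_mem hh2) hkH) hh1, ?_⟩
    have e1 : (c : G) * g'' * x' * ((c : G) * g'')⁻¹ = y' := by
      calc (c : G) * g'' * x' * ((c : G) * g'')⁻¹ = (c : G) * (g'' * x' * g''⁻¹) * (c : G)⁻¹ := by group
        _ = (c : G) * y' * (c : G)⁻¹ := by rw [← hxy']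
        _ = y' := by rw [hcy']; group
    calc h2⁻¹ * ((c : G) * g'') * h1 * x * (h2⁻¹ * ((c : G) * g'') * h1)⁻¹
        = h2⁻¹ * ((c : G) * g'' * (h1 * x * h1⁻¹) * ((c : G) * g'')⁻¹) * h2 := by group
      _ = h2⁻¹ * y' * h2 := by rw [← hx'def, e1]
      _ = y := by rw [hy'def]; group

end Cfsg.Agent.S5438
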