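import Cfsg.Statements.S5439
import Cfsg.Agent.S5437

set_option autoImplicit false
open Cfsg

namespace Cfsg.Agent.S5439

open Cfsg.Agent.S5437 (smul_mk_eq_iff)

/-- If `x` fixes a unique coset of `H` and `x ∈ H`, any coset fixed by `x` is `H`. -/
theorem mem_of_fix {G : Type*} [Group G] (H : Subgroup G) (x : G)
    (hfix : ∃! c : G ⧸ H, x • c = c) (hx : x ∈ H) (g : G) (hg : g⁻¹ * x * g ∈ H) : g ∈ H := by
  obtain ⟨c, _, hcu⟩ := hfix
  have h1 : (QuotientGroup.mk 1 : G ⧸ H) = c := hcu _ (by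
    show x • (QuotientGroup.mk 1 : G ⧸ H) = QuotientGroup.mk 1
    rw [smul_mk_eq_iff]; simpa using hx)
  have h2 : (QuotientGroup.mk g : G ⧸ H) = c := hcu _ (by
    show x • (QuotientGroup.mk g : G ⧸ H) = QuotientGroup.mk g
    rw [smul_mk_eq_iff]; exact hg)
  have := h1.trans h2.symm
  rw [QuotientGroup.eq] at this
  simpa using this

theorem result {G : Type*} [Group G] [Finite G] (I J : Set G) (a₀ b₀ : G) (ha₀ : orderOf a₀ = 2) (hb₀ : orderOf b₀ = 2) (hI : I = {x | IsConj a₀ x}) (hJ : J = {x | IsConj b₀ x}) (hIJ : I ≠ J) (H : Subgroup G) (hfix : ∀ x ∈ I ∪ J, ∃! c : G ⧸ H, x • c = c) (hcent : ∀ a ∈ I, a ∈ H → ∀ b ∈ I ∪ J, b ∈ H → a ≠ b → a * b = b * a → Subgroup.centralizer ({a * b} : Set G) ≤ H) : H = ⊤ := by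
  by_contra hne
  obtain ⟨g, hg⟩ : ∃ g : G, g ∉ H := by
    by_contra h
    push Not at h
    exact hne (eq_top_iff.mpr fun x _ => h x)
  have hIconj : ∀ x ∈ I, ∀ c : G, c * x * c⁻¹ ∈ I := by
    intro x hx c
    rw [hI] at hx ⊢
    exact (hx.trans (isConj_iff.mpr ⟨c, rfl⟩) : IsConj a₀ (c * x * c⁻¹))
  have hJconj : ∀ x ∈ J, ∀ c : G, c * x * c⁻¹ ∈ J := by
    intro x hx c
    rw [hJ] at hx ⊢
    exact (hx.trans (isConj_iff.mpr ⟨c, rfl⟩) : IsConj b₀ (c * x * c⁻¹))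
  have ha₀I : a₀ ∈ I := by rw [hI]; exact IsConj.refl a₀
  have hb₀J : b₀ ∈ J := by rw [hJ]; exact IsConj.refl b₀
  have hinvI : ∀ x ∈ I, x * x = 1 := by
    intro x hx
    rw [hI] at hx
    obtain ⟨c, rfl⟩ := isConj_iff.mp hx
    have : a₀ * a₀ = 1 := by rw [← pow_two, ← ha₀, pow_orderOf_eq_one]
    calc c * a₀ * c⁻¹ * (c * a₀ * c⁻¹) = c * (a₀ * a₀) * c⁻¹ := by group
      _ = 1 := by rw [this]; group
  have hinvJ : ∀ x ∈ J, x * x = 1 := by
    intro x hx
    rw [hJ] at hx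
    obtain ⟨c, rfl⟩ := isConj_iff.mp hx
    have : b₀ * b₀ = 1 := by rw [← pow_two, ← hb₀, pow_orderOf_eq_one]
    calc c * b₀ * c⁻¹ * (c * b₀ * c⁻¹) = c * (b₀ * b₀) * c⁻¹ := by group
      _ = 1 := by rw [this]; group
  -- a ∈ I ∩ H
  obtain ⟨a, haI, haH⟩ : ∃ a ∈ I, a ∈ H := by
    obtain ⟨c, hc, _⟩ := hfix a₀ (Or.inl ha₀I)
    obtain ⟨k, rfl⟩ := QuotientGroup.mk_surjective c
    rw [smul_mk_eq_iff] at hc
    refine ⟨k⁻¹ * a₀ * k, ?_, hc⟩
    have := hIconj a₀ ha₀I k⁻¹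
    rwa [inv_inv] at this
  -- b ∈ J, g⁻¹ b g ∈ H, b ∉ H
  obtain ⟨b, hbJ, hbg, hbH⟩ : ∃ b ∈ J, g⁻¹ * b * g ∈ H ∧ b ∉ H := by
    obtain ⟨c, hc, _⟩ := hfix b₀ (Or.inr hb₀J)
    obtain ⟨k, rfl⟩ := QuotientGroup.mk_surjective c
    rw [smul_mk_eq_iff] at hc
    have hb1J : k⁻¹ * b₀ * k ∈ J := by
      have := hJconj b₀ hb₀J k⁻¹
      rwa [inv_inv] at this
    have e : g⁻¹ * (g * (k⁻¹ * b₀ * k) * g⁻¹) * g = k⁻¹ * b₀ * k := by group
    refine ⟨g * (k⁻¹ * b₀ * k) * g⁻¹, hJconj _ hb1J g, by rw [e]; exact hc, ?_⟩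
    intro hbH
    apply hg
    exact mem_of_fix H _ (hfix _ (Or.inr (hJconj _ hb1J g))) hbH g (by rw [e]; exact hc)
  have haa : a * a = 1 := hinvI a haI
  have hbb : b * b = 1 := hinvJ b hbJ
  have hainv : a⁻¹ = a := inv_eq_of_mul_eq_one_right haa
  have hbinv : b⁻¹ = b := inv_eq_of_mul_eq_one_right hbb
  obtain ⟨r, hr⟩ : ∃ r : G, r = a * b := ⟨_, rfl⟩
  have hrinv : r⁻¹ = b * a := by rw [hr, mul_inv_rev, hainv, hbinv]
  have har : SemiconjBy a r r⁻¹ := by
    unfold SemiconjBy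
    rw [hrinv, hr, ← mul_assoc, haa, one_mul, mul_assoc, haa, mul_one]
  have hbr : SemiconjBy b r r⁻¹ := by
    unfold SemiconjBy
    rw [hrinv, hr, mul_assoc]
  have harb : a * r = b := by rw [hr, ← mul_assoc, haa, one_mul]
  have hm0 : 0 < orderOf r := orderOf_pos r
  -- a and b are not conjugate
  have hnconj : ¬ IsConj a b := by
    intro hab
    apply hIJ
    rw [hI] at haI
    rw [hJ] at hbJ
    have h1 : IsConj a₀ b₀ := (haI.trans hab).trans hbJ.symm
    rw [hI, hJ]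
    ext x
    show IsConj a₀ x ↔ IsConj b₀ x
    exact ⟨fun h => h1.symm.trans h, fun h => h1.trans h⟩
  -- the order of r is even
  have heven : Even (orderOf r) := by
    rw [← Nat.not_odd_iff_even]
    rintro ⟨k, hk⟩
    apply hnconj
    rw [isConj_iff]
    refine ⟨r ^ k, ?_⟩
    have h1 : SemiconjBy a (r ^ k) ((r ^ k)⁻¹) := by
      have := har.pow_right k
      rwa [inv_pow] at this
    have h2 : a * (r ^ k)⁻¹ = r ^ k * a := by
      have := h1.inv_right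
      rwa [inv_inv] at this
    have h3 : r ^ k * r ^ k * r = 1 := by
      rw [← pow_add, ← pow_succ, ← two_mul, ← hk, pow_orderOf_eq_one]
    calc r ^ k * a * (r ^ k)⁻¹ = r ^ k * (a * (r ^ k)⁻¹) := by group
      _ = r ^ k * (r ^ k * a) := by rw [h2]
      _ = r ^ k * r ^ k * r * (r⁻¹ * a) := by group
      _ = r⁻¹ * a := by rw [h3, one_mul]
      _ = a * r := har.eq.symm
      _ = b := harb
  obtain ⟨j, hj⟩ := heven
  have hj0 : j ≠ 0 := by omega
  obtain ⟨t, ht⟩ : ∃ t : G, t = r ^ j := ⟨_, rfl⟩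
  have htt : t * t = 1 := by rw [ht, ← pow_add, ← hj, pow_orderOf_eq_one]
  have ht1 : t ≠ 1 := by
    rw [ht]
    exact pow_ne_one_of_lt_orderOf hj0 (by omega)
  have htinv : t⁻¹ = t := inv_eq_of_mul_eq_one_right htt
  have hat : a * t = t * a := by
    have := har.pow_right j
    rw [inv_pow, ← ht, htinv] at this
    exact this.eq
  have hbt : b * t = t * b := by
    have := hbr.pow_right j
    rw [inv_pow, ← ht, htinv] at this
    exact this.eq
  -- t ∈ H
  have htH : t ∈ H := by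
    apply mem_of_fix H a (hfix a (Or.inl haI)) haH t
    have : t⁻¹ * a * t = a := by rw [mul_assoc, hat, ← mul_assoc, inv_mul_cancel, one_mul]
    rw [this]; exact haH
  -- a t ∈ I ∪ J
  have hatIJ : a * t ∈ I ∪ J := by
    rcases Nat.even_or_odd' j with ⟨i, hi | hi⟩
    · left
      have h1 : SemiconjBy a (r ^ i) ((r ^ i)⁻¹) := by
        have := har.pow_right i
        rwa [inv_pow] at this
      have : a * t = (r ^ i)⁻¹ * a * ((r ^ i)⁻¹)⁻¹ := by
        rw [inv_inv, ← h1.eq, ht, hi, two_mul, pow_add, mul_assoc]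
      rw [this]
      exact hIconj a haI _
    · right
      have h1 : SemiconjBy a (r ^ i) ((r ^ i)⁻¹) := by
        have := har.pow_right i
        rwa [inv_pow] at this
      have : a * t = (r ^ i)⁻¹ * b * ((r ^ i)⁻¹)⁻¹ := by
        rw [inv_inv, ← harb, ← mul_assoc, ← h1.eq, ht, hi, pow_succ, two_mul, pow_add]
        group
      rw [this]
      exact hJconj b hbJ _
  have hane : a ≠ a * t := by
    intro h
    apply ht1
    have : a * 1 = a * t := by rw [mul_one]; exact h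
    exact (mul_left_cancel this).symm
  have hcomm : a * (a * t) = a * t * a := by rw [mul_assoc, hat]
  have hC := hcent a haI haH (a * t) hatIJ (H.mul_mem haH htH) hane hcomm
  have e : a * (a * t) = t := by rw [← mul_assoc, haa, one_mul]
  rw [e] at hC
  apply hbH
  apply hC
  rw [Subgroup.mem_centralizer_iff]
  intro w hw
  rw [Set.mem_singleton_iff] at hw
  rw [hw]
  exact hbt.symm

end Cfsg.Agent.S5439
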