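import Cfsg.Statements.S5459

set_option autoImplicit false
open Cfsg
open scoped commutatorElement

namespace Cfsg.Agent.S5459

variable {G : Type*} [Group G]

/-- The vertex `g d g⁻¹` of the commuting graph on the class of `d`. -/
def vtx (d g : G) : conjugatesOf d := ⟨g * d * g⁻¹, isConj_iff.2 ⟨g, rfl⟩⟩

theorem exists_vtx (d : G) (v : conjugatesOf d) : ∃ g, v = vtx d g := by
  obtain ⟨g, hg⟩ := isConj_iff.1 v.2
  exact ⟨g, Subtype.ext hg.symm⟩

/-- Conjugation as an endomorphism of the commuting graph. -/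
def conjHom (d g : G) : commutingGraph (conjugatesOf d) →g commutingGraph (conjugatesOf d) where
  toFun a := ⟨g * a.1 * g⁻¹, by
    obtain ⟨c, hc⟩ := isConj_iff.1 a.2
    refine isConj_iff.2 ⟨g * c, ?_⟩
    rw [← hc]
    group⟩
  map_rel' := by
    intro a b hab
    have hab' : a ≠ b ∧ (Commute a.1 b.1 ∨ Commute b.1 a.1) := hab
    have hc : Commute a.1 b.1 := hab'.2.elim id Commute.symm
    refine ⟨?_, Or.inl ?_⟩
    · intro h
      apply hab'.1
      have h1 := congrArg Subtype.val h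
      simp only at h1
      exact Subtype.ext (mul_left_cancel (mul_right_cancel h1))
    · change (g * a.1 * g⁻¹) * (g * b.1 * g⁻¹) = (g * b.1 * g⁻¹) * (g * a.1 * g⁻¹)
      have : a.1 * b.1 = b.1 * a.1 := hc
      calc g * a.1 * g⁻¹ * (g * b.1 * g⁻¹) = g * (a.1 * b.1) * g⁻¹ := by group
        _ = g * (b.1 * a.1) * g⁻¹ := by rw [this]
        _ = g * b.1 * g⁻¹ * (g * a.1 * g⁻¹) := by group

theorem conjHom_vtx (d g h : G) : conjHom d g (vtx d h) = vtx d (g * h) := by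
  apply Subtype.ext
  change g * (h * d * h⁻¹) * g⁻¹ = g * h * d * (g * h)⁻¹
  group

/-- The elements `g` such that `g d g⁻¹` lies in the connected component of `d`. -/
def S (d : G) : Subgroup G where
  carrier := {g | (commutingGraph (conjugatesOf d)).Reachable (vtx d 1) (vtx d g)}
  one_mem' := SimpleGraph.Reachable.refl _
  mul_mem' := by
    intro g h hg hh
    have h1 := hh.map (conjHom d g)
    rw [conjHom_vtx, conjHom_vtx, mul_one] at h1
    exact hg.trans h1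
  inv_mem' := by
    intro g hg
    have h1 := hg.map (conjHom d g⁻¹)
    rw [conjHom_vtx, conjHom_vtx, mul_one, inv_mul_cancel] at h1
    exact h1.symm

theorem mem_S (d g : G) :
    g ∈ S d ↔ (commutingGraph (conjugatesOf d)).Reachable (vtx d 1) (vtx d g) := Iff.rfl

theorem reachable_of_commute (d : G) (a b : conjugatesOf d) (h : Commute a.1 b.1) :
    (commutingGraph (conjugatesOf d)).Reachable a b := by
  by_cases hab : a = b
  · rw [hab]
  · exact SimpleGraph.Adj.reachable ⟨hab, Or.inl h⟩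

/-- Let G be a finite group with a quasisimple normal subgroup L and an involution d such that G is generated by L and d, the centre of L has odd order, and d inverts every element of the centre of L. If the commuting graph on the conjugacy class of the image of d in G modulo the centre of L is connected, then the commuting graph on the conjugacy class of d is connected. -/
theorem result {G : Type*} [Group G] [Finite G] (L : Subgroup G) [L.Normal] (hL : Cfsg.IsQuasisimple ↥L) (d : G) (hd : orderOf d = 2) (hgen : L ⊔ Subgroup.zpowers d = ⊤) (hodd : Odd (Nat.card ↥(Subgroup.center ↥L))) (hinv : ∀ c ∈ (Subgroup.center ↥L).map L.subtype, d * c * d⁻¹ = c⁻¹) [hn : ((Subgroup.center ↥L).map L.subtype).Normal] (hconn : (Cfsg.commutingGraph (conjugatesOf (QuotientGroup.mk d : G ⧸ (Subgroup.center ↥L).map L.subtype))).Connected) : (Cfsg.commutingGraph (conjugatesOf d)).Connected := by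
  set Z : Subgroup G := (Subgroup.center ↥L).map L.subtype with hZ
  -- basic facts on Z
  have hZL : Z ≤ L := by
    rintro _ ⟨c, -, rfl⟩
    exact c.2
  have hZc : ∀ z ∈ Z, ∀ l ∈ L, z * l = l * z := by
    rintro _ ⟨c, hc, rfl⟩ l hl
    have := Subgroup.mem_center_iff.1 hc ⟨l, hl⟩
    have h2 := congrArg Subtype.val this
    exact h2.symm
  have hZodd : Odd (Nat.card ↥Z) := by
    have : Nat.card ↥Z = Nat.card ↥(Subgroup.center ↥L) :=
      Subgroup.card_map_of_injective L.subtype_injective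
    rwa [this]
  -- every conjugate of d inverts Z
  have hinvc : ∀ g : G, ∀ c ∈ Z, (g * d * g⁻¹) * c * (g * d * g⁻¹)⁻¹ = c⁻¹ := by
    intro g c hc
    have h1 : g⁻¹ * c * g ∈ Z := by
      have := hn.conj_mem c hc g⁻¹
      rwa [inv_inv] at this
    have h2 := hinv _ h1
    calc g * d * g⁻¹ * c * (g * d * g⁻¹)⁻¹ = g * (d * (g⁻¹ * c * g) * d⁻¹) * g⁻¹ := by group
      _ = g * (g⁻¹ * c * g)⁻¹ * g⁻¹ := by rw [h2]
      _ = c⁻¹ := by group
  -- fourth roots in Z
  have hroot : ∀ z ∈ Z, ∃ w ∈ Z, w ^ 4 = z := by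
    intro z hz
    have hcop : (Nat.card ↥Z).Coprime 4 := by
      have : (Nat.card ↥Z).Coprime 2 := Nat.coprime_two_right.2 hZodd
      exact Nat.Coprime.pow_right 2 this
    obtain ⟨w, hw⟩ := (powCoprime hcop).surjective ⟨z, hz⟩
    refine ⟨w.1, w.2, ?_⟩
    have := congrArg Subtype.val hw
    simpa using this
  -- the lifting step
  have hstep : ∀ a c : G, a ∈ conjugatesOf d → c ∈ conjugatesOf d →
      a * c * a⁻¹ * c⁻¹ ∈ Z → ∃ w ∈ Z, Commute a (w * c * w⁻¹) := by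
    intro a c ha hc hz
    obtain ⟨w, hw, hw4⟩ := hroot _ hz
    refine ⟨w, hw, ?_⟩
    obtain ⟨ga, rfl⟩ := isConj_iff.1 ha
    obtain ⟨gc, rfl⟩ := isConj_iff.1 hc
    set a := ga * d * ga⁻¹
    set c := gc * d * gc⁻¹
    have e1 : c * w⁻¹ * c⁻¹ = w := by
      have := hinvc gc w⁻¹ (Z.inv_mem hw)
      rwa [inv_inv] at this
    have e1' : c * w⁻¹ = w * c := by
      calc c * w⁻¹ = (c * w⁻¹ * c⁻¹) * c := by group
        _ = w * c := by rw [e1]
    have e2 : w * c * w⁻¹ = w ^ 2 * c := by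
      rw [mul_assoc, e1', ← mul_assoc, pow_two]
    have e3 : a * w ^ 2 * a⁻¹ = (w ^ 2)⁻¹ := hinvc ga _ (Z.pow_mem hw 2)
    have e4 : a * c * a⁻¹ = w ^ 4 * c := by
      rw [hw4]
      group
    have e5 : a * (w ^ 2 * c) * a⁻¹ = w ^ 2 * c := by
      calc a * (w ^ 2 * c) * a⁻¹ = (a * w ^ 2 * a⁻¹) * (a * c * a⁻¹) := by group
        _ = (w ^ 2)⁻¹ * (w ^ 4 * c) := by rw [e3, e4]
        _ = w ^ 2 * c := by group
    rw [e2]
    change a * (w ^ 2 * c) = w ^ 2 * c * a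
    calc a * (w ^ 2 * c) = a * (w ^ 2 * c) * a⁻¹ * a := by group
      _ = w ^ 2 * c * a := by rw [e5]
  -- every vertex downstairs is covered by the component of d
  have hcover : ∀ u v : conjugatesOf (QuotientGroup.mk d : G ⧸ Z),
      (commutingGraph (conjugatesOf (QuotientGroup.mk d : G ⧸ Z))).Walk u v →
      (∃ s ∈ S d, (QuotientGroup.mk (s * d * s⁻¹) : G ⧸ Z) = u.1) →
      ∃ s ∈ S d, (QuotientGroup.mk (s * d * s⁻¹) : G ⧸ Z) = v.1 := by
    intro u v p
    induction p with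
    | nil => exact id
    | @cons u v' w hadj p ih =>
      rintro ⟨s, hs, hsu⟩
      apply ih
      have hadj' : u ≠ v' ∧ (Commute u.1 v'.1 ∨ Commute v'.1 u.1) := hadj
      have hcomm : Commute u.1 v'.1 := hadj'.2.elim id Commute.symm
      obtain ⟨gbar, hg⟩ := isConj_iff.1 v'.2
      obtain ⟨g, rfl⟩ := QuotientGroup.mk_surjective gbar
      have hv' : v'.1 = (QuotientGroup.mk (g * d * g⁻¹) : G ⧸ Z) := by
        rw [← hg]
        simp
      have hz : (s * d * s⁻¹) * (g * d * g⁻¹) * (s * d * s⁻¹)⁻¹ * (g * d * g⁻¹)⁻¹ ∈ Z := by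
        rw [← QuotientGroup.eq_one_iff]
        rw [QuotientGroup.mk_mul, QuotientGroup.mk_mul, QuotientGroup.mk_mul, QuotientGroup.mk_inv,
          QuotientGroup.mk_inv, hsu, ← hv']
        have : u.1 * v'.1 = v'.1 * u.1 := hcomm
        rw [this]
        group
      obtain ⟨w, hw, hcw⟩ := hstep _ _ (isConj_iff.2 ⟨s, rfl⟩) (isConj_iff.2 ⟨g, rfl⟩) hz
      refine ⟨w * g, ?_, ?_⟩
      · rw [mem_S]
        have h1 : (commutingGraph (conjugatesOf d)).Reachable (vtx d s) (vtx d (w * g)) := by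
          apply reachable_of_commute
          change Commute (s * d * s⁻¹) (w * g * d * (w * g)⁻¹)
          have : w * g * d * (w * g)⁻¹ = w * (g * d * g⁻¹) * w⁻¹ := by group
          rw [this]
          exact hcw
        exact ((mem_S d s).1 hs).trans h1
      · rw [hv']
        have : w * g * d * (w * g)⁻¹ = w * (g * d * g⁻¹) * w⁻¹ := by group
        rw [this, QuotientGroup.mk_mul, QuotientGroup.mk_mul, QuotientGroup.mk_inv,
          (QuotientGroup.eq_one_iff w).2 hw]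
        simp
  -- G = S Z
  have hSZ : ∀ g : G, ∃ s ∈ S d, ∃ z ∈ Z, g = s * z := by
    intro g
    let v : conjugatesOf (QuotientGroup.mk d : G ⧸ Z) :=
      ⟨QuotientGroup.mk (g * d * g⁻¹), isConj_iff.2 ⟨QuotientGroup.mk g, by simp⟩⟩
    obtain ⟨p⟩ := hconn.preconnected ⟨QuotientGroup.mk d, mem_conjugatesOf_self⟩ v
    obtain ⟨s, hs, hsv⟩ := hcover _ _ p ⟨1, (S d).one_mem, by rw [one_mul, inv_one, mul_one]⟩
    -- s d s⁻¹ ≡ g d g⁻¹ mod Z
    have hsv' : (QuotientGroup.mk (s * d * s⁻¹) : G ⧸ Z) = QuotientGroup.mk (g * d * g⁻¹) := hsv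
    have h1 : (s⁻¹ * g * d * (s⁻¹ * g)⁻¹) * d⁻¹ ∈ Z := by
      rw [← QuotientGroup.eq_one_iff]
      have : (s⁻¹ * g * d * (s⁻¹ * g)⁻¹) * d⁻¹ = s⁻¹ * (g * d * g⁻¹) * s * d⁻¹ := by group
      rw [this, QuotientGroup.mk_mul, QuotientGroup.mk_mul, QuotientGroup.mk_mul, ← hsv']
      simp only [QuotientGroup.mk_mul, QuotientGroup.mk_inv]
      group
    -- write this element of Z as w d w⁻¹ d⁻¹ = w²
    obtain ⟨w0, hw0, hw04⟩ := hroot _ h1
    set w := w0 ^ 2 with hwdef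
    have hw : w ∈ Z := Z.pow_mem hw0 2
    have hw2 : w ^ 2 = (s⁻¹ * g * d * (s⁻¹ * g)⁻¹) * d⁻¹ := by
      rw [← hw04, hwdef, ← pow_mul]
    have hdw : d * w⁻¹ * d⁻¹ = w := by
      have := hinv w⁻¹ (Z.inv_mem hw)
      rwa [inv_inv] at this
    have hwd : w * d * w⁻¹ * d⁻¹ = w ^ 2 := by
      calc w * d * w⁻¹ * d⁻¹ = w * (d * w⁻¹ * d⁻¹) := by group
        _ = w ^ 2 := by rw [hdw, pow_two]
    -- so w⁻¹ s⁻¹ g centralizes d
    have hcent : (w⁻¹ * s⁻¹ * g) * d * (w⁻¹ * s⁻¹ * g)⁻¹ = d := by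
      have h2 : s⁻¹ * g * d * (s⁻¹ * g)⁻¹ = w * d * w⁻¹ := by
        have := hw2.symm.trans hwd.symm
        exact mul_right_cancel this
      calc (w⁻¹ * s⁻¹ * g) * d * (w⁻¹ * s⁻¹ * g)⁻¹
          = w⁻¹ * (s⁻¹ * g * d * (s⁻¹ * g)⁻¹) * w := by group
        _ = w⁻¹ * (w * d * w⁻¹) * w := by rw [h2]
        _ = d := by group
    have hcS : w⁻¹ * s⁻¹ * g ∈ S d := by
      rw [mem_S]
      have : vtx d (w⁻¹ * s⁻¹ * g) = vtx d 1 := by
        apply Subtype.ext
        change (w⁻¹ * s⁻¹ * g) * d * (w⁻¹ * s⁻¹ * g)⁻¹ = 1 * d * 1⁻¹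
        rw [hcent]
        group
      rw [this]
    set c := w⁻¹ * s⁻¹ * g with hcdef
    refine ⟨s * c, (S d).mul_mem hs hcS, c⁻¹ * w * c, ?_, ?_⟩
    · have := hn.conj_mem w hw c⁻¹
      rwa [inv_inv] at this
    · rw [hcdef]
      group
  -- L ≤ S
  have hperf : Group.IsPerfect ↥L := hL.1
  have hLS : L ≤ S d := by
    rw [← Subgroup.commutator_eq_self (H := L), Subgroup.commutator_le]
    intro l₁ h₁ l₂ h₂
    obtain ⟨s₁, hs₁, z₁, hz₁, e₁⟩ := hSZ l₁
    obtain ⟨s₂, hs₂, z₂, hz₂, e₂⟩ := hSZ l₂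
    have hs₁L : s₁ ∈ L := by
      have : s₁ = l₁ * z₁⁻¹ := by rw [e₁]; group
      rw [this]
      exact L.mul_mem h₁ (L.inv_mem (hZL hz₁))
    have hs₂L : s₂ ∈ L := by
      have : s₂ = l₂ * z₂⁻¹ := by rw [e₂]; group
      rw [this]
      exact L.mul_mem h₂ (L.inv_mem (hZL hz₂))
    have key : ⁅l₁, l₂⁆ = ⁅s₁, s₂⁆ := by
      rw [commutatorElement_def, commutatorElement_def, e₁, e₂]
      have c1 : ∀ l ∈ L, z₁ * l = l * z₁ := hZc z₁ hz₁
      have c2 : ∀ l ∈ L, z₂ * l = l * z₂ := hZc z₂ hz₂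
      have c12 : z₁ * z₂ = z₂ * z₁ := c1 z₂ (hZL hz₂)
      have a1 : s₁ * z₁ * (s₂ * z₂) = s₁ * s₂ * (z₁ * z₂) := by
        calc s₁ * z₁ * (s₂ * z₂) = s₁ * (z₁ * s₂) * z₂ := by group
          _ = s₁ * (s₂ * z₁) * z₂ := by rw [c1 s₂ hs₂L]
          _ = s₁ * s₂ * (z₁ * z₂) := by group
      have a2 : (s₁ * z₁)⁻¹ * (s₂ * z₂)⁻¹ = (z₁ * z₂)⁻¹ * (s₁⁻¹ * s₂⁻¹) := by
        have : s₂ * z₂ * (s₁ * z₁) = s₂ * s₁ * (z₁ * z₂) := by
          calc s₂ * z₂ * (s₁ * z₁) = s₂ * (z₂ * s₁) * z₁ := by group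
            _ = s₂ * (s₁ * z₂) * z₁ := by rw [c2 s₁ hs₁L]
            _ = s₂ * s₁ * (z₂ * z₁) := by group
            _ = s₂ * s₁ * (z₁ * z₂) := by rw [c12]
        calc (s₁ * z₁)⁻¹ * (s₂ * z₂)⁻¹ = (s₂ * z₂ * (s₁ * z₁))⁻¹ := by group
          _ = (s₂ * s₁ * (z₁ * z₂))⁻¹ := by rw [this]
          _ = (z₁ * z₂)⁻¹ * (s₁⁻¹ * s₂⁻¹) := by group
      calc s₁ * z₁ * (s₂ * z₂) * (s₁ * z₁)⁻¹ * (s₂ * z₂)⁻¹
          = (s₁ * z₁ * (s₂ * z₂)) * ((s₁ * z₁)⁻¹ * (s₂ * z₂)⁻¹) := by group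
        _ = s₁ * s₂ * (z₁ * z₂) * ((z₁ * z₂)⁻¹ * (s₁⁻¹ * s₂⁻¹)) := by rw [a1, a2]
        _ = s₁ * s₂ * s₁⁻¹ * s₂⁻¹ := by group
    rw [key]
    exact Subgroup.commutator_mem_commutator hs₁ hs₂ |> fun h => Subgroup.commutator_le_self (S d) h
  have hdS : Subgroup.zpowers d ≤ S d := by
    rw [Subgroup.zpowers_le, mem_S]
    have : vtx d d = vtx d 1 := by
      apply Subtype.ext
      change d * d * d⁻¹ = 1 * d * 1⁻¹
      group
    rw [this]
  have htop : S d = ⊤ := by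
    apply top_le_iff.1
    rw [← hgen]
    exact sup_le hLS hdS
  have hall : ∀ v : conjugatesOf d, (commutingGraph (conjugatesOf d)).Reachable (vtx d 1) v := by
    intro v
    obtain ⟨g, rfl⟩ := exists_vtx d v
    have : g ∈ S d := by rw [htop]; trivial
    exact this
  exact { preconnected := fun u v => (hall u).symm.trans (hall v), nonempty := ⟨vtx d 1⟩ }

end Cfsg.Agent.S5459
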