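import Cfsg.Statements.S5514
import Cfsg.Agent.Lib.Lead.O73C.Final
import Cfsg.Agent.Lib.Helper8.O73RW

set_option autoImplicit false
open Cfsg

namespace Cfsg.Agent.S5514

open Cfsg.Agent.Lib.Lead.O73C Cfsg.Agent.Lib.Helper8 Cfsg.Agent.Lib.Helper6

/-- the model on 351 points is the simple orthogonal group -/
noncomputable def isoOmega : ↥O73M.P ≃* Cfsg.POmega O73Mat.F O73Mat.Q :=
  O73M.isoP.symm.trans (MulEquiv.ofBijective O73Iso.ψ O73Iso.ψ_bijective)

theorem wd0_eq : wd0 = O73R.w0 := by decide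

theorem wd4_eq : wd4 = O73R.w4 := by decide

theorem wd5_eq : wd5 = O73R.w5 := by decide

/-- the simple orthogonal group has exactly seven classes of subgroups of order 3 -/
theorem seven : SevenClasses (Cfsg.POmega O73Mat.F O73Mat.Q) :=
  SevenClasses.of_equiv isoOmega
    (sevenClasses_P (wd0_eq ▸ O73R.nfix_w0) (wd4_eq ▸ O73R.nfix_w4) (wd5_eq ▸ O73R.nfix_w5))

/-- The commutator subgroup of the isometry group of a non-degenerate 7-dimensional quadratic form over the field with three elements, modulo its (trivial) centre — the simple group Ω(7, 3) — has exactly seven conjugacy classes of subgroups of order 3. -/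
theorem result : ∃ Y : Fin 7 → Subgroup (Cfsg.POmega (ZMod 3) (Cfsg.quadFormOdd 3 (ZMod 3))), (∀ i, Nat.card (Y i) = 3) ∧ (∀ i j, (∃ g : Cfsg.POmega (ZMod 3) (Cfsg.quadFormOdd 3 (ZMod 3)), (Y i).map (MulAut.conj g).toMonoidHom = Y j) → i = j) ∧ (∀ X : Subgroup (Cfsg.POmega (ZMod 3) (Cfsg.quadFormOdd 3 (ZMod 3))), Nat.card X = 3 → ∃ i, ∃ g : Cfsg.POmega (ZMod 3) (Cfsg.quadFormOdd 3 (ZMod 3)), X.map (MulAut.conj g).toMonoidHom = Y i) := by
  exact seven

end Cfsg.Agent.S5514
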