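import Cfsg.Statements.S5522
import Cfsg.Agent.Lib.Helper6.GolayNF5
import Cfsg.Agent.Lib.Helper6.GolayM11Two

set_option autoImplicit false
open Cfsg

namespace Cfsg.Agent.S5522

/-- The Mathieu group M₁₁, realised as the stabiliser of one point of the dodecad of squares inside the stabiliser M₁₂ of that dodecad in M₂₄, acts on the twelve coordinate positions outside the dodecad of squares (its 3-transitive action of degree 12); in this action every element of prime order fixes a point, i.e. the action is elusive. -/
theorem result (g : Equiv.Perm Cfsg.GolayPt) (hg : g ∈ Cfsg.Spor.M11) (hord : (orderOf g).Prime) :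
    ∃ x : Cfsg.GolayPt, x ∉ Cfsg.Spor.squareDodecad ∧ g x = x := by
  open Cfsg.Agent.Lib.Helper6.Golay Cfsg.Agent.Lib.Helper6.PermChain in
  open scoped Pointwise in
  obtain ⟨hg24, hgD, hg0⟩ := mem_SporM11.mp hg
  have hDmem : ∀ p, g p ∈ Cfsg.Spor.squareDodecad ↔ p ∈ Cfsg.Spor.squareDodecad := fun p => by
    have := Finset.smul_mem_smul_finset_iff (a := g) (s := Cfsg.Spor.squareDodecad) (b := p)
    rw [hgD] at this
    exact this
  have h0D := zero_mem_squareDodecad
  by_cases h2 : orderOf g = 2
  · -- an involution with a fixed point fixes an octad pointwise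
    have hoct := invol_fix_octad hg24 h2 hg0
    by_contra hcon
    push Not at hcon
    have hsub : (Finset.univ.filter fun p => g p = p) ⊆ Cfsg.Spor.squareDodecad := by
      intro p hp
      by_contra hpD
      exact hcon p hpD (Finset.mem_filter.mp hp).2
    have h1 := card_octad_inter_dodecad hoct squareDodecad_mem
    rw [Finset.inter_eq_left.mpr hsub, card_of_mem_octads hoct] at h1
    omega
  by_cases h3 : orderOf g = 3
  · by_contra hcon
    push Not at hcon
    have hsub : (Finset.univ.filter fun p => g p = p) ⊆ Cfsg.Spor.squareDodecad := by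
      intro p hp
      by_contra hpD
      exact hcon p hpD (Finset.mem_filter.mp hp).2
    have hc6 := ord3_fix_card hg24 h3 hg0
    obtain ⟨s, hs, hsc⟩ := Finset.exists_subset_card_eq
      (show 5 ≤ (Finset.univ.filter fun p => g p = p).card by rw [hc6]; norm_num)
    obtain ⟨o, ho, hso⟩ := exists_octad s hsc
    have hgo : g • o = o := by
      apply smul_octad_eq hg24 ho (F := s) (fun p hp => (Finset.mem_filter.mp (hs hp)).2)
      rw [Finset.inter_eq_right.mpr hso, hsc]
    have homem : ∀ p, g p ∈ o ↔ p ∈ o := fun p => by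
      have := Finset.smul_mem_smul_finset_iff (a := g) (s := o) (b := p)
      rw [hgo] at this
      exact this
    have h5 : 5 ≤ (o ∩ Cfsg.Spor.squareDodecad).card := by
      rw [← hsc]
      apply Finset.card_le_card
      intro p hp
      exact Finset.mem_inter.mpr ⟨hso hp, hsub (hs hp)⟩
    have h6 : (o ∩ Cfsg.Spor.squareDodecad).card = 6 := by
      rcases card_octad_inter_dodecad ho squareDodecad_mem with h | h | h <;> omega
    have h2' : (o \ Cfsg.Spor.squareDodecad).card = 2 := by
      have := Finset.card_sdiff_add_card_inter o Cfsg.Spor.squareDodecad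
      rw [h6, card_of_mem_octads ho] at this
      omega
    have hF : ∀ p, g p ∈ o \ Cfsg.Spor.squareDodecad ↔ p ∈ o \ Cfsg.Spor.squareDodecad := by
      intro p
      rw [Finset.mem_sdiff, Finset.mem_sdiff, homem, hDmem]
    have : Fact (Nat.Prime 3) := ⟨Nat.prime_three⟩
    have hx3 : g ^ 3 ^ 1 = 1 := by
      rw [pow_one, ← h3]; exact pow_orderOf_eq_one g
    obtain ⟨p, hpF, hp⟩ := exists_fix_of_invariant g _ hF 3 1 hx3 (by rw [h2']; norm_num)
    exact hcon p (Finset.mem_sdiff.mp hpF).2 hp
  · have hnd : ¬ orderOf g ∣ 12 := by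
      intro hd
      have h12 : (12 : ℕ) = 2 * (2 * 3) := by norm_num
      rw [h12, hord.dvd_mul, hord.dvd_mul] at hd
      rcases hd with hd | hd | hd
      · exact h2 ((Nat.prime_dvd_prime_iff_eq hord Nat.prime_two).mp hd)
      · exact h2 ((Nat.prime_dvd_prime_iff_eq hord Nat.prime_two).mp hd)
      · exact h3 ((Nat.prime_dvd_prime_iff_eq hord Nat.prime_three).mp hd)
    have hF : ∀ p, g p ∈ Cfsg.Spor.squareDodecadᶜ ↔ p ∈ Cfsg.Spor.squareDodecadᶜ := by
      intro p
      rw [Finset.mem_compl, Finset.mem_compl, hDmem]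
    have : Fact (orderOf g).Prime := ⟨hord⟩
    have hcard : (Cfsg.Spor.squareDodecadᶜ).card = 12 := by
      rw [Finset.card_compl, card_squareDodecad]
      simp [Cfsg.GolayPt]
    obtain ⟨p, hpF, hp⟩ := exists_fix_of_invariant g _ hF (orderOf g) 1
      (by rw [pow_one]; exact pow_orderOf_eq_one g) (by rw [hcard]; exact hnd)
    exact ⟨p, Finset.mem_compl.mp hpF, hp⟩

end Cfsg.Agent.S5522
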