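import Cfsg.Statements.S5541

set_option autoImplicit false
open Cfsg

namespace Cfsg.Agent.S5541

variable {H : Type*} [Group H] {U : Type*} [AddCommGroup U] [Module ℝ U] [FiniteDimensional ℝ U]

/-- A non-zero invariant symmetric form on an irreducible representation is non-degenerate. -/
theorem nondegenerate (ρ : Representation ℝ H U)
    (hirr : ∀ W : Submodule ℝ U, (∀ g : H, W.map (ρ g) ≤ W) → W = ⊥ ∨ W = ⊤)
    (B : LinearMap.BilinForm ℝ U) (hB0 : B ≠ 0)
    (hBi : ∀ (g : H) (u v : U), B (ρ g u) (ρ g v) = B u v) : B.Nondegenerate := by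
  rw [LinearMap.BilinForm.nondegenerate_iff_ker_eq_bot]
  have hinv : ∀ g : H, (LinearMap.ker B).map (ρ g) ≤ LinearMap.ker B := by
    rintro g _ ⟨u, hu, rfl⟩
    rw [SetLike.mem_coe, LinearMap.mem_ker] at hu
    rw [LinearMap.mem_ker]
    ext v
    have h1 := hBi g u (ρ g⁻¹ v)
    have h2 : ρ g (ρ g⁻¹ v) = v := by
      rw [← Module.End.mul_apply, ← map_mul, mul_inv_cancel, map_one, Module.End.one_apply]
    rw [h2, hu] at h1
    simpa using h1
  rcases hirr (LinearMap.ker B) hinv with h | h
  · exact h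
  · exfalso
    apply hB0
    exact LinearMap.ker_eq_top.1 h

/-- The trilinear form attached to a product. -/
noncomputable def toTri (B : LinearMap.BilinForm ℝ U) (m : U →ₗ[ℝ] U →ₗ[ℝ] U) :
    U →ₗ[ℝ] U →ₗ[ℝ] U →ₗ[ℝ] ℝ := m.compr₂ B

omit [FiniteDimensional ℝ U] in
theorem toTri_apply (B : LinearMap.BilinForm ℝ U) (m : U →ₗ[ℝ] U →ₗ[ℝ] U) (u v w : U) :
    toTri B m u v w = B (m u v) w := rfl

/-- The product attached to a trilinear form. -/
noncomputable def toMul (B : LinearMap.BilinForm ℝ U) (hB : B.Nondegenerate)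
    (t : U →ₗ[ℝ] U →ₗ[ℝ] U →ₗ[ℝ] ℝ) : U →ₗ[ℝ] U →ₗ[ℝ] U :=
  t.compr₂ (B.toDual hB).symm.toLinearMap

theorem toMul_apply (B : LinearMap.BilinForm ℝ U) (hB : B.Nondegenerate)
    (t : U →ₗ[ℝ] U →ₗ[ℝ] U →ₗ[ℝ] ℝ) (u v w : U) : B (toMul B hB t u v) w = t u v w := by
  change B ((B.toDual hB).symm (t u v)) w = t u v w
  exact LinearMap.BilinForm.apply_toDual_symm_apply _ _

theorem eq_of_forall (B : LinearMap.BilinForm ℝ U) (hB : B.Nondegenerate) {x y : U}
    (h : ∀ w, B x w = B y w) : x = y := by
  have h1 : B (x - y) = 0 := by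
    ext w
    rw [map_sub, LinearMap.sub_apply, h w, sub_self, LinearMap.zero_apply]
  have := hB.ker_eq_bot
  have h2 : x - y ∈ LinearMap.ker B := h1
  rw [this, Submodule.mem_bot] at h2
  exact sub_eq_zero.1 h2

theorem rho_inv (ρ : Representation ℝ H U) (g : H) (v : U) : ρ g (ρ g⁻¹ v) = v := by
  rw [← Module.End.mul_apply, ← map_mul, mul_inv_cancel, map_one, Module.End.one_apply]

/-- Let ρ be a representation of a group H on a finite-dimensional real vector space U whose only ρ-invariant subspaces are the zero subspace and U, and suppose U carries a non-zero ρ-invariant symmetric bilinear form. Then the following are equivalent: (1) there is a non-zero ρ-equivariant commutative bilinear product on U of which every ρ-equivariant bilinear product is a scalar multiple; (2) there is a non-zero ρ-invariant trilinear form on U that is symmetric under all permutations of its arguments and of which every ρ-invariant trilinear form is a scalar multiple. -/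
theorem result {H : Type*} [Group H] {U : Type*} [AddCommGroup U] [Module ℝ U] [FiniteDimensional ℝ U] (ρ : Representation ℝ H U) (hirr : ∀ W : Submodule ℝ U, (∀ g : H, W.map (ρ g) ≤ W) → W = ⊥ ∨ W = ⊤) (B : LinearMap.BilinForm ℝ U) (hB0 : B ≠ 0) (hBs : ∀ u v, B u v = B v u) (hBi : ∀ (g : H) (u v : U), B (ρ g u) (ρ g v) = B u v) : (∃ m : U →ₗ[ℝ] U →ₗ[ℝ] U, m ≠ 0 ∧ (∀ u v, m u v = m v u) ∧ (∀ (g : H) (u v : U), m (ρ g u) (ρ g v) = ρ g (m u v)) ∧ ∀ m' : U →ₗ[ℝ] U →ₗ[ℝ] U, (∀ (g : H) (u v : U), m' (ρ g u) (ρ g v) = ρ g (m' u v)) → ∃ c : ℝ, m' = c • m) ↔ (∃ t : U →ₗ[ℝ] U →ₗ[ℝ] U →ₗ[ℝ] ℝ, t ≠ 0 ∧ (∀ u v w, t u v w = t v u w ∧ t u v w = t u w v) ∧ (∀ (g : H) (u v w : U), t (ρ g u) (ρ g v) (ρ g w) = t u v w) ∧ ∀ t' : U →ₗ[ℝ] U →ₗ[ℝ] U →ₗ[ℝ] ℝ, (∀ (g : H) (u v w : U), t' (ρ g u) (ρ g v) (ρ g w) = t' u v w) → ∃ c : ℝ, t' = c • t) := by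
  have hB : B.Nondegenerate := nondegenerate ρ hirr B hB0 hBi
  -- invariance transfers
  have hinvT : ∀ m : U →ₗ[ℝ] U →ₗ[ℝ] U,
      (∀ (g : H) (u v : U), m (ρ g u) (ρ g v) = ρ g (m u v)) →
      ∀ (g : H) (u v w : U), toTri B m (ρ g u) (ρ g v) (ρ g w) = toTri B m u v w := by
    intro m hm g u v w
    rw [toTri_apply, toTri_apply, hm, hBi]
  have hinvM : ∀ t : U →ₗ[ℝ] U →ₗ[ℝ] U →ₗ[ℝ] ℝ,
      (∀ (g : H) (u v w : U), t (ρ g u) (ρ g v) (ρ g w) = t u v w) →
      ∀ (g : H) (u v : U), toMul B hB t (ρ g u) (ρ g v) = ρ g (toMul B hB t u v) := by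
    intro t ht g u v
    apply eq_of_forall B hB
    intro w
    rw [toMul_apply]
    have h1 : B (ρ g (toMul B hB t u v)) w = B (toMul B hB t u v) (ρ g⁻¹ w) := by
      have := hBi g (toMul B hB t u v) (ρ g⁻¹ w)
      rw [rho_inv] at this
      exact this
    rw [h1, toMul_apply]
    have := ht g u v (ρ g⁻¹ w)
    rw [rho_inv] at this
    exact this
  constructor
  · rintro ⟨m, hm0, hmc, hme, hmu⟩
    -- uniqueness for trilinear forms
    have huniq : ∀ t' : U →ₗ[ℝ] U →ₗ[ℝ] U →ₗ[ℝ] ℝ,
        (∀ (g : H) (u v w : U), t' (ρ g u) (ρ g v) (ρ g w) = t' u v w) →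
        ∃ c : ℝ, t' = c • toTri B m := by
      intro t' ht'
      obtain ⟨c, hc⟩ := hmu (toMul B hB t') (hinvM t' ht')
      refine ⟨c, ?_⟩
      ext u v w
      rw [← toMul_apply B hB t', hc]
      simp [toTri_apply]
    have ht0 : toTri B m ≠ 0 := by
      intro h
      apply hm0
      ext u v
      apply eq_of_forall B hB
      intro w
      have := congrArg (fun t => t u v w) h
      simp only [toTri_apply] at this
      simpa using this
    -- the swapped form
    let t' : U →ₗ[ℝ] U →ₗ[ℝ] U →ₗ[ℝ] ℝ :=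
      LinearMap.mk₂ ℝ (fun u v => (toTri B m u).flip v)
        (fun u₁ u₂ v => by ext w; simp)
        (fun c u v => by ext w; simp)
        (fun u v₁ v₂ => by ext w; simp)
        (fun c u v => by ext w; simp)
    have ht'a : ∀ u v w, t' u v w = toTri B m u w v := fun u v w => rfl
    obtain ⟨c, hc⟩ := huniq t' (fun g u v w => by rw [ht'a, ht'a, hinvT m hme])
    have hc' : ∀ u v w, toTri B m u w v = c * toTri B m u v w := by
      intro u v w
      rw [← ht'a, hc]
      simp
    have hsym1 : ∀ u v w, toTri B m u v w = toTri B m v u w := by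
      intro u v w
      rw [toTri_apply, toTri_apply, hmc]
    have hc2 : c * c = 1 := by
      by_contra hne
      apply ht0
      ext u v w
      have : toTri B m u v w = c * (c * toTri B m u v w) := by
        rw [← hc', ← hc']
      have h2 : (1 - c * c) * toTri B m u v w = 0 := by linarith
      rcases mul_eq_zero.1 h2 with h | h
      · exact absurd (by linarith) hne
      · simpa using h
    have hc1 : c = 1 := by
      have : (c - 1) * (c + 1) = 0 := by ring_nf; linarith
      rcases mul_eq_zero.1 this with h | h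
      · linarith
      · exfalso
        have hcm : c = -1 := by linarith
        apply ht0
        ext u v w
        -- symmetric in the first two, antisymmetric in the last two
        have a1 : toTri B m u v w = -toTri B m u w v := by rw [hc' u v w, hcm]; ring
        have a2 : toTri B m u w v = toTri B m w u v := hsym1 _ _ _
        have a3 : toTri B m w u v = -toTri B m w v u := by rw [hc' w u v, hcm]; ring
        have a4 : toTri B m w v u = toTri B m v w u := hsym1 _ _ _
        have a5 : toTri B m v w u = -toTri B m v u w := by rw [hc' v w u, hcm]; ring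
        have a6 : toTri B m v u w = toTri B m u v w := hsym1 _ _ _
        have : toTri B m u v w = 0 := by linarith
        simpa using this
    refine ⟨toTri B m, ht0, fun u v w => ⟨hsym1 u v w, ?_⟩, hinvT m hme, huniq⟩
    rw [hc' u v w, hc1, one_mul]
  · rintro ⟨t, ht0, hts, hti, htu⟩
    have hm0 : toMul B hB t ≠ 0 := by
      intro h
      apply ht0
      ext u v w
      rw [← toMul_apply B hB t, h]
      simp
    refine ⟨toMul B hB t, hm0, fun u v => ?_, hinvM t hti, fun m' hm' => ?_⟩
    · apply eq_of_forall B hB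
      intro w
      rw [toMul_apply, toMul_apply]
      exact (hts u v w).1
    · obtain ⟨c, hc⟩ := htu (toTri B m') (hinvT m' hm')
      refine ⟨c, ?_⟩
      ext u v
      apply eq_of_forall B hB
      intro w
      have := congrArg (fun t => t u v w) hc
      simp only [toTri_apply] at this
      rw [this]
      simp [toMul_apply]

end Cfsg.Agent.S5541
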