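import Cfsg.Statements.S5543

set_option autoImplicit false
open Cfsg

namespace Cfsg.Agent.S5543

open Cfsg.Axial

variable {V : Type*} [AddCommGroup V] [Module ℝ V]

/-- In a Majorana ambient, a `1/4`-eigenvector of an axis lying in the sum of its `1`- and
`0`-eigenspaces vanishes. -/
theorem eq_zero_of_mem (mul : V →ₗ[ℝ] V →ₗ[ℝ] V) (B : LinearMap.BilinForm ℝ V)
    (hV : IsMajoranaAmbient mul B) (a w : V) (hw : w ∈ eigen mul a (1 / 4))
    (hw' : w ∈ eigenSum mul a {1, 0}) : w = 0 := by
  obtain ⟨hc, hs, hpos, hassoc, -⟩ := hV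
  have hw4 : mul a w = (1 / 4 : ℝ) • w := Module.End.mem_eigenspace_iff.1 hw
  have hle : eigenSum mul a {1, 0} ≤ LinearMap.ker (B w) := by
    refine iSup₂_le fun c hcS v hv => ?_
    have hv' : mul a v = c • v := Module.End.mem_eigenspace_iff.1 hv
    have e1 : B w (mul a v) = c * B w v := by rw [hv', map_smul, smul_eq_mul]
    have e2 : B w (mul a v) = (1 / 4) * B w v := by
      rw [hassoc, hc w a, hw4, map_smul, LinearMap.smul_apply, smul_eq_mul]
    have hne : c - 1 / 4 ≠ 0 := by
      rcases hcS with rfl | rfl <;> norm_num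
    have : (c - 1 / 4) * B w v = 0 := by linarith
    rcases mul_eq_zero.1 this with h | h
    · exact absurd h hne
    · exact h
  have h0 : B w w = 0 := hle hw'
  by_contra hne
  exact absurd h0 (hpos w hne).ne'

/-- The abstract form: an elementary abelian `2`-group of 2A-related Majorana axes has no three
independent elements. -/
theorem key {G : Type*} [Group G] (hG : ∀ g : G, g * g = 1)
    (mul : V →ₗ[ℝ] V →ₗ[ℝ] V) (B : LinearMap.BilinForm ℝ V)
    (hV : IsMajoranaAmbient mul B) (a : G → V)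
    (hax : ∀ g : G, g ≠ 1 →
      IsPrimitiveAxis mul (monsterLaw (1 / 4) (1 / 32)) majoranaSpectrum (a g))
    (h1 : ∀ g : G, g ≠ 1 → B (a g) (a g) = 1)
    (h2A : ∀ g h : G, g ≠ 1 → h ≠ 1 → g ≠ h →
      mul (a g) (a h) = (1 / 8 : ℝ) • (a g + a h - a (g * h)))
    (x y z : G) (hx : x ≠ 1) (hy : y ≠ 1) (hxy : x ≠ y) (hz1 : z ≠ 1) (hzx : z ≠ x)
    (hzy : z ≠ y) (hzxy : z ≠ x * y) : False := by
  have hinv : ∀ g : G, g⁻¹ = g := fun g => inv_eq_of_mul_eq_one_left (hG g)
  have hcomm : ∀ g h : G, g * h = h * g := by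
    intro g h
    have := hG (g * h)
    calc g * h = (g * h)⁻¹ := (hinv _).symm
      _ = h⁻¹ * g⁻¹ := mul_inv_rev _ _
      _ = h * g := by rw [hinv, hinv]
  have hcancel : ∀ g h : G, g * (g * h) = h := fun g h => by rw [← mul_assoc, hG, one_mul]
  have hmul_ne : ∀ g h : G, g ≠ h → g * h ≠ 1 := by
    intro g h hne he
    apply hne
    calc g = g * (h * h) := by rw [hG, mul_one]
      _ = (g * h) * h := (mul_assoc _ _ _).symm
      _ = h := by rw [he, one_mul]
  -- eigenvectors
  have heig : ∀ u v : G, u ≠ 1 → v ≠ 1 → u ≠ v →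
      a v - a (u * v) ∈ eigen mul (a u) (1 / 4) := by
    intro u v hu hv huv
    have huv1 : u * v ≠ 1 := hmul_ne u v huv
    have hne : u ≠ u * v := by
      intro h
      apply hv
      have := congrArg (fun t => u * t) h
      simp only [hG, hcancel] at this
      exact this.symm
    have e1 := h2A u v hu hv huv
    have e2 := h2A u (u * v) hu huv1 hne
    rw [hcancel] at e2
    refine Module.End.mem_eigenspace_iff.2 ?_
    rw [map_sub, e1, e2]
    module
  -- the elements
  have hxz : x ≠ z := fun h => hzx h.symm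
  have hyz : y ≠ z := fun h => hzy h.symm
  have hyz1 : y * z ≠ 1 := hmul_ne y z hyz
  have hxyz : x ≠ y * z := by
    intro h
    apply hzxy
    rw [h, hcomm y z, mul_assoc, hG, mul_one]
  have hA := heig x y hx hy hxy
  have hB := heig x z hx hz1 hxz
  have hC := heig x (y * z) hx hyz1 hxyz
  -- fusion
  have hfus : mul (a y - a (x * y)) (a z - a (x * z)) ∈ eigenSum mul (a x) {1, 0} := by
    have h := (hax x hx).1.2.2.2 (1 / 4) (by simp [majoranaSpectrum]) (1 / 4)
      (by simp [majoranaSpectrum]) _ hA _ hB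
    have hlaw : monsterLaw (1 / 4 : ℝ) (1 / 32) (1 / 4) (1 / 4) = {1, 0} := by
      unfold monsterLaw
      norm_num
    rwa [hlaw] at h
  -- the product
  have hxz1 : x * z ≠ 1 := hmul_ne x z hxz
  have hxy1 : x * y ≠ 1 := hmul_ne x y hxy
  have hyxz : y ≠ x * z := by
    intro h
    apply hzxy
    rw [h, hcancel]
  have hxyz' : x * y ≠ z := fun h => hzxy h.symm
  have hxyxz : x * y ≠ x * z := fun h => hyz (mul_left_cancel h)
  have p1 := h2A y z hy hz1 hyz
  have p2 := h2A y (x * z) hy hxz1 hyxz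
  have p3 := h2A (x * y) z hxy1 hz1 hxyz'
  have p4 := h2A (x * y) (x * z) hxy1 hxz1 hxyxz
  have g2 : y * (x * z) = x * (y * z) := by
    rw [← mul_assoc, hcomm y x, mul_assoc]
  have g3 : x * y * z = x * (y * z) := mul_assoc _ _ _
  have g4 : x * y * (x * z) = y * z := by
    rw [hcomm x y, mul_assoc, hcancel]
  rw [g2] at p2
  rw [g3] at p3
  rw [g4] at p4
  have hprod : mul (a y - a (x * y)) (a z - a (x * z))
      = (1 / 4 : ℝ) • (a (x * (y * z)) - a (y * z)) := by
    simp only [map_sub, LinearMap.sub_apply]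
    rw [p1, p2, p3, p4]
    module
  have hC' : (1 / 4 : ℝ) • (a (x * (y * z)) - a (y * z)) ∈ eigen mul (a x) (1 / 4) := by
    have : (1 / 4 : ℝ) • (a (x * (y * z)) - a (y * z))
        = (-(1 / 4) : ℝ) • (a (y * z) - a (x * (y * z))) := by module
    rw [this]
    exact Submodule.smul_mem _ _ hC
  rw [hprod] at hfus
  have hzero := eq_zero_of_mem mul B hV (a x) _ hC' hfus
  have heq : a (x * (y * z)) = a (y * z) := by
    have h4 : (4 : ℝ) • ((1 / 4 : ℝ) • (a (x * (y * z)) - a (y * z))) = 0 := by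
      rw [hzero, smul_zero]
    rw [smul_smul] at h4
    norm_num at h4
    exact sub_eq_zero.1 h4
  -- final contradiction
  have hs1 : x * (y * z) ≠ 1 := hmul_ne x (y * z) hxyz
  have hsr : x * (y * z) ≠ y * z := by
    intro h
    apply hx
    have := mul_right_cancel (h.trans (one_mul _).symm)
    exact this
  have p5 := h2A (x * (y * z)) (y * z) hs1 hyz1 hsr
  have g5 : x * (y * z) * (y * z) = x := by rw [mul_assoc, hG, mul_one]
  rw [g5, heq, (hax (y * z) hyz1).1.2.1] at p5
  have hx6 : a x = (-6 : ℝ) • a (y * z) := by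
    have : (8 : ℝ) • a (y * z) = (8 : ℝ) • ((1 / 8 : ℝ) • (a (y * z) + a (y * z) - a x)) := by
      rw [← p5]
    rw [smul_smul] at this
    norm_num at this
    have h3 : a x = a (y * z) + a (y * z) - (8 : ℝ) • a (y * z) := by
      rw [this]; abel
    rw [h3]
    module
  have hb := h1 x hx
  rw [hx6] at hb
  simp only [map_smul, LinearMap.smul_apply, smul_eq_mul, h1 _ hyz1] at hb
  norm_num at hb

/-- Let V be a finite-dimensional real vector space with a commutative bilinear product and a positive-definite symmetric bilinear form that associates with the product and satisfies the Norton inequality (the Majorana setting of the definitions). Let X be a group of linear automorphisms of V in which every element squares to the identity, and suppose every non-identity element x of X is a Majorana involution with an axial vector a(x) of squared length 1, such that for any two distinct non-identity x, y the product a(x) ∘ a(y) equals (1/8)(a(x) + a(y) − a(xy)) (the dihedral subalgebra of type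 2A whose third axis belongs to the involution xy). Then X has order at most 4. -/
theorem result {V : Type*} [AddCommGroup V] [Module ℝ V] [FiniteDimensional ℝ V] (mul : V →ₗ[ℝ] V →ₗ[ℝ] V) (B : LinearMap.BilinForm ℝ V) (hV : Cfsg.Axial.IsMajoranaAmbient mul B) (X : Subgroup (V ≃ₗ[ℝ] V)) (hX : ∀ x ∈ X, x * x = 1) (ax : (V ≃ₗ[ℝ] V) → V) (hax : ∀ x ∈ X, x ≠ 1 → Cfsg.Axial.IsMajoranaPair mul B x (ax x)) (h1 : ∀ x ∈ X, x ≠ 1 → B (ax x) (ax x) = 1) (h2A : ∀ x ∈ X, ∀ y ∈ X, x ≠ 1 → y ≠ 1 → x ≠ y → mul (ax x) (ax y) = (1 / 8 : ℝ) • (ax x + ax y - ax (x * y))) : Nat.card ↥X ≤ 4 := by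
  by_contra hcard
  have hcard' : 4 < Nat.card ↥X := by omega
  have hfin : Finite ↥X := Nat.finite_of_card_ne_zero (by omega)
  let _ : Fintype ↥X := Fintype.ofFinite _
  classical
  rw [Nat.card_eq_fintype_card, ← Finset.card_univ] at hcard'
  have hex : ∀ S : Finset ↥X, S.card ≤ 4 → ∃ z, z ∉ S := by
    intro S hS
    obtain ⟨z, -, hz⟩ := Finset.exists_mem_notMem_of_card_lt_card (lt_of_le_of_lt hS hcard')
    exact ⟨z, hz⟩
  obtain ⟨x, hx⟩ := hex {1} (by simp)
  obtain ⟨y, hy⟩ := hex {1, x} (le_trans Finset.card_le_two (by norm_num))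
  obtain ⟨z, hz⟩ := hex {1, x, y, x * y} (le_trans Finset.card_le_four (by norm_num))
  simp only [Finset.mem_insert, Finset.mem_singleton, not_or] at hx hy hz
  have hne : ∀ g : ↥X, g ≠ 1 → (g : V ≃ₗ[ℝ] V) ≠ 1 := fun g hg h => hg (Subtype.ext h)
  refine key (G := ↥X) (fun g => Subtype.ext (hX g g.2)) mul B hV (fun g => ax g)
    (fun g hg => (hax g g.2 (hne g hg)).2.2.1) (fun g hg => h1 g g.2 (hne g hg))
    (fun g h hg hh hgh => h2A g g.2 h h.2 (hne g hg) (hne h hh)
      (fun e => hgh (Subtype.ext e))) x y z hx hy.1 (fun h => hy.2 h.symm) hz.1 hz.2.1 hz.2.2.1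
    hz.2.2.2

end Cfsg.Agent.S5543
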