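import Cfsg.Statements.S5549
import Cfsg.Agent.H9.GDFMain

set_option autoImplicit false
open Cfsg

namespace Cfsg.Agent.S5549

/-- Let X be a group of linear automorphisms of the length-24 binary Golay code of the definitions that fix the all-ones word, containing the coordinate-permutation action of every element of the code's automorphism group (the Mathieu group of degree 24), and such that every element of X sends each codeword into its orbit under that Mathieu group up to adding the all-ones word (X has the same orbits as the Mathieu group on the code modulo the all-ones word). Then every element of X agrees, modulo the all-ones word, with the action of a single element of the Mathieu group: X induces exactly the Mathieu group on the code modulo the all-ones word. -/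
theorem result (X : Subgroup (↥Cfsg.golayCode ≃ₗ[ZMod 2] ↥Cfsg.golayCode)) (h1 : ∀ x ∈ X, ∀ e : ↥Cfsg.golayCode, (e : (Cfsg.GolayPt → ZMod 2)) = (fun _ => (1 : ZMod 2)) → x e = e) (hM : ∀ σ ∈ Cfsg.M24, ∃ x ∈ X, ∀ c : ↥Cfsg.golayCode, ((x c : ↥Cfsg.golayCode) : (Cfsg.GolayPt → ZMod 2)) = fun p => (c : (Cfsg.GolayPt → ZMod 2)) (σ.symm p)) (horb : ∀ x ∈ X, ∀ c : ↥Cfsg.golayCode, ∃ σ ∈ Cfsg.M24, ((x c : ↥Cfsg.golayCode) : (Cfsg.GolayPt → ZMod 2)) = (fun p => (c : (Cfsg.GolayPt → ZMod 2)) (σ.symm p)) ∨ ((x c : ↥Cfsg.golayCode) : (Cfsg.GolayPt → ZMod 2)) = (fun p => (c : (Cfsg.GolayPt → ZMod 2)) (σ.symm p)) + fun _ => (1 : ZMod 2)) (x : ↥Cfsg.golayCode ≃ₗ[ZMod 2] ↥Cfsg.golayCode) (hx : x ∈ X) : ∃ σ ∈ Cfsg.M24, ∀ c : ↥Cfsg.golayCode, ((x c : ↥Cfsg.golayCode) : (Cfsg.GolayPt → ZMod 2)) = (fun p => (c : (Cfsg.GolayPt → ZMod 2)) (σ.symm p)) ∨ ((x c : ↥Cfsg.golayCode) : (Cfsg.GolayPt → ZMod 2)) = (fun p => (c : (Cfsg.GolayPt → ZMod 2)) (σ.symm p)) + fun _ => (1 : ZMod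 2) := by
  classical
  have hxs : x.symm ∈ X := X.inv_mem hx
  obtain ⟨π, hπ, hrel⟩ := Cfsg.Agent.H9.GDF.exists_point_map x
    (h1 x hx _ Cfsg.Agent.H9.GDF.onesW_val)
    (Cfsg.Agent.H9.GDF.isOct_of_orb x (horb x hx))
    (Cfsg.Agent.H9.GDF.isOct_of_orb x.symm (horb x.symm hxs))
  have hbij : Function.Bijective π := ⟨hπ, Finite.injective_iff_surjective.1 hπ⟩
  have key : ∀ c : ↥Cfsg.golayCode,
      ((x c : ↥Cfsg.golayCode) : (Cfsg.GolayPt → ZMod 2)) = (fun p => (c : (Cfsg.GolayPt → ZMod 2)) (π p)) ∨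
      ((x c : ↥Cfsg.golayCode) : (Cfsg.GolayPt → ZMod 2)) =
        (fun p => (c : (Cfsg.GolayPt → ZMod 2)) (π p)) + fun _ => (1 : ZMod 2) := by
    intro c
    have hμ : ∀ p, ((x c : ↥Cfsg.golayCode) : (Cfsg.GolayPt → ZMod 2)) p =
        (c : (Cfsg.GolayPt → ZMod 2)) (π p) +
          (((x c : ↥Cfsg.golayCode) : (Cfsg.GolayPt → ZMod 2)) none + (c : (Cfsg.GolayPt → ZMod 2)) (π none)) := by
      intro p
      have h := hrel p none c
      have hb := CharTwo.add_self_eq_zero (((x c : ↥Cfsg.golayCode) : (Cfsg.GolayPt → ZMod 2)) none)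
      linear_combination h - hb
    have h01 : ∀ m : ZMod 2, m = 0 ∨ m = 1 := by decide
    rcases h01 (((x c : ↥Cfsg.golayCode) : (Cfsg.GolayPt → ZMod 2)) none + (c : (Cfsg.GolayPt → ZMod 2)) (π none))
      with h | h
    · left
      funext p
      rw [hμ p, h, add_zero]
    · right
      funext p
      rw [hμ p, h]
      rfl
  refine ⟨(Equiv.ofBijective π hbij).symm, ?_, ?_⟩
  · apply Cfsg.Agent.Lib.Helper6.Golay.mem_M24_of_forall
    intro w hw
    have hcomp : w ∘ ⇑((Equiv.ofBijective π hbij).symm).symm = fun p => w (π p) := by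
      funext p
      simp
    rw [hcomp]
    rcases key ⟨w, hw⟩ with h | h
    · have h' : (fun p => w (π p)) = ((x ⟨w, hw⟩ : ↥Cfsg.golayCode) : (Cfsg.GolayPt → ZMod 2)) := h.symm
      rw [h']
      exact (x ⟨w, hw⟩).2
    · have h' : (fun p => w (π p)) =
          ((x ⟨w, hw⟩ : ↥Cfsg.golayCode) : (Cfsg.GolayPt → ZMod 2)) + fun _ => (1 : ZMod 2) := by
        have h2 : ((x ⟨w, hw⟩ : ↥Cfsg.golayCode) : (Cfsg.GolayPt → ZMod 2)) =
            (fun p => w (π p)) + fun _ => (1 : ZMod 2) := h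
        rw [h2]
        funext p
        have hb := CharTwo.add_self_eq_zero (1 : ZMod 2)
        show w (π p) = w (π p) + 1 + 1
        linear_combination - hb
      rw [h']
      exact Submodule.add_mem _ (x ⟨w, hw⟩).2 Cfsg.Agent.H9.GDF.ones_mem
  · intro c
    have hs : ∀ p, ((Equiv.ofBijective π hbij).symm).symm p = π p := by
      intro p; simp
    simp only [hs]
    exact key c

end Cfsg.Agent.S5549
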