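import Cfsg.Statements.S5555
import Cfsg.Agent.H9.TT3PerpSU

set_option autoImplicit false
open Cfsg

namespace Cfsg.Agent.S5555

/-- Let G be a finite group generated by a conjugacy class D of 3-transpositions, with trivial centre and with generalized Fitting subgroup F*(G) = O₂(G) (so the Fitting subgroup is O₂(G) too). If G/O₂(G) is isomorphic to the derived group of SU₃(2) (the group of order 54 generated by nine 3-transpositions), then O₂(G) has a complement in G. -/
theorem result {G : Type*} [Group G] [Finite G] {D : Set G} (hD : Cfsg.IsThreeTranspositionClass D)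
    (hZ : Subgroup.center G = ⊥) (hF : Cfsg.generalizedFittingSubgroup G = Cfsg.pCore 2 G)
    (hq : ∃ (F : Type) (_ : Field F) (_ : Fintype F), Fintype.card F = 4 ∧ Nonempty (G ⧸ Cfsg.pCore 2 G ≃* ↥(commutator ↥(Cfsg.SU 3 F 2)))) :
    ∃ K : Subgroup G, (Cfsg.pCore 2 G).IsComplement' K := by
  obtain ⟨F, _, _, hF4, ⟨φ⟩⟩ := hq
  apply Cfsg.Agent.H9.TT3Perp.exists_complement hD (Cfsg.Agent.H9.TT3Perp.two_le_of_center hD hZ)
  intro x y hx hy hx1 hy1 hc
  have h1 : ((φ x : ↥(commutator ↥(Cfsg.SU 3 F 2))) : ↥(Cfsg.SU 3 F 2)) =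
      ((φ y : ↥(commutator ↥(Cfsg.SU 3 F 2))) : ↥(Cfsg.SU 3 F 2)) := by
    apply Cfsg.Agent.H9.TT3Perp.su3_invol_eq hF4
    · rw [← Subgroup.coe_mul, ← map_mul, hx, map_one, Subgroup.coe_one]
    · rw [← Subgroup.coe_mul, ← map_mul, hy, map_one, Subgroup.coe_one]
    · intro h
      apply hx1
      apply φ.injective
      rw [map_one]
      exact Subtype.ext h
    · intro h
      apply hy1
      apply φ.injective
      rw [map_one]
      exact Subtype.ext h
    · show _ * _ = _ * _
      rw [← Subgroup.coe_mul, ← Subgroup.coe_mul, ← map_mul, ← map_mul, hc.eq]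
  exact φ.injective (Subtype.ext h1)

end Cfsg.Agent.S5555
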