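import Cfsg.Statements.S5562

set_option autoImplicit false
open Cfsg

namespace Cfsg.Agent.S5562

/-- Two elements of odd order with the same square are equal. -/
theorem eq_of_sq_eq_of_odd {G : Type*} [Group G] {y z : G} (hy : Odd (orderOf y)) (hz : Odd (orderOf z))
    (h : y ^ 2 = z ^ 2) : y = z := by
  obtain ⟨N, hN⟩ : Odd (orderOf y * orderOf z) := hy.mul hz
  have hyN : y ^ (orderOf y * orderOf z) = 1 := by rw [pow_mul, pow_orderOf_eq_one, one_pow]
  have hzN : z ^ (orderOf y * orderOf z) = 1 := by rw [mul_comm, pow_mul, pow_orderOf_eq_one, one_pow]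
  have h1 : y = (y ^ 2) ^ (N + 1) := by
    rw [← pow_mul, show 2 * (N + 1) = (2 * N + 1) + 1 by ring, ← hN, pow_succ, hyN, one_mul]
  have h2 : z = (z ^ 2) ^ (N + 1) := by
    rw [← pow_mul, show 2 * (N + 1) = (2 * N + 1) + 1 by ring, ← hN, pow_succ, hzN, one_mul]
  rw [h1, h2, h]

/-- The dihedral computation: if `e`, `f` are involutions with `(e f)^(2k+1) = 1` then with
`u = (e f)^((k+1)^2)` the conjugate `a = u⁻¹ e u` satisfies `a e a⁻¹ = f`. -/
theorem dihedral_mid {G : Type*} [Group G] {e f : G} (he : e * e = 1) (hf : f * f = 1) (k : ℕ)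
    (hr : (e * f) ^ (2 * k + 1) = 1) :
    ((e * f) ^ ((k + 1) ^ 2)) ^ 4 = e * f := by
  rw [← pow_mul, show (k + 1) ^ 2 * 4 = (2 * k + 1) * (2 * k + 3) + 1 by ring, pow_succ, pow_mul, hr, one_pow,
    one_mul]

theorem result {G : Type*} [Group G] [Finite G] (d : G) (hd : orderOf d = 2)
    (hodd : ∀ a ∈ conjugatesOf d, ∀ b ∈ conjugatesOf d, Odd (orderOf (a * b)))
    (x : G) (hx : orderOf x = 2) :
    ∀ e ∈ conjugatesOf d,
      ∃! a : G, a ∈ conjugatesOf d ∧ Commute a x ∧ Commute e (a * x) := by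
  intro e he
  have hinvD : ∀ a ∈ conjugatesOf d, a * a = 1 := by
    intro a ha
    have ha' : IsConj d a := ha
    rw [isConj_iff] at ha'
    obtain ⟨c, rfl⟩ := ha'
    have : d * d = 1 := by rw [← pow_two, ← hd, pow_orderOf_eq_one]
    calc c * d * c⁻¹ * (c * d * c⁻¹) = c * (d * d) * c⁻¹ := by group
      _ = 1 := by rw [this]; group
  have hconjD : ∀ a ∈ conjugatesOf d, ∀ c : G, c * a * c⁻¹ ∈ conjugatesOf d := by
    intro a ha c
    have ha' : IsConj d a := ha
    exact (ha'.trans (isConj_iff.mpr ⟨c, rfl⟩) : IsConj d (c * a * c⁻¹))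
  have hxx : x * x = 1 := by rw [← pow_two, ← hx, pow_orderOf_eq_one]
  have hxinv : x⁻¹ = x := inv_eq_of_mul_eq_one_right hxx
  have hee : e * e = 1 := hinvD e he
  have heinv : e⁻¹ = e := inv_eq_of_mul_eq_one_right hee
  obtain ⟨f, hfdef⟩ : ∃ f : G, f = x * e * x⁻¹ := ⟨_, rfl⟩
  have hfD : f ∈ conjugatesOf d := hfdef ▸ hconjD e he x
  have hff : f * f = 1 := hinvD f hfD
  have hfinv : f⁻¹ = f := inv_eq_of_mul_eq_one_right hff
  obtain ⟨k, hk⟩ := hodd e he f hfD
  obtain ⟨r, hrdef⟩ : ∃ r : G, r = e * f := ⟨_, rfl⟩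
  rw [← hrdef] at hk
  have hrk : r ^ (2 * k + 1) = 1 := by rw [← hk, pow_orderOf_eq_one]
  obtain ⟨u, hudef⟩ : ∃ u : G, u = r ^ ((k + 1) ^ 2) := ⟨_, rfl⟩
  have hu4 : u ^ 4 = r := by
    rw [hudef, hrdef]; rw [hrdef] at hrk; exact dihedral_mid hee hff k hrk
  have hrinv : r⁻¹ = f * e := by rw [hrdef, mul_inv_rev, heinv, hfinv]
  -- e inverts r, x inverts r
  have her : SemiconjBy e r r⁻¹ := by
    unfold SemiconjBy
    rw [hrinv, hrdef, ← mul_assoc, hee, one_mul, mul_assoc, hee, mul_one]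
  have hxfx : x * f * x⁻¹ = e := by
    rw [hfdef, hxinv]
    calc x * (x * e * x) * x = (x * x) * e * (x * x) := by group
      _ = e := by rw [hxx]; group
  have hxr : SemiconjBy x r r⁻¹ := by
    unfold SemiconjBy
    rw [hrinv, hrdef]
    have h1 : x * e = f * x := by rw [hfdef]; group
    have h2 : x * f = e * x := by rw [← hxfx]; group
    rw [← mul_assoc, h1, mul_assoc, h2, mul_assoc]
  have heu : SemiconjBy e u u⁻¹ := by
    have := her.pow_right ((k + 1) ^ 2)
    rwa [inv_pow, ← hudef] at this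
  have hxu : SemiconjBy x u u⁻¹ := by
    have := hxr.pow_right ((k + 1) ^ 2)
    rwa [inv_pow, ← hudef] at this
  have heu' : e * u = u⁻¹ * e := heu
  have hxu' : x * u = u⁻¹ * x := hxu
  have heui : e * u⁻¹ = u * e := by
    have := heu.inv_right
    rwa [inv_inv] at this
  have hxui : x * u⁻¹ = u * x := by
    have := hxu.inv_right
    rwa [inv_inv] at this
  have hu4' : u * u * u * u = r := by rw [← hu4, pow_succ, pow_succ, pow_succ, pow_one]
  have hui4 : u⁻¹ * u⁻¹ * u⁻¹ * u⁻¹ = r⁻¹ := by rw [← hu4']; group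
  have hef : e * r = f := by rw [hrdef, ← mul_assoc, hee, one_mul]
  -- the element a
  obtain ⟨a, hadef⟩ : ∃ a : G, a = u⁻¹ * e * u := ⟨_, rfl⟩
  have haD : a ∈ conjugatesOf d := by
    have := hconjD e he u⁻¹
    rwa [inv_inv, ← hadef] at this
  have haa : a * a = 1 := hinvD a haD
  have hainv : a⁻¹ = a := inv_eq_of_mul_eq_one_right haa
  have ha_eq : a = u⁻¹ * u⁻¹ * e := by
    rw [hadef, mul_assoc, heu', ← mul_assoc]
  have haea : a * e * a = f := by
    rw [ha_eq]
    calc u⁻¹ * u⁻¹ * e * e * (u⁻¹ * u⁻¹ * e) = u⁻¹ * u⁻¹ * (e * e) * (u⁻¹ * u⁻¹ * e) := by group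
      _ = u⁻¹ * u⁻¹ * u⁻¹ * u⁻¹ * e := by rw [hee]; group
      _ = f := by rw [hui4, hrinv, mul_assoc, hee, mul_one]
  have hafa : a * f * a = e := by
    rw [← haea]
    calc a * (a * e * a) * a = (a * a) * e * (a * a) := by group
      _ = e := by rw [haa]; group
  have hxe : x * e = f * x := by rw [hfdef]; group
  have hax : Commute a x := by
    unfold Commute SemiconjBy
    have r1 : ∀ z, x * (u⁻¹ * z) = u * (x * z) := fun z => by rw [← mul_assoc, hxui, mul_assoc]
    have r3 : ∀ z, e * (u * z) = u⁻¹ * (e * z) := fun z => by rw [← mul_assoc, heu', mul_assoc]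
    have r5 : ∀ z, x * (e * z) = f * (x * z) := fun z => by rw [← mul_assoc, hxe, mul_assoc]
    have hf' : f = e * (u * (u * (u * u))) := by rw [← hef, ← hu4']; simp only [mul_assoc]
    rw [ha_eq]
    simp only [mul_assoc, r1]
    rw [hxe, hf']
    simp only [mul_assoc, r3, mul_inv_cancel_left, inv_mul_cancel_left]
  refine ⟨a, ⟨haD, hax, ?_⟩, ?_⟩
  · unfold Commute SemiconjBy
    have : a * x * e = a * f * x := by rw [mul_assoc, hxe, ← mul_assoc]
    rw [this]
    have h2 : a * f = e * a := by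
      rw [← hafa]
      calc a * f = a * f * (a * a) := by rw [haa, mul_one]
        _ = a * f * a * a := by group
    rw [h2, mul_assoc]
  · rintro b ⟨hbD, hbx, hbe⟩
    have hbb : b * b = 1 := hinvD b hbD
    have hbinv : b⁻¹ = b := inv_eq_of_mul_eq_one_right hbb
    -- b f b = e
    have hbfb : b * f * b = e := by
      have h1 : e * (b * x) = b * x * e := hbe
      rw [mul_assoc b x e, hxe] at h1
      calc b * f * b = b * f * x * (x * b) := by
            rw [show b * f * x * (x * b) = b * f * (x * x) * b by group, hxx, mul_one]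
        _ = b * (f * x) * (b * x) := by rw [hbx.eq]; group
        _ = e * (b * x) * (b * x) := by rw [h1]
        _ = e * (b * (x * b) * x) := by group
        _ = e * (b * (b * x) * x) := by rw [hbx.eq]
        _ = e * ((b * b) * (x * x)) := by group
        _ = e := by rw [hbb, hxx]; group
    have hbeb : b * e * b = f := by
      rw [← hbfb]
      calc b * (b * f * b) * b = (b * b) * f * (b * b) := by group
        _ = f := by rw [hbb]; group
    have hsq : (e * b) ^ 2 = (e * a) ^ 2 := by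
      rw [pow_two, pow_two]
      calc e * b * (e * b) = e * (b * e * b) := by group
        _ = e * (a * e * a) := by rw [hbeb, haea]
        _ = e * a * (e * a) := by group
    have := eq_of_sq_eq_of_odd (hodd e he b hbD) (hodd e he a haD) hsq
    exact mul_left_cancel this

end Cfsg.Agent.S5562
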