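import Cfsg.Statements.S5595
import Cfsg.Agent.Lib.Lead.LargeES
import Cfsg.Agent.Lib.Helper7.Core
import Cfsg.Agent.Lib.Helper5.DihedralRecog
import Cfsg.Agent.S3116

set_option autoImplicit false
open Cfsg
open scoped commutatorElement

namespace Cfsg.Agent.S5595

open Cfsg.Agent.Lead.ES2 Cfsg.Agent.Lead.LargeES Cfsg.Agent.Lib.Helper7

theorem O_congr {G : Type*} [Group G] {H H' : Subgroup G} (h : H = H') :
    (pCore 2 ↥H).map H.subtype = (pCore 2 ↥H').map H'.subtype := by
  subst h; rfl

theorem pcore_conj {G : Type*} [Group G] (H : Subgroup G) (n : G) :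
    (pCore 2 ↥(H.map (MulAut.conj n).toMonoidHom)).map (H.map (MulAut.conj n).toMonoidHom).subtype =
    ((pCore 2 ↥H).map H.subtype).map (MulAut.conj n).toMonoidHom := by
  let e' : ↥H ≃* ↥(H.map (MulAut.conj n).toMonoidHom) := (MulAut.conj n).subgroupMap H
  have h : (pCore 2 ↥H).map e'.toMonoidHom = pCore 2 ↥(H.map (MulAut.conj n).toMonoidHom) :=
    pCore_map_equiv (p := 2) e'
  rw [← h, Subgroup.map_map, Subgroup.map_map]
  congr 1

theorem centralizer_conj {G : Type*} [Group G] (x n : G) :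
    Subgroup.centralizer ({n * x * n⁻¹} : Set G) =
      (Subgroup.centralizer ({x} : Set G)).map (MulAut.conj n).toMonoidHom := by
  ext c
  rw [mem_map_conj, Subgroup.mem_centralizer_singleton_iff, Subgroup.mem_centralizer_singleton_iff]
  constructor
  · intro h
    calc (n⁻¹ * c * n) * x = n⁻¹ * (c * (n * x * n⁻¹)) * n := by group
      _ = n⁻¹ * ((n * x * n⁻¹) * c) * n := by rw [h]
      _ = x * (n⁻¹ * c * n) := by group
  · intro h
    calc c * (n * x * n⁻¹) = n * ((n⁻¹ * c * n) * x) * n⁻¹ := by group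
      _ = n * (x * (n⁻¹ * c * n)) * n⁻¹ := by rw [h]
      _ = (n * x * n⁻¹) * c := by group

theorem Q_conj {G : Type*} [Group G] (Q : G → Subgroup G)
    (hQ : ∀ x : G, Q x = (Cfsg.pCore 2 ↥(Subgroup.centralizer ({x} : Set G))).map
      (Subgroup.centralizer ({x} : Set G)).subtype) (x n : G) :
    Q (n * x * n⁻¹) = (Q x).map (MulAut.conj n).toMonoidHom := by
  rw [hQ, hQ x, ← pcore_conj]
  exact O_congr (centralizer_conj x n)

/-- Setting: `z` is an involution of the finite group `G`; for each element `x`, `Q x` denotes the largest normal 2-subgroup of the centralizer of `x`; `Q z` is extraspecial and contains its own centralizer in `G` (a large extraspecial 2-subgroup in this sense). Call the conjugates of `z` singular, and say that singular `x` is orthogonal to singular `y` when `x ∈ Q y`. Then orthogonality is symmetric: if a conjugate `x` of `z` lies in `Q z`, then `z` lies in `Q x`. -/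
theorem result {G : Type*} [Group G] [Finite G]
    (Q : G → Subgroup G)
    (hQ : ∀ x : G, Q x = (Cfsg.pCore 2 ↥(Subgroup.centralizer ({x} : Set G))).map (Subgroup.centralizer ({x} : Set G)).subtype)
    (z : G) (hz : orderOf z = 2) (hE : Cfsg.IsExtraspecial 2 ↥(Q z))
    (hC : Subgroup.centralizer ((Q z : Subgroup G) : Set G) ≤ Q z)
    (g : G) (hx : g * z * g⁻¹ ∈ Q z) : z ∈ Q (g * z * g⁻¹) := by
  classical
  have hfact : Fact (Nat.Prime 2) := ⟨Nat.prime_two⟩
  have hzz : z * z = 1 := by rw [← pow_two, ← hz]; exact pow_orderOf_eq_one z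
  have hz1 : z ≠ 1 := by intro h; rw [h, orderOf_one] at hz; omega
  have hQconj := Q_conj Q hQ
  have hQle : ∀ x a : G, a ∈ Q x → a * x = x * a := by
    intro x a ha
    rw [hQ x] at ha
    obtain ⟨a', -, rfl⟩ := ha
    exact (Subgroup.mem_centralizer_singleton_iff.mp a'.2)
  have hQnorm : ∀ x c : G, c * x = x * c → ∀ a ∈ Q x, c * a * c⁻¹ ∈ Q x := by
    intro x c hc a ha
    rw [hQ x] at ha ⊢
    obtain ⟨a', ha', rfl⟩ := ha
    have hcC : c ∈ Subgroup.centralizer ({x} : Set G) := Subgroup.mem_centralizer_singleton_iff.mpr hc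
    have := (pCore_normal 2 ↥(Subgroup.centralizer ({x} : Set G))).conj_mem a' ha' ⟨c, hcC⟩
    exact ⟨_, this, rfl⟩
  have hQ2 : ∀ x : G, IsPGroup 2 ↥(Q x) := by
    intro x
    rw [hQ x]
    exact (pCore_isPGroup 2 _).map _
  have hQmax : ∀ x : G, IsPGroup 2 ↥(Subgroup.centralizer ({x} : Set G)) → ∀ c : G, c * x = x * c → c ∈ Q x := by
    intro x h2 c hc
    have hcC : c ∈ Subgroup.centralizer ({x} : Set G) := Subgroup.mem_centralizer_singleton_iff.mpr hc
    have htop : (⊤ : Subgroup ↥(Subgroup.centralizer ({x} : Set G))) ≤ pCore 2 _ :=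
      le_pCore inferInstance (h2.to_subgroup ⊤)
    rw [hQ x]
    exact ⟨⟨c, hcC⟩, htop (Subgroup.mem_top _), rfl⟩
  obtain ⟨z₀, hes, -⟩ := es_of_extraspecial hE
  have hzQ : z ∈ Q z := hC (Subgroup.mem_centralizer_iff.mpr (fun a ha => hQle z a ha))
  have hz₀ : (z₀ : G) = z := by
    rcases hes.cent ⟨z, hzQ⟩ (fun x => Subtype.ext (hQle z x x.2)) with h | h
    · exact absurd (congrArg Subtype.val h) hz1
    · exact (congrArg Subtype.val h).symm
  have hLQ : LES (Q z) z := by
    have := LES.of_ES hes (fun c hc => hC (Subgroup.mem_centralizer_iff.mpr hc))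
      (by rw [hz₀]; exact hQnorm z)
    rwa [hz₀] at this
  obtain ⟨t, ht⟩ : ∃ t : G, t = g * z * g⁻¹ := ⟨_, rfl⟩
  rw [← ht] at hx ⊢
  have hQt : Q t = (Q z).map (MulAut.conj g).toMonoidHom := by rw [ht]; exact hQconj z g
  by_cases htz : t = z
  · rw [htz]; exact hzQ
  · have hLY : LES (Q t) t := by rw [hQt, ht]; exact hLQ.conj g
    have hlink : ∀ n : G, n * z * n⁻¹ = t → ∀ a ∈ Q z, n * a * n⁻¹ ∈ Q t := by
      intro n hn a ha
      rw [← hn, hQconj z n]
      exact conj_mem_map_conj ha
    have htt : t * t = 1 := hLY.zz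
    have ht1 : t ≠ 1 := hLY.z1
    obtain ⟨m, hm1, hmcard, -⟩ := type_of hE
    by_cases hm2 : 2 ≤ m
    · have hcard32 : 32 ≤ Nat.card ↥(Q z) := by
        rw [hmcard]
        calc 32 = 2 ^ 5 := by norm_num
          _ ≤ 2 ^ (2 * m + 1) := Nat.pow_le_pow_right (by norm_num) (by omega)
      have := center_mem' hes hcard32 (by rw [hz₀]; exact hLQ) hLY hx (by rw [hz₀]; exact htz)
        (by rw [hz₀]; exact hlink)
      rwa [hz₀] at this
    · have hcard8 : Nat.card ↥(Q z) = 8 := by
        have : m = 1 := by omega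
        rw [hmcard, this]; norm_num
      obtain ⟨t₀, ht₀⟩ : ∃ t₀ : ↥(Q z), t₀ = ⟨t, hx⟩ := ⟨_, rfl⟩
      have ht₀t₀ : t₀ * t₀ = 1 := by rw [ht₀]; exact Subtype.ext htt
      have ht₀1 : t₀ ≠ 1 := by rw [ht₀]; exact fun h => ht1 (congrArg Subtype.val h)
      have ht₀z : t₀ ≠ z₀ := by
        rw [ht₀]; exact fun h => htz ((congrArg Subtype.val h).trans hz₀)
      obtain ⟨s₀, hts, hss⟩ := exists_pairD hes ht₀t₀ ht₀1 ht₀z
      have ht₀o : orderOf t₀ = 2 := orderOf_eq_prime (by rw [pow_two]; exact ht₀t₀) ht₀1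
      have hs₀1 : s₀ ≠ 1 := by
        rintro rfl
        rw [commutatorElement_one_right] at hts
        exact hes.ctx.ne hts.symm
      have hs₀o : orderOf s₀ = 2 := orderOf_eq_prime (by rw [pow_two]; exact hss) hs₀1
      have hne : t₀ ≠ s₀ := by
        intro h
        rw [← h, commutatorElement_self] at hts
        exact hes.ctx.ne hts.symm
      have hprod : (t₀ * s₀) * (t₀ * s₀) = z₀ := by
        have e1 : t₀⁻¹ = t₀ := inv_eq_of_mul_eq_one_right ht₀t₀
        have e2 : s₀⁻¹ = s₀ := inv_eq_of_mul_eq_one_right hss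
        rw [commutatorElement_def, e1, e2] at hts
        rw [← hts]; group
      have h4 : 4 ∣ orderOf (t₀ * s₀) := by
        have : orderOf (t₀ * s₀) = 2 ^ (1 + 1) := by
          apply orderOf_eq_prime_pow
          · rw [pow_one, pow_two, hprod]; exact hes.ctx.ne
          · have : (t₀ * s₀) ^ 2 ^ (1 + 1) = ((t₀ * s₀) ^ 2) ^ 2 := by rw [← pow_mul]; norm_num
            rw [this, pow_two (t₀ * s₀), hprod, pow_two]
            exact hes.ctx.sq
        rw [this]; norm_num
      obtain ⟨e⟩ := Cfsg.Agent.Lib.Helper5.DihedralRecog.dihedral_of_involutions 4 (by rw [hcard8]) t₀ s₀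
        ht₀o hs₀o hne h4
      have hAut : IsPGroup 2 (MulAut ↥(Q z)) :=
        Cfsg.Agent.S3116.result (hQ2 z) (Or.inl ⟨4, le_refl 4, ⟨e⟩⟩)
      have hCz2 : IsPGroup 2 ↥(Subgroup.centralizer ({z} : Set G)) := by
        intro c
        have hcz : (c : G) * z = z * c := (Subgroup.mem_centralizer_singleton_iff.mp c.2)
        have hcN : (c : G) ∈ Subgroup.normalizer ((Q z : Subgroup G) : Set G) := by
          haveI : Finite (((Q z : Subgroup G) : Set G)) := Subtype.finite
          apply Subgroup.mem_normalizer_fintype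
          intro a ha
          exact hQnorm z c hcz a ha
        obtain ⟨k, hk⟩ := hAut ((Q z).normalizerMonoidHom ⟨c, hcN⟩)
        rw [← map_pow, ← MonoidHom.mem_ker, Subgroup.normalizerMonoidHom_ker,
          Subgroup.mem_subgroupOf, Subgroup.coe_pow] at hk
        have hk' := hC hk
        obtain ⟨l, hl⟩ := (hQ2 z) ⟨_, hk'⟩
        refine ⟨k + l, ?_⟩
        apply Subtype.ext
        rw [Subgroup.coe_pow, pow_add, pow_mul]
        have := congrArg Subtype.val hl
        simpa using this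
      have hall : ∀ c : G, c * z = z * c → c ∈ Q z := hQmax z hCz2
      rw [hQt, mem_map_conj]
      apply hall
      have hzt : z * t = t * z := (hQle z t hx).symm
      calc (g⁻¹ * z * g) * z = g⁻¹ * (z * (g * z * g⁻¹)) * g := by group
        _ = g⁻¹ * ((g * z * g⁻¹) * z) * g := by rw [← ht, hzt]
        _ = z * (g⁻¹ * z * g) := by group

end Cfsg.Agent.S5595
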