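import Cfsg.Statements.S5596
import Cfsg.Agent.Lib.Lead.SingularQ
import Cfsg.Agent.Lib.Lead.TransvectionGen

set_option autoImplicit false
open Cfsg

namespace Cfsg.Agent.S5596

open Cfsg.Agent.Lead.ES2 Cfsg.Agent.Lead.ES2Perp Cfsg.Agent.Lead.LargeES Cfsg.Agent.Lead.SingularQ
open Cfsg.Agent.Lead.TransvectionGen

/-- the double centralizer of a subgroup containing the centre, in an extraspecial 2-group -/
theorem double_centralizer {E : Type*} [Group E] [Finite E] {z : E} (hes : ES z) (U : Subgroup E)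
    (hzU : z ∈ U) :
    Subgroup.centralizer ((Subgroup.centralizer (U : Set E) : Subgroup E) : Set E) = U := by
  have h1 := card_mul_card_centralizer hes U hzU
  have hzC : z ∈ Subgroup.centralizer (U : Set E) := by
    rw [Subgroup.mem_centralizer_iff]; intro v _; exact hes.ctx.cen v
  have h2 := card_mul_card_centralizer hes (Subgroup.centralizer (U : Set E)) hzC
  have hcpos : 0 < Nat.card (Subgroup.centralizer (U : Set E)) := Nat.card_pos
  have hCC : Nat.card (Subgroup.centralizer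
      ((Subgroup.centralizer (U : Set E) : Subgroup E) : Set E)) = Nat.card U := by
    apply Nat.eq_of_mul_eq_mul_left hcpos
    rw [h2, ← h1, mul_comm]
  have hle : U ≤ Subgroup.centralizer
      ((Subgroup.centralizer (U : Set E) : Subgroup E) : Set E) := by
    intro v hv
    rw [Subgroup.mem_centralizer_iff]
    intro c hc
    exact ((Subgroup.mem_centralizer_iff.mp hc) v hv).symm
  exact (Subgroup.eq_of_le_of_card_ge hle (by rw [hCC])).symm

/-- automorphisms of `U` induced by conjugation with elements of `L` -/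
def autSub {G : Type*} [Group G] (U L : Subgroup G) : Subgroup (MulAut ↥U) where
  carrier := {φ | ∃ g ∈ L, ∀ u : ↥U, g * (u : G) * g⁻¹ = ((φ u : ↥U) : G)}
  one_mem' := ⟨1, L.one_mem, fun u => by simp⟩
  mul_mem' := by
    rintro φ₁ φ₂ ⟨g₁, hg₁, h₁⟩ ⟨g₂, hg₂, h₂⟩
    refine ⟨g₁ * g₂, L.mul_mem hg₁ hg₂, fun u => ?_⟩
    rw [MulAut.mul_apply, ← h₁, ← h₂]; group
  inv_mem' := by
    rintro φ ⟨g, hg, h⟩
    refine ⟨g⁻¹, L.inv_mem hg, fun u => ?_⟩
    have := h (φ⁻¹ u)
    rw [MulAut.apply_inv_self] at this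
    rw [← this]; group

/-- Setting: `z` is an involution of the finite group `G`; for each element `x`, `Q x` is the largest normal 2-subgroup of the centralizer of `x`; `Q z` is extraspecial and contains its own centralizer in `G`. A subgroup `U` is singular when it is elementary abelian, every non-identity element of `U` is conjugate to `z`, and any two non-identity elements `u`, `v` of `U` are orthogonal (`v ∈ Q u`). Write `QU` for the intersection of the `Q u` and `LU` for the join of the `Q u` over the non-identity `u` in `U`. If `U` is singular of order `2 ^ n` with `n ≥ 2`, then `U ≤ QU ≤ LU`, `LU` normalizes `U`, and `LU` induces on `U` its full automorphism group (the general linear group of dimension `n` over the field with two elements): every automorphism of `U` is conjugation by some element of `LU`. -/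
theorem result {G : Type*} [Group G] [Finite G]
    (Q : G → Subgroup G)
    (hQ : ∀ x : G, Q x = (Cfsg.pCore 2 ↥(Subgroup.centralizer ({x} : Set G))).map (Subgroup.centralizer ({x} : Set G)).subtype)
    (z : G) (hz : orderOf z = 2) (hE : Cfsg.IsExtraspecial 2 ↥(Q z))
    (hC : Subgroup.centralizer ((Q z : Subgroup G) : Set G) ≤ Q z)
    (U : Subgroup G) (hU2 : ∀ u ∈ U, u * u = 1)
    (hS : ∀ u ∈ U, u ≠ 1 → ∃ g : G, g * z * g⁻¹ = u)
    (hO : ∀ u ∈ U, ∀ v ∈ U, u ≠ 1 → v ≠ 1 → v ∈ Q u)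
    (QU LU : Subgroup G) (hQU : QU = ⨅ u ∈ ((U : Set G) \ {1}), Q u) (hLU : LU = ⨆ u ∈ ((U : Set G) \ {1}), Q u)
    (n : ℕ) (hn : 2 ≤ n) (hcard : Nat.card ↥U = 2 ^ n) :
    U ≤ QU ∧ QU ≤ LU ∧ LU ≤ Subgroup.normalizer (U : Set G) ∧
      ∀ φ : ↥U ≃* ↥U, ∃ g ∈ LU, ∀ u : ↥U, g * (u : G) * g⁻¹ = ((φ u : ↥U) : G) := by
  classical
  have hLES : ∀ u ∈ U, u ≠ 1 → LES (Q u) u := fun u hu hu1 =>
    les_conj Q hQ z hz hE hC u (hS u hu hu1)
  have hUQ : ∀ u ∈ U, u ≠ 1 → U ≤ Q u := by
    intro u hu hu1 v hv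
    by_cases hv1 : v = 1
    · rw [hv1]; exact Subgroup.one_mem _
    · exact hO u hu v hv hu1 hv1
  have hQUle : ∀ u ∈ U, u ≠ 1 → QU ≤ Q u := by
    intro u hu hu1; rw [hQU]; exact iInf₂_le u ⟨hu, hu1⟩
  have hQLU : ∀ u ∈ U, u ≠ 1 → Q u ≤ LU := by
    intro u hu hu1; rw [hLU]
    exact le_iSup₂ (f := fun u (_ : u ∈ ((U : Set G) \ {1})) => Q u) u ⟨hu, hu1⟩
  have hQN : ∀ u ∈ U, u ≠ 1 → Q u ≤ Subgroup.normalizer (U : Set G) := by
    intro u huU hu1 g hg
    have hLu := hLES u huU hu1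
    haveI : Finite ((U : Set G)) := Subtype.finite
    apply Subgroup.mem_normalizer_fintype
    intro v hv
    have hvQ := hUQ u huU hu1 hv
    have : g * v * g⁻¹ = (g * v * g⁻¹ * v⁻¹) * v := by group
    rw [this]
    rcases hLu.comm g hg v hvQ with h | h
    · rw [h, one_mul]; exact hv
    · rw [h]; exact U.mul_mem huU hv
  have hLN : LU ≤ Subgroup.normalizer (U : Set G) := by
    rw [hLU]
    apply iSup₂_le
    rintro u ⟨huU, hu1⟩
    exact hQN u huU hu1
  obtain ⟨u₀, hu₀U, hu₀1⟩ : ∃ u₀ ∈ U, u₀ ≠ 1 := by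
    by_contra hcon
    push_neg at hcon
    have : U = ⊥ := by
      rw [eq_bot_iff]; intro x hx; rw [Subgroup.mem_bot]; exact hcon x hx
    rw [this, Subgroup.card_bot] at hcard
    have : 2 ^ 1 ≤ 2 ^ n := Nat.pow_le_pow_right (by norm_num) (by omega)
    omega
  refine ⟨?_, ?_, hLN, ?_⟩
  · rw [hQU]
    apply le_iInf₂
    rintro u ⟨hu, hu1⟩
    exact hUQ u hu hu1
  · exact (hQUle u₀ hu₀U hu₀1).trans (hQLU u₀ hu₀U hu₀1)
  · have hinv : ∀ a : ↥U, a * a = 1 := fun a => Subtype.ext (hU2 a a.2)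
    have hA : autSub U LU = ⊤ := by
      apply aut_gen hinv
      intro d hd1 H hdH hH
      obtain ⟨u, hu⟩ : ∃ u : G, u = (d : G) := ⟨_, rfl⟩
      have huU : u ∈ U := by rw [hu]; exact d.2
      have hu1 : u ≠ 1 := by
        rw [hu]; intro h; exact hd1 (Subtype.ext h)
      have hLu := hLES u huU hu1
      have hes := LES.toES hLu
      have huinv : u⁻¹ = u := inv_eq_of_mul_eq_one_right hLu.zz
      obtain ⟨U', hU'⟩ : ∃ U' : Subgroup ↥(Q u), U' = U.subgroupOf (Q u) := ⟨_, rfl⟩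
      obtain ⟨H', hH'⟩ : ∃ H' : Subgroup ↥(Q u), H' = (H.map U.subtype).subgroupOf (Q u) := ⟨_, rfl⟩
      have hmemU' : ∀ e : ↥(Q u), e ∈ U' ↔ (e : G) ∈ U := by
        intro e; rw [hU', Subgroup.mem_subgroupOf]
      have hmemH' : ∀ e : ↥(Q u), e ∈ H' ↔ ∃ h ∈ H, (h : G) = (e : G) := by
        intro e; rw [hH', Subgroup.mem_subgroupOf, Subgroup.mem_map]; rfl
      have hu₀U' : (⟨u, hLu.zQ⟩ : ↥(Q u)) ∈ U' := (hmemU' _).mpr huU
      have hu₀H' : (⟨u, hLu.zQ⟩ : ↥(Q u)) ∈ H' := (hmemH' _).mpr ⟨d, hdH, hu.symm⟩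
      have hccU := double_centralizer hes U' hu₀U'
      have hccH := double_centralizer hes H' hu₀H'
      have hUQu := hUQ u huU hu1
      -- an element centralizing `H'` but not `U'`
      obtain ⟨g₀, hg₀H, hg₀U⟩ : ∃ g₀ : ↥(Q u), g₀ ∈ Subgroup.centralizer (H' : Set ↥(Q u)) ∧
          g₀ ∉ Subgroup.centralizer (U' : Set ↥(Q u)) := by
        by_contra hcon
        push_neg at hcon
        have hle : Subgroup.centralizer (H' : Set ↥(Q u)) ≤ Subgroup.centralizer (U' : Set ↥(Q u)) :=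
          hcon
        have h2 := Subgroup.centralizer_le (s := ((Subgroup.centralizer (H' : Set ↥(Q u)) :
          Subgroup ↥(Q u)) : Set ↥(Q u))) (t := ((Subgroup.centralizer (U' : Set ↥(Q u)) :
          Subgroup ↥(Q u)) : Set ↥(Q u))) hle
        rw [hccU, hccH] at h2
        obtain ⟨x, hx⟩ := hH.1
        have hxU' : (⟨(x : G), hUQu x.2⟩ : ↥(Q u)) ∈ U' := (hmemU' _).mpr x.2
        obtain ⟨h, hhH, hhx⟩ := (hmemH' _).mp (h2 hxU')
        apply hx
        have : h = x := Subtype.ext hhx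
        rw [← this]; exact hhH
      obtain ⟨g, hg⟩ : ∃ g : G, g = (g₀ : G) := ⟨_, rfl⟩
      have hgQ : g ∈ Q u := by rw [hg]; exact g₀.2
      have hgLU : g ∈ LU := hQLU u huU hu1 hgQ
      have hgN : g ∈ Subgroup.normalizer (U : Set G) := hLN hgLU
      -- `g` centralizes `H`
      have hgH : ∀ x : ↥U, x ∈ H → g * (x : G) = (x : G) * g := by
        intro x hx
        have hx' : (⟨(x : G), hUQu x.2⟩ : ↥(Q u)) ∈ H' := (hmemH' _).mpr ⟨x, hx, rfl⟩
        have := (Subgroup.mem_centralizer_iff.mp hg₀H) _ hx'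
        have h2 := congrArg Subtype.val this
        rw [hg]; exact h2.symm
      -- an element of `U` moved by `g`
      rw [Subgroup.mem_centralizer_iff] at hg₀U
      push_neg at hg₀U
      obtain ⟨e, heU', heg⟩ := hg₀U
      have heU : (e : G) ∈ U := (hmemU' e).mp heU'
      obtain ⟨x₀, hx₀⟩ : ∃ x₀ : ↥U, x₀ = ⟨(e : G), heU⟩ := ⟨_, rfl⟩
      have hgx₀ : g * (x₀ : G) * g⁻¹ = u * (x₀ : G) := by
        have hcomm : g * (x₀ : G) * g⁻¹ * (x₀ : G)⁻¹ = u := by
          rcases hLu.comm g hgQ (x₀ : G) (hUQu x₀.2) with h | h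
          · exfalso; apply heg; apply Subtype.ext
            show (e : G) * (g₀ : G) = (g₀ : G) * (e : G)
            have h3 : g * (x₀ : G) = (x₀ : G) * g := by
              calc g * (x₀ : G) = (g * (x₀ : G) * g⁻¹ * (x₀ : G)⁻¹) * ((x₀ : G) * g) := by group
                _ = (x₀ : G) * g := by rw [h, one_mul]
            rw [hx₀, hg] at h3
            exact h3.symm
          · exact h
        calc g * (x₀ : G) * g⁻¹ = (g * (x₀ : G) * g⁻¹ * (x₀ : G)⁻¹) * (x₀ : G) := by group
          _ = u * (x₀ : G) := by rw [hcomm]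
      have hx₀H : x₀ ∉ H := by
        intro h
        have h1 := hgH x₀ h
        have h2 : g * (x₀ : G) * g⁻¹ = (x₀ : G) := by
          calc g * (x₀ : G) * g⁻¹ = ((x₀ : G) * g) * g⁻¹ := by rw [h1]
            _ = (x₀ : G) := by group
        rw [hgx₀] at h2
        apply hu1
        calc u = (u * (x₀ : G)) * (x₀ : G)⁻¹ := by group
          _ = 1 := by rw [h2]; group
      refine ⟨U.normalizerMonoidHom ⟨g, hgN⟩, ⟨g, hgLU, fun x => rfl⟩, ?_, ?_⟩
      · intro x hx
        apply Subtype.ext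
        show g * (x : G) * g⁻¹ = (x : G)
        calc g * (x : G) * g⁻¹ = ((x : G) * g) * g⁻¹ := by rw [hgH x hx]
          _ = (x : G) := by group
      · intro x hx
        apply Subtype.ext
        show g * (x : G) * g⁻¹ = (x : G) * (d : G)
        have hxx₀ : x * x₀ ∈ H := hH.2 x x₀ hx hx₀H
        have h1 : g * ((x : G) * (x₀ : G)) * g⁻¹ = (x : G) * (x₀ : G) := by
          have := hgH (x * x₀) hxx₀
          calc g * ((x : G) * (x₀ : G)) * g⁻¹ = (g * ((x * x₀ : ↥U) : G)) * g⁻¹ := rfl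
            _ = (((x * x₀ : ↥U) : G) * g) * g⁻¹ := by rw [this]
            _ = (x : G) * (x₀ : G) := by
              show (x : G) * (x₀ : G) * g * g⁻¹ = (x : G) * (x₀ : G)
              group
        calc g * (x : G) * g⁻¹
            = (g * ((x : G) * (x₀ : G)) * g⁻¹) * (g * (x₀ : G) * g⁻¹)⁻¹ := by group
          _ = ((x : G) * (x₀ : G)) * (u * (x₀ : G))⁻¹ := by rw [h1, hgx₀]
          _ = (x : G) * u⁻¹ := by group
          _ = (x : G) * (d : G) := by rw [huinv, hu]
    intro φ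
    have : (φ : MulAut ↥U) ∈ autSub U LU := by rw [hA]; exact Subgroup.mem_top _
    exact this

end Cfsg.Agent.S5596
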