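import Cfsg.Statements.S5597
import Cfsg.Agent.Lib.Lead.SingularQ

set_option autoImplicit false
open Cfsg

namespace Cfsg.Agent.S5597

open Cfsg.Agent.Lead.ES2 Cfsg.Agent.Lead.ES2Perp Cfsg.Agent.Lead.LargeES Cfsg.Agent.Lead.SingularQ

/-- Setting: `z` is an involution of the finite group `G`; for each element `x`, `Q x` is the largest normal 2-subgroup of the centralizer of `x`; `Q z` is extraspecial and contains its own centralizer in `G`. A subgroup `U` is singular when it is elementary abelian, every non-identity element of `U` is conjugate to `z`, and any two non-identity elements `u`, `v` of `U` are orthogonal (`v ∈ Q u`). Write `QU` for the intersection of the `Q u` and `LU` for the join of the `Q u` over the non-identity `u` in `U`. If `U` is a non-trivial singular subgroup, then `LU` acts trivially on `QU / U` (every commutator of an element of `LU` with an element of `QU` lies in `U`), and for every `x` in `QU` outside `U` the centralizer of `U` in `LU` permutes the coset `x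 U` transitively: each `x u` with `u ∈ U` is a conjugate of `x` by an element of `LU` centralizing `U`. -/
theorem result {G : Type*} [Group G] [Finite G]
    (Q : G → Subgroup G)
    (hQ : ∀ x : G, Q x = (Cfsg.pCore 2 ↥(Subgroup.centralizer ({x} : Set G))).map (Subgroup.centralizer ({x} : Set G)).subtype)
    (z : G) (hz : orderOf z = 2) (hE : Cfsg.IsExtraspecial 2 ↥(Q z))
    (hC : Subgroup.centralizer ((Q z : Subgroup G) : Set G) ≤ Q z)
    (U : Subgroup G) (hU2 : ∀ u ∈ U, u * u = 1)
    (hS : ∀ u ∈ U, u ≠ 1 → ∃ g : G, g * z * g⁻¹ = u)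
    (hO : ∀ u ∈ U, ∀ v ∈ U, u ≠ 1 → v ≠ 1 → v ∈ Q u)
    (QU LU : Subgroup G) (hQU : QU = ⨅ u ∈ ((U : Set G) \ {1}), Q u) (hLU : LU = ⨆ u ∈ ((U : Set G) \ {1}), Q u)
    (hU : U ≠ ⊥) :
    (∀ g ∈ LU, ∀ x ∈ QU, g * x * g⁻¹ * x⁻¹ ∈ U) ∧
      ∀ x ∈ QU, x ∉ U → ∀ u ∈ U, ∃ g ∈ LU ⊓ Subgroup.centralizer (U : Set G), g * x * g⁻¹ = x * u := by
  classical
  have hLES : ∀ u ∈ U, u ≠ 1 → LES (Q u) u := fun u hu hu1 =>
    les_conj Q hQ z hz hE hC u (hS u hu hu1)
  have hUQ : ∀ u ∈ U, u ≠ 1 → U ≤ Q u := by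
    intro u hu hu1 v hv
    by_cases hv1 : v = 1
    · rw [hv1]; exact Subgroup.one_mem _
    · exact hO u hu v hv hu1 hv1
  have hQUle : ∀ u ∈ U, u ≠ 1 → QU ≤ Q u := by
    intro u hu hu1; rw [hQU]; exact iInf₂_le u ⟨hu, hu1⟩
  have hQLU : ∀ u ∈ U, u ≠ 1 → Q u ≤ LU := by
    intro u hu hu1; rw [hLU]
    exact le_iSup₂ (f := fun u (_ : u ∈ ((U : Set G) \ {1})) => Q u) u ⟨hu, hu1⟩
  constructor
  · have hsub : LU ≤ commSub U (QU : Set G) := by
      rw [hLU]
      apply iSup₂_le
      rintro u ⟨huU, hu1⟩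
      have hu1' : u ≠ 1 := hu1
      have hLu := hLES u huU hu1'
      intro g hg
      refine ⟨?_, ?_⟩
      · haveI : Finite ((U : Set G)) := Subtype.finite
        apply Subgroup.mem_normalizer_fintype
        intro v hv
        have hvQ := hUQ u huU hu1' hv
        have : g * v * g⁻¹ = (g * v * g⁻¹ * v⁻¹) * v := by group
        rw [this]
        rcases hLu.comm g hg v hvQ with h | h
        · rw [h, one_mul]; exact hv
        · rw [h]; exact U.mul_mem huU hv
      · intro x hx
        have hxQ := hQUle u huU hu1' hx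
        rcases hLu.comm g hg x hxQ with h | h
        · rw [h]; exact U.one_mem
        · rw [h]; exact huU
    intro g hg x hx
    exact (hsub hg).2 x hx
  · intro x hxQU hxU u hu
    by_cases hu1 : u = 1
    · refine ⟨1, Subgroup.one_mem _, ?_⟩
      rw [hu1]; group
    · have hLu := hLES u hu hu1
      have hes := LES.toES hLu
      obtain ⟨U', hU'⟩ : ∃ U' : Subgroup ↥(Q u), U' = U.subgroupOf (Q u) := ⟨_, rfl⟩
      have hu₀U' : (⟨u, hLu.zQ⟩ : ↥(Q u)) ∈ U' := by
        rw [hU', Subgroup.mem_subgroupOf]; exact hu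
      have h1 := card_mul_card_centralizer hes U' hu₀U'
      have hu₀C : (⟨u, hLu.zQ⟩ : ↥(Q u)) ∈ Subgroup.centralizer (U' : Set ↥(Q u)) := by
        rw [Subgroup.mem_centralizer_iff]; intro v _; exact hes.ctx.cen v
      have h2 := card_mul_card_centralizer hes (Subgroup.centralizer (U' : Set ↥(Q u))) hu₀C
      have hcpos : 0 < Nat.card (Subgroup.centralizer (U' : Set ↥(Q u))) := Nat.card_pos
      have hCC : Nat.card (Subgroup.centralizer
          ((Subgroup.centralizer (U' : Set ↥(Q u)) : Subgroup ↥(Q u)) : Set ↥(Q u))) = Nat.card U' := by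
        apply Nat.eq_of_mul_eq_mul_left hcpos
        rw [h2, ← h1, mul_comm]
      have hle : U' ≤ Subgroup.centralizer
          ((Subgroup.centralizer (U' : Set ↥(Q u)) : Subgroup ↥(Q u)) : Set ↥(Q u)) := by
        intro v hv
        rw [Subgroup.mem_centralizer_iff]
        intro c hc
        exact ((Subgroup.mem_centralizer_iff.mp hc) v hv).symm
      have heq : U' = Subgroup.centralizer
          ((Subgroup.centralizer (U' : Set ↥(Q u)) : Subgroup ↥(Q u)) : Set ↥(Q u)) :=
        Subgroup.eq_of_le_of_card_ge hle (by rw [hCC])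
      have hxQ : x ∈ Q u := hQUle u hu hu1 hxQU
      have hx₀ : (⟨x, hxQ⟩ : ↥(Q u)) ∉ U' := by
        rw [hU', Subgroup.mem_subgroupOf]; exact hxU
      rw [heq, Subgroup.mem_centralizer_iff] at hx₀
      push_neg at hx₀
      obtain ⟨g₀, hg₀C, hg₀x⟩ := hx₀
      have hcomm : (g₀ : G) * x * (g₀ : G)⁻¹ * x⁻¹ = u := by
        rcases hLu.comm g₀ g₀.2 x hxQ with h | h
        · exfalso; apply hg₀x; apply Subtype.ext
          show (g₀ : G) * x = x * g₀
          calc (g₀ : G) * x = ((g₀ : G) * x * (g₀ : G)⁻¹ * x⁻¹) * (x * g₀) := by group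
            _ = x * g₀ := by rw [h, one_mul]
        · exact h
      refine ⟨g₀, Subgroup.mem_inf.mpr ⟨hQLU u hu hu1 g₀.2, ?_⟩, ?_⟩
      · rw [Subgroup.mem_centralizer_iff]
        intro v hv
        have hvQ := hUQ u hu hu1 hv
        have := (Subgroup.mem_centralizer_iff.mp hg₀C) ⟨v, hvQ⟩
          (by rw [hU', SetLike.mem_coe, Subgroup.mem_subgroupOf]; exact hv)
        exact congrArg Subtype.val this
      · have hxu : x * u = u * x := hLu.zc x hxQ
        calc (g₀ : G) * x * (g₀ : G)⁻¹ = ((g₀ : G) * x * (g₀ : G)⁻¹ * x⁻¹) * x := by group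
          _ = u * x := by rw [hcomm]
          _ = x * u := hxu.symm

end Cfsg.Agent.S5597
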