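import Cfsg.Statements.S5598
import Cfsg.Agent.Lib.Lead.SingularQ

set_option autoImplicit false
open Cfsg

namespace Cfsg.Agent.S5598

open Cfsg.Agent.Lead.LargeES Cfsg.Agent.Lead.SingularQ

/-- Setting: `z` is an involution of the finite group `G`; for each element `x`, `Q x` is the largest normal 2-subgroup of the centralizer of `x`; `Q z` is extraspecial and contains its own centralizer in `G`. A subgroup `U` is singular when it is elementary abelian, every non-identity element of `U` is conjugate to `z`, and any two non-identity elements `u`, `v` of `U` are orthogonal (`v ∈ Q u`). Write `QU` for the intersection of the `Q u` and `LU` for the join of the `Q u` over the non-identity `u` in `U`. If the singular subgroup `U` is generated by a set `T` of non-identity elements, then `QU` is already the intersection of the `Q t` over `t ∈ T`. -/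
theorem result {G : Type*} [Group G] [Finite G]
    (Q : G → Subgroup G)
    (hQ : ∀ x : G, Q x = (Cfsg.pCore 2 ↥(Subgroup.centralizer ({x} : Set G))).map (Subgroup.centralizer ({x} : Set G)).subtype)
    (z : G) (hz : orderOf z = 2) (hE : Cfsg.IsExtraspecial 2 ↥(Q z))
    (hC : Subgroup.centralizer ((Q z : Subgroup G) : Set G) ≤ Q z)
    (U : Subgroup G) (hU2 : ∀ u ∈ U, u * u = 1)
    (hS : ∀ u ∈ U, u ≠ 1 → ∃ g : G, g * z * g⁻¹ = u)
    (hO : ∀ u ∈ U, ∀ v ∈ U, u ≠ 1 → v ≠ 1 → v ∈ Q u)
    (QU LU : Subgroup G) (hQU : QU = ⨅ u ∈ ((U : Set G) \ {1}), Q u) (hLU : LU = ⨆ u ∈ ((U : Set G) \ {1}), Q u)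
    (T : Set G) (hT : Subgroup.closure T = U) (hT1 : (1 : G) ∉ T) :
    QU = ⨅ t ∈ T, Q t := by
  classical
  have hconj := Cfsg.Agent.S5595.Q_conj Q hQ
  have hLES : ∀ u ∈ U, u ≠ 1 → LES (Q u) u := fun u hu hu1 =>
    les_conj Q hQ z hz hE hC u (hS u hu hu1)
  have key : ∀ u ∈ U, ∀ v ∈ U, u ≠ 1 → v ≠ 1 → u ≠ v → Q u ⊓ Q v ≤ Q (u * v) := by
    intro u hu v hv hu1 hv1 huv a ha
    obtain ⟨haQu, haQv⟩ := Subgroup.mem_inf.mp ha
    have hLu := hLES u hu hu1
    have hvQu : v ∈ Q u := hO u hu v hv hu1 hv1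
    have huQv : u ∈ Q v := hO v hv u hu hv1 hu1
    obtain ⟨q, hqQ, hqv⟩ := hLu.exists_move hvQu hv1 (Ne.symm huv)
    have hqv' : q * v * q⁻¹ = u * v := by
      calc q * v * q⁻¹ = (q * v * q⁻¹ * v⁻¹) * v := by group
        _ = u * v := by rw [hqv]
    have hQuv : Q (u * v) = (Q v).map (MulAut.conj q).toMonoidHom := by
      rw [← hqv']; exact hconj v q
    rw [hQuv, mem_map_conj]
    have h := hLu.comm q⁻¹ (Subgroup.inv_mem _ hqQ) a haQu
    rw [inv_inv] at h
    rcases h with h | h
    · have : q⁻¹ * a * q = a := by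
        calc q⁻¹ * a * q = (q⁻¹ * a * q * a⁻¹) * a := by group
          _ = a := by rw [h, one_mul]
      rw [this]; exact haQv
    · have : q⁻¹ * a * q = u * a := by
        calc q⁻¹ * a * q = (q⁻¹ * a * q * a⁻¹) * a := by group
          _ = u * a := by rw [h]
      rw [this]; exact Subgroup.mul_mem _ huQv haQv
  have claim : ∀ u, u ∈ Subgroup.closure T → u = 1 ∨ (⨅ t ∈ T, Q t) ≤ Q u := by
    intro u hu
    induction hu using Subgroup.closure_induction with
    | mem x hx => right; exact iInf₂_le x hx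
    | one => left; rfl
    | mul x y hx hy ihx ihy =>
      have hxU : x ∈ U := hT ▸ hx
      have hyU : y ∈ U := hT ▸ hy
      by_cases hx1 : x = 1
      · rw [hx1, one_mul]; exact ihy
      by_cases hy1 : y = 1
      · rw [hy1, mul_one]; exact ihx
      by_cases hxy : x = y
      · left; rw [hxy]; exact hU2 y hyU
      · right
        have h1 := ihx.resolve_left hx1
        have h2 := ihy.resolve_left hy1
        exact (le_inf h1 h2).trans (key x hxU y hyU hx1 hy1 hxy)
    | inv x hx ih =>
      have hxU : x ∈ U := hT ▸ hx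
      rw [inv_eq_of_mul_eq_one_right (hU2 x hxU)]; exact ih
  apply le_antisymm
  · rw [hQU]
    apply le_iInf₂
    intro t ht
    have htU : t ∈ U := hT ▸ Subgroup.subset_closure ht
    have ht1 : t ≠ 1 := fun h => hT1 (h ▸ ht)
    exact iInf₂_le t ⟨htU, ht1⟩
  · rw [hQU]
    apply le_iInf₂
    rintro u ⟨huU, hu1⟩
    exact (claim u (hT.symm ▸ huU)).resolve_left hu1

end Cfsg.Agent.S5598
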