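import Cfsg.Statements.S5601
import Cfsg.Agent.Lib.Helper6.GolayNF4

set_option autoImplicit false
open scoped Pointwise
open Cfsg

namespace Cfsg.Agent.S5601

/-- The group of the length-24 code has exactly two conjugacy classes of subgroups of order 3: a subgroup of order 3 fixes either exactly 6 of the 24 points or none of them, both cases occur, and two subgroups of order 3 with the same number of fixed points are conjugate. -/
theorem result : (∀ X : Subgroup ↥Cfsg.M24, Nat.card X = 3 → {p : Cfsg.GolayPt | ∀ x ∈ X, ((x : ↥Cfsg.M24) : Equiv.Perm Cfsg.GolayPt) p = p}.ncard = 6 ∨ {p : Cfsg.GolayPt | ∀ x ∈ X, ((x : ↥Cfsg.M24) : Equiv.Perm Cfsg.GolayPt) p = p}.ncard = 0) ∧ (∃ X : Subgroup ↥Cfsg.M24, Nat.card X = 3 ∧ {p : Cfsg.GolayPt | ∀ x ∈ X, ((x : ↥Cfsg.M24) : Equiv.Perm Cfsg.GolayPt) p = p}.ncard = 6) ∧ (∃ X : Subgroup ↥Cfsg.M24, Nat.card X = 3 ∧ {p : Cfsg.GolayPt | ∀ x ∈ X, ((x : ↥Cfsg.M24) : Equiv.Perm Cfsg.GolayPt) p = p}.ncard = 0) ∧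 ∀ X Y : Subgroup ↥Cfsg.M24, Nat.card X = 3 → Nat.card Y = 3 → {p : Cfsg.GolayPt | ∀ x ∈ X, ((x : ↥Cfsg.M24) : Equiv.Perm Cfsg.GolayPt) p = p}.ncard = {p : Cfsg.GolayPt | ∀ x ∈ Y, ((x : ↥Cfsg.M24) : Equiv.Perm Cfsg.GolayPt) p = p}.ncard → ∃ k : ↥Cfsg.M24, MulAut.conj k • X = Y := by
  open Cfsg.Agent.Lib.Helper6.Golay Cfsg.Agent.Lib.Helper6.PermChain in
  have key : ∀ x : ↥Cfsg.M24, orderOf x = 3 →
      {p : Cfsg.GolayPt | ∀ y ∈ Subgroup.zpowers x, ((y : ↥Cfsg.M24) : Equiv.Perm Cfsg.GolayPt) p = p}.ncard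
        = if ∀ p, (x : Equiv.Perm Cfsg.GolayPt) p ≠ p then 0 else 6 := by
    intro x hx
    have hx' : orderOf (x : Equiv.Perm Cfsg.GolayPt) = 3 := by rw [Subgroup.orderOf_coe]; exact hx
    rw [fixset_zpowers, Set.ncard_coe_finset]
    split_ifs with h
    · exact fix_card_zero_of_fpf h
    · push Not at h
      obtain ⟨p, hp⟩ := h
      exact ord3_fix_card x.2 hx' hp
  have ex : ∀ r ∈ [r3A, r3B], ∃ x : ↥Cfsg.M24, orderOf x = 3 ∧
      ⇑(x : Equiv.Perm Cfsg.GolayPt) = lfun r := by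
    intro r hr
    obtain ⟨wr, u, hu, huf⟩ := rep_refs r (by
      simp only [List.mem_cons, List.not_mem_nil, or_false] at hr ⊢
      rcases hr with rfl | rfl <;> simp)
    have hcube : u * (u * u) = 1 := by
      apply mul_cube_of_lfun wr huf
      simp only [List.mem_cons, List.not_mem_nil, or_false] at hr
      rcases hr with rfl | rfl <;> decide +kernel
    have hne : u ≠ 1 := by
      simp only [List.mem_cons, List.not_mem_nil, or_false] at hr
      rcases hr with rfl | rfl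
      · exact ne_one_of_lfun huf 0 (by norm_num) (by decide) (by decide)
      · exact ne_one_of_lfun huf 0 (by norm_num) (by decide) (by decide)
    have h3 : orderOf u = 3 := orderOf_eq_prime (by rw [pow_succ', sq]; exact hcube) hne
    refine ⟨⟨u, hu⟩, ?_, huf⟩
    rw [← Subgroup.orderOf_coe]
    exact h3
  refine ⟨?_, ?_, ?_, ?_⟩
  · intro X hX
    obtain ⟨x, hx, rfl⟩ := exists_gen_of_card_three X hX
    rw [key x hx]
    split_ifs
    · exact Or.inr rfl
    · exact Or.inl rfl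
  · obtain ⟨x, hx, hxf⟩ := ex r3A (by simp)
    refine ⟨Subgroup.zpowers x, by rw [Nat.card_zpowers, hx], ?_⟩
    rw [key x hx, if_neg]
    intro h
    apply h (pt 23)
    rw [hxf]
    decide
  · obtain ⟨x, hx, hxf⟩ := ex r3B (by simp)
    refine ⟨Subgroup.zpowers x, by rw [Nat.card_zpowers, hx], ?_⟩
    rw [key x hx, if_pos]
    intro p
    rw [hxf]
    exact fpf_r3B p
  · intro X Y hX hY hXY
    obtain ⟨x, hx, rfl⟩ := exists_gen_of_card_three X hX
    obtain ⟨y, hy, rfl⟩ := exists_gen_of_card_three Y hY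
    rw [key x hx, key y hy] at hXY
    have hx' : orderOf (x : Equiv.Perm Cfsg.GolayPt) = 3 := by rw [Subgroup.orderOf_coe]; exact hx
    have hy' : orderOf (y : Equiv.Perm Cfsg.GolayPt) = 3 := by rw [Subgroup.orderOf_coe]; exact hy
    have hiff : (∀ p, (x : Equiv.Perm Cfsg.GolayPt) p ≠ p) ↔
        (∀ p, (y : Equiv.Perm Cfsg.GolayPt) p ≠ p) := by
      constructor
      · intro h
        rw [if_pos h] at hXY
        by_contra h'
        rw [if_neg h'] at hXY
        omega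
      · intro h
        rw [if_pos h] at hXY
        by_contra h'
        rw [if_neg h'] at hXY
        omega
    obtain ⟨k, hk, hkxy⟩ := ord3_conj x.2 y.2 hx' hy' hiff
    refine ⟨⟨k, hk⟩, ?_⟩
    rw [conj_smul_zpowers]
    congr 1
    exact Subtype.ext hkxy

end Cfsg.Agent.S5601
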