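import Cfsg.Statements.S5602
import Cfsg.Agent.Lib.Helper6.GolayFixCount2

set_option autoImplicit false
open scoped Pointwise
open Cfsg

namespace Cfsg.Agent.S5602

/-- An element of order 3 of the group of the length-24 code having exactly 6 fixed points maps to themselves exactly 21 octads, exactly 15 trios, exactly 16 sextets and exactly 20 dodecads. -/
theorem result (g : Equiv.Perm Cfsg.GolayPt) (hg : g ∈ Cfsg.M24) (h₃ : orderOf g = 3) (h₆ : (Finset.univ.filter fun p => g p = p).card = 6) : {o : Finset Cfsg.GolayPt | o ∈ Cfsg.octads ∧ g • o = o}.ncard = 21 ∧ {T : Finset (Finset Cfsg.GolayPt) | T ∈ Cfsg.trios ∧ g • T = T}.ncard = 15 ∧ {S : Finset (Finset Cfsg.GolayPt) | S ∈ Cfsg.sextets ∧ g • S = S}.ncard = 16 ∧ {d : Finset Cfsg.GolayPt | d ∈ Cfsg.dodecads ∧ g • d = d}.ncard = 20 := by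
  open Cfsg.Agent.Lib.Helper6.Golay Cfsg.Agent.Lib.Helper6.PermChain in
  obtain ⟨hcube, hne⟩ := cube_of_orderOf_three h₃
  obtain ⟨p, hp⟩ : ∃ p, g p = p := by
    have : (Finset.univ.filter fun p => g p = p).Nonempty := by
      rw [← Finset.card_pos, h₆]; norm_num
    obtain ⟨p, hp⟩ := this
    exact ⟨p, (Finset.mem_filter.mp hp).2⟩
  have hconj := ord3_fix_conj hg hcube hne hp
  have hw := wf_refs.2.2.1
  refine ⟨?_, ?_, ?_, ?_⟩
  · have := count_words 8 hconj hw
    have h2 := congrArg (fun l => l.getD 2 0) num_octads
    simp only [List.map_cons, List.getD_cons_succ, List.getD_cons_zero] at h2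
    rw [h2] at this
    exact this
  · have := count_trios hconj hw
    have h2 := congrArg (fun l => l.getD 2 0) num_trios
    simp only [List.map_cons, List.getD_cons_succ, List.getD_cons_zero] at h2
    rw [h2] at this
    exact this
  · have := count_sextets hconj hw
    have h2 := congrArg (fun l => l.getD 2 0) num_sextets
    simp only [List.map_cons, List.getD_cons_succ, List.getD_cons_zero] at h2
    rw [h2] at this
    exact this
  · have := count_words 12 hconj hw
    rw [num_dodecads] at this
    exact this

end Cfsg.Agent.S5602
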