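import Cfsg.Statements.S5603
import Cfsg.Agent.Lib.Helper6.GolayFixCount2

set_option autoImplicit false
open scoped Pointwise
open Cfsg

namespace Cfsg.Agent.S5603

/-- A fixed-point-free element of order 3 of the group of the length-24 code maps to themselves exactly 7 sextets and exactly 15 trios. -/
theorem result (g : Equiv.Perm Cfsg.GolayPt) (hg : g ∈ Cfsg.M24) (h₃ : orderOf g = 3) (h₀ : ∀ p, g p ≠ p) : {S : Finset (Finset Cfsg.GolayPt) | S ∈ Cfsg.sextets ∧ g • S = S}.ncard = 7 ∧ {T : Finset (Finset Cfsg.GolayPt) | T ∈ Cfsg.trios ∧ g • T = T}.ncard = 15 := by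
  open Cfsg.Agent.Lib.Helper6.Golay Cfsg.Agent.Lib.Helper6.PermChain in
  obtain ⟨hcube, hne⟩ := cube_of_orderOf_three h₃
  have hconj := ord3_fpf_conj hg hcube h₀
  have hw := wf_refs.2.2.2
  refine ⟨?_, ?_⟩
  · have := count_sextets hconj hw
    have h2 := congrArg (fun l => l.getD 3 0) num_sextets
    simp only [List.map_cons, List.getD_cons_succ, List.getD_cons_zero] at h2
    rw [h2] at this
    exact this
  · have := count_trios hconj hw
    have h2 := congrArg (fun l => l.getD 3 0) num_trios
    simp only [List.map_cons, List.getD_cons_succ, List.getD_cons_zero] at h2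
    rw [h2] at this
    exact this

end Cfsg.Agent.S5603
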