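import Cfsg.Statements.S5604
import Cfsg.Agent.Lib.Helper6.GolayNorm7c

set_option autoImplicit false
open scoped Pointwise
open Cfsg

namespace Cfsg.Agent.S5604

/-- For a subgroup S of order 7 of the group of the length-24 code (a Sylow 7-subgroup): the normaliser of S has order 126, the centraliser of S has order 42 and is non-abelian, and the whole normaliser leaves some trio invariant. (These are the orders of a Frobenius group of order 21 times a symmetric group of degree 3; the isomorphism type itself is not asserted here.) -/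
theorem result (S : Subgroup ↥Cfsg.M24) (hS : Nat.card S = 7) : Nat.card ↥(Subgroup.normalizer (S : Set ↥Cfsg.M24)) = 126 ∧ Nat.card ↥(Subgroup.centralizer (S : Set ↥Cfsg.M24)) = 42 ∧ (∃ x ∈ Subgroup.centralizer (S : Set ↥Cfsg.M24), ∃ y ∈ Subgroup.centralizer (S : Set ↥Cfsg.M24), x * y ≠ y * x) ∧ ∃ T ∈ Cfsg.trios, ∀ n ∈ Subgroup.normalizer (S : Set ↥Cfsg.M24), ((n : ↥Cfsg.M24) : Equiv.Perm Cfsg.GolayPt) • T = T := by
  open Cfsg.Agent.Lib.Helper6.Golay Cfsg.Agent.Lib.Helper6.PermChain in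
  obtain ⟨x, rfl, hconj⟩ := exists_gen_card_seven S hS
  obtain ⟨h1, h2, ⟨a, ha, b, hb, hab⟩, T, hT, hfix⟩ := norm7_main hconj
  refine ⟨?_, ?_, ?_, T, hT, ?_⟩
  · rw [card_bridge_norm, h1]
  · rw [card_bridge_cent, h2]
  · refine ⟨⟨a, ha.1⟩, (bridge_cent x _).mpr ha, ⟨b, hb.1⟩, (bridge_cent x _).mpr hb, ?_⟩
    intro h
    apply hab
    have := congrArg (fun y : ↥Cfsg.M24 => (y : Equiv.Perm Cfsg.GolayPt)) h
    simpa using this
  · intro n hn
    exact hfix _ ((bridge_norm x n).mp hn)

end Cfsg.Agent.S5604
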