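import Cfsg.Statements.S5606
import Cfsg.Agent.Lib.Helper6.GolayFixCount2

set_option autoImplicit false
open scoped Pointwise
open Cfsg

namespace Cfsg.Agent.S5606

/-- A fixed-point-free involution of the group of the length-24 code maps to themselves exactly 15 octads, exactly 75 trios and exactly 51 sextets. -/
theorem result (g : Equiv.Perm Cfsg.GolayPt) (hg : g ∈ Cfsg.M24) (h₂ : orderOf g = 2) (h₀ : ∀ p, g p ≠ p) : {o : Finset Cfsg.GolayPt | o ∈ Cfsg.octads ∧ g • o = o}.ncard = 15 ∧ {T : Finset (Finset Cfsg.GolayPt) | T ∈ Cfsg.trios ∧ g • T = T}.ncard = 75 ∧ {S : Finset (Finset Cfsg.GolayPt) | S ∈ Cfsg.sextets ∧ g • S = S}.ncard = 51 := by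
  open Cfsg.Agent.Lib.Helper6.Golay Cfsg.Agent.Lib.Helper6.PermChain in
  obtain ⟨hsq, hne⟩ := sq_of_orderOf_two h₂
  have hconj := invol_fpf_conj hg hsq h₀
  have hw := wf_refs.2.1
  refine ⟨?_, ?_, ?_⟩
  · have := count_words 8 hconj hw
    have h2 := congrArg (fun l => l.getD 1 0) num_octads
    simp only [List.map_cons, List.getD_cons_succ, List.getD_cons_zero] at h2
    rw [h2] at this
    exact this
  · have := count_trios hconj hw
    have h2 := congrArg (fun l => l.getD 1 0) num_trios
    simp only [List.map_cons, List.getD_cons_succ, List.getD_cons_zero] at h2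
    rw [h2] at this
    exact this
  · have := count_sextets hconj hw
    have h2 := congrArg (fun l => l.getD 1 0) num_sextets
    simp only [List.map_cons, List.getD_cons_succ, List.getD_cons_zero] at h2
    rw [h2] at this
    exact this

end Cfsg.Agent.S5606
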