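import Cfsg.Statements.S5607
import Cfsg.Agent.Lib.Helper6.GolayCent2B2

set_option autoImplicit false
open scoped Pointwise
open Cfsg

namespace Cfsg.Agent.S5607

/-- For a fixed-point-free involution t of the group of the length-24 code: its centraliser in that group has order 7680, is transitive on the 24 points, and is contained, together with t, in the stabiliser of some sextet. -/
theorem result (t : Equiv.Perm Cfsg.GolayPt) (ht : t ∈ Cfsg.M24) (h₂ : orderOf t = 2) (h₀ : ∀ p, t p ≠ p) : Nat.card {c : Equiv.Perm Cfsg.GolayPt // c ∈ Cfsg.M24 ∧ c * t = t * c} = 7680 ∧ (∀ p q : Cfsg.GolayPt, ∃ c ∈ Cfsg.M24, c * t = t * c ∧ c p = q) ∧ ∃ S ∈ Cfsg.sextets, t • S = S ∧ ∀ c ∈ Cfsg.M24, c * t = t * c → c • S = S := by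
  open Cfsg.Agent.Lib.Helper6.Golay Cfsg.Agent.Lib.Helper6.PermChain in
  obtain ⟨h1, h2, S, hS, htS, hcS⟩ := centM_main ht h₂ h₀
  refine ⟨h1, ?_, S, hS, htS, fun c hc hct => hcS c ⟨hc, hct⟩⟩
  intro p q
  obtain ⟨c, hc, hcp⟩ := h2 p q
  exact ⟨c, hc.1, hc.2, hcp⟩

end Cfsg.Agent.S5607
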