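import Cfsg.Statements.S5608
import Cfsg.Agent.Lib.Helper6.GolayNF5

set_option autoImplicit false
open scoped Pointwise
open Cfsg

namespace Cfsg.Agent.S5608

/-- If an element of order 3 and an involution of the group of the length-24 code commute, then either the element of order 3 has exactly 6 fixed points and the involution exactly 8, or both are fixed-point-free. -/
theorem result (x s : Equiv.Perm Cfsg.GolayPt) (hx : x ∈ Cfsg.M24) (hs : s ∈ Cfsg.M24) (h₃ : orderOf x = 3) (h₂ : orderOf s = 2) (hc : Commute x s) : ((Finset.univ.filter fun p => x p = p).card = 6 ∧ (Finset.univ.filter fun p => s p = p).card = 8) ∨ ((Finset.univ.filter fun p => x p = p).card = 0 ∧ (Finset.univ.filter fun p => s p = p).card = 0) := by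
  open Cfsg.Agent.Lib.Helper6.Golay Cfsg.Agent.Lib.Helper6.PermChain in
  by_cases hxf : ∀ p, x p ≠ p
  · by_cases hsf : ∀ p, s p ≠ p
    · exact Or.inr ⟨fix_card_zero_of_fpf hxf, fix_card_zero_of_fpf hsf⟩
    · exfalso
      push Not at hsf
      obtain ⟨q, hq⟩ := hsf
      have hoct := invol_fix_octad hs h₂ hq
      have hcomm : ∀ p, x (s p) = s (x p) := fun p => by
        have := congrArg (fun f : Equiv.Perm Cfsg.GolayPt => f p) hc.eq
        simpa using this
      have hF : ∀ p, x p ∈ (Finset.univ.filter fun p => s p = p) ↔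
          p ∈ (Finset.univ.filter fun p => s p = p) := by
        intro p
        simp only [Finset.mem_filter, Finset.mem_univ, true_and]
        rw [← hcomm]
        exact x.injective.eq_iff
      have : Fact (Nat.Prime 3) := ⟨Nat.prime_three⟩
      have hx3 : x ^ 3 ^ 1 = 1 := by
        rw [pow_one, ← h₃]; exact pow_orderOf_eq_one x
      obtain ⟨p, -, hp⟩ := exists_fix_of_invariant x _ hF 3 1 hx3 (by
        rw [card_of_mem_octads hoct]; norm_num)
      exact hxf p hp
  · push Not at hxf
    obtain ⟨p, hp⟩ := hxf
    by_cases hsf : ∀ p, s p ≠ p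
    · exact (no_fpf_invol_comm hx hs h₃ h₂ hc hp hsf).elim
    · push Not at hsf
      obtain ⟨q, hq⟩ := hsf
      exact Or.inl ⟨ord3_fix_card hx h₃ hp, card_of_mem_octads (invol_fix_octad hs h₂ hq)⟩

end Cfsg.Agent.S5608
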