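import Cfsg.Statements.S5613
import Cfsg.Agent.Lib.Helper6.GolayOctadMax
import Cfsg.Agent.Lib.Helper6.GolayDodecad

set_option autoImplicit false
open scoped Pointwise
open Cfsg

namespace Cfsg.Agent.S5613

open Cfsg.Agent.Lib.Helper6.Golay in
/-- orbit-stabiliser for a subgroup acting transitively on a set -/
theorem card_orbit_stab {G X : Type*} [Group G] [MulAction G X] (K : Subgroup G) (Ω : Set X) (x : X)
    (hsub : ∀ k ∈ K, k • x ∈ Ω) (htrans : ∀ y ∈ Ω, ∃ k ∈ K, k • x = y) :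
    Nat.card K = Ω.ncard * Nat.card (K ⊓ MulAction.stabilizer G x : Subgroup G) := by
  rw [Subgroup.card_eq_card_quotient_mul_card_subgroup (MulAction.stabilizer K x)]
  congr 1
  · rw [← Nat.card_congr (MulAction.orbitEquivQuotientStabilizer K x), Nat.card_coe_set_eq]
    congr 1
    ext y
    constructor
    · rintro ⟨k, rfl⟩
      exact hsub k.1 k.2
    · intro hy
      obtain ⟨k, hk, rfl⟩ := htrans y hy
      exact ⟨⟨k, hk⟩, rfl⟩
  · apply Nat.card_congr
    refine ⟨fun k => ⟨k.1.1, ⟨k.1.2, k.2⟩⟩, fun k => ⟨⟨k.1, k.2.1⟩, k.2.2⟩, fun k => rfl, fun k => rfl⟩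

open Cfsg.Agent.Lib.Helper6.Golay in
theorem card_joint (o o' : Finset Cfsg.GolayPt) (ho : o ∈ Cfsg.octads) (ho' : o' ∈ Cfsg.octads) (k : ℕ)
    (hk : (o ∩ o').card = k) :
    322560 = {x : Finset Cfsg.GolayPt | x ∈ Cfsg.octads ∧ (o ∩ x).card = k}.ncard *
      Nat.card ↥(MulAction.stabilizer Cfsg.M24 o ⊓ MulAction.stabilizer Cfsg.M24 o') := by
  rw [← card_stabilizer_octad ho]
  apply card_orbit_stab (MulAction.stabilizer Cfsg.M24 o)
    {x : Finset Cfsg.GolayPt | x ∈ Cfsg.octads ∧ (o ∩ x).card = k} o'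
  · intro g hg
    have hgo : (g : Equiv.Perm Cfsg.GolayPt) • o = o := MulAction.mem_stabilizer_iff.mp hg
    refine ⟨smul_mem_octads g.2 ho', ?_⟩
    show (o ∩ (g : Equiv.Perm Cfsg.GolayPt) • o').card = k
    rw [← hk]
    conv_lhs => rw [← hgo]
    rw [← Finset.smul_finset_inter, Finset.card_smul_finset]
  · intro y hy
    obtain ⟨g, hg, hgo, hgy⟩ := exists_stab_octad_map ho ho' hy.1 (hk.trans hy.2.symm)
    exact ⟨⟨g, hg⟩, MulAction.mem_stabilizer_iff.mpr hgo, hgy⟩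

/-- In the group of the length-24 code, the joint stabiliser of two octads has order 10752, 1152 or 720 according as the octads meet in 0, 4 or 2 points. -/
theorem result (o o' : Finset Cfsg.GolayPt) (ho : o ∈ Cfsg.octads) (ho' : o' ∈ Cfsg.octads) : ((o ∩ o').card = 0 → Nat.card ↥(MulAction.stabilizer Cfsg.M24 o ⊓ MulAction.stabilizer Cfsg.M24 o') = 10752) ∧ ((o ∩ o').card = 4 → Nat.card ↥(MulAction.stabilizer Cfsg.M24 o ⊓ MulAction.stabilizer Cfsg.M24 o') = 1152) ∧ ((o ∩ o').card = 2 → Nat.card ↥(MulAction.stabilizer Cfsg.M24 o ⊓ MulAction.stabilizer Cfsg.M24 o') = 720) := by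
  refine ⟨fun h => ?_, fun h => ?_, fun h => ?_⟩
  · have := card_joint o o' ho ho' 0 h
    rw [Cfsg.Agent.Lib.Helper6.Golay.ncard_octad_inter_octad ho, Cfsg.Agent.Lib.Helper6.Golay.cntOct0] at this
    omega
  · have := card_joint o o' ho ho' 4 h
    rw [Cfsg.Agent.Lib.Helper6.Golay.ncard_octad_inter_octad ho, Cfsg.Agent.Lib.Helper6.Golay.cntOct4] at this
    omega
  · have := card_joint o o' ho ho' 2 h
    rw [Cfsg.Agent.Lib.Helper6.Golay.ncard_octad_inter_octad ho, Cfsg.Agent.Lib.Helper6.Golay.cntOct2] at this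
    omega

end Cfsg.Agent.S5613
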