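import Cfsg.Statements.S5624
import Mathlib
import Cfsg.Agent.H9.GolayAbs

set_option autoImplicit false
open Cfsg

namespace Cfsg.Agent.S5624

open Finset Cfsg.Agent.H9.GolayAbs

theorem mem_span_octads {C : Submodule (ZMod 2) V} (hC : IsGolay C) :
    ∀ (n : ℕ) (c : V), c ∈ C → wt c = n →
      c ∈ Submodule.span (ZMod 2) {w : V | w ∈ C ∧ hammingNorm w = 8} := by
  intro n
  induction n using Nat.strong_induction_on with
  | _ n ih =>
    intro c hc hn
    by_cases hc0 : c = 0
    · subst hc0
      exact Submodule.zero_mem _
    · obtain ⟨o, hoC, ho8, h⟩ := reduce hC hc hc0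
      have h1 : c + o ∈ Submodule.span (ZMod 2) {w : V | w ∈ C ∧ hammingNorm w = 8} :=
        ih (wt (c + o)) (by omega) (c + o) (C.add_mem hc hoC) rfl
      have h2 : o ∈ Submodule.span (ZMod 2) {w : V | w ∈ C ∧ hammingNorm w = 8} :=
        Submodule.subset_span ⟨hoC, ho8⟩
      have h3 : c = (c + o) + o := by
        rw [add_assoc, add_self', add_zero]
      rw [h3]
      exact Submodule.add_mem _ h1 h2

/-- Let C be a self-dual binary code of length 24 with minimum weight at least 8 (a 12-dimensional subspace of the 24-dimensional space over the field with two elements, any two of whose words have dot product zero, with no non-zero word of weight below 8 — an abstract extended binary Golay code). Then C is spanned, as a vector space over the field with two elements, by its words of weight 8. -/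
theorem result (C : Submodule (ZMod 2) (Fin 24 → ZMod 2)) (hdim : Module.finrank (ZMod 2) C = 12) (horth : ∀ v ∈ C, ∀ w ∈ C, ∑ i, v i * w i = 0) (hmin : ∀ w ∈ C, w ≠ 0 → 8 ≤ hammingNorm w) : Submodule.span (ZMod 2) {w : Fin 24 → ZMod 2 | w ∈ C ∧ hammingNorm w = 8} = C := by
  have hC : IsGolay C := ⟨hdim, horth, hmin⟩
  apply le_antisymm
  · rw [Submodule.span_le]
    intro w hw
    exact hw.1
  · intro c hc
    exact mem_span_octads hC _ c hc rfl

end Cfsg.Agent.S5624
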