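import Cfsg.Statements.S5625
import Mathlib
import Cfsg.Agent.Lib.Helper6.Steiner

set_option autoImplicit false

namespace Cfsg.Agent.S5625

open Cfsg Finset Cfsg.Agent.Lib.Helper6.Steiner

section
variable {α : Type*} [Fintype α] [DecidableEq α] {t k : ℕ} {B : Set (Finset α)}

/-- the sum over the blocks `c` of the number of `j`-subsets of `Y ∩ c`, for an arbitrary set
`Y`. -/
theorem sum_choose_inter' (hB : IsSteinerSystem t k B) (Y : Finset α) {j : ℕ} (hj : j ≤ t) :
    (∑ c ∈ blocksF B, Nat.choose (Y ∩ c).card j) * Nat.choose (k - j) (t - j) =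
      Nat.choose Y.card j * Nat.choose (Fintype.card α - j) (t - j) := by
  classical
  have hdc := sum_card_bipartiteAbove_eq_sum_card_bipartiteBelow
    (s := blocksF B) (t := Y.powersetCard j) (fun (c : Finset α) (J : Finset α) => J ⊆ c)
  have h1 : ∀ c ∈ blocksF B, ((Y.powersetCard j).bipartiteAbove
      (fun (c : Finset α) (J : Finset α) => J ⊆ c) c).card = Nat.choose (Y ∩ c).card j := by
    intro c _
    rw [← card_powersetCard]
    congr 1
    ext J
    simp only [bipartiteAbove, mem_filter, mem_powersetCard, subset_inter_iff]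
    tauto
  rw [sum_congr rfl h1] at hdc
  rw [hdc, sum_mul]
  have h2 : ∀ J ∈ Y.powersetCard j, ((blocksF B).bipartiteBelow
      (fun (c : Finset α) (J : Finset α) => J ⊆ c) J).card * Nat.choose (k - j) (t - j) =
      Nat.choose (Fintype.card α - j) (t - j) := by
    intro J hJ
    rw [mem_powersetCard] at hJ
    have := card_blocks_through hB (J := J) (by rw [hJ.2]; exact hj)
    rw [hJ.2] at this
    exact this
  rw [sum_congr rfl h2, sum_const, card_powersetCard, smul_eq_mul]

end

/-- In any Steiner system S(5, 8, 24) and for any set Y of three points, the blocks meeting Y in exactly 3, 2, 1 and 0 points number 21, 168, 360 and 210 respectively (so there are 759 blocks in all). -/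
theorem result (α : Type*) [Fintype α] [DecidableEq α] (hα : Fintype.card α = 24) (B : Set (Finset α)) (hB : Cfsg.IsSteinerSystem 5 8 B) (Y : Finset α) (hY : Y.card = 3) : {b : Finset α | b ∈ B ∧ (b ∩ Y).card = 3}.ncard = 21 ∧ {b : Finset α | b ∈ B ∧ (b ∩ Y).card = 2}.ncard = 168 ∧ {b : Finset α | b ∈ B ∧ (b ∩ Y).card = 1}.ncard = 360 ∧ {b : Finset α | b ∈ B ∧ (b ∩ Y).card = 0}.ncard = 210 := by
  have hn : ∀ i, {b : Finset α | b ∈ B ∧ (b ∩ Y).card = i}.ncard = nI B Y i := by
    intro i
    unfold nI
    congr 1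
    ext b
    simp only [Set.mem_ofPred_eq, inter_comm]
  rw [hn, hn, hn, hn]
  have eq : ∀ j, j ≤ 5 → (∑ i ∈ range 4, nI B Y i * Nat.choose i j) * Nat.choose (8 - j) (5 - j) =
      Nat.choose 3 j * Nat.choose (24 - j) (5 - j) := by
    intro j hj
    rw [← sum_regroup (B := B) hY j, sum_choose_inter' hB Y hj, hY, hα]
  have e0 := eq 0 (by norm_num)
  have e1 := eq 1 (by norm_num)
  have e2 := eq 2 (by norm_num)
  have e3 := eq 3 (by norm_num)
  simp only [sum_range_succ, sum_range_zero] at e0 e1 e2 e3
  norm_num [Nat.choose] at e0 e1 e2 e3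
  omega

end Cfsg.Agent.S5625
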