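import Cfsg.Statements.S5632
import Cfsg.Agent.H9.GLTransvection

set_option autoImplicit false
open Cfsg

namespace Cfsg.Agent.S5632

open Cfsg.Agent.H9

theorem result {F : Type*} [Field F] [Fintype F] (n : ℕ) (W U : Submodule F (Fin n → F)) (hW0 : W ≠ ⊥) (hWU : W < U) (hdim : Module.finrank F W + Module.finrank F U = n) : ∃ K : Subgroup (Matrix.GeneralLinearGroup (Fin n) F), Cfsg.Geo.subspaceStabilizer W ⊓ Cfsg.Geo.subspaceStabilizer U ⊓ Cfsg.Geo.specialLinear (Fin n) F < K ∧ K < Cfsg.Geo.specialLinear (Fin n) F := by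
  have hW1 : W ≠ ⊤ := by
    rintro rfl
    exact not_top_lt hWU
  -- U ≠ ⊤ by dimension count
  have hU1 : U ≠ ⊤ := by
    rintro rfl
    have h1 : Module.finrank F (⊤ : Submodule F (Fin n → F)) = n := by
      rw [finrank_top]; simp
    have h2 : 0 < Module.finrank F W := by
      rw [Module.finrank_pos_iff]
      exact (Submodule.nontrivial_iff_ne_bot).mpr hW0
    omega
  refine ⟨Cfsg.Geo.subspaceStabilizer W ⊓ Cfsg.Geo.specialLinear (Fin n) F, ?_, ?_⟩
  · -- strictly bigger
    obtain ⟨v, hv⟩ : ∃ v, v ∉ U := by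
      by_contra hcon
      push Not at hcon
      exact hU1 (eq_top_iff.mpr fun x _ => hcon x)
    obtain ⟨u0, hu0U, hu0W⟩ := SetLike.exists_of_lt hWU
    have hu0 : u0 ∉ W ⊔ Submodule.span F {v} := by
      intro hmem
      obtain ⟨w, hw, y, hy, hsum⟩ := Submodule.mem_sup.mp hmem
      obtain ⟨c, rfl⟩ := Submodule.mem_span_singleton.mp hy
      by_cases hc : c = 0
      · subst hc
        rw [zero_smul, add_zero] at hsum
        exact hu0W (hsum ▸ hw)
      · apply hv
        have h1 : c • v = u0 - w := by rw [← hsum]; abel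
        have h2 : c • v ∈ U := by
          rw [h1]; exact U.sub_mem hu0U (hWU.le hw)
        have := U.smul_mem c⁻¹ h2
        rwa [smul_smul, inv_mul_cancel₀ hc, one_smul] at this
    obtain ⟨f, hfu0, hfker⟩ := Submodule.exists_le_ker_of_notMem hu0
    have hfW : W ≤ LinearMap.ker f := le_sup_left.trans hfker
    have hfv : f v = 0 := hfker (Submodule.mem_sup_right (Submodule.mem_span_singleton_self v))
    apply lt_of_le_of_ne
    · intro g hg
      exact ⟨hg.1.1, hg.2⟩
    · intro heq
      have hmem : tv f v hfv ∈ Cfsg.Geo.subspaceStabilizer W ⊓ Cfsg.Geo.specialLinear (Fin n) F :=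
        ⟨tv_mem_subspaceStabilizer f v hfv W hfW, tv_mem_specialLinear f v hfv⟩
      rw [← heq] at hmem
      exact tv_not_mem_subspaceStabilizer f v hfv U hv hu0U hfu0 hmem.1.2
  · apply lt_of_le_of_ne inf_le_right
    intro heq
    obtain ⟨g, hg, hgW⟩ := exists_specialLinear_not_stab W hW0 hW1
    rw [← heq] at hg
    exact hgW hg.1

end Cfsg.Agent.S5632
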