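import Cfsg.Statements.S5633
import Cfsg.Agent.H9.GLTransvection

set_option autoImplicit false
open Cfsg

namespace Cfsg.Agent.S5633

open Cfsg.Agent.H9

theorem result {F : Type*} [Field F] [Fintype F] (n : ℕ) (W U : Submodule F (Fin n → F)) (hW0 : W ≠ ⊥) (hWU : W ⊓ U = ⊥) (hWU' : W ⊔ U = ⊤) (hdim : Module.finrank F W < Module.finrank F U) : ∃ K : Subgroup (Matrix.GeneralLinearGroup (Fin n) F), Cfsg.Geo.subspaceStabilizer W ⊓ Cfsg.Geo.subspaceStabilizer U ⊓ Cfsg.Geo.specialLinear (Fin n) F < K ∧ K < Cfsg.Geo.specialLinear (Fin n) F := by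
  have hU0 : U ≠ ⊥ := by
    rintro rfl
    rw [finrank_bot] at hdim
    omega
  have hW1 : W ≠ ⊤ := by
    rintro rfl
    rw [top_inf_eq] at hWU
    exact hU0 hWU
  refine ⟨Cfsg.Geo.subspaceStabilizer W ⊓ Cfsg.Geo.specialLinear (Fin n) F, ?_, ?_⟩
  · obtain ⟨u0, hu0U, hu0ne⟩ := (Submodule.ne_bot_iff U).mp hU0
    obtain ⟨w0, hw0W, hw0ne⟩ := (Submodule.ne_bot_iff W).mp hW0
    have hu0W : u0 ∉ W := by
      intro h
      have : u0 ∈ W ⊓ U := ⟨h, hu0U⟩
      rw [hWU, Submodule.mem_bot] at this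
      exact hu0ne this
    have hw0U : w0 ∉ U := by
      intro h
      have : w0 ∈ W ⊓ U := ⟨hw0W, h⟩
      rw [hWU, Submodule.mem_bot] at this
      exact hw0ne this
    obtain ⟨f, hfu0, hfW⟩ := Submodule.exists_le_ker_of_notMem hu0W
    have hfw0 : f w0 = 0 := hfW hw0W
    apply lt_of_le_of_ne
    · intro g hg
      exact ⟨hg.1.1, hg.2⟩
    · intro heq
      have hmem : tv f w0 hfw0 ∈ Cfsg.Geo.subspaceStabilizer W ⊓ Cfsg.Geo.specialLinear (Fin n) F :=
        ⟨tv_mem_subspaceStabilizer f w0 hfw0 W hfW, tv_mem_specialLinear f w0 hfw0⟩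
      rw [← heq] at hmem
      exact tv_not_mem_subspaceStabilizer f w0 hfw0 U hw0U hu0U hfu0 hmem.1.2
  · apply lt_of_le_of_ne inf_le_right
    intro heq
    obtain ⟨g, hg, hgW⟩ := exists_specialLinear_not_stab W hW0 hW1
    rw [← heq] at hg
    exact hgW hg.1

end Cfsg.Agent.S5633
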