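import Cfsg.Statements.S5635
import Mathlib
import Cfsg.Agent.H9.GLTransvection
import Cfsg.Agent.H9.Decomp

set_option autoImplicit false
open Cfsg

namespace Cfsg.Agent.S5635

open Cfsg.Agent.H9 Cfsg.Agent.H9.Decomp
open scoped MatrixGroups Matrix

section general
variable {ι : Type} [Fintype ι] [DecidableEq ι] {F : Type*} [Field F] {t m : ℕ}
  (D : Fin t → Submodule F (ι → F)) (b : Module.Basis (Fin t × Fin m) F (ι → F))
  (hb1 : ∀ i j, b (i, j) ∈ D i) (hb2 : ∀ k i j y, y ∈ D k → k ≠ i → b.repr y (i, j) = 0)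
include hb2

theorem not_mem_of_two (y : ι → F) {i2 i3 : Fin t} {j2 j3 : Fin m} (h23 : i2 ≠ i3)
    (h2 : b.repr y (i2, j2) ≠ 0) (h3 : b.repr y (i3, j3) ≠ 0) (k : Fin t) : y ∉ D k := by
  intro hy
  by_cases hk : k = i2
  · subst hk
    exact h3 (hb2 k i3 j3 y hy h23)
  · exact h2 (hb2 k i2 j2 y hy hk)

theorem not_stab_of_two (g : GL ι F) (x : ι → F) {k0 : Fin t} (hx : x ∈ D k0)
    {i2 i3 : Fin t} {j2 j3 : Fin m} (h23 : i2 ≠ i3)
    (h2 : b.repr ((g : Matrix ι ι F) *ᵥ x) (i2, j2) ≠ 0) (h3 : b.repr ((g : Matrix ι ι F) *ᵥ x) (i3, j3) ≠ 0) :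
    g ∉ Cfsg.Geo.decompositionStabilizer D := by
  rintro ⟨σ, hσ⟩
  apply not_mem_of_two D b hb2 _ h23 h2 h3 (σ k0)
  rw [← hσ k0]
  exact ⟨x, hx, Matrix.toLin'_apply _ _⟩

include hb1

/-- A transvection in `SL` not preserving the weight modulo the characteristic. -/
theorem exists_not_preserving (i0 i1 : Fin t) (h01 : i0 ≠ i1) (j0 : Fin m) :
    ∃ g ∈ Cfsg.Geo.specialLinear ι F, g ∉ wtPreserving D (Cfsg.Geo.specialLinear ι F) := by
  classical
  have hT : b.coord (i1, j0) (b (i0, j0)) = 0 := by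
    rw [Module.Basis.coord_apply, Module.Basis.repr_self, Finsupp.single_apply, if_neg]
    intro h; exact h01 (Prod.ext_iff.1 h).1
  refine ⟨tv (b.coord (i1, j0)) (b (i0, j0)) hT, tv_mem_specialLinear _ _ _, ?_⟩
  rintro ⟨-, h⟩
  have h1 := h (b (i1, j0))
  rw [tv_mulVec, Module.Basis.coord_apply, Module.Basis.repr_self, Finsupp.single_apply, if_pos rfl, one_smul,
    wt_eq D b hb1 hb2, wt_eq D b hb1 hb2] at h1
  have e1 : (Finset.univ.filter fun i => ∃ j, b.repr (b (i1, j0)) (i, j) ≠ 0) = {i1} := by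
    ext i
    simp only [Finset.mem_filter, Finset.mem_univ, true_and, Finset.mem_singleton, Module.Basis.repr_self,
      Finsupp.single_apply]
    constructor
    · rintro ⟨j, hj⟩
      by_contra hne
      apply hj
      rw [if_neg]
      intro h; exact hne (Prod.ext_iff.1 h).1.symm
    · rintro rfl
      exact ⟨j0, by rw [if_pos rfl]; exact one_ne_zero⟩
  have e2 : (Finset.univ.filter fun i => ∃ j, b.repr (b (i1, j0) + b (i0, j0)) (i, j) ≠ 0) = {i0, i1} := by
    ext i
    simp only [Finset.mem_filter, Finset.mem_univ, true_and, Finset.mem_insert, Finset.mem_singleton, map_add,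
      Finsupp.add_apply, Module.Basis.repr_self, Finsupp.single_apply]
    constructor
    · rintro ⟨j, hj⟩
      by_contra hne
      push Not at hne
      apply hj
      rw [if_neg, if_neg, add_zero]
      · intro h; exact hne.1 (Prod.ext_iff.1 h).1.symm
      · intro h; exact hne.2 (Prod.ext_iff.1 h).1.symm
    · rintro (rfl | rfl)
      · refine ⟨j0, ?_⟩
        rw [if_neg, if_pos rfl, zero_add]
        · exact one_ne_zero
        · intro h; exact h01 (Prod.ext_iff.1 h).1.symm
      · refine ⟨j0, ?_⟩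
        rw [if_pos rfl, if_neg, add_zero]
        · exact one_ne_zero
        · intro h; exact h01 (Prod.ext_iff.1 h).1
  rw [e1, e2, Finset.card_singleton, Finset.card_pair h01] at h1
  have : (1 : F) = 0 := by
    have h2 : ((2 : ℕ) : F) - 1 = ((1 : ℕ) : F) - 1 := by rw [h1]
    push_cast at h2
    have h3 : (2 : F) - 1 = 1 := by norm_num
    rw [h3, sub_self] at h2
    exact h2
  exact one_ne_zero this

omit hb1 hb2 in
theorem repr_sum (S : Finset (Fin t)) (j0 : Fin m) (i : Fin t) (j : Fin m) :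
    b.repr (∑ k ∈ S, b (k, j0)) (i, j) = if (i ∈ S ∧ j = j0) then 1 else 0 := by
  classical
  rw [map_sum, Finsupp.finsetSum_apply]
  simp only [Module.Basis.repr_self, Finsupp.single_apply]
  split_ifs with h
  · obtain ⟨hi, rfl⟩ := h
    rw [Finset.sum_eq_single i]
    · rw [if_pos rfl]
    · intro k _ hk
      rw [if_neg]
      intro h; exact hk (Prod.ext_iff.1 h).1
    · intro h; exact absurd hi h
  · apply Finset.sum_eq_zero
    intro k hk
    rw [if_neg]
    intro h'
    apply h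
    obtain ⟨h1, h2⟩ := Prod.ext_iff.1 h'
    simp only at h1 h2
    exact ⟨h1 ▸ hk, h2.symm⟩

omit hb1 hb2 in
theorem coord_sum (S : Finset (Fin t)) (j0 : Fin m) (x : ι → F) :
    (∑ k ∈ S, b.coord (k, j0)) x = ∑ k ∈ S, b.repr x (k, j0) := by
  rw [LinearMap.sum_apply]
  rfl

end general

section field2
variable {F : Type*} [Field F] [Fintype F] (hq : Fintype.card F = 2)
include hq

theorem h01 (x : F) : x = 0 ∨ x = 1 := by
  classical
  have huniv : (Finset.univ : Finset F) = {0, 1} := by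
    symm
    apply Finset.eq_univ_of_card
    rw [Finset.card_pair zero_ne_one, hq]
  have := Finset.mem_univ x
  rw [huniv] at this
  simpa using this

theorem h11 : (1 : F) + 1 = 0 := by
  rcases h01 hq ((1 : F) + 1) with h | h
  · exact h
  · exfalso
    have : (1 : F) = 0 := by
      have h2 : (1 : F) + 1 - 1 = 1 - 1 := by rw [h]
      simpa using h2
    exact one_ne_zero this

end field2

section caseB
variable {ι : Type} [Fintype ι] [DecidableEq ι] {F : Type*} [Field F] [Fintype F] (hq : Fintype.card F = 2)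
  {t : ℕ} (D : Fin t → Submodule F (ι → F)) (b : Module.Basis (Fin t × Fin 2) F (ι → F))
  (hb1 : ∀ i j, b (i, j) ∈ D i) (hb2 : ∀ k i j y, y ∈ D k → k ≠ i → b.repr y (i, j) = 0)
include hq hb1 hb2

theorem wtB (x : ι → F) : ((wt D x : ℕ) : F) =
    ∑ i, (b.repr x (i, 0) + b.repr x (i, 1) + b.repr x (i, 0) * b.repr x (i, 1)) := by
  classical
  rw [wt_eq D b hb1 hb2, ← Finset.sum_boole]
  apply Finset.sum_congr rfl
  intro i _
  have hiff : (∃ j, b.repr x (i, j) ≠ 0) ↔ (b.repr x (i, 0) ≠ 0 ∨ b.repr x (i, 1) ≠ 0) := Fin.exists_fin_two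
  simp only [hiff]
  rcases h01 hq (b.repr x (i, 0)) with h | h <;> rcases h01 hq (b.repr x (i, 1)) with h' | h'
  · simp [h, h']
  · simp [h, h']
  · simp [h, h']
  · simp [h, h', h11 hq]

theorem caseB (S : Finset (Fin t)) (hS : S.card = 3) :
    ∃ g ∈ wtPreserving D (Cfsg.Geo.specialLinear ι F), g ∉ Cfsg.Geo.decompositionStabilizer D := by
  classical
  set u : ι → F := ∑ k ∈ S, b (k, 0) with hu
  set β : Module.Dual F (ι → F) := ∑ k ∈ S, b.coord (k, 1) with hβ
  have hβu : β u = 0 := by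
    rw [hβ, coord_sum]
    apply Finset.sum_eq_zero
    intro k _
    rw [hu, repr_sum, if_neg]
    rintro ⟨-, h⟩
    exact absurd h (by decide)
  have hrepr : ∀ x i j, b.repr (((tv β u hβu : GL ι F) : Matrix ι ι F) *ᵥ x) (i, j) =
      b.repr x (i, j) + β x * (if (i ∈ S ∧ j = 0) then 1 else 0) := by
    intro x i j
    rw [tv_mulVec, map_add, map_smul, Finsupp.add_apply, Finsupp.smul_apply, smul_eq_mul, hu, repr_sum]
  refine ⟨tv β u hβu, ⟨tv_mem_specialLinear _ _ _, fun x => ?_⟩, ?_⟩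
  · rw [wtB hq D b hb1 hb2, wtB hq D b hb1 hb2]
    have hterm : ∀ i, (b.repr (((tv β u hβu : GL ι F) : Matrix ι ι F) *ᵥ x) (i, 0) +
        b.repr (((tv β u hβu : GL ι F) : Matrix ι ι F) *ᵥ x) (i, 1) +
        b.repr (((tv β u hβu : GL ι F) : Matrix ι ι F) *ᵥ x) (i, 0) *
        b.repr (((tv β u hβu : GL ι F) : Matrix ι ι F) *ᵥ x) (i, 1)) =
        (b.repr x (i, 0) + b.repr x (i, 1) + b.repr x (i, 0) * b.repr x (i, 1)) +
          (if i ∈ S then β x * (1 + b.repr x (i, 1)) else 0) := by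
      intro i
      rw [hrepr, hrepr]
      by_cases hi : i ∈ S
      · rw [if_pos ⟨hi, rfl⟩, if_neg (by rintro ⟨-, h⟩; exact absurd h (by decide)), if_pos hi]
        ring
      · rw [if_neg (fun h => hi h.1), if_neg (fun h => hi h.1), if_neg hi]
        ring
    simp_rw [hterm]
    have e : ∑ i ∈ S, (1 + b.repr x (i, 1)) = 3 + β x := by
      rw [Finset.sum_add_distrib, Finset.sum_const, hS, ← coord_sum, ← hβ]
      simp
    rw [Finset.sum_add_distrib, Finset.sum_ite_mem, Finset.univ_inter, ← Finset.mul_sum, e]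
    have h11' := h11 hq
    rcases h01 hq (β x) with h | h
    · rw [h, zero_mul, add_zero]
    · rw [h, one_mul]
      have : ((3 : F) + 1) = 0 := by
        have : ((3 : F) + 1) = (1 + 1) + (1 + 1) := by ring
        rw [this, h11', add_zero]
      rw [this, add_zero]
  · obtain ⟨i0, i1, i2, h0, h1, h2, h01', h02', h12'⟩ := Finset.two_lt_card_iff.1 (by rw [hS]; norm_num : 2 < S.card)
    have hβx : β (b (i0, 1)) = 1 := by
      rw [hβ, coord_sum]
      simp only [Module.Basis.repr_self, Finsupp.single_apply]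
      rw [Finset.sum_eq_single i0]
      · rw [if_pos rfl]
      · intro k _ hk
        rw [if_neg]
        intro h; exact hk (Prod.ext_iff.1 h).1.symm
      · intro h; exact absurd h0 h
    apply not_stab_of_two D b hb2 (tv β u hβu) (b (i0, 1)) (hb1 i0 1) h12' (j2 := 0) (j3 := 0)
    · rw [hrepr, hβx, if_pos ⟨h1, rfl⟩, Module.Basis.repr_self, Finsupp.single_apply, if_neg, zero_add, one_mul]
      · exact one_ne_zero
      · intro h; exact h01' (Prod.ext_iff.1 h).1
    · rw [hrepr, hβx, if_pos ⟨h2, rfl⟩, Module.Basis.repr_self, Finsupp.single_apply, if_neg, zero_add, one_mul]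
      · exact one_ne_zero
      · intro h; exact h02' (Prod.ext_iff.1 h).1

end caseB

section caseA
variable {ι : Type} [Fintype ι] [DecidableEq ι] {F : Type*} [Field F]
  (σ : F →+* F) (hσ : ∀ a : F, a ≠ 0 → a * σ a = 1) (h6 : (6 : F) = 0)
  {t : ℕ} (D : Fin t → Submodule F (ι → F)) (b : Module.Basis (Fin t × Fin 1) F (ι → F))
  (hb1 : ∀ i j, b (i, j) ∈ D i) (hb2 : ∀ k i j y, y ∈ D k → k ≠ i → b.repr y (i, j) = 0)

include hσ hb1 hb2 in
theorem wtA (x : ι → F) : ((wt D x : ℕ) : F) = ∑ i, b.repr x (i, 0) * σ (b.repr x (i, 0)) := by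
  classical
  rw [wt_eq D b hb1 hb2, ← Finset.sum_boole]
  apply Finset.sum_congr rfl
  intro i _
  have hiff : (∃ j, b.repr x (i, j) ≠ 0) ↔ b.repr x (i, 0) ≠ 0 := Fin.exists_fin_one
  simp only [hiff]
  by_cases h : b.repr x (i, 0) = 0
  · simp [h]
  · rw [if_pos h, hσ _ h]

/-- The "reflection" attached to a set of indices. -/
noncomputable def refl (S : Finset (Fin t)) : (ι → F) →ₗ[F] (ι → F) :=
  LinearMap.transvection (∑ k ∈ S, b.coord (k, 0)) (∑ k ∈ S, b (k, 0))

theorem refl_apply (S : Finset (Fin t)) (x : ι → F) :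
    refl b S x = x + (∑ k ∈ S, b.repr x (k, 0)) • (∑ k ∈ S, b (k, 0)) := by
  unfold refl
  rw [LinearMap.transvection.apply, coord_sum]

theorem refl_repr (S : Finset (Fin t)) (x : ι → F) (i : Fin t) :
    b.repr (refl b S x) (i, 0) = b.repr x (i, 0) + (∑ k ∈ S, b.repr x (k, 0)) * (if i ∈ S then 1 else 0) := by
  classical
  rw [refl_apply, map_add, map_smul, Finsupp.add_apply, Finsupp.smul_apply, smul_eq_mul, repr_sum]
  simp

theorem refl_det (S : Finset (Fin t)) : LinearMap.det (refl b S) = 1 + (S.card : F) := by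
  classical
  unfold refl
  rw [LinearMap.transvection.det, coord_sum]
  congr 1
  have : ∀ k ∈ S, b.repr (∑ k ∈ S, b (k, 0)) (k, 0) = 1 := by
    intro k hk
    rw [repr_sum, if_pos ⟨hk, rfl⟩]
  rw [Finset.sum_congr rfl this]
  simp

include h6 in
theorem refl_norm (S : Finset (Fin t)) (hS : S.card = 4) (x : ι → F) :
    ∑ i, b.repr (refl b S x) (i, 0) * σ (b.repr (refl b S x) (i, 0)) =
      ∑ i, b.repr x (i, 0) * σ (b.repr x (i, 0)) := by
  classical
  set α := ∑ k ∈ S, b.repr x (k, 0) with hα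
  have hterm : ∀ i, b.repr (refl b S x) (i, 0) * σ (b.repr (refl b S x) (i, 0)) =
      b.repr x (i, 0) * σ (b.repr x (i, 0)) +
        (if i ∈ S then (b.repr x (i, 0) * σ α + α * σ (b.repr x (i, 0)) + α * σ α) else 0) := by
    intro i
    rw [refl_repr, ← hα]
    by_cases hi : i ∈ S
    · rw [if_pos hi, if_pos hi, mul_one, map_add]
      ring
    · rw [if_neg hi, if_neg hi, mul_zero, add_zero, add_zero]
  simp_rw [hterm]
  have hσα : σ α = ∑ i ∈ S, σ (b.repr x (i, 0)) := by rw [hα, map_sum]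
  have e1 : ∑ i ∈ S, (b.repr x (i, 0) * σ α + α * σ (b.repr x (i, 0)) + α * σ α) = 6 * (α * σ α) := by
    rw [Finset.sum_add_distrib, Finset.sum_add_distrib, ← Finset.sum_mul, ← Finset.mul_sum, ← hσα, ← hα,
      Finset.sum_const, hS, nsmul_eq_mul]
    push_cast; ring
  rw [Finset.sum_add_distrib, Finset.sum_ite_mem, Finset.univ_inter, e1, h6, zero_mul, add_zero]

include hσ h6 hb1 hb2 in
theorem caseA (S S' : Finset (Fin t)) (hS : S.card = 4) (hS' : S'.card = 4) (hdisj : Disjoint S S') :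
    ∃ g ∈ wtPreserving D (Cfsg.Geo.specialLinear ι F), g ∉ Cfsg.Geo.decompositionStabilizer D := by
  classical
  have hdet : LinearMap.det (refl b S ∘ₗ refl b S') = 1 := by
    have hcomp : refl b S ∘ₗ refl b S' = refl b S * refl b S' := rfl
    rw [hcomp, map_mul, refl_det, refl_det, hS, hS']
    have : (1 + ((4 : ℕ) : F)) * (1 + ((4 : ℕ) : F)) = 6 * 4 + 1 := by push_cast; ring
    rw [this, h6, zero_mul, zero_add]
  refine ⟨glOfLin _ hdet, ⟨glOfLin_mem_specialLinear _ hdet, fun x => ?_⟩, ?_⟩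
  · rw [wtA σ hσ D b hb1 hb2, wtA σ hσ D b hb1 hb2, glOfLin_mulVec, LinearMap.comp_apply,
      refl_norm σ h6 b S hS, refl_norm σ h6 b S' hS']
  · obtain ⟨i0, i1, i2, h0, h1, h2, h01', h02', h12'⟩ := Finset.two_lt_card_iff.1 (by rw [hS]; norm_num : 2 < S.card)
    have hx' : refl b S' (b (i0, 0)) = b (i0, 0) := by
      rw [refl_apply]
      have : ∑ k ∈ S', b.repr (b (i0, 0)) (k, 0) = 0 := by
        apply Finset.sum_eq_zero
        intro k hk
        rw [Module.Basis.repr_self, Finsupp.single_apply, if_neg]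
        intro h
        have : i0 = k := (Prod.ext_iff.1 h).1
        exact Finset.disjoint_left.1 hdisj h0 (this ▸ hk)
      rw [this, zero_smul, add_zero]
    have hα : ∑ k ∈ S, b.repr (b (i0, 0)) (k, 0) = 1 := by
      simp only [Module.Basis.repr_self, Finsupp.single_apply]
      rw [Finset.sum_eq_single i0]
      · rw [if_pos rfl]
      · intro k _ hk
        rw [if_neg]
        intro h; exact hk (Prod.ext_iff.1 h).1.symm
      · intro h; exact absurd h0 h
    apply not_stab_of_two D b hb2 (glOfLin _ hdet) (b (i0, 0)) (hb1 i0 0) h12' (j2 := 0) (j3 := 0)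
    · rw [glOfLin_mulVec, LinearMap.comp_apply, hx', refl_repr, hα, if_pos h1, Module.Basis.repr_self,
        Finsupp.single_apply, if_neg, zero_add, one_mul]
      · exact one_ne_zero
      · intro h; exact h01' (Prod.ext_iff.1 h).1
    · rw [glOfLin_mulVec, LinearMap.comp_apply, hx', refl_repr, hα, if_pos h2, Module.Basis.repr_self,
        Finsupp.single_apply, if_neg, zero_add, one_mul]
      · exact one_ne_zero
      · intro h; exact h02' (Prod.ext_iff.1 h).1

end caseA

theorem field_facts {F : Type*} [Field F] [Fintype F] (h : Fintype.card F ≤ 4) :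
    ∃ σ : F →+* F, (∀ a : F, a ≠ 0 → a * σ a = 1) ∧ (6 : F) = 0 := by
  have h1 : 1 < Fintype.card F := Fintype.one_lt_card
  have hc : ((Fintype.card F : ℕ) : F) = 0 := FiniteField.cast_card_eq_zero F
  have hpow : ∀ a : F, a ≠ 0 → a ^ (Fintype.card F - 1) = 1 := fun a ha =>
    FiniteField.pow_card_sub_one_eq_one a ha
  have hcases : Fintype.card F = 2 ∨ Fintype.card F = 3 ∨ Fintype.card F = 4 := by omega
  rcases hcases with hcard | hcard | hcard <;> rw [hcard] at hc hpow
  · refine ⟨RingHom.id F, fun a ha => ?_, ?_⟩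
    · have := hpow a ha
      norm_num at this
      rw [RingHom.id_apply, this, mul_one]
    · have h2 : (2 : F) = 0 := by exact_mod_cast hc
      linear_combination 3 * h2
  · refine ⟨RingHom.id F, fun a ha => ?_, ?_⟩
    · have := hpow a ha
      rw [RingHom.id_apply, ← sq]; exact this
    · have h3 : (3 : F) = 0 := by exact_mod_cast hc
      linear_combination 2 * h3
  · have h4 : (4 : F) = 0 := by exact_mod_cast hc
    have h2 : (2 : F) = 0 := by
      have : (2 : F) * 2 = 0 := by linear_combination h4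
      exact mul_self_eq_zero.1 this
    refine ⟨⟨⟨⟨fun a => a ^ 2, one_pow 2⟩, fun a b => mul_pow a b 2⟩, zero_pow two_ne_zero, fun a b => ?_⟩,
      fun a ha => ?_, ?_⟩
    · show (a + b) ^ 2 = a ^ 2 + b ^ 2
      linear_combination (a * b) * h2
    · have := hpow a ha
      norm_num at this
      show a * a ^ 2 = 1
      rw [← this]; ring
    · linear_combination 3 * h2

theorem result {F : Type*} [Field F] [Fintype F] (n : ℕ) (hn : 13 ≤ n) {t : ℕ} (m : ℕ) (D : Fin t → Submodule F (Fin n → F)) (hD : Cfsg.Geo.IsMDecomposition m D) (h : (m = 1 ∧ Fintype.card F ≤ 4) ∨ (m = 2 ∧ Fintype.card F = 2)) : ∃ K : Subgroup (Matrix.GeneralLinearGroup (Fin n) F), Cfsg.Geo.decompositionStabilizer D ⊓ Cfsg.Geo.specialLinear (Fin n) F < K ∧ K < Cfsg.Geo.specialLinear (Fin n) F := by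
  classical
  obtain ⟨b, hb1, hb2⟩ := exists_adapted_basis D hD
  have htm : t * m = n := by
    have h1 := Module.finrank_eq_card_basis b
    rw [Module.finrank_fintype_fun_eq_card, Fintype.card_fin, Fintype.card_prod, Fintype.card_fin,
      Fintype.card_fin] at h1
    exact h1.symm
  have hsub : ∀ k, k ≤ t → ∀ A : Finset (Fin t), A.card + k ≤ t → ∃ S : Finset (Fin t), S.card = k ∧ Disjoint A S := by
    intro k _ A hA
    have : k ≤ (Finset.univ \ A).card := by
      rw [Finset.card_sdiff_of_subset (Finset.subset_univ A), Finset.card_univ, Fintype.card_fin]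
      omega
    obtain ⟨S, hS, hSc⟩ := Finset.exists_subset_card_eq this
    refine ⟨S, hSc, ?_⟩
    rw [Finset.disjoint_left]
    intro a ha haS
    exact (Finset.mem_sdiff.1 (hS haS)).2 ha
  refine ⟨wtPreserving D (Cfsg.Geo.specialLinear (Fin n) F), ?_, ?_⟩
  · rw [SetLike.lt_iff_le_and_exists]
    refine ⟨stab_le_wtPreserving D _, ?_⟩
    rcases h with ⟨rfl, hq⟩ | ⟨rfl, hq⟩
    · obtain ⟨σ, hσ, h6⟩ := field_facts hq
      obtain ⟨S, hS, -⟩ := hsub 4 (by omega) ∅ (by simp; omega)
      obtain ⟨S', hS', hdisj⟩ := hsub 4 (by omega) S (by omega)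
      obtain ⟨g, hg1, hg2⟩ := caseA σ hσ h6 D b hb1 hb2 S S' hS hS' hdisj
      exact ⟨g, hg1, fun h => hg2 h.1⟩
    · obtain ⟨S, hS, -⟩ := hsub 3 (by omega) ∅ (by simp; omega)
      obtain ⟨g, hg1, hg2⟩ := caseB hq D b hb1 hb2 S hS
      exact ⟨g, hg1, fun h => hg2 h.1⟩
  · rw [SetLike.lt_iff_le_and_exists]
    refine ⟨wtPreserving_le D _, ?_⟩
    have ht2 : 2 ≤ t := hD.two_le
    have hm0 : 0 < m := hD.pos
    exact exists_not_preserving D b hb1 hb2 ⟨0, by omega⟩ ⟨1, by omega⟩ (by intro h; simp [Fin.ext_iff] at h) ⟨0, hm0⟩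

end Cfsg.Agent.S5635
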