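import Cfsg.Statements.S5644
import Mathlib
import Cfsg.Agent.S5631
import Cfsg.Agent.Lib.Helper4.OrthD

set_option autoImplicit false
open Cfsg
open scoped commutatorElement

namespace Cfsg.Agent.S5644

open Matrix Cfsg.Agent.S5631 Cfsg.Agent.Lib.Helper4.Orth

/-- For a finite field F of odd order and n ≥ 13, let Q be a non-degenerate quadratic form on F^n (its polar form is non-degenerate). Then the elements of SL_n(F) that are similarities of Q (Q(gv) = c Q(v) for a non-zero scalar c depending on g) form a maximal subgroup of SL_n(F). -/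
theorem result {F : Type*} [Field F] [Fintype F] (n : ℕ) (hn : 13 ≤ n) (hodd : Odd (Fintype.card F)) (Q : (Fin n → F) → F) (hQ : Cfsg.Geo.IsNondegenerateQuadraticForm Q) : Cfsg.Geo.IsMaximalIn (Cfsg.Geo.specialLinear (Fin n) F) (Cfsg.Geo.quadSimilarityGroup Q ⊓ Cfsg.Geo.specialLinear (Fin n) F) := by
  classical
  haveI : Nontrivial (Fin n) := Fin.nontrivial_iff_two_le.2 (by omega)
  have h2 : (2 : F) ≠ 0 := by
    apply Ring.two_ne_zero
    intro h
    have := FiniteField.even_card_of_char_two h
    rw [Nat.odd_iff] at hodd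
    omega
  refine ⟨lt_of_le_of_ne inf_le_right ?_, ?_⟩
  · intro heq
    -- a singular vector and a transvection which is not a similarity
    obtain ⟨u, -, hu0, hqu⟩ := exists_singular_of_finrank hQ hodd h2 ⊤ (by
      rw [finrank_top, Module.finrank_fintype_fun_eq_card, Fintype.card_fin]; omega)
    obtain ⟨y, hy1, -⟩ := exists_pol_eq_one hQ ⊥ u (by rw [Submodule.mem_bot]; exact hu0)
    have h0 : flat hQ u ⬝ᵥ u = 0 := by rw [flat_dot, pol_self hQ, hqu, mul_zero]
    have h1 : tv u (flat hQ u) h0 ∈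
        Cfsg.Geo.quadSimilarityGroup Q ⊓ Cfsg.Geo.specialLinear (Fin n) F := by
      rw [heq]; exact tv_mem_specialLinear _ _ _
    obtain ⟨c, hc⟩ := h1.1
    have h3 := hc (y + (-Q y) • u)
    have hq2 : Q (y + (-Q y) • u) = 0 := by rw [Q_add_smul hQ, hqu, hy1]; ring
    rw [tv_mulVec, flat_dot, hq2, mul_zero, pol_add_left hQ, pol_smul_left hQ, pol_self hQ, hqu,
      hy1, Q_add_smul hQ, hq2, hqu, pol_add_left hQ, pol_smul_left hQ, pol_self hQ, hqu, hy1] at h3
    simp at h3
  · intro M hHM hMS
    by_cases hMH : M ≤ Cfsg.Geo.quadSimilarityGroup Q ⊓ Cfsg.Geo.specialLinear (Fin n) F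
    · left; exact le_antisymm hMH hHM
    · right
      apply le_antisymm hMS
      rw [SetLike.not_le_iff_exists] at hMH
      obtain ⟨g, hgM, hgH⟩ := hMH
      have hg : g ∉ Cfsg.Geo.quadSimilarityGroup Q := fun h => hgH ⟨h, hMS hgM⟩
      obtain ⟨u, z₀, hu0, hqu, hz0, hz⟩ := exists_line hQ hodd h2 (by omega) M hHM g hgM hg
      have huS : u ∈ SS M := mem_SS_of_line hQ hodd h2 (by omega) M hHM u hqu z₀ hz0 hz
      have htop := SS_eq_top_of_singular hQ hodd h2 (by omega) M hHM u hu0 hqu huS
      apply specialLinear_le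
      intro v f hvf
      have : v ∈ SS M := by rw [htop]; trivial
      exact this f hvf

end Cfsg.Agent.S5644
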