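import Mathlib
import Cfsg.Statements.S5647
import Cfsg.Agent.S5646
import Cfsg.Agent.S0752

set_option autoImplicit false
open Cfsg

namespace Cfsg.Agent.S5647


section Part0

section PartA
open Cfsg Matrix Cfsg.Agent.Lib.Helper5.Symp Cfsg.Agent.S5645 Cfsg.Agent.S5646

variable {F : Type*} [Field F] (m : ℕ) {t : ℕ} (k : ℕ)
variable (D : Fin t → Submodule F (Fin m ⊕ Fin m → F))
variable (hD : Cfsg.Geo.IsNondegenerateMDecomposition (Cfsg.sympForm m F) k D)

include hD in
lemma exists_ne (a : Fin t) (p : Fin m ⊕ Fin m → F) (hp : p ∈ D a) (hp0 : p ≠ 0) :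
    ∃ z ∈ D a, sympForm m F p z ≠ 0 :=
  ((hD.nondegenerate a) p hp hp0).2

include hD in
lemma orth (a b : Fin t) (hab : a ≠ b) (x y : Fin m ⊕ Fin m → F) (hx : x ∈ D a) (hy : y ∈ D b) :
    sympForm m F x y = 0 :=
  hD.orthogonal a b hab x hx y hy

include hD in
/-- a sum of nonzero vectors from two different blocks lies in no block -/
lemma mixed_notMem (a b : Fin t) (hab : a ≠ b) (x y : Fin m ⊕ Fin m → F) (hx : x ∈ D a)
    (hy : y ∈ D b) (hx0 : x ≠ 0) (hy0 : y ≠ 0) (c : Fin t) : x + y ∉ D c := by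
  intro hc
  have hca : c = a := by
    by_contra hne
    obtain ⟨z, hz, hz0⟩ := exists_ne m k D hD a x hx hx0
    apply hz0
    have h1 : sympForm m F (x + y) z = 0 := orth m k D hD c a hne _ _ hc hz
    rw [sympForm_add_left, orth m k D hD b a (Ne.symm hab) y z hy hz, add_zero] at h1
    exact h1
  have hcb : c = b := by
    by_contra hne
    obtain ⟨z, hz, hz0⟩ := exists_ne m k D hD b y hy hy0
    apply hz0
    have h1 : sympForm m F (x + y) z = 0 := orth m k D hD c b hne _ _ hc hz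
    rw [sympForm_add_left, orth m k D hD a b hab x z hx hz, zero_add] at h1
    exact h1
  exact hab (hca.symm.trans hcb)

include hD in
lemma exists_mem_ne_zero (a : Fin t) : ∃ x ∈ D a, x ≠ 0 := by
  have h1 : 0 < Module.finrank F (D a) := by
    rw [hD.decomp.finrank_eq a]; exact hD.decomp.pos
  obtain ⟨x, hx⟩ := Module.finrank_pos_iff_exists_ne_zero.1 h1
  exact ⟨x, x.2, fun h => hx (Subtype.ext h)⟩

lemma toLin'_injective (g : GL (Fin m ⊕ Fin m) F) :
    Function.Injective (Matrix.toLin' (g : Matrix (Fin m ⊕ Fin m) (Fin m ⊕ Fin m) F)) := by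
  intro x y hxy
  rw [Matrix.toLin'_apply, Matrix.toLin'_apply] at hxy
  have := congrArg (fun z => ((g⁻¹ : GL (Fin m ⊕ Fin m) F) :
    Matrix (Fin m ⊕ Fin m) (Fin m ⊕ Fin m) F) *ᵥ z) hxy
  simpa [inv_mulVec_mulVec] using this

lemma mulVec_injective (g : GL (Fin m ⊕ Fin m) F) (x y : Fin m ⊕ Fin m → F)
    (h : (g : Matrix (Fin m ⊕ Fin m) (Fin m ⊕ Fin m) F) *ᵥ x =
      (g : Matrix (Fin m ⊕ Fin m) (Fin m ⊕ Fin m) F) *ᵥ y) : x = y := by
  apply toLin'_injective m g
  rw [Matrix.toLin'_apply, Matrix.toLin'_apply]; exact h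

include hD in
lemma map_eq_of_forall (g : GL (Fin m ⊕ Fin m) F) (a b : Fin t)
    (h : ∀ x ∈ D a, (g : Matrix (Fin m ⊕ Fin m) (Fin m ⊕ Fin m) F) *ᵥ x ∈ D b) :
    (D a).map (Matrix.toLin' (g : Matrix (Fin m ⊕ Fin m) (Fin m ⊕ Fin m) F)) = D b := by
  apply Submodule.eq_of_le_of_finrank_eq
  · rintro _ ⟨x, hx, rfl⟩
    rw [Matrix.toLin'_apply]; exact h x hx
  · rw [hD.decomp.finrank_eq, ← hD.decomp.finrank_eq a]
    exact (LinearEquiv.finrank_eq
      (Submodule.equivMapOfInjective _ (toLin'_injective m g) (D a))).symm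

include hD in
lemma mem_dstab_of_forall (g : GL (Fin m ⊕ Fin m) F) (σ : Equiv.Perm (Fin t))
    (h : ∀ i, ∀ x ∈ D i, (g : Matrix (Fin m ⊕ Fin m) (Fin m ⊕ Fin m) F) *ᵥ x ∈ D (σ i)) :
    g ∈ Cfsg.Geo.decompositionStabilizer D :=
  ⟨σ, fun i => map_eq_of_forall m k D hD g i (σ i) (h i)⟩

include hD in
/-- if `g` maps every block vector into some block, it permutes the blocks -/
lemma mem_dstab_of_blocks (g : GL (Fin m ⊕ Fin m) F)
    (h : ∀ a, ∀ x ∈ D a, ∃ b, (g : Matrix (Fin m ⊕ Fin m) (Fin m ⊕ Fin m) F) *ᵥ x ∈ D b) :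
    g ∈ Cfsg.Geo.decompositionStabilizer D := by
  have h1 : ∀ a, ∃ b, ∀ x ∈ D a,
      (g : Matrix (Fin m ⊕ Fin m) (Fin m ⊕ Fin m) F) *ᵥ x ∈ D b := by
    intro a
    obtain ⟨x₀, hx₀, hx₀0⟩ := exists_mem_ne_zero m k D hD a
    obtain ⟨b₀, hb₀⟩ := h a x₀ hx₀
    refine ⟨b₀, fun x hx => ?_⟩
    obtain ⟨b₁, hb₁⟩ := h a x hx
    by_cases hb : b₁ = b₀
    · rw [← hb]; exact hb₁
    by_cases hgx : (g : Matrix (Fin m ⊕ Fin m) (Fin m ⊕ Fin m) F) *ᵥ x = 0
    · rw [hgx]; exact zero_mem _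
    exfalso
    obtain ⟨c, hc⟩ := h a (x + x₀) (add_mem hx hx₀)
    rw [Matrix.mulVec_add] at hc
    have hgx₀ : (g : Matrix (Fin m ⊕ Fin m) (Fin m ⊕ Fin m) F) *ᵥ x₀ ≠ 0 := by
      intro h0
      apply hx₀0
      apply mulVec_injective m g
      rw [h0, Matrix.mulVec_zero]
    exact mixed_notMem m k D hD b₁ b₀ hb _ _ hb₁ hb₀ hgx hgx₀ c hc
  choose σ hσ using h1
  have hinj : Function.Injective σ := by
    intro a a' haa'
    by_contra hne
    obtain ⟨x, hx, hx0⟩ := exists_mem_ne_zero m k D hD a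
    have h2 : (g : Matrix (Fin m ⊕ Fin m) (Fin m ⊕ Fin m) F) *ᵥ x ∈ D (σ a') := by
      rw [← haa']; exact hσ a x hx
    rw [← map_eq_of_forall m k D hD g a' (σ a') (hσ a')] at h2
    obtain ⟨x', hx', hxx'⟩ := h2
    rw [Matrix.toLin'_apply] at hxx'
    have hxe : x' = x := mulVec_injective m g _ _ hxx'
    rw [hxe] at hx'
    obtain ⟨z, hz, hz0⟩ := exists_ne m k D hD a x hx hx0
    exact hz0 (orth m k D hD a' a (Ne.symm hne) x z hx' hz)
  exact mem_dstab_of_forall m k D hD g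
    (Equiv.ofBijective σ (Finite.injective_iff_bijective.1 hinj)) (fun i x hx => hσ i x hx)

variable (M : Subgroup (GL (Fin m ⊕ Fin m) F))
variable (hPM : Cfsg.Geo.decompositionStabilizer D ⊓ Cfsg.spGL m F ≤ M)
variable (hMS : M ≤ Cfsg.spGL m F)

include hD hPM in
lemma block_mem_SS (a : Fin t) (w : Fin m ⊕ Fin m → F) (hw : w ∈ D a) : w ∈ SS m M := by
  intro c
  refine hPM ⟨?_, T_mem_spGL m w c⟩
  apply mem_dstab_of_forall m k D hD _ 1
  intro i x hx
  rw [T_mulVec, Equiv.Perm.one_apply]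
  by_cases hia : i = a
  · subst hia; exact (D i).add_mem hx ((D i).smul_mem _ hw)
  · rw [orth m k D hD i a hia x w hx hw, mul_zero, zero_smul, add_zero]; exact hx

include hD in
lemma exists_notMem_stab : ∃ g ∈ spGL m F, g ∉ Cfsg.Geo.decompositionStabilizer D := by
  have h2 := hD.decomp.two_le
  obtain ⟨x, hx, hx0⟩ := exists_mem_ne_zero m k D hD (⟨0, by omega⟩ : Fin t)
  obtain ⟨y, hy, hy0⟩ := exists_mem_ne_zero m k D hD (⟨1, by omega⟩ : Fin t)
  have h01 : (⟨0, by omega⟩ : Fin t) ≠ ⟨1, by omega⟩ := by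
    intro h; simp [Fin.ext_iff] at h
  refine ⟨T m (x + y) 1, T_mem_spGL m _ _, ?_⟩
  rintro ⟨σ, hσ⟩
  obtain ⟨z, hz, hz0⟩ := exists_ne m k D hD _ x hx hx0
  have h1 : ((T m (x + y) 1 : GL (Fin m ⊕ Fin m) F) :
      Matrix (Fin m ⊕ Fin m) (Fin m ⊕ Fin m) F) *ᵥ z ∈ D (σ ⟨0, by omega⟩) := by
    rw [← hσ]
    exact ⟨z, hz, by rw [Matrix.toLin'_apply]⟩
  rw [T_mulVec, one_mul, sympForm_add_right, orth m k D hD _ _ h01 z y hz hy, add_zero,
    smul_add, ← add_assoc] at h1
  have hc : sympForm m F z x ≠ 0 := by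
    rw [sympForm_swap]; exact neg_ne_zero.2 hz0
  refine mixed_notMem m k D hD _ _ h01 (z + sympForm m F z x • x) (sympForm m F z x • y)
    ((D _).add_mem hz ((D _).smul_mem _ hx)) ((D _).smul_mem _ hy) ?_ (smul_ne_zero hc hy0) _ h1
  intro h0
  apply hz0
  have := congrArg (fun v => sympForm m F x v) h0
  simp only [sympForm_add_right, sympForm_smul_right, sympForm_self, mul_zero, add_zero,
    sympForm_zero_right] at this
  exact this

end PartA

end Part0

section Part1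

section PartB
open Cfsg Matrix Cfsg.Agent.Lib.Helper5.Symp Cfsg.Agent.S5645 Cfsg.Agent.S5646

variable {F : Type*} [Field F] (m : ℕ) {t : ℕ} (k : ℕ)
variable (D : Fin t → Submodule F (Fin m ⊕ Fin m → F))
variable (hD : Cfsg.Geo.IsNondegenerateMDecomposition (Cfsg.sympForm m F) k D)
variable (M : Subgroup (GL (Fin m ⊕ Fin m) F))
variable (hPM : Cfsg.Geo.decompositionStabilizer D ⊓ Cfsg.spGL m F ≤ M)
variable (hMS : M ≤ Cfsg.spGL m F)

include hD hPM hMS in
lemma change_aux (a : Fin t) (p p' r : Fin m ⊕ Fin m → F) (hp : p ∈ D a) (hp' : p' ∈ D a)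
    (hr : ∀ z ∈ D a, sympForm m F r z = 0) (hpp' : sympForm m F p p' ≠ 0)
    (h : p + r ∈ SS m M) : p' + r ∈ SS m M := by
  have hw : p' - p ∈ SS m M := block_mem_SS m k D hD M hPM a _ ((D a).sub_mem hp' hp)
  have h1 : sympForm m F (p + r) (p' - p) ≠ 0 := by
    rw [sympForm_add_left, hr _ ((D a).sub_mem hp' hp), add_zero, sympForm_sub_right,
      sympForm_self, sub_zero]
    exact hpp'
  have := add_smul_mem_SS m M hMS (p + r) (p' - p) h hw h1 1
  have e : p + r + (1 : F) • (p' - p) = p' + r := by rw [one_smul]; abel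
  rw [e] at this; exact this

include hD hPM hMS in
/-- change one (nonzero) block component to any other nonzero one -/
lemma change (a : Fin t) (p p' r : Fin m ⊕ Fin m → F) (hp : p ∈ D a) (hp' : p' ∈ D a)
    (hp0 : p ≠ 0) (hp'0 : p' ≠ 0) (hr : ∀ z ∈ D a, sympForm m F r z = 0)
    (h : p + r ∈ SS m M) : p' + r ∈ SS m M := by
  obtain ⟨c, hc, hpc, hcp'⟩ : ∃ c ∈ D a, sympForm m F p c ≠ 0 ∧ sympForm m F c p' ≠ 0 := by
    obtain ⟨c₁, hc₁, h1⟩ := exists_ne m k D hD a p hp hp0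
    obtain ⟨c₂, hc₂, h2⟩ := exists_ne m k D hD a p' hp' hp'0
    have swapne : ∀ x, sympForm m F p' x ≠ 0 → sympForm m F x p' ≠ 0 := by
      intro x hx; rw [sympForm_swap]; exact neg_ne_zero.2 hx
    by_cases h3 : sympForm m F p' c₁ = 0
    · by_cases h4 : sympForm m F p c₂ = 0
      · refine ⟨c₁ + c₂, (D a).add_mem hc₁ hc₂, ?_, ?_⟩
        · rw [sympForm_add_right, h4, add_zero]; exact h1
        · apply swapne; rw [sympForm_add_right, h3, zero_add]; exact h2
      · exact ⟨c₂, hc₂, h4, swapne _ h2⟩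
    · exact ⟨c₁, hc₁, h1, swapne _ h3⟩
  exact change_aux m k D hD M hPM hMS a c p' r hc hp' hr hcp'
    (change_aux m k D hD M hPM hMS a p c r hp hc hr hpc h)

include hD in
lemma exists_perp_vec [Fintype F] (hex : ¬ (k = 2 ∧ Fintype.card F = 2)) (a : Fin t)
    (p : Fin m ⊕ Fin m → F) (hp : p ∈ D a) (hp0 : p ≠ 0) :
    ∃ a' ∈ D a, a' ≠ 0 ∧ p + a' ≠ 0 ∧ sympForm m F p a' = 0 := by
  classical
  by_cases hq : Fintype.card F = 2
  · have hk : k ≠ 2 := fun h => hex ⟨h, hq⟩
    obtain ⟨x, hx, hpx⟩ := exists_ne m k D hD a p hp hp0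
    have hy : ∃ y ∈ D a, y ∉ Submodule.span F ({p, x} : Set (Fin m ⊕ Fin m → F)) := by
      by_contra hcon
      push Not at hcon
      have hle : D a ≤ Submodule.span F ({p, x} : Set (Fin m ⊕ Fin m → F)) := hcon
      have h1 := Submodule.finrank_mono hle
      rw [hD.decomp.finrank_eq a] at h1
      have h2 : Module.finrank F (Submodule.span F ({p, x} : Set (Fin m ⊕ Fin m → F))) ≤ 2 := by
        have h3 : ({p, x} : Finset (Fin m ⊕ Fin m → F)).card ≤ 2 := Finset.card_le_two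
        have h4 : Module.finrank F (Submodule.span F
            (({p, x} : Finset (Fin m ⊕ Fin m → F)) : Set (Fin m ⊕ Fin m → F))) ≤
            ({p, x} : Finset (Fin m ⊕ Fin m → F)).card := finrank_span_finset_le_card _
        rw [Finset.coe_insert, Finset.coe_singleton] at h4
        omega
      have hk1 : Module.finrank F (D a) ≤ 1 := by
        rw [hD.decomp.finrank_eq a]; omega
      rw [finrank_le_one_iff] at hk1
      obtain ⟨v, hv⟩ := hk1
      obtain ⟨c₁, hc₁⟩ := hv ⟨p, hp⟩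
      obtain ⟨c₂, hc₂⟩ := hv ⟨x, hx⟩
      apply hpx
      have e1 : p = c₁ • (v : Fin m ⊕ Fin m → F) := by
        have := congrArg Subtype.val hc₁; simpa using this.symm
      have e2 : x = c₂ • (v : Fin m ⊕ Fin m → F) := by
        have := congrArg Subtype.val hc₂; simpa using this.symm
      rw [e1, e2, sympForm_smul_left, sympForm_smul_right, sympForm_self, mul_zero, mul_zero]
    obtain ⟨y, hy, hyn⟩ := hy
    refine ⟨y - (sympForm m F p y / sympForm m F p x) • x,
      (D a).sub_mem hy ((D a).smul_mem _ hx), ?_, ?_, ?_⟩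
    · intro h0
      apply hyn
      rw [sub_eq_zero] at h0
      rw [h0]
      exact Submodule.smul_mem _ _ (Submodule.subset_span (by simp))
    · intro h0
      apply hyn
      have h1 : y - (sympForm m F p y / sympForm m F p x) • x = -p :=
        eq_neg_of_add_eq_zero_right h0
      have : y = (-1 : F) • p + (sympForm m F p y / sympForm m F p x) • x := by
        rw [neg_smul, one_smul, ← h1]; abel
      rw [this]
      exact Submodule.add_mem _ (Submodule.smul_mem _ _ (Submodule.subset_span (by simp)))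
        (Submodule.smul_mem _ _ (Submodule.subset_span (by simp)))
    · rw [sympForm_sub_right, sympForm_smul_right, div_mul_cancel₀ _ hpx, sub_self]
  · obtain ⟨c, hc0, hc1⟩ : ∃ c : F, c ≠ 0 ∧ c ≠ -1 := by
      by_contra hcon
      push Not at hcon
      apply hq
      have h1 : (Finset.univ : Finset F) ⊆ {0, -1} := by
        intro c _
        by_cases hc : c = 0
        · simp [hc]
        · simp [hcon c hc]
      have h2 := Finset.card_le_card h1
      have h3 : ({0, -1} : Finset F).card ≤ 2 := Finset.card_le_two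
      have h4 : 1 < Fintype.card F := Fintype.one_lt_card
      rw [Finset.card_univ] at h2
      omega
    refine ⟨c • p, (D a).smul_mem _ hp, smul_ne_zero hc0 hp0, ?_, ?_⟩
    · have : p + c • p = (1 + c) • p := by rw [add_smul, one_smul]
      rw [this]
      refine smul_ne_zero ?_ hp0
      intro h; apply hc1; linear_combination h
    · rw [sympForm_smul_right, sympForm_self, mul_zero]

include hD hPM hMS in
lemma pair_mem [Fintype F] (hex : ¬ (k = 2 ∧ Fintype.card F = 2)) (i j : Fin t) (hij : i ≠ j)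
    (pi pj r : Fin m ⊕ Fin m → F) (hpi : pi ∈ D i) (hpj : pj ∈ D j) (hpi0 : pi ≠ 0)
    (hpj0 : pj ≠ 0) (hri : ∀ z ∈ D i, sympForm m F r z = 0)
    (hrj : ∀ z ∈ D j, sympForm m F r z = 0) (h : pi + pj + r ∈ SS m M) :
    ∀ x ∈ D i, ∀ y ∈ D j, x + y ∈ SS m M := by
  obtain ⟨ai, hai, hai0, hpai, hBi⟩ := exists_perp_vec m k D hD hex i pi hpi hpi0
  obtain ⟨aj, haj, hBj⟩ := exists_ne m k D hD j pj hpj hpj0
  have hji : j ≠ i := Ne.symm hij
  have hpaj : pj + aj ≠ 0 := by
    intro h0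
    apply hBj
    have := congrArg (fun v => sympForm m F pj v) h0
    simp only [sympForm_add_right, sympForm_self, zero_add, sympForm_zero_right] at this
    exact this
  -- first change component i
  have h1 : (pi + ai) + (pj + r) ∈ SS m M := by
    apply change m k D hD M hPM hMS i pi (pi + ai) (pj + r) hpi ((D i).add_mem hpi hai) hpi0 hpai
    · intro z hz
      rw [sympForm_add_left, hri z hz, orth m k D hD j i hji pj z hpj hz, add_zero]
    · rw [← add_assoc]; exact h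
  have h2 : (pj + aj) + ((pi + ai) + r) ∈ SS m M := by
    apply change m k D hD M hPM hMS j pj (pj + aj) ((pi + ai) + r) hpj ((D j).add_mem hpj haj)
      hpj0 hpaj
    · intro z hz
      rw [sympForm_add_left, hrj z hz, orth m k D hD i j hij _ z ((D i).add_mem hpi hai) hz,
        add_zero]
    · have e : pj + (pi + ai + r) = (pi + ai) + (pj + r) := by abel
      rw [e]; exact h1
  have h3 : sympForm m F (pi + pj + r) ((pj + aj) + ((pi + ai) + r)) ≠ 0 := by
    have e : (pj + aj) + ((pi + ai) + r) = (pi + pj + r) + (ai + aj) := by abel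
    rw [e, sympForm_add_right, sympForm_self, zero_add, sympForm_add_right,
      sympForm_add_left, sympForm_add_left, sympForm_add_left, sympForm_add_left,
      hBi, orth m k D hD j i hji pj ai hpj hai, hri ai hai,
      orth m k D hD i j hij pi aj hpi haj, hrj aj haj]
    simpa using hBj
  have h4 := add_smul_mem_SS m M hMS _ _ h h2 h3 (-1)
  have e4 : pi + pj + r + (-1 : F) • ((pj + aj) + ((pi + ai) + r)) = (-1 : F) • (ai + aj) := by
    simp only [neg_smul, one_smul]; abel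
  rw [e4] at h4
  have h5 : ai + aj ∈ SS m M := by
    have := smul_mem_SS m M (-1) _ h4
    rwa [smul_smul, neg_mul_neg, one_mul, one_smul] at this
  intro x hx y hy
  by_cases hx0 : x = 0
  · rw [hx0, zero_add]; exact block_mem_SS m k D hD M hPM j y hy
  by_cases hy0 : y = 0
  · rw [hy0, add_zero]; exact block_mem_SS m k D hD M hPM i x hx
  have h6 : x + aj ∈ SS m M :=
    change m k D hD M hPM hMS i ai x aj hai hx hai0 hx0
      (fun z hz => orth m k D hD j i hji aj z haj hz) h5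
  have haj0 : aj ≠ 0 := by
    intro h0; apply hBj; rw [h0, sympForm_zero_right]
  have h7 : y + x ∈ SS m M := by
    apply change m k D hD M hPM hMS j aj y x haj hy haj0 hy0
      (fun z hz => orth m k D hD i j hij x z hx hz)
    rw [add_comm]; exact h6
  rw [add_comm]; exact h7

end PartB

end Part1

section Part2

section PartC
open Cfsg Matrix Cfsg.Agent.Lib.Helper5.Symp Cfsg.Agent.S5645 Cfsg.Agent.S5646

variable {F : Type*} [Field F] (m : ℕ) {t : ℕ} (k : ℕ)
variable (D : Fin t → Submodule F (Fin m ⊕ Fin m → F))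
variable (hD : Cfsg.Geo.IsNondegenerateMDecomposition (Cfsg.sympForm m F) k D)

/-- the standard Gram function of a symplectic basis -/
def J (F : Type*) [Field F] (k' : ℕ) : (Fin k' ⊕ Fin k') → (Fin k' ⊕ Fin k') → F := fun r s =>
  match r, s with
  | Sum.inl i, Sum.inr j => if i = j then 1 else 0
  | Sum.inr i, Sum.inl j => -(if j = i then 1 else 0)
  | Sum.inl _, Sum.inl _ => 0
  | Sum.inr _, Sum.inr _ => 0

include hD in
lemma exists_block_basis (a : Fin t) :
    ∃ b : Module.Basis (Fin (k / 2) ⊕ Fin (k / 2)) F (D a),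
      ∀ r s, sympForm m F (b r : Fin m ⊕ Fin m → F) (b s : Fin m ⊕ Fin m → F) = J F (k / 2) r s := by
  classical
  let Ba : LinearMap.BilinForm F (D a) := (Bl m).domRestrict₁₂ (D a) (D a)
  have hBa : ∀ x y : D a, Ba x y = sympForm m F (x : Fin m ⊕ Fin m → F) y := fun x y => rfl
  have halt : Ba.IsAlt := fun x => by rw [hBa]; exact sympForm_self m _
  obtain ⟨ma, ka, b, h1, h2, h3, h4⟩ := Cfsg.Agent.S0752.result Ba halt
  have hka : ka = 0 := by
    by_contra hne
    have hpos : 0 < ka := Nat.pos_of_ne_zero hne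
    have hb0 : ((b (Sum.inr ⟨0, hpos⟩) : D a) : Fin m ⊕ Fin m → F) ≠ 0 := by
      intro h0
      exact b.ne_zero (Sum.inr ⟨0, hpos⟩) (Subtype.ext h0)
    obtain ⟨z, hz, hz0⟩ := exists_ne m k D hD a _ (b (Sum.inr ⟨0, hpos⟩)).2 hb0
    apply hz0
    have := h4 ⟨0, hpos⟩ ⟨z, hz⟩
    rw [hBa] at this
    exact this
  subst hka
  have hcard : Module.finrank F (D a) = ma + ma + 0 := by
    rw [Module.finrank_eq_card_basis b]
    simp
  have hma : ma = k / 2 := by
    rw [hD.decomp.finrank_eq a] at hcard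
    omega
  subst hma
  refine ⟨b.reindex (Equiv.sumEmpty _ _), ?_⟩
  intro r s
  rw [Module.Basis.reindex_apply, Module.Basis.reindex_apply]
  have e : ∀ r : Fin (k / 2) ⊕ Fin (k / 2),
      (Equiv.sumEmpty (Fin (k / 2) ⊕ Fin (k / 2)) (Fin 0)).symm r = Sum.inl r := fun r => rfl
  rw [e, e, ← hBa]
  rcases r with i | i <;> rcases s with j | j
  · rw [h2]; rfl
  · rw [h1]; rfl
  · rw [← halt.neg_eq, h1]
    rfl
  · rw [h3]; rfl

include hD in
lemma exists_swap (j l : Fin t) : ∃ h : GL (Fin m ⊕ Fin m) F, h ∈ spGL m F ∧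
    ∀ a, ∀ x ∈ D a, (h : Matrix (Fin m ⊕ Fin m) (Fin m ⊕ Fin m) F) *ᵥ x ∈ D (Equiv.swap j l a) := by
  classical
  choose bb hbb using exists_block_basis m k D hD
  have hint : DirectSum.IsInternal D :=
    DirectSum.isInternal_submodule_of_iSupIndep_of_iSup_eq_top hD.decomp.indep
      hD.decomp.iSup_eq_top
  obtain ⟨CB, hCB⟩ : ∃ CB : Module.Basis (Σ _ : Fin t, Fin (k / 2) ⊕ Fin (k / 2)) F
      (Fin m ⊕ Fin m → F), ∀ a r, CB ⟨a, r⟩ = (bb a r : Fin m ⊕ Fin m → F) := by
    refine ⟨hint.collectedBasis bb, fun a r => ?_⟩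
    rw [DirectSum.IsInternal.collectedBasis_coe]
  have hgram : ∀ a r a' r', sympForm m F (CB ⟨a, r⟩) (CB ⟨a', r'⟩) =
      if a = a' then J F (k / 2) r r' else 0 := by
    intro a r a' r'
    rw [hCB, hCB]
    split_ifs with h
    · subst h; exact hbb a r r'
    · exact orth m k D hD a a' h _ _ (bb a r).2 (bb a' r').2
  let e : (Σ _ : Fin t, Fin (k / 2) ⊕ Fin (k / 2)) ≃ (Σ _ : Fin t, Fin (k / 2) ⊕ Fin (k / 2)) :=
    { toFun := fun x => ⟨Equiv.swap j l x.1, x.2⟩
      invFun := fun x => ⟨Equiv.swap j l x.1, x.2⟩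
      left_inv := by rintro ⟨a, r⟩; simp
      right_inv := by rintro ⟨a, r⟩; simp }
  obtain ⟨ψ, hψ⟩ : ∃ ψ : (Fin m ⊕ Fin m → F) ≃ₗ[F] (Fin m ⊕ Fin m → F),
      ∀ a r, ψ (CB ⟨a, r⟩) = CB ⟨Equiv.swap j l a, r⟩ := by
    refine ⟨CB.equiv CB e, fun a r => ?_⟩
    rw [Module.Basis.equiv_apply]; rfl
  have hiso : ∀ x y, sympForm m F (ψ x) (ψ y) = sympForm m F x y := by
    have h1 : (Bl m).compl₁₂ (ψ : (Fin m ⊕ Fin m → F) →ₗ[F] (Fin m ⊕ Fin m → F))
        (ψ : (Fin m ⊕ Fin m → F) →ₗ[F] (Fin m ⊕ Fin m → F)) = Bl m := by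
      apply LinearMap.ext_basis CB CB
      rintro ⟨a, r⟩ ⟨a', r'⟩
      rw [LinearMap.compl₁₂_apply, Bl_apply, Bl_apply]
      show sympForm m F (ψ (CB ⟨a, r⟩)) (ψ (CB ⟨a', r'⟩)) = _
      rw [hψ, hψ, hgram, hgram]
      simp only [(Equiv.swap j l).apply_eq_iff_eq]
    intro x y
    have h := congrArg (fun B => B x y) h1
    simpa [Bl_apply] using h
  have h1 : LinearMap.toMatrix' (ψ : (Fin m ⊕ Fin m → F) →ₗ[F] (Fin m ⊕ Fin m → F)) *
      LinearMap.toMatrix' (ψ.symm : (Fin m ⊕ Fin m → F) →ₗ[F] (Fin m ⊕ Fin m → F)) = 1 := by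
    rw [← LinearMap.toMatrix'_comp, ← LinearMap.toMatrix'_id]
    congr 1
    ext x : 1
    simp
  have h2 : LinearMap.toMatrix' (ψ.symm : (Fin m ⊕ Fin m → F) →ₗ[F] (Fin m ⊕ Fin m → F)) *
      LinearMap.toMatrix' (ψ : (Fin m ⊕ Fin m → F) →ₗ[F] (Fin m ⊕ Fin m → F)) = 1 := by
    rw [← LinearMap.toMatrix'_comp, ← LinearMap.toMatrix'_id]
    congr 1
    ext x : 1
    simp
  refine ⟨⟨_, _, h1, h2⟩, ?_, ?_⟩
  · rw [mem_spGL_iff]
    intro u v
    show sympForm m F (LinearMap.toMatrix' (ψ : (Fin m ⊕ Fin m → F) →ₗ[F] (Fin m ⊕ Fin m → F)) *ᵥ u)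
      (LinearMap.toMatrix' (ψ : (Fin m ⊕ Fin m → F) →ₗ[F] (Fin m ⊕ Fin m → F)) *ᵥ v) = _
    rw [LinearMap.toMatrix'_mulVec, LinearMap.toMatrix'_mulVec]
    exact hiso u v
  · intro a x hx
    show LinearMap.toMatrix' (ψ : (Fin m ⊕ Fin m → F) →ₗ[F] (Fin m ⊕ Fin m → F)) *ᵥ x ∈ _
    rw [LinearMap.toMatrix'_mulVec]
    have hx' : x = ∑ r, ((bb a).repr ⟨x, hx⟩ r) • CB ⟨a, r⟩ := by
      have h3 : ((∑ i, ((bb a).repr ⟨x, hx⟩) i • (bb a) i : D a) : Fin m ⊕ Fin m → F) = x :=
        congrArg Subtype.val ((bb a).sum_repr ⟨x, hx⟩)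
      refine h3.symm.trans ?_
      rw [Submodule.coe_sum]
      refine Finset.sum_congr rfl (fun r _ => ?_)
      rw [Submodule.coe_smul, hCB]
    rw [hx']
    simp only [LinearEquiv.coe_coe, map_sum, map_smul, hψ]
    refine Submodule.sum_mem _ (fun r _ => Submodule.smul_mem _ _ ?_)
    rw [hCB]; exact (bb _ r).2

end PartC

end Part2

section Part3

section PartD
open Cfsg Matrix Cfsg.Agent.Lib.Helper5.Symp Cfsg.Agent.S5645 Cfsg.Agent.S5646

variable {F : Type*} [Field F] (m : ℕ) {t : ℕ} (k : ℕ)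
variable (D : Fin t → Submodule F (Fin m ⊕ Fin m → F))
variable (hD : Cfsg.Geo.IsNondegenerateMDecomposition (Cfsg.sympForm m F) k D)
variable (M : Subgroup (GL (Fin m ⊕ Fin m) F))
variable (hPM : Cfsg.Geo.decompositionStabilizer D ⊓ Cfsg.spGL m F ≤ M)
variable (hMS : M ≤ Cfsg.spGL m F)

/-- the sum of two blocks lies in `SS` -/
def PP (a b : Fin t) : Prop := ∀ x ∈ D a, ∀ y ∈ D b, x + y ∈ SS m M

lemma PP_symm (a b : Fin t) (h : PP m D M a b) : PP m D M b a :=
  fun x hx y hy => by rw [add_comm]; exact h y hy x hx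

include hD hPM hMS in
lemma PP_swap (j l a b : Fin t) (h : PP m D M a b) :
    PP m D M (Equiv.swap j l a) (Equiv.swap j l b) := by
  obtain ⟨g, hgS, hg⟩ := exists_swap m k D hD j l
  have hgM : g ∈ M := hPM ⟨mem_dstab_of_forall m k D hD g (Equiv.swap j l) hg, hgS⟩
  intro x hx y hy
  have hxa := map_eq_of_forall m k D hD g a _ (hg a)
  have hyb := map_eq_of_forall m k D hD g b _ (hg b)
  rw [← hxa] at hx
  rw [← hyb] at hy
  obtain ⟨x', hx', rfl⟩ := hx
  obtain ⟨y', hy', rfl⟩ := hy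
  rw [Matrix.toLin'_apply, Matrix.toLin'_apply, ← Matrix.mulVec_add]
  exact mulVec_mem_SS m M hMS g hgM _ (h x' hx' y' hy')

include hD hPM hMS in
lemma PP_all (i j : Fin t) (hij : i ≠ j) (h : PP m D M i j) : ∀ a b, a ≠ b → PP m D M a b := by
  have h1 : ∀ b, b ≠ i → PP m D M i b := by
    intro b hb
    by_cases hbj : b = j
    · rw [hbj]; exact h
    · have := PP_swap m k D hD M hPM hMS j b i j h
      rw [Equiv.swap_apply_of_ne_of_ne hij (Ne.symm hb), Equiv.swap_apply_left] at this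
      exact this
  intro a b hab
  by_cases hai : a = i
  · rw [hai]; exact h1 b (fun hb => hab (hai.trans hb.symm))
  by_cases hbi : b = i
  · rw [hbi]; exact PP_symm m D M _ _ (h1 a hai)
  have := PP_swap m k D hD M hPM hMS i a i b (h1 b hbi)
  rw [Equiv.swap_apply_left, Equiv.swap_apply_of_ne_of_ne hbi (Ne.symm hab)] at this
  exact this

include hD in
lemma orth_sup (S : Finset (Fin t)) (b : Fin t) (hb : b ∉ S) (x : Fin m ⊕ Fin m → F)
    (hx : x ∈ ⨆ a ∈ S, D a) (y : Fin m ⊕ Fin m → F) (hy : y ∈ D b) : sympForm m F x y = 0 := by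
  have hle : (⨆ a ∈ S, D a) ≤ perp m (D b) := by
    refine iSup₂_le (fun a ha => ?_)
    intro z hz
    rw [mem_perp]
    intro w hw
    exact orth m k D hD a b (fun h => hb (h ▸ ha)) z w hz hw
  exact (mem_perp m (D b) x).1 (hle hx) y hy

include hD in
lemma exists_block_ne (x : Fin m ⊕ Fin m → F) (hx : x ≠ 0) :
    ∃ c, ∃ z ∈ D c, sympForm m F x z ≠ 0 := by
  by_contra hcon
  push Not at hcon
  obtain ⟨z, hz⟩ := exists_sympForm_ne_zero m hx
  apply hz
  have hle : (⨆ c, D c) ≤ LinearMap.ker (Bl m x) :=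
    iSup_le (fun c z hz => by rw [LinearMap.mem_ker, Bl_apply]; exact hcon c z hz)
  have : z ∈ LinearMap.ker (Bl m x) := hle (by rw [hD.decomp.iSup_eq_top]; trivial)
  rwa [LinearMap.mem_ker, Bl_apply] at this

include hD hPM hMS in
lemma all_mem (hP : ∀ a b, a ≠ b → PP m D M a b) (S : Finset (Fin t)) :
    ∀ x ∈ ⨆ a ∈ S, D a, x ∈ SS m M := by
  classical
  induction S using Finset.induction_on with
  | empty =>
    intro x hx
    simp only [Finset.notMem_empty, not_false_eq_true, iSup_neg, iSup_bot,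
      Submodule.mem_bot] at hx
    subst hx
    have h2 := hD.decomp.two_le
    exact block_mem_SS m k D hD M hPM ⟨0, by omega⟩ 0 (zero_mem _)
  | insert b S' hb ih =>
    intro x hx
    rw [Finset.iSup_insert] at hx
    obtain ⟨xb, hxb, x', hx', rfl⟩ := Submodule.mem_sup.1 hx
    by_cases hx'0 : x' = 0
    · rw [hx'0, add_zero]; exact block_mem_SS m k D hD M hPM b xb hxb
    obtain ⟨c, z, hz, hne⟩ := exists_block_ne m k D hD x' hx'0
    have hcS : c ∈ S' := by
      by_contra hc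
      exact hne (orth_sup m k D hD S' c hc x' hx' z hz)
    have hcb : c ≠ b := fun h => hb (h ▸ hcS)
    have hzS : z ∈ ⨆ a ∈ S', D a :=
      (le_iSup₂ (f := fun a (_ : a ∈ S') => D a) c hcS) hz
    have hv : x' - z ∈ SS m M := ih _ (Submodule.sub_mem _ hx' hzS)
    have hw : z + xb ∈ SS m M := hP c b hcb z hz xb hxb
    have hB : sympForm m F (x' - z) (z + xb) ≠ 0 := by
      rw [sympForm_sub_left, sympForm_add_right, sympForm_add_right, sympForm_self,
        orth_sup m k D hD S' b hb x' hx' xb hxb, orth m k D hD c b hcb z xb hz hxb]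
      simpa using hne
    have := add_smul_mem_SS m M hMS _ _ hv hw hB 1
    have e : x' - z + (1 : F) • (z + xb) = xb + x' := by rw [one_smul]; abel
    rw [e] at this
    exact this

end PartD

section PartE
open Cfsg Matrix Cfsg.Agent.Lib.Helper5.Symp Cfsg.Agent.S5645 Cfsg.Agent.S5646

theorem result {F : Type*} [Field F] [Fintype F] (m : ℕ) (hm : 7 ≤ m) {t : ℕ} (k : ℕ) (D : Fin t → Submodule F (Fin m ⊕ Fin m → F)) (hD : Cfsg.Geo.IsNondegenerateMDecomposition (Cfsg.sympForm m F) k D) (hex : ¬ (k = 2 ∧ Fintype.card F = 2)) : Cfsg.Geo.IsMaximalIn (Cfsg.spGL m F) (Cfsg.Geo.decompositionStabilizer D ⊓ Cfsg.spGL m F) := by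
  refine ⟨lt_of_le_of_ne inf_le_right ?_, ?_⟩
  · intro heq
    obtain ⟨g, hg, hgn⟩ := exists_notMem_stab m k D hD
    apply hgn
    have : g ∈ Cfsg.Geo.decompositionStabilizer D ⊓ Cfsg.spGL m F := by rw [heq]; exact hg
    exact this.1
  · intro M hPM hMS
    by_cases hMP : M ≤ Cfsg.Geo.decompositionStabilizer D ⊓ Cfsg.spGL m F
    · left; exact le_antisymm hMP hPM
    · right
      apply le_antisymm hMS
      rw [SetLike.not_le_iff_exists] at hMP
      obtain ⟨g, hgM, hgP⟩ := hMP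
      have hgS : g ∉ Cfsg.Geo.decompositionStabilizer D := fun hh => hgP ⟨hh, hMS hgM⟩
      have hmix : ∃ a, ∃ x ∈ D a, ∀ b,
          (g : Matrix (Fin m ⊕ Fin m) (Fin m ⊕ Fin m) F) *ᵥ x ∉ D b := by
        by_contra hcon
        push Not at hcon
        exact hgS (mem_dstab_of_blocks m k D hD g hcon)
      obtain ⟨a, x, hx, hxb⟩ := hmix
      obtain ⟨u, hu⟩ : ∃ u, u = (g : Matrix (Fin m ⊕ Fin m) (Fin m ⊕ Fin m) F) *ᵥ x := ⟨_, rfl⟩
      rw [← hu] at hxb
      have huS : u ∈ SS m M := by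
        rw [hu]
        exact mulVec_mem_SS m M hMS g hgM x (block_mem_SS m k D hD M hPM a x hx)
      have hu0 : u ≠ 0 := by
        intro h0
        exact hxb a (h0 ▸ zero_mem _)
      obtain ⟨i, zi, hzi, hnei⟩ := exists_block_ne m k D hD u hu0
      obtain ⟨pi, hpi, r₁, hr₁, hur⟩ := exists_decomp m (D i) (hD.nondegenerate i) u
      rw [mem_perp] at hr₁
      have hpi0 : pi ≠ 0 := by
        intro h0
        apply hnei
        rw [hur, h0, zero_add]; exact hr₁ zi hzi
      have hr₁0 : r₁ ≠ 0 := by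
        intro h0
        apply hxb i
        rw [hur, h0, add_zero]; exact hpi
      obtain ⟨j, zj, hzj, hnej⟩ := exists_block_ne m k D hD r₁ hr₁0
      have hji : j ≠ i := by
        intro h
        subst h
        exact hnej (hr₁ zj hzj)
      obtain ⟨pj, hpj, r, hr, hrr⟩ := exists_decomp m (D j) (hD.nondegenerate j) r₁
      rw [mem_perp] at hr
      have hpj0 : pj ≠ 0 := by
        intro h0
        apply hnej
        rw [hrr, h0, zero_add]; exact hr zj hzj
      have hri : ∀ z ∈ D i, sympForm m F r z = 0 := by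
        intro z hz
        have h1 := hr₁ z hz
        rw [hrr, sympForm_add_left, orth m k D hD j i hji pj z hpj hz, zero_add] at h1
        exact h1
      have hPij : PP m D M i j := by
        apply pair_mem m k D hD M hPM hMS hex i j (Ne.symm hji) pi pj r hpi hpj hpi0 hpj0 hri hr
        rw [add_assoc, ← hrr, ← hur]; exact huS
      have hall := PP_all m k D hD M hPM hMS i j (Ne.symm hji) hPij
      have hSS := all_mem m k D hD M hPM hMS hall Finset.univ
      apply spGL_le m M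
      intro v c
      apply hSS v
      have : (⨆ a ∈ (Finset.univ : Finset (Fin t)), D a) = ⨆ a, D a := by simp
      rw [this, hD.decomp.iSup_eq_top]; trivial

end PartE

end Part3

end Cfsg.Agent.S5647
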