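import Mathlib
import Cfsg.Statements.S5652
import Cfsg.Agent.S5645

set_option autoImplicit false
open Cfsg

namespace Cfsg.Agent.S5652


section Part0
open Cfsg Matrix Cfsg.Agent.Lib.Helper5.Symp
open Cfsg.Agent.S5645

section CharTwo

variable {F : Type*} [Field F] [Fintype F]

lemma charP_two (heven : ¬ Odd (Fintype.card F)) : CharP F 2 := by
  have h : ringChar F = 2 := by
    by_contra hne
    have := FiniteField.odd_card_of_char_ne_two hne
    exact heven (Nat.odd_iff.2 this)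
  exact ringChar.of_eq h

/-- square roots exist in a finite field of characteristic two -/
lemma exists_sqrt [CharP F 2] (a : F) : ∃ s : F, s * s = a := by
  have hinj : Function.Injective (fun x : F => x * x) := by
    intro x y hxy
    have h1 : (x + y) * (x + y) = 0 := by
      have h2 : (x + y) * (x + y) = x * x + y * y + 2 * (x * y) := by ring
      rw [h2, CharTwo.two_eq_zero, zero_mul, add_zero]
      have : x * x = y * y := hxy
      rw [this, CharTwo.add_self_eq_zero]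
    have h3 : x + y = 0 := mul_self_eq_zero.1 h1
    exact CharTwo.add_eq_zero.1 h3
  exact (Finite.injective_iff_surjective.1 hinj) a

end CharTwo

section Quad

variable {F : Type*} [Field F] [CharP F 2] (m : ℕ)
variable {Q : (Fin m ⊕ Fin m → F) → F} (hQ : Cfsg.Geo.IsNondegenerateQuadraticForm Q)
variable (hpol : ∀ u v, QuadraticMap.polar Q u v = Cfsg.sympForm m F u v)

include hpol in
lemma Q_add (u v : Fin m ⊕ Fin m → F) : Q (u + v) = Q u + Q v + sympForm m F u v := by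
  have := hpol u v
  rw [QuadraticMap.polar] at this
  rw [← this]; ring

lemma B_symm (u v : Fin m ⊕ Fin m → F) : sympForm m F u v = sympForm m F v u := by
  rw [sympForm_swap, CharTwo.neg_eq]

include hQ hpol in
lemma Q_add_smul (x w : Fin m ⊕ Fin m → F) (c : F) :
    Q (x + c • w) = Q x + c ^ 2 * Q w + c * sympForm m F x w := by
  rw [Q_add m hpol, hQ.smul, sympForm_smul_right]

include hQ in
lemma Q_zero : Q 0 = 0 := by
  have := hQ.smul 0 0
  rw [zero_smul] at this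
  rw [this]; ring

include hQ hpol in
/-- the effect of a symplectic transvection on `Q` -/
lemma Q_T (w x : Fin m ⊕ Fin m → F) (c : F) :
    Q (((T m w c : GL (Fin m ⊕ Fin m) F) : Matrix (Fin m ⊕ Fin m) (Fin m ⊕ Fin m) F) *ᵥ x) =
      Q x + (sympForm m F x w) ^ 2 * (c * (c * Q w + 1)) := by
  rw [T_mulVec, Q_add_smul m hQ hpol]
  ring

include hQ hpol in
/-- reflections lie in the orthogonal group -/
lemma refl_mem (w : Fin m ⊕ Fin m → F) (hw : Q w ≠ 0) :
    T m w (Q w)⁻¹ ∈ Cfsg.Geo.quadSimilarityGroup Q ⊓ Cfsg.spGL m F := by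
  refine ⟨⟨1, fun v => ?_⟩, T_mem_spGL m w _⟩
  rw [Q_T m hQ hpol, inv_mul_cancel₀ hw, CharTwo.add_self_eq_zero, mul_zero, mul_zero, add_zero,
    Units.val_one, one_mul]

lemma refl_mulVec (w x : Fin m ⊕ Fin m → F) :
    ((T m w (Q w)⁻¹ : GL (Fin m ⊕ Fin m) F) : Matrix (Fin m ⊕ Fin m) (Fin m ⊕ Fin m) F) *ᵥ x =
      x + ((Q w)⁻¹ * sympForm m F x w) • w := T_mulVec m w _ x

end Quad

end Part0

section Part1
open Cfsg Matrix Cfsg.Agent.Lib.Helper5.Symp
open Cfsg.Agent.S5645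

section Sing

variable {F : Type*} [Field F] (m : ℕ)

lemma exists_notMem_span_pair (hm : 2 ≤ m) (v w : Fin m ⊕ Fin m → F) :
    ∃ x, x ∉ Submodule.span F ({v, w} : Set (Fin m ⊕ Fin m → F)) := by
  classical
  by_contra hcon
  have htop : Submodule.span F ({v, w} : Set (Fin m ⊕ Fin m → F)) = ⊤ := by
    rw [eq_top_iff]
    intro x _
    by_contra hx
    exact hcon ⟨x, hx⟩
  have h1 := finrank_span_finset_le_card (R := F) ({v, w} : Finset (Fin m ⊕ Fin m → F))
  rw [Set.finrank, Finset.coe_insert, Finset.coe_singleton, htop, finrank_top,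
    Module.finrank_fintype_fun_eq_card, Fintype.card_sum, Fintype.card_fin] at h1
  have h2 : ({v, w} : Finset (Fin m ⊕ Fin m → F)).card ≤ 2 := Finset.card_le_two
  omega

variable [CharP F 2]

lemma vec_add_self (v : Fin m ⊕ Fin m → F) : v + v = 0 := by
  funext i
  exact CharTwo.add_self_eq_zero (v i)

variable {Q : (Fin m ⊕ Fin m → F) → F} (hQ : Cfsg.Geo.IsNondegenerateQuadraticForm Q)
variable (hpol : ∀ u v, QuadraticMap.polar Q u v = Cfsg.sympForm m F u v)

include hQ hpol in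
lemma adjust_singular (x u : Fin m ⊕ Fin m → F) (hu : Q u = 0) (hxu : sympForm m F x u ≠ 0) :
    Q (x + (Q x * (sympForm m F x u)⁻¹) • u) = 0 := by
  rw [Q_add_smul m hQ hpol, hu, mul_zero, add_zero, mul_assoc, inv_mul_cancel₀ hxu, mul_one,
    CharTwo.add_self_eq_zero]

include hQ in
lemma ne_zero_of_Q (w : Fin m ⊕ Fin m → F) (hw : Q w ≠ 0) : w ≠ 0 := by
  rintro rfl
  exact hw (Q_zero m hQ)

variable [Fintype F]

include hQ hpol in
lemma exists_singular (hm : 2 ≤ m) : ∃ u : Fin m ⊕ Fin m → F, u ≠ 0 ∧ Q u = 0 := by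
  set w : Fin m ⊕ Fin m → F := Pi.single (Sum.inl ⟨0, by omega⟩) 1 with hw_def
  have hw0 : w ≠ 0 := by
    rw [hw_def]; exact Pi.single_ne_zero_iff.2 one_ne_zero
  by_cases hQw : Q w = 0
  · exact ⟨w, hw0, hQw⟩
  obtain ⟨x, hx⟩ := exists_sympForm_ne_zero m hw0
  have hxw : sympForm m F x w ≠ 0 := by rw [B_symm]; exact hx
  obtain ⟨z, hz⟩ := exists_notMem_span_pair (F := F) m hm w x
  set t := sympForm m F z w * (sympForm m F x w)⁻¹ with ht
  set y := z + t • x with hy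
  have hyw : sympForm m F y w = 0 := by
    rw [hy, sympForm_add_left, sympForm_smul_left, ht, mul_assoc, inv_mul_cancel₀ hxw, mul_one,
      CharTwo.add_self_eq_zero]
  have hzy : z = y + t • x := by
    rw [hy, add_assoc, vec_add_self, add_zero]
  have hyspan : ∀ c : F, y ≠ c • w := by
    intro c hc
    apply hz
    rw [hzy, hc]
    exact Submodule.add_mem _ (Submodule.smul_mem _ _ (Submodule.subset_span (by simp)))
      (Submodule.smul_mem _ _ (Submodule.subset_span (by simp)))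
  by_cases hQy : Q y = 0
  · refine ⟨y, ?_, hQy⟩
    intro h0
    exact hyspan 0 (by rw [h0, zero_smul])
  obtain ⟨s, hs⟩ := exists_sqrt (Q w * (Q y)⁻¹)
  have hs0 : s ≠ 0 := by
    rintro rfl
    rw [mul_zero] at hs
    exact (mul_ne_zero hQw (inv_ne_zero hQy)) hs.symm
  refine ⟨w + s • y, ?_, ?_⟩
  · intro h0
    have h1 : s • y = w := by
      have := congrArg (fun v => v + w) h0
      simp only [zero_add] at this
      rw [add_comm w, add_assoc, vec_add_self, add_zero] at this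
      exact this
    apply hyspan s⁻¹
    rw [← h1, smul_smul, inv_mul_cancel₀ hs0, one_smul]
  · rw [Q_add_smul m hQ hpol, B_symm, hyw, mul_zero, add_zero, pow_two, hs, mul_assoc,
      inv_mul_cancel₀ hQy, mul_one, CharTwo.add_self_eq_zero]

include hQ hpol in
/-- a reflection exchanging two non-perpendicular singular vectors -/
lemma singular_step (u u' : Fin m ⊕ Fin m → F) (hu : Q u = 0) (hu' : Q u' = 0)
    (h : sympForm m F u u' ≠ 0) :
    ∃ g ∈ Cfsg.Geo.quadSimilarityGroup Q ⊓ Cfsg.spGL m F,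
      (g : Matrix (Fin m ⊕ Fin m) (Fin m ⊕ Fin m) F) *ᵥ u = u' := by
  have hQy : Q (u + u') = sympForm m F u u' := by
    rw [Q_add m hpol, hu, hu', zero_add, zero_add]
  have hne : Q (u + u') ≠ 0 := by rw [hQy]; exact h
  refine ⟨T m (u + u') (Q (u + u'))⁻¹, refl_mem m hQ hpol _ hne, ?_⟩
  rw [refl_mulVec, sympForm_add_right, sympForm_self, zero_add, hQy, inv_mul_cancel₀ h, one_smul,
    ← add_assoc, vec_add_self, zero_add]

include hQ hpol in
/-- the orthogonal group is transitive on nonzero singular vectors -/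
lemma singular_trans (u u' : Fin m ⊕ Fin m → F) (hu : Q u = 0) (hu' : Q u' = 0) (hu0 : u ≠ 0)
    (hu'0 : u' ≠ 0) :
    ∃ g ∈ Cfsg.Geo.quadSimilarityGroup Q ⊓ Cfsg.spGL m F,
      (g : Matrix (Fin m ⊕ Fin m) (Fin m ⊕ Fin m) F) *ᵥ u = u' := by
  by_cases h : sympForm m F u u' = 0
  · obtain ⟨y₀, hy1, hy2⟩ := exists_sympForm_ne_zero_both m hu0 hu'0
    have hy1' : sympForm m F y₀ u ≠ 0 := by rw [B_symm]; exact hy1
    set u'' := y₀ + (Q y₀ * (sympForm m F y₀ u)⁻¹) • u with hu''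
    have hQu'' : Q u'' = 0 := adjust_singular m hQ hpol y₀ u hu hy1'
    have h1 : sympForm m F u u'' ≠ 0 := by
      rw [hu'', sympForm_add_right, sympForm_smul_right, sympForm_self, mul_zero, add_zero]
      exact hy1
    have h2 : sympForm m F u'' u' ≠ 0 := by
      rw [hu'', sympForm_add_left, sympForm_smul_left, h, mul_zero, add_zero]
      exact hy2
    obtain ⟨g₁, hg₁, e₁⟩ := singular_step m hQ hpol u u'' hu hQu'' h1
    obtain ⟨g₂, hg₂, e₂⟩ := singular_step m hQ hpol u'' u' hQu'' hu' h2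
    refine ⟨g₂ * g₁, mul_mem hg₂ hg₁, ?_⟩
    rw [Units.val_mul, ← Matrix.mulVec_mulVec, e₁, e₂]
  · exact singular_step m hQ hpol u u' hu hu' h

include hQ hpol in
/-- a nonsingular vector is a combination of two non-perpendicular singular vectors -/
lemma exists_decomp_singular (hm : 2 ≤ m) (w : Fin m ⊕ Fin m → F) (hw : Q w ≠ 0) :
    ∃ (u' u : Fin m ⊕ Fin m → F) (s : F), Q u' = 0 ∧ Q u = 0 ∧ sympForm m F u' u ≠ 0 ∧
      w = u' + s • u := by
  have hw0 := ne_zero_of_Q m hQ w hw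
  obtain ⟨u₀, hu₀0, hQu₀⟩ := exists_singular m hQ hpol hm
  obtain ⟨u, hQu, huw⟩ : ∃ u, Q u = 0 ∧ sympForm m F w u ≠ 0 := by
    by_cases h : sympForm m F w u₀ = 0
    · obtain ⟨x, hx1, hx2⟩ := exists_sympForm_ne_zero_both m hu₀0 hw0
      have hx1' : sympForm m F x u₀ ≠ 0 := by rw [B_symm]; exact hx1
      refine ⟨x + (Q x * (sympForm m F x u₀)⁻¹) • u₀, adjust_singular m hQ hpol x u₀ hQu₀ hx1', ?_⟩
      rw [sympForm_add_right, sympForm_smul_right, h, mul_zero, add_zero, B_symm]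
      exact hx2
    · exact ⟨u₀, hQu₀, h⟩
  refine ⟨w + (Q w * (sympForm m F w u)⁻¹) • u, u, Q w * (sympForm m F w u)⁻¹,
    adjust_singular m hQ hpol w u hQu huw, hQu, ?_, ?_⟩
  · rw [sympForm_add_left, sympForm_smul_left, sympForm_self, mul_zero, add_zero]
    exact huw
  · rw [add_assoc, vec_add_self, add_zero]

end Sing

end Part1

section Part2
open Cfsg Matrix Cfsg.Agent.Lib.Helper5.Symp
open Cfsg.Agent.S5645

section Main

variable {F : Type*} [Field F] [Fintype F] [CharP F 2] (m : ℕ)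
variable {Q : (Fin m ⊕ Fin m → F) → F} (hQ : Cfsg.Geo.IsNondegenerateQuadraticForm Q)
variable (hpol : ∀ u v, QuadraticMap.polar Q u v = Cfsg.sympForm m F u v)
variable (M : Subgroup (GL (Fin m ⊕ Fin m) F))
variable (hΓM : Cfsg.Geo.quadSimilarityGroup Q ⊓ Cfsg.spGL m F ≤ M) (hMS : M ≤ Cfsg.spGL m F)

lemma T_zero_right (v : Fin m ⊕ Fin m → F) : T m v (0 : F) = 1 :=
  Units.ext (by rw [T_coe, sympTransvection_zero]; rfl)

lemma T_zero_left (c : F) : T m (0 : Fin m ⊕ Fin m → F) c = 1 := by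
  have h : T m ((0 : F) • (0 : Fin m ⊕ Fin m → F)) c = T m (0 : Fin m ⊕ Fin m → F) ((0 : F) ^ 2 * c) :=
    Units.ext (by rw [T_coe, T_coe, sympTransvection_smul])
  rw [zero_smul] at h
  rw [h]
  have : ((0 : F) ^ 2 * c) = 0 := by ring
  rw [this, T_zero_right]

include hQ hpol hΓM hMS in
/-- one transvection with singular centre gives all of them -/
lemma singular_mem_SS (u : Fin m ⊕ Fin m → F) (hu : Q u = 0) (hu0 : u ≠ 0) (c₀ : F) (hc₀ : c₀ ≠ 0)
    (h : T m u c₀ ∈ M) (u' : Fin m ⊕ Fin m → F) (hu' : Q u' = 0) : u' ∈ SS m M := by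
  intro c
  by_cases hu'0 : u' = 0
  · rw [hu'0, T_zero_left]; exact M.one_mem
  by_cases hc : c = 0
  · rw [hc, T_zero_right]; exact M.one_mem
  obtain ⟨s, hs⟩ := exists_sqrt (c * c₀⁻¹)
  have hs0 : s ≠ 0 := by
    rintro rfl
    rw [mul_zero] at hs
    exact (mul_ne_zero hc (inv_ne_zero hc₀)) hs.symm
  have hQs : Q (s • u') = 0 := by rw [hQ.smul, hu', mul_zero]
  have hs0' : s • u' ≠ 0 := smul_ne_zero hs0 hu'0
  obtain ⟨g, hg, hgu⟩ := singular_trans m hQ hpol u (s • u') hu hQs hu0 hs0'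
  have hgM : g ∈ M := hΓM hg
  have h1 : g * T m u c₀ * g⁻¹ ∈ M := M.mul_mem (M.mul_mem hgM h) (M.inv_mem hgM)
  rw [conj_T m g hg.2, hgu] at h1
  have h2 : T m (s • u') c₀ = T m u' c := by
    apply Units.ext
    rw [T_coe, T_coe, sympTransvection_smul, pow_two, hs, mul_assoc, inv_mul_cancel₀ hc₀, mul_one]
  rw [h2] at h1
  exact h1

include hQ hpol hΓM hMS in
/-- an element of `M` which is not an isometry of `Q` yields a transvection in `M` with singular
centre -/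
lemma exists_star (hm : 2 ≤ m) (g : GL (Fin m ⊕ Fin m) F) (hgM : g ∈ M)
    (hg : ¬ ∀ v, Q ((g : Matrix (Fin m ⊕ Fin m) (Fin m ⊕ Fin m) F) *ᵥ v) = Q v) :
    ∃ (u : Fin m ⊕ Fin m → F) (c₀ : F), Q u = 0 ∧ u ≠ 0 ∧ c₀ ≠ 0 ∧ T m u c₀ ∈ M := by
  have hgS := hMS hgM
  rw [not_forall] at hg
  obtain ⟨v₀, hv₀⟩ := hg
  obtain ⟨v, hv, hgv⟩ : ∃ v, Q v = 0 ∧
      Q ((g : Matrix (Fin m ⊕ Fin m) (Fin m ⊕ Fin m) F) *ᵥ v) ≠ 0 := by
    by_cases h0 : Q v₀ = 0
    · exact ⟨v₀, h0, by rw [h0] at hv₀; exact hv₀⟩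
    obtain ⟨u', u, s, hQu', hQu, hB, hdec⟩ := exists_decomp_singular m hQ hpol hm v₀ h0
    by_cases h1 : Q ((g : Matrix (Fin m ⊕ Fin m) (Fin m ⊕ Fin m) F) *ᵥ u') = 0
    · by_cases h2 : Q ((g : Matrix (Fin m ⊕ Fin m) (Fin m ⊕ Fin m) F) *ᵥ u) = 0
      · exfalso
        apply hv₀
        rw [hdec, Matrix.mulVec_add, Matrix.mulVec_smul, Q_add_smul m hQ hpol,
          Q_add_smul m hQ hpol, h1, h2, hQu', hQu, (mem_spGL_iff m g).1 hgS]
      · exact ⟨u, hQu, h2⟩
    · exact ⟨u', hQu', h1⟩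
  refine ⟨v, (Q ((g : Matrix (Fin m ⊕ Fin m) (Fin m ⊕ Fin m) F) *ᵥ v))⁻¹, hv, ?_,
    inv_ne_zero hgv, ?_⟩
  · rintro rfl
    apply hgv
    rw [Matrix.mulVec_zero]; exact Q_zero m hQ
  · have h1 : T m ((g : Matrix (Fin m ⊕ Fin m) (Fin m ⊕ Fin m) F) *ᵥ v)
        (Q ((g : Matrix (Fin m ⊕ Fin m) (Fin m ⊕ Fin m) F) *ᵥ v))⁻¹ ∈ M :=
      hΓM (refl_mem m hQ hpol _ hgv)
    have h2 : g⁻¹ * T m ((g : Matrix (Fin m ⊕ Fin m) (Fin m ⊕ Fin m) F) *ᵥ v)
        (Q ((g : Matrix (Fin m ⊕ Fin m) (Fin m ⊕ Fin m) F) *ᵥ v))⁻¹ * (g⁻¹)⁻¹ ∈ M :=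
      M.mul_mem (M.mul_mem (M.inv_mem hgM) h1) (M.inv_mem (M.inv_mem hgM))
    rw [conj_T m g⁻¹ ((spGL m F).inv_mem hgS), inv_mulVec_mulVec] at h2
    exact h2

end Main

theorem result {F : Type*} [Field F] [Fintype F] (m : ℕ) (hm : 7 ≤ m) (heven : ¬ Odd (Fintype.card F)) (Q : (Fin m ⊕ Fin m → F) → F) (hQ : Cfsg.Geo.IsNondegenerateQuadraticForm Q) (hpol : ∀ u v, QuadraticMap.polar Q u v = Cfsg.sympForm m F u v) : Cfsg.Geo.IsMaximalIn (Cfsg.spGL m F) (Cfsg.Geo.quadSimilarityGroup Q ⊓ Cfsg.spGL m F) := by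
  haveI := charP_two heven
  have hm2 : 2 ≤ m := by omega
  refine ⟨lt_of_le_of_ne inf_le_right ?_, ?_⟩
  · intro heq
    obtain ⟨u, hu0, hQu⟩ := exists_singular m hQ hpol hm2
    obtain ⟨x₀, hx₀⟩ := exists_sympForm_ne_zero m hu0
    have hx₀' : sympForm m F x₀ u ≠ 0 := by rw [B_symm]; exact hx₀
    set x := x₀ + (Q x₀ * (sympForm m F x₀ u)⁻¹) • u with hx
    have hQx : Q x = 0 := adjust_singular m hQ hpol x₀ u hQu hx₀'
    have hxu : sympForm m F x u ≠ 0 := by
      rw [hx, sympForm_add_left, sympForm_smul_left, sympForm_self, mul_zero, add_zero]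
      exact hx₀'
    have h1 : T m u 1 ∈ Cfsg.Geo.quadSimilarityGroup Q ⊓ Cfsg.spGL m F := by
      rw [heq]; exact T_mem_spGL m u 1
    obtain ⟨c, hc⟩ := h1.1
    have h2 := hc x
    rw [Q_T m hQ hpol, hQx, hQu, mul_zero, zero_add, mul_zero, zero_add, mul_one, mul_one] at h2
    exact hxu (pow_eq_zero_iff (two_ne_zero) |>.1 h2)
  · intro M hΓM hMS
    by_cases hMΓ : M ≤ Cfsg.Geo.quadSimilarityGroup Q ⊓ Cfsg.spGL m F
    · left; exact le_antisymm hMΓ hΓM
    · right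
      apply le_antisymm hMS
      rw [SetLike.not_le_iff_exists] at hMΓ
      obtain ⟨g, hgM, hgΓ⟩ := hMΓ
      have hgS : g ∉ Cfsg.Geo.quadSimilarityGroup Q := fun hh => hgΓ ⟨hh, hMS hgM⟩
      have hg : ¬ ∀ v, Q ((g : Matrix (Fin m ⊕ Fin m) (Fin m ⊕ Fin m) F) *ᵥ v) = Q v := by
        intro hall
        apply hgS
        exact ⟨1, fun v => by rw [hall v, Units.val_one, one_mul]⟩
      obtain ⟨u, c₀, hQu, hu0, hc₀, hT⟩ := exists_star m hQ hpol M hΓM hMS hm2 g hgM hg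
      have hsing : ∀ u', Q u' = 0 → u' ∈ SS m M :=
        singular_mem_SS m hQ hpol M hΓM hMS u hQu hu0 c₀ hc₀ hT
      apply spGL_le
      intro w c
      by_cases hw : Q w = 0
      · exact hsing w hw c
      · obtain ⟨u', u₁, s, hQu', hQu₁, hB, hdec⟩ := exists_decomp_singular m hQ hpol hm2 w hw
        have := add_smul_mem_SS m M hMS u' u₁ (hsing u' hQu') (hsing u₁ hQu₁) hB s
        rw [← hdec] at this
        exact this c

end Part2

end Cfsg.Agent.S5652
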