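import Mathlib
import Cfsg.Statements.S5654
import Cfsg.Agent.Lib.Helper8.SURelD
import Cfsg.Agent.S5653

set_option autoImplicit false
open Cfsg

namespace Cfsg.Agent.S5654


section Part0

open Matrix Cfsg.Agent.S5631 Cfsg.Agent.S5643 Cfsg.Agent.Lib.Helper8.Unitary
  Cfsg.Agent.Lib.Helper8.SUGen Cfsg.Agent.Lib.Helper8.SUMax Cfsg.Agent.Lib.Helper8.SURel

variable {n : ℕ} {F : Type*} [Field F] [Fintype F] {σ : F ≃+* F}
variable {f : (Fin n → F) → (Fin n → F) → F}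
variable (hf : Cfsg.Geo.IsUnitaryForm σ f)
variable (W : Submodule F (Fin n → F)) (hW : Cfsg.Geo.IsNondegenerateOn f W)
variable (M : Subgroup (GL (Fin n) F))
variable (hPM : Cfsg.Geo.subspaceStabilizer W ⊓ SUf f ≤ M) (hMS : M ≤ SUf f)

include hPM in
/-- isotropic vectors of `W` are in `SSu` -/
lemma isoW_mem (x : Fin n → F) (hx : f x x = 0) (hxW : x ∈ W) : x ∈ SSu hf M :=
  ⟨hx, fun z hz => hPM ⟨ut_stab_of_mem hf W x hx hxW z, ut_mem_SUf hf x hx z hz⟩⟩

include hPM in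
/-- isotropic vectors of `W^⊥` are in `SSu` -/
lemma isoU_mem (x : Fin n → F) (hx : f x x = 0) (hxU : x ∈ perpU hf W) : x ∈ SSu hf M :=
  ⟨hx, fun z hz => hPM ⟨ut_stab_of_perp hf W x hx hxU z, ut_mem_SUf hf x hx z hz⟩⟩

include hPM in
lemma TTsubU_le : TTsub hf (perpU hf W) ≤ M := by
  rw [TTsub, Subgroup.closure_le]
  rintro g ⟨u, hu, z, huU, hz, rfl⟩
  exact hPM ⟨ut_stab_of_perp hf W u hu huU z, ut_mem_SUf hf u hu z hz⟩

/-- the set of `W`-components of mixed vectors of `SSu` -/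
def AA : Set (Fin n → F) :=
  {a | a ∈ W ∧ ∀ b ∈ perpU hf W, b ≠ 0 → f b b = -f a a → a + b ∈ SSu hf M}

omit [Fintype F] in
lemma norm_add (a b : Fin n → F) (ha : a ∈ W) (hb : b ∈ perpU hf W) :
    f (a + b) (a + b) = f a a + f b b := by
  rw [hf.add_left, f_add_right hf, f_add_right hf, hb a ha, f_swap_eq_zero hf _ _ (hb a ha)]
  ring

include hW hPM hMS in
/-- Claim 1 -/
lemma mem_AA (hm : 4 ≤ Module.finrank F (perpU hf W)) (a b : Fin n → F) (ha : a ∈ W)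
    (hb : b ∈ perpU hf W) (hb0 : b ≠ 0) (hab : a + b ∈ SSu hf M) : a ∈ AA hf W M := by
  refine ⟨ha, fun b' hb' hb'0 hn' => ?_⟩
  have h0 := SSu_iso hf M _ hab
  rw [norm_add hf W a b ha hb] at h0
  have hbb : f b b = f b' b' := by rw [hn']; linear_combination h0
  obtain ⟨t, ht, e⟩ := rel_trans hf (perpU hf W) (perpU_nondeg hf W hW) hm b b' hb hb' hb0 hb'0 hbb
  have hta : (t : Matrix (Fin n) (Fin n) F) *ᵥ a = a :=
    TTsub_fix hf (perpU hf W) t ht a (fun u hu => f_swap_eq_zero hf _ _ (hu a ha))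
  have := SSu_mulVec hf M hMS t (TTsubU_le hf W M hPM ht) _ hab
  rwa [Matrix.mulVec_add, hta, e] at this

include hPM in
lemma zero_mem_AA : (0 : Fin n → F) ∈ AA hf W M := by
  refine ⟨W.zero_mem, fun b hb _ hn' => ?_⟩
  rw [zero_add]
  apply isoU_mem hf W M hPM b _ hb
  rw [hn', f_zero_left hf, neg_zero]

lemma smul_mem_AA (c : F) (a : Fin n → F) (ha : a ∈ AA hf W M) (hc : c ≠ 0) :
    c • a ∈ AA hf W M := by
  obtain ⟨haW, h⟩ := ha
  refine ⟨W.smul_mem c haW, fun b hb hb0 hn' => ?_⟩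
  have hσc : σ c ≠ 0 := by rw [Ne, map_eq_zero]; exact hc
  have h1 : f (c⁻¹ • b) (c⁻¹ • b) = -f a a := by
    rw [hf.smul_left, f_smul_right hf, hn', hf.smul_left, f_smul_right hf, map_inv₀]
    field_simp
  have h2 : c⁻¹ • b ≠ 0 := smul_ne_zero (inv_ne_zero hc) hb0
  have h3 := SSu_smul hf M c _ (h (c⁻¹ • b) ((perpU hf W).smul_mem _ hb) h2 h1)
  rwa [smul_add, smul_smul, mul_inv_cancel₀ hc, one_smul] at h3

include hW hPM hMS in
lemma add_mem_AA (hm : 4 ≤ Module.finrank F (perpU hf W)) (a a' : Fin n → F)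
    (ha : a ∈ AA hf W M) (ha' : a' ∈ AA hf W M) : a + a' ∈ AA hf W M := by
  obtain ⟨haW, h⟩ := ha
  obtain ⟨ha'W, h'⟩ := ha'
  obtain ⟨ζ, hζ0, hζ⟩ := exists_Z hf.ne_refl hf.involutive
  have hσζ : σ ζ ≠ 0 := by rw [Ne, map_eq_zero]; exact hζ0
  obtain ⟨b, hb, b', hb', h1, h2, h3, h4, h5⟩ := rel_prescribe_pair hf (perpU hf W)
    (perpU_nondeg hf W hW) hm (-f a a) (-f a' a') ((σ ζ)⁻¹ - f a a')
    (by rw [map_neg, f_self_fix hf]) (by rw [map_neg, f_self_fix hf])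
  have hb0 : b ≠ 0 := by
    have := h5 0
    rwa [zero_smul, add_zero] at this
  have hv := h b hb hb0 h1
  obtain ⟨hw0, hwM⟩ := h' b' hb' h4 h2
  have hg := SSu_mulVec hf M hMS _ (hwM ζ hζ) _ hv
  rw [ut_mulVec] at hg
  have e : f (a + b) (a' + b') = (σ ζ)⁻¹ := by
    rw [hf.add_left, f_add_right hf, f_add_right hf, h3, hb a' ha'W,
      f_swap_eq_zero hf _ _ (hb' a haW)]
    ring
  rw [e, mul_inv_cancel₀ hσζ, one_smul] at hg
  have e2 : a + b + (a' + b') = (a + a') + (b + b') := by abel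
  rw [e2] at hg
  refine mem_AA hf W hW M hPM hMS hm (a + a') (b + b') (W.add_mem haW ha'W)
    ((perpU hf W).add_mem hb hb') ?_ hg
  have := h5 1
  rwa [one_smul] at this

/-- `AA` as a submodule -/
def AAsub (hm : 4 ≤ Module.finrank F (perpU hf W))
    (hW : Cfsg.Geo.IsNondegenerateOn f W)
    (hPM : Cfsg.Geo.subspaceStabilizer W ⊓ SUf f ≤ M) (hMS : M ≤ SUf f) :
    Submodule F (Fin n → F) where
  carrier := AA hf W M
  add_mem' := fun ha hb => add_mem_AA hf W hW M hPM hMS hm _ _ ha hb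
  zero_mem' := zero_mem_AA hf W M hPM
  smul_mem' := by
    intro c a ha
    by_cases hc : c = 0
    · rw [hc, zero_smul]; exact zero_mem_AA hf W M hPM
    · exact smul_mem_AA hf W M c a ha hc

include hW hPM hMS in
/-- `AA` is all of `W` as soon as it is nonzero -/
lemma AA_eq (hm : 4 ≤ Module.finrank F (perpU hf W)) (a₀ : Fin n → F) (ha₀ : a₀ ∈ AA hf W M)
    (ha₀0 : a₀ ≠ 0) (a : Fin n → F) (ha : a ∈ W) : a ∈ AA hf W M := by
  have hle : AAsub hf W M hm hW hPM hMS ≤ W := fun x hx => hx.1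
  have hne : AAsub hf W M hm hW hPM hMS ≠ ⊥ := by
    intro h
    have : a₀ ∈ AAsub hf W M hm hW hPM hMS := ha₀
    rw [h, Submodule.mem_bot] at this
    exact ha₀0 this
  refine rel_irred hf W hW (AAsub hf W M hm hW hPM hMS) hle hne ?_ ha
  intro u hu z huW hz y hy
  obtain ⟨hyW, h⟩ := hy
  have hgM : ut hf u hu z ∈ M := (isoW_mem hf W M hPM u hu huW).2 z hz
  have hiso := SUf_iso _ (hMS hgM)
  refine ⟨?_, fun b hb hb0 hn' => ?_⟩
  · rw [ut_mulVec]
    exact W.add_mem hyW (W.smul_mem _ huW)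
  · rw [hiso] at hn'
    have h1 := SSu_mulVec hf M hMS _ hgM _ (h b hb hb0 hn')
    rwa [Matrix.mulVec_add, ut_perp hf u hu z b (hb u huW)] at h1

end Part0

section Part1

open Matrix Cfsg.Agent.S5631 Cfsg.Agent.S5643 Cfsg.Agent.Lib.Helper8.Unitary
  Cfsg.Agent.Lib.Helper8.SUGen Cfsg.Agent.Lib.Helper8.SUMax Cfsg.Agent.Lib.Helper8.SURel

variable {n : ℕ} {F : Type*} [Field F] [Fintype F] {σ : F ≃+* F}
variable {f : (Fin n → F) → (Fin n → F) → F}
variable (hf : Cfsg.Geo.IsUnitaryForm σ f)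
variable (W : Submodule F (Fin n → F)) (hW : Cfsg.Geo.IsNondegenerateOn f W)
variable (M : Subgroup (GL (Fin n) F))
variable (hPM : Cfsg.Geo.subspaceStabilizer W ⊓ SUf f ≤ M) (hMS : M ≤ SUf f)

omit [Fintype F] in
/-- a subspace mapped into itself by an invertible matrix is mapped onto itself -/
lemma surj_of_maps (U : Submodule F (Fin n → F)) (g : GL (Fin n) F)
    (h : ∀ x ∈ U, (g : Matrix (Fin n) (Fin n) F) *ᵥ x ∈ U) (u : Fin n → F) (hu : u ∈ U) :
    ∃ u' ∈ U, (g : Matrix (Fin n) (Fin n) F) *ᵥ u' = u := by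
  let L : U →ₗ[F] U :=
    LinearMap.codRestrict U ((Matrix.mulVecLin (g : Matrix (Fin n) (Fin n) F)).comp U.subtype)
      (fun y => h y.1 y.2)
  have hL : Function.Injective L := by
    intro y y' hyy'
    have h3 : (g : Matrix (Fin n) (Fin n) F) *ᵥ y.1 = (g : Matrix (Fin n) (Fin n) F) *ᵥ y'.1 :=
      congrArg Subtype.val hyy'
    have h4 := congrArg (fun z => ((g⁻¹ : GL (Fin n) F) : Matrix (Fin n) (Fin n) F) *ᵥ z) h3
    simp only [inv_mulVec_mulVec] at h4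
    exact Subtype.ext h4
  obtain ⟨y, hy⟩ := (LinearMap.injective_iff_surjective.1 hL) ⟨u, hu⟩
  exact ⟨y.1, y.2, congrArg Subtype.val hy⟩

omit [Fintype F] in
/-- an invertible matrix mapping `U` into `W` forces `dim U ≤ dim W` -/
lemma finrank_le_of_maps (U W : Submodule F (Fin n → F)) (g : GL (Fin n) F)
    (h : ∀ x ∈ U, (g : Matrix (Fin n) (Fin n) F) *ᵥ x ∈ W) :
    Module.finrank F U ≤ Module.finrank F W := by
  let L : U →ₗ[F] W :=
    LinearMap.codRestrict W ((Matrix.mulVecLin (g : Matrix (Fin n) (Fin n) F)).comp U.subtype)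
      (fun y => h y.1 y.2)
  have hL : Function.Injective L := by
    intro y y' hyy'
    have h3 : (g : Matrix (Fin n) (Fin n) F) *ᵥ y.1 = (g : Matrix (Fin n) (Fin n) F) *ᵥ y'.1 :=
      congrArg Subtype.val hyy'
    have h4 := congrArg (fun z => ((g⁻¹ : GL (Fin n) F) : Matrix (Fin n) (Fin n) F) *ᵥ z) h3
    simp only [inv_mulVec_mulVec] at h4
    exact Subtype.ext h4
  exact LinearMap.finrank_le_finrank_of_injective hL

include hW hPM hMS in
/-- Claim 2: a mixed vector in `SSu` -/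
lemma exists_mixed (hm : 2 ≤ Module.finrank F (perpU hf W))
    (hlt : Module.finrank F W < Module.finrank F (perpU hf W))
    (h' : GL (Fin n) F) (hh' : h' ∈ M) (w₀ : Fin n → F) (hw₀ : w₀ ∈ W)
    (hy : (h' : Matrix (Fin n) (Fin n) F) *ᵥ w₀ ∉ W) :
    ∃ a ∈ W, ∃ b ∈ perpU hf W, a ≠ 0 ∧ b ≠ 0 ∧ a + b ∈ SSu hf M := by
  by_contra hno
  push Not at hno
  have hiso := SUf_iso h' (hMS hh')
  have hUnd := perpU_nondeg hf W hW
  -- images of isotropic vectors of `U` are in `W` or in `U`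
  have key : ∀ x ∈ perpU hf W, f x x = 0 →
      (h' : Matrix (Fin n) (Fin n) F) *ᵥ x ∈ W ∨
        (h' : Matrix (Fin n) (Fin n) F) *ᵥ x ∈ perpU hf W := by
    intro x hxU hxx
    have h1 := SSu_mulVec hf M hMS h' hh' x (isoU_mem hf W M hPM x hxx hxU)
    obtain ⟨a, ha, b, hb, e⟩ := perp_decomp hf W hW ((h' : Matrix (Fin n) (Fin n) F) *ᵥ x)
    rw [e] at h1 ⊢
    by_cases ha0 : a = 0
    · right; rw [ha0, zero_add]; exact hb
    · left
      have hb0 : b = 0 := by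
        by_contra hb0
        exact hno a ha b hb ha0 hb0 h1
      rw [hb0, add_zero]; exact ha
  have hsplit : (∀ x ∈ perpU hf W, f x x = 0 →
      (h' : Matrix (Fin n) (Fin n) F) *ᵥ x ∈ perpU hf W) ∨
      (∀ x ∈ perpU hf W, f x x = 0 → (h' : Matrix (Fin n) (Fin n) F) *ᵥ x ∈ W) := by
    by_contra hcon
    push Not at hcon
    obtain ⟨⟨x₂, hx₂U, hx₂, hp⟩, ⟨x₁, hx₁U, hx₁, hr⟩⟩ := hcon
    have hpW : (h' : Matrix (Fin n) (Fin n) F) *ᵥ x₂ ∈ W :=
      (key x₂ hx₂U hx₂).resolve_right hp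
    have hrU : (h' : Matrix (Fin n) (Fin n) F) *ᵥ x₁ ∈ perpU hf W :=
      (key x₁ hx₁U hx₁).resolve_left hr
    have hp0 : (h' : Matrix (Fin n) (Fin n) F) *ᵥ x₂ ≠ 0 := by
      intro h0
      rw [h0] at hp
      exact hp (perpU hf W).zero_mem
    have hr0 : (h' : Matrix (Fin n) (Fin n) F) *ᵥ x₁ ≠ 0 := by
      intro h0
      rw [h0] at hr
      exact hr W.zero_mem
    -- an isotropic combination
    obtain ⟨l, hl0, hl⟩ : ∃ l : F, l ≠ 0 ∧ f (x₂ + l • x₁) (x₂ + l • x₁) = 0 := by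
      by_cases he : f x₂ x₁ = 0
      · refine ⟨1, one_ne_zero, ?_⟩
        rw [one_smul, hf.add_left, f_add_right hf, f_add_right hf, hx₂, hx₁, he,
          f_swap_eq_zero hf _ _ he]
        ring
      · obtain ⟨ζ, hζ0, hζ⟩ := exists_Z hf.ne_refl hf.involutive
        have h3 : ζ / f x₂ x₁ * f x₂ x₁ = ζ := div_mul_cancel₀ ζ he
        have h4 : σ (ζ / f x₂ x₁) * σ (f x₂ x₁) = σ ζ := by rw [← map_mul, h3]
        refine ⟨σ (ζ / f x₂ x₁), ?_, ?_⟩
        · rw [Ne, map_eq_zero]; exact div_ne_zero hζ0 he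
        · rw [hf.add_left, f_add_right hf, f_add_right hf, hf.smul_left, hf.smul_left,
            f_smul_right hf, f_smul_right hf, hx₂, hx₁, hf.involutive, hf.herm x₁ x₂, h3, h4]
          linear_combination hζ
    have h1 := SSu_mulVec hf M hMS h' hh' _ (isoU_mem hf W M hPM _ hl
      ((perpU hf W).add_mem hx₂U ((perpU hf W).smul_mem l hx₁U)))
    rw [Matrix.mulVec_add, Matrix.mulVec_smul] at h1
    exact hno _ hpW _ ((perpU hf W).smul_mem l hrU) hp0 (smul_ne_zero hl0 hr0) h1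
  rcases hsplit with hA | hB
  · -- `h'` maps `U` into `U`
    have hUU : ∀ x ∈ perpU hf W, (h' : Matrix (Fin n) (Fin n) F) *ᵥ x ∈ perpU hf W := by
      intro x hx
      obtain ⟨y₁, hy₁, y₂, hy₂, h1, h2, rfl⟩ := rel_iso_decomp2 hf (perpU hf W) hUnd hm x hx
      rw [Matrix.mulVec_add]
      exact (perpU hf W).add_mem (hA y₁ hy₁ h1) (hA y₂ hy₂ h2)
    apply hy
    apply perp_perp hf W hW
    intro u hu
    obtain ⟨u', hu', rfl⟩ := surj_of_maps (perpU hf W) h' hUU u hu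
    rw [hiso]
    exact f_swap_eq_zero hf _ _ (hu' w₀ hw₀)
  · have hUW : ∀ x ∈ perpU hf W, (h' : Matrix (Fin n) (Fin n) F) *ᵥ x ∈ W := by
      intro x hx
      obtain ⟨y₁, hy₁, y₂, hy₂, h1, h2, rfl⟩ := rel_iso_decomp2 hf (perpU hf W) hUnd hm x hx
      rw [Matrix.mulVec_add]
      exact W.add_mem (hB y₁ hy₁ h1) (hB y₂ hy₂ h2)
    have := finrank_le_of_maps (perpU hf W) W h' hUW
    omega

include hW hPM hMS in
/-- all isotropic vectors are in `SSu` once `M` moves a vector of `W` out of `W` -/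
lemma SSu_univ (hm : 4 ≤ Module.finrank F (perpU hf W))
    (hlt : Module.finrank F W < Module.finrank F (perpU hf W))
    (h' : GL (Fin n) F) (hh' : h' ∈ M) (w₀ : Fin n → F) (hw₀ : w₀ ∈ W)
    (hy : (h' : Matrix (Fin n) (Fin n) F) *ᵥ w₀ ∉ W) (x : Fin n → F) (hx : f x x = 0) :
    x ∈ SSu hf M := by
  obtain ⟨a₀, ha₀, b₀, hb₀, ha₀0, hb₀0, h0⟩ :=
    exists_mixed hf W hW M hPM hMS (by omega) hlt h' hh' w₀ hw₀ hy
  have ha₀A := mem_AA hf W hW M hPM hMS hm a₀ b₀ ha₀ hb₀ hb₀0 h0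
  obtain ⟨a, ha, b, hb, rfl⟩ := perp_decomp hf W hW x
  by_cases hb0 : b = 0
  · rw [hb0, add_zero] at hx ⊢
    exact isoW_mem hf W M hPM a hx ha
  · have haA := AA_eq hf W hW M hPM hMS hm a₀ ha₀A ha₀0 a ha
    apply haA.2 b hb hb0
    rw [norm_add hf W a b ha hb] at hx
    linear_combination hx

include hW in
/-- an element of `SUf` not stabilizing `W` -/
lemma exists_not_stab (hm : 2 ≤ Module.finrank F (perpU hf W)) (hW0 : W ≠ ⊥) :
    ∃ g ∈ SUf f, g ∉ Cfsg.Geo.subspaceStabilizer W := by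
  obtain ⟨w, hwW, hw0⟩ := Submodule.exists_mem_ne_zero_of_ne_bot hW0
  obtain ⟨-, ⟨a, ha, hwa⟩⟩ := hW w hwW hw0
  obtain ⟨b, hb, hb0, hbb⟩ := rel_represent_ne hf (perpU hf W) (perpU_nondeg hf W hW) hm
    (-f a a) (by rw [map_neg, f_self_fix hf])
  obtain ⟨ζ, hζ0, hζ⟩ := exists_Z hf.ne_refl hf.involutive
  have hσζ : σ ζ ≠ 0 := by rw [Ne, map_eq_zero]; exact hζ0
  have hyy : f (a + b) (a + b) = 0 := by
    rw [norm_add hf W a b ha hb, hbb]; ring
  refine ⟨ut hf (a + b) hyy ζ, ut_mem_SUf hf _ hyy ζ hζ, fun hstab => ?_⟩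
  have h2 := ((mem_stab_iff W _).1 hstab w).1 hwW
  rw [ut_mulVec, f_add_right hf, f_swap_eq_zero hf _ _ (hb w hwW), add_zero] at h2
  have h3 : (σ ζ * f w a) • (a + b) ∈ W := (Submodule.add_mem_iff_right W hwW).1 h2
  have h4 : a + b ∈ W := by
    have := W.smul_mem (σ ζ * f w a)⁻¹ h3
    rwa [smul_smul, inv_mul_cancel₀ (mul_ne_zero hσζ hwa), one_smul] at this
  have h5 : b ∈ W := (Submodule.add_mem_iff_right W ha).1 h4
  exact hb0 (perp_inf hf W hW b h5 hb)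

end Part1

section Part2

open Matrix Cfsg.Agent.S5631 Cfsg.Agent.S5643 Cfsg.Agent.Lib.Helper8.Unitary
  Cfsg.Agent.Lib.Helper8.SUGen Cfsg.Agent.Lib.Helper8.SUMax Cfsg.Agent.Lib.Helper8.SURel
  Cfsg.Agent.Lib.Helper5.Herm

/-- Let F be the field with q² elements and n ≥ 13. In SU_n(q) (determinant-one isometries of the standard unitary form on F^n) the stabiliser of a non-zero subspace W on which the form is non-degenerate and with 2 dim W < n is a maximal subgroup. -/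
theorem result {F : Type*} [Field F] [Fintype F] (n q : ℕ) (hF : Fintype.card F = q ^ 2) (hn : 13 ≤ n) (W : Submodule F (Fin n → F)) (hW0 : W ≠ ⊥) (hW : Cfsg.Geo.IsNondegenerateOn (Cfsg.hermForm n F q) W) (hdim : 2 * Module.finrank F W < n) : Cfsg.Geo.IsMaximalIn (Cfsg.GU n F q ⊓ Cfsg.Geo.specialLinear (Fin n) F) (Cfsg.Geo.subspaceStabilizer W ⊓ (Cfsg.GU n F q ⊓ Cfsg.Geo.specialLinear (Fin n) F)) := by
  have hf := herm_unitary hF n
  change Cfsg.Geo.IsMaximalIn (SUf (hermForm n F q))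
    (Cfsg.Geo.subspaceStabilizer W ⊓ SUf (hermForm n F q))
  have hfr := finrank_perpU hf W hW
  have hm : 4 ≤ Module.finrank F (perpU hf W) := by omega
  have hlt : Module.finrank F W < Module.finrank F (perpU hf W) := by omega
  refine ⟨lt_of_le_of_ne inf_le_right ?_, ?_⟩
  · intro heq
    obtain ⟨g, hg, hgs⟩ := exists_not_stab hf W hW (by omega) hW0
    rw [← heq] at hg
    exact hgs hg.1
  · intro M hPM hMS
    by_cases hMP : M ≤ Cfsg.Geo.subspaceStabilizer W ⊓ SUf (hermForm n F q)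
    · left; exact le_antisymm hMP hPM
    · right
      apply le_antisymm hMS
      rw [SetLike.not_le_iff_exists] at hMP
      obtain ⟨h, hhM, hhP⟩ := hMP
      have hhS : h ∉ Cfsg.Geo.subspaceStabilizer W := fun hh => hhP ⟨hh, hMS hhM⟩
      obtain ⟨h', hh'M, w₀, hw₀W, hy⟩ := Cfsg.Agent.S5653.exists_move W M h hhM hhS
      exact (SU_le_TT hF n (by omega) (by omega)).trans
        (TT_le_of_SSu hf M (SSu_univ hf W hW M hPM hMS hm hlt h' hh'M w₀ hw₀W hy))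

end Part2

end Cfsg.Agent.S5654
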