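import Cfsg.Statements.S5656
import Mathlib
import Cfsg.Agent.H9.GLTransvection
import Cfsg.Agent.H9.Decomp

set_option autoImplicit false
open Cfsg

namespace Cfsg.Agent.S5656

open Cfsg.Agent.H9
open scoped MatrixGroups Matrix

section F4
variable {F : Type*} [Field F] [Fintype F] (hF : Fintype.card F = 4)
include hF

theorem two0 : (2 : F) = 0 := by
  have hc : ((Fintype.card F : ℕ) : F) = 0 := FiniteField.cast_card_eq_zero F
  rw [hF] at hc
  have h4 : (4 : F) = 0 := by exact_mod_cast hc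
  have : (2 : F) * 2 = 0 := by linear_combination h4
  exact mul_self_eq_zero.1 this

theorem add_self0 (a : F) : a + a = 0 := by linear_combination a * two0 hF

theorem pow4 (a : F) : a ^ 4 = a := by
  have := FiniteField.pow_card a
  rwa [hF] at this

theorem add_sq2 (a b : F) : (a + b) ^ 2 = a ^ 2 + b ^ 2 := by
  linear_combination (a * b) * two0 hF

theorem cube1 (a : F) (ha : a ≠ 0) : a ^ 3 = 1 := by
  have := FiniteField.pow_card_sub_one_eq_one a ha
  rwa [hF] at this

theorem exists_tr : ∃ w : F, w + w ^ 2 ≠ 0 := by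
  classical
  obtain ⟨w, hw⟩ : ∃ w : F, w ∉ ({0, 1} : Finset F) := by
    by_contra hcon
    push Not at hcon
    have : (Finset.univ : Finset F) ⊆ {0, 1} := fun x _ => hcon x
    have h1 := Finset.card_le_card this
    rw [Finset.card_univ, hF, Finset.card_pair zero_ne_one] at h1
    omega
  simp only [Finset.mem_insert, Finset.mem_singleton, not_or] at hw
  refine ⟨w, ?_⟩
  have : w + w ^ 2 = w * (1 + w) := by ring
  rw [this]
  apply mul_ne_zero hw.1
  intro h
  apply hw.2
  have h2 := add_self0 hF (1 : F)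
  have : w = (1 + w) + 1 - (1 + 1) := by ring
  rw [this, h, h2]; ring

variable (n : ℕ)

local notation "hh" => Cfsg.hermForm n F 2

omit hF [Fintype F] in
theorem h_add_left (x y z : Fin n → F) : hh (x + y) z = hh x z + hh y z := by
  unfold Cfsg.hermForm
  rw [← Finset.sum_add_distrib]
  apply Finset.sum_congr rfl
  intro i _
  rw [Pi.add_apply]; ring

omit hF [Fintype F] in
theorem h_smul_left (a : F) (x z : Fin n → F) : hh (a • x) z = a * hh x z := by
  unfold Cfsg.hermForm
  rw [Finset.mul_sum]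
  apply Finset.sum_congr rfl
  intro i _
  rw [Pi.smul_apply, smul_eq_mul]; ring

theorem h_add_right (x y z : Fin n → F) : hh x (y + z) = hh x y + hh x z := by
  unfold Cfsg.hermForm
  rw [← Finset.sum_add_distrib]
  apply Finset.sum_congr rfl
  intro i _
  rw [Pi.add_apply, add_sq2 hF]; ring

omit hF [Fintype F] in
theorem h_smul_right (a : F) (x z : Fin n → F) : hh x (a • z) = a ^ 2 * hh x z := by
  unfold Cfsg.hermForm
  rw [Finset.mul_sum]
  apply Finset.sum_congr rfl
  intro i _
  rw [Pi.smul_apply, smul_eq_mul]; ring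

theorem h_conj (x y : Fin n → F) : hh y x = (hh x y) ^ 2 := by
  haveI : CharP F 2 := CharTwo.of_one_ne_zero_of_two_eq_zero one_ne_zero (two0 hF)
  unfold Cfsg.hermForm
  rw [sum_pow_char 2]
  apply Finset.sum_congr rfl
  intro i _
  rw [mul_pow, ← pow_mul, pow4 hF, mul_comm]

omit hF [Fintype F] in
theorem h_zero_left (z : Fin n → F) : hh 0 z = 0 := by
  unfold Cfsg.hermForm
  simp

theorem h_zero_right (z : Fin n → F) : hh z 0 = 0 := by
  rw [h_conj hF, h_zero_left]; ring

/-- The functional `x ↦ h(x, u)`. -/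
def hL (u : Fin n → F) : Module.Dual F (Fin n → F) where
  toFun x := hh x u
  map_add' x y := h_add_left n x y u
  map_smul' a x := h_smul_left n a x u

omit hF [Fintype F] in
theorem hL_apply (u x : Fin n → F) : hL n u x = hh x u := rfl

theorem norm01 (x : Fin n → F) : hh x x = 0 ∨ hh x x = 1 := by
  have h1 := h_conj hF n x x
  by_cases h0 : hh x x = 0
  · left; exact h0
  · right
    have : hh x x * (hh x x - 1) = 0 := by rw [mul_sub, mul_one, ← sq, ← h1, sub_self]
    rcases mul_eq_zero.1 this with h | h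
    · exact absurd h h0
    · exact sub_eq_zero.1 h

/-- The unitary transvection `x ↦ x + h(x,u) u` for isotropic `u`. -/
noncomputable def tau (u : Fin n → F) (hu : hh u u = 0) : GL (Fin n) F := tv (hL n u) u hu

omit hF [Fintype F] in
theorem tau_mulVec (u : Fin n → F) (hu : hh u u = 0) (x : Fin n → F) :
    ((tau n u hu : GL (Fin n) F) : Matrix (Fin n) (Fin n) F) *ᵥ x = x + hh x u • u := by
  unfold tau
  exact tv_mulVec (hL n u) u hu x

omit hF [Fintype F] in
theorem mem_GU_iff (g : GL (Fin n) F) : g ∈ Cfsg.GU n F 2 ↔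
    ∀ x y : Fin n → F, hh ((g : Matrix (Fin n) (Fin n) F) *ᵥ x) ((g : Matrix (Fin n) (Fin n) F) *ᵥ y) = hh x y :=
  Iff.rfl

theorem tau_mem_GU (u : Fin n → F) (hu : hh u u = 0) : tau n u hu ∈ Cfsg.GU n F 2 := by
  rw [mem_GU_iff]
  intro x y
  rw [tau_mulVec, tau_mulVec, h_add_left, h_add_right hF, h_add_right hF, h_smul_left, h_smul_left,
    h_smul_right, h_smul_right, hu, h_conj hF n y u]
  linear_combination (hh x u * hh y u ^ 2) * two0 hF

omit hF [Fintype F] in
theorem tau_mem_SL (u : Fin n → F) (hu : hh u u = 0) : tau n u hu ∈ Cfsg.Geo.specialLinear (Fin n) F :=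
  tv_mem_specialLinear _ _ _

theorem tau_tau (u : Fin n → F) (hu : hh u u = 0) (x : Fin n → F) :
    ((tau n u hu : GL (Fin n) F) : Matrix (Fin n) (Fin n) F) *ᵥ
      (((tau n u hu : GL (Fin n) F) : Matrix (Fin n) (Fin n) F) *ᵥ x) = x := by
  rw [tau_mulVec, tau_mulVec, h_add_left, h_smul_left, hu, mul_zero, add_zero, add_assoc, ← add_smul,
    add_self0 hF, zero_smul, add_zero]

theorem exists_frame (W : Submodule F (Fin n → F)) (hW2 : Module.finrank F W = 2)
    (hnd : Cfsg.Geo.IsNondegenerateOn (Cfsg.hermForm n F 2) W) :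
    ∃ v : Fin 2 → (Fin n → F), (∀ k, v k ∈ W) ∧ (∀ k l, hh (v k) (v l) = if k = l then 1 else 0) ∧
      (∀ x ∈ W, x = hh x (v 0) • v 0 + hh x (v 1) • v 1) := by
  have hne : W ≠ ⊥ := by
    intro h
    rw [h, finrank_bot] at hW2
    omega
  obtain ⟨x, hx, hx0⟩ := Submodule.exists_mem_ne_zero_of_ne_bot hne
  obtain ⟨⟨y, hy, hyx⟩, -⟩ := hnd x hx hx0
  have step1 : ∃ v1 ∈ W, hh v1 v1 = 1 := by
    by_cases h1 : hh x x = 0
    · by_cases h2 : hh y y = 0
      · obtain ⟨w, hw⟩ := exists_tr hF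
        refine ⟨(w / hh y x) • y + x, W.add_mem (W.smul_mem _ hy) hx, ?_⟩
        have : hh ((w / hh y x) • y + x) ((w / hh y x) • y + x) = w + w ^ 2 := by
          rw [h_add_left, h_add_right hF, h_add_right hF, h_smul_left, h_smul_left, h_smul_right, h_smul_right,
            h1, h2, h_conj hF n y x]
          field_simp
          ring
        exact (norm01 hF n _).resolve_left (by rw [this]; exact hw)
      · exact ⟨y, hy, (norm01 hF n y).resolve_left h2⟩
    · exact ⟨x, hx, (norm01 hF n x).resolve_left h1⟩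
  obtain ⟨v1, hv1W, hv11⟩ := step1
  have hv10 : v1 ≠ 0 := by
    intro h
    rw [h, h_zero_left] at hv11
    exact zero_ne_one hv11
  obtain ⟨y', hy'W, hy'⟩ : ∃ y' ∈ W, y' ∉ Submodule.span F {v1} := by
    by_contra hcon
    push Not at hcon
    have hle : W ≤ Submodule.span F {v1} := hcon
    have h1 := Submodule.finrank_mono hle
    have h2 := finrank_span_singleton (K := F) hv10
    omega
  obtain ⟨v2, hv2⟩ : ∃ v2, v2 = y' + hh y' v1 • v1 := ⟨_, rfl⟩
  have hv2W : v2 ∈ W := by rw [hv2]; exact W.add_mem hy'W (W.smul_mem _ hv1W)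
  have hv21 : hh v2 v1 = 0 := by
    rw [hv2, h_add_left, h_smul_left, hv11, mul_one, add_self0 hF]
  have hv12 : hh v1 v2 = 0 := by
    rw [h_conj hF n v2 v1, hv21]; ring
  have hv20 : v2 ≠ 0 := by
    intro h
    apply hy'
    have : y' = (- hh y' v1) • v1 := by
      rw [neg_smul]
      exact eq_neg_of_add_eq_zero_left (by rw [← hv2, h])
    rw [this]
    exact Submodule.smul_mem _ _ (Submodule.mem_span_singleton_self v1)
  have hli : LinearIndependent F ![v1, v2] := by
    rw [LinearIndependent.pair_iff]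
    intro a b hab
    have h1 : hh (a • v1 + b • v2) v1 = 0 := by rw [hab, h_zero_left]
    rw [h_add_left, h_smul_left, h_smul_left, hv11, hv21, mul_one, mul_zero, add_zero] at h1
    refine ⟨h1, ?_⟩
    rw [h1, zero_smul, zero_add] at hab
    exact (smul_eq_zero.1 hab).resolve_right hv20
  have hspan : Submodule.span F (Set.range ![v1, v2]) = W := by
    apply Submodule.eq_of_le_of_finrank_eq
    · apply Submodule.span_le.2
      rintro _ ⟨k, rfl⟩
      fin_cases k
      · exact hv1W
      · exact hv2W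
    · rw [finrank_span_eq_card hli, hW2, Fintype.card_fin]
  have hexp : ∀ z ∈ W, ∃ a b : F, z = a • v1 + b • v2 := by
    intro z hz
    rw [← hspan] at hz
    obtain ⟨c, hc⟩ := (Submodule.mem_span_range_iff_exists_fun F).1 hz
    refine ⟨c 0, c 1, ?_⟩
    rw [← hc, Fin.sum_univ_two]
    rfl
  have hv22 : hh v2 v2 = 1 := by
    apply (norm01 hF n v2).resolve_left
    intro h0
    obtain ⟨⟨z, hz, hzv⟩, -⟩ := hnd v2 hv2W hv20
    apply hzv
    obtain ⟨a, b, rfl⟩ := hexp z hz
    rw [h_add_left, h_smul_left, h_smul_left, hv12, h0, mul_zero, mul_zero, add_zero]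
  refine ⟨![v1, v2], ?_, ?_, ?_⟩
  · intro k
    fin_cases k
    · exact hv1W
    · exact hv2W
  · intro k l
    fin_cases k <;> fin_cases l
    · simpa using hv11
    · simpa using hv12
    · simpa using hv21
    · simpa using hv22
  · intro z hz
    obtain ⟨a, b, rfl⟩ := hexp z hz
    simp only [Fin.isValue, Matrix.cons_val_zero, Matrix.cons_val_one]
    rw [h_add_left, h_smul_left, h_smul_left, h_add_left, h_smul_left, h_smul_left, hv11, hv21, hv12, hv22]
    simp

end F4

section main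
variable {F : Type*} [Field F] [Fintype F] (n : ℕ) {t : ℕ} (D : Fin t → Submodule F (Fin n → F))

local notation "hh" => Cfsg.hermForm n F 2

/-- Non-isotropic vectors lying in a member of the decomposition. -/
def N1 (x : Fin n → F) : Prop := hh x x ≠ 0 ∧ ∃ i, x ∈ D i

/-- The intermediate subgroup. -/
def KK : Subgroup (GL (Fin n) F) where
  carrier := {g | g ∈ Cfsg.GU n F 2 ⊓ Cfsg.Geo.specialLinear (Fin n) F ∧
    ∀ x, N1 n D x ↔ N1 n D ((g : Matrix (Fin n) (Fin n) F) *ᵥ x)}
  mul_mem' := by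
    rintro a b ⟨ha, ha'⟩ ⟨hb, hb'⟩
    refine ⟨mul_mem ha hb, fun x => ?_⟩
    rw [Units.val_mul, ← Matrix.mulVec_mulVec, ← ha', ← hb']
  one_mem' := ⟨one_mem _, fun x => by rw [Units.val_one, Matrix.one_mulVec]⟩
  inv_mem' := by
    rintro a ⟨ha, ha'⟩
    refine ⟨inv_mem ha, fun x => ?_⟩
    have := ha' (((a⁻¹ : GL (Fin n) F) : Matrix (Fin n) (Fin n) F) *ᵥ x)
    rw [Cfsg.Agent.H9.Decomp.mulVec_inv_cancel] at this
    exact this.symm

end main

theorem result {F : Type*} [Field F] [Fintype F] (n : ℕ) (hF : Fintype.card F = 4) (hn : 13 ≤ n) {t : ℕ} (D : Fin t → Submodule F (Fin n → F)) (hD : Cfsg.Geo.IsNondegenerateMDecomposition (Cfsg.hermForm n F 2) 2 D) : ∃ K : Subgroup (Matrix.GeneralLinearGroup (Fin n) F), Cfsg.Geo.decompositionStabilizer D ⊓ (Cfsg.GU n F 2 ⊓ Cfsg.Geo.specialLinear (Fin n) F) < K ∧ K < (Cfsg.GU n F 2 ⊓ Cfsg.Geo.specialLinear (Fin n) F) := by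
  classical
  have hfr := fun i => exists_frame hF n (D i) (hD.decomp.finrank_eq i) (hD.nondegenerate i)
  choose v hvD hvv hvexp using hfr
  have hvo : ∀ i k j l, Cfsg.hermForm n F 2 (v i k) (v j l) = if (i = j ∧ k = l) then 1 else 0 := by
    intro i k j l
    by_cases hij : i = j
    · subst hij
      rw [hvv]
      simp
    · rw [hD.orthogonal i j hij _ (hvD i k) _ (hvD j l), if_neg (fun h => hij h.1)]
  have ht := hD.decomp.two_le
  obtain ⟨i0, hi0⟩ : ∃ i0 : Fin t, i0 = ⟨0, by omega⟩ := ⟨_, rfl⟩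
  obtain ⟨i1, hi1⟩ : ∃ i1 : Fin t, i1 = ⟨1, by omega⟩ := ⟨_, rfl⟩
  have h01 : i0 ≠ i1 := by rw [hi0, hi1]; intro h; simp [Fin.ext_iff] at h
  have h10 : i1 ≠ i0 := Ne.symm h01
  have huniq : ∀ x i j, x ∈ D i → x ∈ D j → Cfsg.hermForm n F 2 x x ≠ 0 → i = j := by
    intro x i j hi hj hne
    by_contra hij
    exact hne (hD.orthogonal i j hij x hi x hj)
  have h2 := two0 hF
  have hadd := add_self0 hF
  refine ⟨KK n D, ?_, ?_⟩
  · rw [SetLike.lt_iff_le_and_exists]
    constructor
    · rintro g ⟨⟨σ, hσ⟩, hgU⟩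
      refine ⟨hgU, fun x => ?_⟩
      have hU := (mem_GU_iff n g).1 hgU.1
      unfold N1
      rw [hU x x]
      constructor
      · rintro ⟨hne, i, hi⟩
        exact ⟨hne, σ i, by rw [← hσ i]; exact ⟨x, hi, Matrix.toLin'_apply _ _⟩⟩
      · rintro ⟨hne, j, hj⟩
        refine ⟨hne, σ.symm j, ?_⟩
        have h1 := hσ (σ.symm j)
        rw [Equiv.apply_symm_apply] at h1
        rw [← h1] at hj
        obtain ⟨y, hy, hyx⟩ := hj
        rw [Matrix.toLin'_apply] at hyx
        have : y = x := by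
          have := congrArg (fun z => ((g⁻¹ : GL (Fin n) F) : Matrix (Fin n) (Fin n) F) *ᵥ z) hyx
          simpa only [Cfsg.Agent.H9.Decomp.inv_mulVec_cancel] using this
        rw [← this]; exact hy
    · obtain ⟨u, hu⟩ : ∃ u, u = v i0 0 + v i1 0 := ⟨_, rfl⟩
      have huu : Cfsg.hermForm n F 2 u u = 0 := by
        rw [hu]
        simp only [h_add_left, h_add_right hF, hvo]
        simp [h01, h10, hadd]
      have hg0 : ∀ i k, ((tau n u huu : GL (Fin n) F) : Matrix (Fin n) (Fin n) F) *ᵥ (v i k) =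
          if (i = i0 ∧ k = 0) then v i1 0 else if (i = i1 ∧ k = 0) then v i0 0 else v i k := by
        intro i k
        rw [tau_mulVec, hu, h_add_right hF, hvo, hvo]
        by_cases c1 : i = i0 ∧ k = 0
        · obtain ⟨rfl, rfl⟩ := c1
          rw [if_pos ⟨rfl, rfl⟩, if_neg (fun h => h01 h.1), if_pos ⟨rfl, rfl⟩, add_zero, one_smul, ← add_assoc,
            ← two_smul F, h2, zero_smul, zero_add]
        · by_cases c2 : i = i1 ∧ k = 0
          · obtain ⟨rfl, rfl⟩ := c2
            rw [if_neg c1, if_pos ⟨rfl, rfl⟩, if_neg c1, if_pos ⟨rfl, rfl⟩, zero_add, one_smul, add_comm (v i0 0),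
              ← add_assoc, ← two_smul F, h2, zero_smul, zero_add]
          · rw [if_neg c1, if_neg c2, if_neg c1, if_neg c2, add_zero, zero_smul, add_zero]
      have hg0' : ∀ i k, ∃ i' k', ((tau n u huu : GL (Fin n) F) : Matrix (Fin n) (Fin n) F) *ᵥ (v i k) = v i' k' := by
        intro i k
        rw [hg0]
        split_ifs
        · exact ⟨_, _, rfl⟩
        · exact ⟨_, _, rfl⟩
        · exact ⟨_, _, rfl⟩
      have hU := (mem_GU_iff n _).1 (tau_mem_GU hF n u huu)
      have hfwd : ∀ x, N1 n D x → N1 n D (((tau n u huu : GL (Fin n) F) : Matrix (Fin n) (Fin n) F) *ᵥ x) := by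
        rintro x ⟨hne, i, hi⟩
        refine ⟨by rw [hU]; exact hne, ?_⟩
        have hx := hvexp i x hi
        obtain ⟨a, ha⟩ : ∃ a, a = Cfsg.hermForm n F 2 x (v i 0) := ⟨_, rfl⟩
        obtain ⟨b, hb⟩ : ∃ b, b = Cfsg.hermForm n F 2 x (v i 1) := ⟨_, rfl⟩
        rw [← ha, ← hb] at hx
        have hxx : Cfsg.hermForm n F 2 x x = a ^ 3 + b ^ 3 := by
          conv_lhs => rw [hx]
          rw [h_add_left, h_smul_left, h_smul_left, ← hx, h_conj hF n x (v i 0), h_conj hF n x (v i 1), ← ha, ← hb]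
          ring
        have hab : a = 0 ∨ b = 0 := by
          by_contra hcon
          push Not at hcon
          apply hne
          rw [hxx, cube1 hF a hcon.1, cube1 hF b hcon.2, hadd]
        have hxc : ∃ (c : F) (k : Fin 2), x = c • v i k := by
          rcases hab with h | h
          · exact ⟨b, 1, by rw [hx, h, zero_smul, zero_add]⟩
          · exact ⟨a, 0, by rw [hx, h, zero_smul, add_zero]⟩
        obtain ⟨c, k, rfl⟩ := hxc
        obtain ⟨i', k', hik⟩ := hg0' i k
        exact ⟨i', by rw [Matrix.mulVec_smul, hik]; exact (D i').smul_mem _ (hvD i' k')⟩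
      refine ⟨tau n u huu, ⟨⟨tau_mem_GU hF n u huu, tau_mem_SL n u huu⟩, fun x => ⟨hfwd x, fun h => ?_⟩⟩, ?_⟩
      · have := hfwd _ h
        rwa [tau_tau hF] at this
      · rintro ⟨⟨σ, hσ⟩, -⟩
        have hm1 : ((tau n u huu : GL (Fin n) F) : Matrix (Fin n) (Fin n) F) *ᵥ (v i0 1) ∈ D (σ i0) := by
          rw [← hσ i0]; exact ⟨_, hvD i0 1, Matrix.toLin'_apply _ _⟩
        have hm0 : ((tau n u huu : GL (Fin n) F) : Matrix (Fin n) (Fin n) F) *ᵥ (v i0 0) ∈ D (σ i0) := by
          rw [← hσ i0]; exact ⟨_, hvD i0 0, Matrix.toLin'_apply _ _⟩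
        rw [hg0, if_neg (by rintro ⟨-, h⟩; exact absurd h (by decide)),
          if_neg (by rintro ⟨-, h⟩; exact absurd h (by decide))] at hm1
        rw [hg0, if_pos ⟨rfl, rfl⟩] at hm0
        have e1 := huniq _ _ _ (hvD i0 1) hm1 (by rw [hvv]; simp)
        have e2 := huniq _ _ _ (hvD i1 0) hm0 (by rw [hvv]; simp)
        exact h01 (e1.trans e2.symm)
  · rw [SetLike.lt_iff_le_and_exists]
    refine ⟨fun g hg => hg.1, ?_⟩
    obtain ⟨u, hu⟩ : ∃ u, u = v i0 0 + v i0 1 + v i1 0 + v i1 1 := ⟨_, rfl⟩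
    have huu : Cfsg.hermForm n F 2 u u = 0 := by
      rw [hu]
      simp only [h_add_left, h_add_right hF, hvo]
      simp [h01, h10]
      linear_combination 2 * h2
    refine ⟨tau n u huu, ⟨tau_mem_GU hF n u huu, tau_mem_SL n u huu⟩, ?_⟩
    rintro ⟨-, hK⟩
    have hN : N1 n D (v i0 0) := ⟨by rw [hvv]; simp, i0, hvD i0 0⟩
    obtain ⟨-, j, hj⟩ := (hK _).1 hN
    have hval : Cfsg.hermForm n F 2 (v i0 0) u = 1 := by
      rw [hu]
      simp only [h_add_right hF, hvo]
      simp [h01]
    rw [tau_mulVec, hval, one_smul] at hj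
    have hj0 : j = i0 := by
      by_contra hne
      have := hD.orthogonal j i0 hne _ hj _ (hvD i0 1)
      rw [hu] at this
      simp only [h_add_left, hvo] at this
      simp [h10] at this
    have hj1 : j = i1 := by
      by_contra hne
      have := hD.orthogonal j i1 hne _ hj _ (hvD i1 0)
      rw [hu] at this
      simp only [h_add_left, hvo] at this
      simp [h01] at this
    exact h01 (hj0.symm.trans hj1)

end Cfsg.Agent.S5656
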