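import Cfsg.Statements.S5657
import Cfsg.Agent.H9.SULagF

set_option autoImplicit false
open Cfsg

namespace Cfsg.Agent.S5657

/-- Let F be the field with q² elements and n = 2k ≥ 13. Let D be a decomposition of F^n into two complementary subspaces of dimension k on each of which the standard unitary form vanishes identically. Then the elements of SU_n(q) preserving or interchanging the two subspaces form a maximal subgroup of SU_n(q). -/
theorem result {F : Type*} [Field F] [Fintype F] (n q : ℕ) (hF : Fintype.card F = q ^ 2) (hn : 13 ≤ n) (k : ℕ) (hk : 2 * k = n) (D : Fin 2 → Submodule F (Fin n → F)) (hD : Cfsg.Geo.IsMDecomposition k D) (hts : ∀ i, Cfsg.Geo.IsTotallySingularFor (Cfsg.hermForm n F q) (D i)) : Cfsg.Geo.IsMaximalIn (Cfsg.GU n F q ⊓ Cfsg.Geo.specialLinear (Fin n) F) (Cfsg.Geo.decompositionStabilizer D ⊓ (Cfsg.GU n F q ⊓ Cfsg.Geo.specialLinear (Fin n) F)) := by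
  have hf := Cfsg.Agent.Lib.Helper8.SUGen.herm_unitary hF n
  have hk7 : 7 ≤ k := by omega
  have hSU : Cfsg.GU n F q ⊓ Cfsg.Geo.specialLinear (Fin n) F =
      Cfsg.Agent.Lib.Helper8.SUGen.SUf (Cfsg.hermForm n F q) := rfl
  rw [hSU]
  refine ⟨lt_of_le_of_ne inf_le_right ?_, fun M hHM hMS => ?_⟩
  · intro h
    obtain ⟨g, hgT, hg⟩ := Cfsg.Agent.H9.SULag.exists_notMem_stab hf D hD hts
    have h1 : g ∈ Cfsg.Agent.Lib.Helper8.SUGen.SUf (Cfsg.hermForm n F q) :=
      Cfsg.Agent.Lib.Helper8.SUGen.TT_le_SUf hf hgT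
    rw [← h] at h1
    exact hg h1.1
  · by_cases hMH : M = Cfsg.Geo.decompositionStabilizer D ⊓
        Cfsg.Agent.Lib.Helper8.SUGen.SUf (Cfsg.hermForm n F q)
    · left; exact hMH
    · right
      apply le_antisymm hMS
      rw [Cfsg.Agent.Lib.Helper8.SUGen.SU_eq_TT hF n (by omega) (by omega)]
      exact Cfsg.Agent.H9.SULag.TT_le_of_lt hf D hD hts hk7 M hHM hMS hMH

end Cfsg.Agent.S5657
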