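import Cfsg.Statements.S5659
import Mathlib
import Cfsg.Agent.Lib.Helper4.SubfO11

set_option autoImplicit false
open Cfsg
open scoped commutatorElement

namespace Cfsg.Agent.S5659

open Matrix Cfsg.Agent.S5631 Cfsg.Agent.S5643 Cfsg.Agent.Lib.Helper8.Unitary
  Cfsg.Agent.Lib.Helper8.SUGen Cfsg.Agent.Lib.Helper8.SUMax Cfsg.Agent.Lib.Helper4.Subf
  Cfsg.Agent.Lib.Helper4.SubfO

/-- Let F be the field with q² elements, q odd, n ≥ 13, and F₀ the subfield with q elements. Let P be an invertible matrix such that the standard unitary form takes values in F₀ on the F₀-span of the columns of P (so it restricts to a non-degenerate symmetric bilinear form there). Then the elements of SU_n(q) lying in the subfield group of P form a maximal subgroup of SU_n(q). -/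
theorem result {F : Type*} [Field F] [Fintype F] (n q : ℕ) (hF : Fintype.card F = q ^ 2) (hn : 13 ≤ n) (hodd : Odd q) (F₀ : Subfield F) (hcard : Fintype.card F = Nat.card F₀ ^ 2) (P : Matrix.GeneralLinearGroup (Fin n) F) (hP : Cfsg.Geo.IsFormRationalStructure (Cfsg.hermForm n F q) F₀ 1 P) : Cfsg.Geo.IsMaximalIn (Cfsg.GU n F q ⊓ Cfsg.Geo.specialLinear (Fin n) F) (Cfsg.Geo.subfieldSubgroup F₀ P ⊓ (Cfsg.GU n F q ⊓ Cfsg.Geo.specialLinear (Fin n) F)) := by
  have hf := herm_unitary hF n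
  have hq : Nat.card F₀ = q := by
    have h1 : Nat.card F₀ ^ 2 = q ^ 2 := by rw [← hcard, hF]
    exact Nat.pow_left_injective (by norm_num : 2 ≠ 0) h1
  have hσ : ∀ x, x ∈ F₀ ↔ (frobEquiv hF) x = x := fun x => by
    rw [frobEquiv_apply]; exact mem_subfield_iff_pow F₀ q hq x
  have hf' := pull_unitary P hf
  have hrat' : ∀ a b : Fin n → F₀, pull (hermForm n F q) P (iota F₀ a) (iota F₀ b) ∈ F₀ := by
    intro a b
    have := hP (iota F₀ a) (iota F₀ b) (isRat_iota F₀ a) (isRat_iota F₀ b)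
    rwa [one_mul] at this
  have hoddF : Odd (Fintype.card F) := by rw [hF]; exact hodd.pow
  have C : Ctx F₀ (frobEquiv hF) (pull (hermForm n F q) P) := ⟨hf', hσ, hrat', hoddF, hcard⟩
  have ut_congr : ∀ (u u' : Fin n → F) (hu : hermForm n F q u u = 0)
      (hu' : hermForm n F q u' u' = 0) (z : F), u = u' → ut hf u hu z = ut hf u' hu' z := by
    intro u u' hu hu' z h
    subst h
    rfl
  change Cfsg.Geo.IsMaximalIn (SUf (hermForm n F q))
    (Cfsg.Geo.subfieldSubgroup F₀ P ⊓ SUf (hermForm n F q))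
  refine ⟨lt_of_le_of_ne inf_le_right ?_, ?_⟩
  · intro heq
    obtain ⟨t, ht, ht'⟩ := C.proper (by omega)
    have h1 : P * t * P⁻¹ ∈ SUf (hermForm n F q) := (mem_SUf_pull P t).1 ht
    rw [← heq] at h1
    exact ht' ((mem_subfield_one P F₀ t).2 h1.1)
  · intro M hHM hMS
    by_cases hMH : M ≤ Cfsg.Geo.subfieldSubgroup F₀ P ⊓ SUf (hermForm n F q)
    · left; exact le_antisymm hMH hHM
    · right
      apply le_antisymm hMS
      rw [SetLike.not_le_iff_exists] at hMH
      obtain ⟨g, hgM, hgH⟩ := hMH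
      have hg : g ∉ Cfsg.Geo.subfieldSubgroup F₀ P := fun h => hgH ⟨h, hMS hgM⟩
      set M' : Subgroup (GL (Fin n) F) := M.comap (MulAut.conj P).toMonoidHom with hM'
      have hmemM' : ∀ k, k ∈ M' ↔ P * k * P⁻¹ ∈ M := fun k => Iff.rfl
      have hHM' : Cfsg.Geo.subfieldSubgroup F₀ (1 : GL (Fin n) F) ⊓
          SUf (pull (hermForm n F q) P) ≤ M' := by
        rintro k ⟨h1, h2⟩
        exact (hmemM' k).2 (hHM ⟨(mem_subfield_one P F₀ k).1 h1, (mem_SUf_pull P k).1 h2⟩)
      have hMS' : M' ≤ SUf (pull (hermForm n F q) P) := fun k hk =>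
        (mem_SUf_pull P k).2 (hMS ((hmemM' k).1 hk))
      have hne' : ¬ M' ≤ Cfsg.Geo.subfieldSubgroup F₀ (1 : GL (Fin n) F) := by
        intro hle
        have e : P * (P⁻¹ * g * P) * P⁻¹ = g := by group
        have hk : P⁻¹ * g * P ∈ M' := (hmemM' _).2 (by rw [e]; exact hgM)
        have := (mem_subfield_one P F₀ _).1 (hle hk)
        rw [e] at this
        exact hg this
      have hmain := C.main hn M' hHM' hMS' hne'
      refine (SU_le_TT hF n (by omega) (by omega)).trans (TT_le_of_SSu hf M fun y hy => ?_)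
      have hPy : (P : Matrix (Fin n) (Fin n) F) *ᵥ
          (((P⁻¹ : GL (Fin n) F) : Matrix (Fin n) (Fin n) F) *ᵥ y) = y :=
        Cfsg.Agent.Lib.Helper4.Orth.mulVec_inv_mulVec P y
      have hx : pull (hermForm n F q) P (((P⁻¹ : GL (Fin n) F) : Matrix (Fin n) (Fin n) F) *ᵥ y)
          (((P⁻¹ : GL (Fin n) F) : Matrix (Fin n) (Fin n) F) *ᵥ y) = 0 := by
        rw [pull, hPy]; exact hy
      have hx' : hermForm n F q ((P : Matrix (Fin n) (Fin n) F) *ᵥ
          (((P⁻¹ : GL (Fin n) F) : Matrix (Fin n) (Fin n) F) *ᵥ y))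
          ((P : Matrix (Fin n) (Fin n) F) *ᵥ
          (((P⁻¹ : GL (Fin n) F) : Matrix (Fin n) (Fin n) F) *ᵥ y)) = 0 := by
        rw [hPy]; exact hy
      obtain ⟨hx₀, hxM⟩ := hmain _ hx
      refine ⟨hy, fun z hz => ?_⟩
      have h1 := (hmemM' _).1 (hxM z hz)
      rw [ut_pull P hf _ hx₀ hx' z, ut_congr _ y hx' hy z hPy] at h1
      exact h1

end Cfsg.Agent.S5659
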