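import Cfsg.Statements.S5660
import Mathlib
import Cfsg.Agent.Lib.Helper4.SubfH

set_option autoImplicit false
open Cfsg
open scoped commutatorElement

namespace Cfsg.Agent.S5660

open Matrix Cfsg.Agent.S5631 Cfsg.Agent.S5643 Cfsg.Agent.Lib.Helper8.Unitary
  Cfsg.Agent.Lib.Helper8.SUGen Cfsg.Agent.Lib.Helper8.SUMax Cfsg.Agent.Lib.Helper4.Subf

/-- Let F be the field with q² elements, n ≥ 13 even, and F₀ the subfield with q elements. Let ζ be a non-zero element with ζ + ζ^q = 0 and P an invertible matrix such that ζ times the standard unitary form takes values in F₀ on the F₀-span of the columns of P and the form vanishes on every pair (u, u) of that span (so ζ times the form restricts to a non-degenerate alternating form there). Then the elements of SU_n(q) lying in the subfield group of P form a maximal subgroup of SU_n(q). -/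
theorem result {F : Type*} [Field F] [Fintype F] (n q : ℕ) (hF : Fintype.card F = q ^ 2) (hn : 13 ≤ n) (heven : Even n) (F₀ : Subfield F) (hcard : Fintype.card F = Nat.card F₀ ^ 2) (ζ : F) (hζ0 : ζ ≠ 0) (hζ : ζ + ζ ^ q = 0) (P : Matrix.GeneralLinearGroup (Fin n) F) (hP : Cfsg.Geo.IsFormRationalStructure (Cfsg.hermForm n F q) F₀ ζ P) (halt : ∀ u : Fin n → F, (∀ i, u i ∈ F₀) → Cfsg.hermForm n F q (Matrix.mulVec (P : Matrix (Fin n) (Fin n) F) u) (Matrix.mulVec (P : Matrix (Fin n) (Fin n) F) u) = 0) : Cfsg.Geo.IsMaximalIn (Cfsg.GU n F q ⊓ Cfsg.Geo.specialLinear (Fin n) F) (Cfsg.Geo.subfieldSubgroup F₀ P ⊓ (Cfsg.GU n F q ⊓ Cfsg.Geo.specialLinear (Fin n) F)) := by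
  have hf := herm_unitary hF n
  have hq : Nat.card F₀ = q := by
    have h1 : Nat.card F₀ ^ 2 = q ^ 2 := by rw [← hcard, hF]
    exact Nat.pow_left_injective (by norm_num : 2 ≠ 0) h1
  have hσ : ∀ x, x ∈ F₀ ↔ (frobEquiv hF) x = x := fun x => by
    rw [frobEquiv_apply]; exact mem_subfield_iff_pow F₀ q hq x
  obtain ⟨θ, hθ'⟩ := exists_frob_ne hF
  have hθ : θ ∉ F₀ := fun h => hθ' ((mem_subfield_iff_pow F₀ q hq θ).1 h)
  have hζ' : ζ + (frobEquiv hF) ζ = 0 := hζ
  change Cfsg.Geo.IsMaximalIn (SUf (hermForm n F q))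
    (Cfsg.Geo.subfieldSubgroup F₀ P ⊓ SUf (hermForm n F q))
  refine ⟨lt_of_le_of_ne inf_le_right ?_, ?_⟩
  · intro heq
    obtain ⟨t, ht, ht'⟩ := exists_notMem ζ P hf F₀ hσ hP halt hcard θ hθ hζ0 (by omega)
    rw [← heq] at ht
    exact ht' ht.1
  · intro M hHM hMS
    by_cases hMH : M ≤ Cfsg.Geo.subfieldSubgroup F₀ P ⊓ SUf (hermForm n F q)
    · left; exact le_antisymm hMH hHM
    · right
      apply le_antisymm hMS
      rw [SetLike.not_le_iff_exists] at hMH
      obtain ⟨g, hgM, hgH⟩ := hMH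
      have hg : g ∉ Cfsg.Geo.subfieldSubgroup F₀ P := fun h => hgH ⟨h, hMS hgM⟩
      obtain ⟨a₁, b₁, ha₁, hb₁, hI₁, hS₁⟩ :=
        exists_nonrat ζ P hf F₀ hσ hP halt hcard θ hθ hζ0 hζ' M hHM hMS (by omega) g hgM hg
      exact (SU_le_TT hF n (by omega) (by omega)).trans
        (TT_le_of_SSu hf M
          (SSu_univ ζ P hf F₀ hσ hP halt hcard θ hθ hζ0 hζ' M hHM hMS ha₁ hb₁ hI₁ hS₁))

end Cfsg.Agent.S5660
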