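import Cfsg.Statements.S5671
import Mathlib
import Cfsg.Agent.H9.Herm4
import Cfsg.Agent.H9.Decomp
import Cfsg.Agent.S5656

set_option autoImplicit false
open Cfsg

namespace Cfsg.Agent.S5671

open Cfsg.Agent.H9 Cfsg.Agent.H9.Herm4
open scoped MatrixGroups Matrix Kronecker

section gram
variable {F : Type*} [Field F] [Fintype F] (hF : Fintype.card F = 4)
  {κ : Type} [Fintype κ] [DecidableEq κ]

/-- `x ↦ f x v` as a linear map. -/
def linOf {f : (κ → F) → (κ → F) → F} (hf : IsH f) (v : κ → F) : (κ → F) →ₗ[F] F where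
  toFun x := f x v
  map_add' x y := hf.add_left x y v
  map_smul' c x := hf.smul_left c x v

omit [Fintype F] [Fintype κ] [DecidableEq κ] in
theorem linOf_apply {f : (κ → F) → (κ → F) → F} (hf : IsH f) (v x : κ → F) : linOf hf v x = f x v := rfl

omit [Fintype F] in
theorem form_expand_left {f : (κ → F) → (κ → F) → F} (hf : IsH f) (u v : κ → F) :
    f u v = ∑ a, u a * f (Pi.single a 1) v := by
  rw [← linOf_apply hf v u, LinearMap.pi_apply_eq_sum_univ (linOf hf v) u]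
  apply Finset.sum_congr rfl
  intro a _
  rw [smul_eq_mul, linOf_apply]
  congr 2
  funext j
  rw [Pi.single_apply]
  simp [eq_comm]

include hF in
theorem form_eq_gram {f : (κ → F) → (κ → F) → F} (hf : IsH f) (u v : κ → F) :
    f u v = Cfsg.Geo.formOfGram (fun x : F => x ^ 2) (Cfsg.Geo.gramMatrix f) u v := by
  have : CharP F 2 := CharTwo.of_one_ne_zero_of_two_eq_zero one_ne_zero (two0 hF)
  unfold Cfsg.Geo.formOfGram Cfsg.Geo.gramMatrix
  rw [form_expand_left hf u v]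
  apply Finset.sum_congr rfl
  intro a _
  rw [hf.herm, form_expand_left hf v, sum_pow_char 2, Finset.mul_sum]
  apply Finset.sum_congr rfl
  intro b _
  rw [mul_pow, ← hf.herm]
  ring

end gram

section tensor
variable {F : Type*} [Field F] {n₂ : ℕ}

/-- Pure tensors in coordinates. -/
def ptens (u : Fin 2 → F) (s : Fin n₂ → F) : Fin 2 × Fin n₂ → F := fun p => u p.1 * s p.2

theorem ptens_add_right (u : Fin 2 → F) (s r : Fin n₂ → F) : ptens u (s + r) = ptens u s + ptens u r := by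
  funext p; simp only [ptens, Pi.add_apply]; ring

theorem ptens_add_left (u v : Fin 2 → F) (s : Fin n₂ → F) : ptens (u + v) s = ptens u s + ptens v s := by
  funext p; simp only [ptens, Pi.add_apply]; ring

theorem ptens_smul_right (c : F) (u : Fin 2 → F) (s : Fin n₂ → F) : ptens u (c • s) = c • ptens u s := by
  funext p; simp only [ptens, Pi.smul_apply, smul_eq_mul]; ring

theorem ptens_smul_left (c : F) (u : Fin 2 → F) (s : Fin n₂ → F) : ptens (c • u) s = c • ptens u s := by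
  funext p; simp only [ptens, Pi.smul_apply, smul_eq_mul]; ring

theorem kron_mulVec_ptens (a : Matrix (Fin 2) (Fin 2) F) (b : Matrix (Fin n₂) (Fin n₂) F)
    (u : Fin 2 → F) (s : Fin n₂ → F) : (a ⊗ₖ b) *ᵥ ptens u s = ptens (a *ᵥ u) (b *ᵥ s) := by
  funext ⟨i, j⟩
  simp only [Matrix.mulVec, dotProduct, ptens, Matrix.kroneckerMap_apply, Fintype.sum_prod_type]
  rw [Finset.sum_mul_sum]
  apply Finset.sum_congr rfl
  intro k _
  apply Finset.sum_congr rfl
  intro l _
  ring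

theorem gram_ptens (G₁ : Matrix (Fin 2) (Fin 2) F) (G₂ : Matrix (Fin n₂) (Fin n₂) F)
    (u v : Fin 2 → F) (s r : Fin n₂ → F) :
    Cfsg.Geo.formOfGram (fun x : F => x ^ 2) (G₁ ⊗ₖ G₂) (ptens u s) (ptens v r) =
      Cfsg.Geo.formOfGram (fun x : F => x ^ 2) G₁ u v * Cfsg.Geo.formOfGram (fun x : F => x ^ 2) G₂ s r := by
  unfold Cfsg.Geo.formOfGram
  simp only [ptens, Matrix.kroneckerMap_apply, Fintype.sum_prod_type]
  rw [Finset.sum_mul_sum]
  apply Finset.sum_congr rfl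
  intro i _
  rw [Finset.sum_comm]
  simp_rw [Finset.sum_mul_sum]
  rw [Finset.sum_comm]
  apply Finset.sum_congr rfl
  intro j _
  apply Finset.sum_congr rfl
  intro k _
  apply Finset.sum_congr rfl
  intro l _
  ring

end tensor

section transport
variable {F : Type*} [Field F] {n n₂ : ℕ} (e : Fin n ≃ Fin 2 × Fin n₂) (P : GL (Fin n) F)

/-- The coordinate change. -/
def Psi (x : Fin 2 × Fin n₂ → F) : Fin n → F := (P : Matrix (Fin n) (Fin n) F) *ᵥ (x ∘ e)

theorem Psi_add (x y : Fin 2 × Fin n₂ → F) : Psi e P (x + y) = Psi e P x + Psi e P y := by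
  unfold Psi
  rw [show (x + y) ∘ e = x ∘ e + y ∘ e from rfl, Matrix.mulVec_add]

theorem Psi_smul (c : F) (x : Fin 2 × Fin n₂ → F) : Psi e P (c • x) = c • Psi e P x := by
  unfold Psi
  rw [show (c • x) ∘ e = c • (x ∘ e) from rfl, Matrix.mulVec_smul]

theorem Psi_injective : Function.Injective (Psi e P) := by
  intro x y h
  unfold Psi at h
  have h1 := congrArg (fun z => ((P⁻¹ : GL (Fin n) F) : Matrix (Fin n) (Fin n) F) *ᵥ z) h
  simp only [Cfsg.Agent.H9.Decomp.inv_mulVec_cancel] at h1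
  funext p
  have h2 := congrFun h1 (e.symm p)
  simpa using h2

theorem mem_tensor (g : GL (Fin n) F) (hg : g ∈ Cfsg.Geo.tensorProductSubgroup 2 n₂ e P) :
    ∃ (a : GL (Fin 2) F) (b : GL (Fin n₂) F), ∀ x, (g : Matrix (Fin n) (Fin n) F) *ᵥ Psi e P x =
      Psi e P (((a : Matrix (Fin 2) (Fin 2) F) ⊗ₖ (b : Matrix (Fin n₂) (Fin n₂) F)) *ᵥ x) := by
  unfold Cfsg.Geo.tensorProductSubgroup at hg
  obtain ⟨k, ⟨k₀, ⟨a, b, hab⟩, rfl⟩, rfl⟩ := hg
  refine ⟨a, b, fun x => ?_⟩
  unfold Psi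
  have hR : ((Cfsg.Geo.glReindex e.symm k₀ : GL (Fin n) F) : Matrix (Fin n) (Fin n) F) =
      (k₀ : Matrix (Fin 2 × Fin n₂) (Fin 2 × Fin n₂) F).submatrix e e := by
    unfold Cfsg.Geo.glReindex
    rfl
  simp only [MulEquiv.coe_toMonoidHom, MulAut.conj_apply, Units.val_mul]
  rw [hR, ← Matrix.mulVec_mulVec, ← Matrix.mulVec_mulVec, Cfsg.Agent.H9.Decomp.inv_mulVec_cancel,
    Matrix.submatrix_mulVec_equiv, hab]
  have : (x ∘ ⇑e) ∘ ⇑e.symm = x := by
    funext p
    simp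
  rw [this]

end transport

section isotropic
variable {F : Type*} [Field F] [Fintype F] (hF : Fintype.card F = 4) {n₂ : ℕ}
include hF

/-- An isotropic vector, in dimension at least two. -/
theorem exists_isotropic (f : (Fin n₂ → F) → (Fin n₂ → F) → F) (hf : IsH f) (h2 : 2 ≤ n₂) :
    ∃ s : Fin n₂ → F, s ≠ 0 ∧ f s s = 0 := by
  by_contra hcon
  push Not at hcon
  have hnorm : ∀ s : Fin n₂ → F, s ≠ 0 → f s s = 1 := fun s hs => (hf.norm01 hF s).resolve_left (hcon s hs)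
  obtain ⟨e0, he0⟩ : ∃ e0 : Fin n₂ → F, e0 = Pi.single ⟨0, by omega⟩ 1 := ⟨_, rfl⟩
  obtain ⟨e1, he1⟩ : ∃ e1 : Fin n₂ → F, e1 = Pi.single ⟨1, by omega⟩ 1 := ⟨_, rfl⟩
  have hne : ∀ c : F, e0 + c • e1 ≠ 0 := by
    intro c h
    have := congrFun h ⟨0, by omega⟩
    rw [he0, he1] at this
    simp [Pi.single_apply, Fin.ext_iff] at this
  have h00 : f e0 e0 = 1 := by
    have := hnorm _ (hne 0)
    rwa [zero_smul, add_zero] at this
  have h11 : f e1 e1 = 1 := by
    apply hnorm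
    intro h
    have := congrFun h ⟨1, by omega⟩
    rw [he1] at this
    simp at this
  have key : ∀ c : F, f (e0 + c • e1) (e0 + c • e1) = 1 + c ^ 2 * f e0 e1 + c * (f e0 e1) ^ 2 + c ^ 3 := by
    intro c
    rw [hf.add_left, hf.add_right hF, hf.add_right hF, hf.smul_left, hf.smul_left, hf.smul_right, hf.smul_right,
      h00, h11, hf.herm e1 e0]
    ring
  by_cases ht : f e0 e1 = 0
  · have h1 := hnorm _ (hne 1)
    rw [key, ht] at h1
    have : (1 : F) + 1 = 0 := add_self0 hF 1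
    have h3 : (1 : F) + 1 ^ 2 * 0 + 1 * 0 ^ 2 + 1 ^ 3 = 1 + 1 := by ring
    rw [h3, this] at h1
    exact zero_ne_one h1
  · have h1 := hnorm _ (hne (f e0 e1))
    rw [key] at h1
    have h3 : (1 : F) + f e0 e1 ^ 2 * f e0 e1 + f e0 e1 * f e0 e1 ^ 2 + f e0 e1 ^ 3 = 1 + 3 * f e0 e1 ^ 3 := by ring
    rw [h3, cube1 hF _ ht] at h1
    have : (1 : F) + 3 * 1 = 2 * 2 := by ring
    rw [this, two0 hF, zero_mul] at h1
    exact zero_ne_one h1

end isotropic

section setup
variable {F : Type*} [Field F] {n n₂ : ℕ}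
  (e : Fin n ≃ Fin 2 × Fin n₂) (P : GL (Fin n) F)
  (f₁ : (Fin 2 → F) → (Fin 2 → F) → F) (w : Fin 2 → (Fin 2 → F))

/-- The embedding of the `l`-th summand. -/
def emb (l : Fin 2) : (Fin n₂ → F) →ₗ[F] (Fin n → F) where
  toFun s := Psi e P (ptens (w l) s)
  map_add' s r := by rw [ptens_add_right, Psi_add]
  map_smul' c s := by rw [ptens_smul_right, Psi_smul]; rfl

theorem emb_apply (l : Fin 2) (s : Fin n₂ → F) : emb e P w l s = Psi e P (ptens (w l) s) := rfl

/-- The two summands. -/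
def DD (l : Fin 2) : Submodule F (Fin n → F) := LinearMap.range (emb e P w l)

/-- Contraction against the `l`-th frame vector. -/
def CC (l : Fin 2) (x : Fin 2 × Fin n₂ → F) : Fin n₂ → F := fun j => f₁ (fun k => x (k, j)) (w l)

theorem CC_ptens (hf : IsH f₁) (l : Fin 2) (u : Fin 2 → F) (s : Fin n₂ → F) :
    CC f₁ w l (ptens u s) = f₁ u (w l) • s := by
  funext j
  unfold CC ptens
  have : (fun k => u k * s j) = s j • u := by
    funext k
    simp [mul_comm]
  simp only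
  rw [this, hf.smul_left, Pi.smul_apply, smul_eq_mul, mul_comm]

theorem CC_add (hf : IsH f₁) (l : Fin 2) (x y : Fin 2 × Fin n₂ → F) :
    CC f₁ w l (x + y) = CC f₁ w l x + CC f₁ w l y := by
  funext j
  unfold CC
  have : (fun k => (x + y) (k, j)) = (fun k => x (k, j)) + (fun k => y (k, j)) := rfl
  rw [this, hf.add_left]
  rfl

end setup

open Cfsg.Agent.S5656 in
theorem result {F : Type*} [Field F] [Fintype F] (n : ℕ) (hF : Fintype.card F = 4) (hn : 13 ≤ n) (n₂ : ℕ) (e : Fin n ≃ Fin 2 × Fin n₂) (P : Matrix.GeneralLinearGroup (Fin n) F) (f₁ : (Fin 2 → F) → (Fin 2 → F) → F) (f₂ : (Fin n₂ → F) → (Fin n₂ → F) → F) (hf₁ : Cfsg.Geo.IsUnitaryFormPow 2 f₁) (hf₂ : Cfsg.Geo.IsUnitaryFormPow 2 f₂) (hT : Cfsg.Geo.IsTensorFormStructure (fun x : F => x ^ 2) (Cfsg.hermForm n F 2) f₁ f₂ e P) : ∃ K : Subgroup (Matrix.GeneralLinearGroup (Fin n) F), Cfsg.Geo.tensorProductSubgroup 2 n₂ e P ⊓ (Cfsg.GU n F 2 ⊓ Cfsg.Geo.specialLinear (Fin n) F) < K ∧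 K < (Cfsg.GU n F 2 ⊓ Cfsg.Geo.specialLinear (Fin n) F) := by
  classical
  have hf₁' : IsH f₁ := ⟨hf₁.add_left, hf₁.smul_left, hf₁.herm⟩
  have hf₂' : IsH f₂ := ⟨hf₂.add_left, hf₂.smul_left, hf₂.herm⟩
  obtain ⟨c, hc, hform⟩ := hT
  have hn₂ : n = 2 * n₂ := by
    have := Fintype.card_congr e
    simpa using this
  have h2 := Herm4.two0 hF
  have hadd := Herm4.add_self0 hF
  have star : ∀ u v s r, Cfsg.hermForm n F 2 (Psi e P (ptens u s)) (Psi e P (ptens v r)) =
      c * (f₁ u v * f₂ s r) := by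
    intro u v s r
    have := hform (ptens u s) (ptens v r)
    rw [gram_ptens, ← form_eq_gram hF hf₁', ← form_eq_gram hF hf₂'] at this
    exact this
  obtain ⟨w, -, hw, hwexp⟩ := hf₁'.exists_frame hF ⊤
    (by rw [finrank_top, Module.finrank_fintype_fun_eq_card, Fintype.card_fin])
    (fun v _ hv => by
      obtain ⟨⟨x, hx⟩, -⟩ := hf₁.nondegenerate v hv
      exact ⟨x, trivial, hx⟩)
  have hwexp' : ∀ u, u = f₁ u (w 0) • w 0 + f₁ u (w 1) • w 1 := fun u => hwexp u trivial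
  have hw00 : f₁ (w 0) (w 0) = 1 := by rw [hw]; simp
  have hw11 : f₁ (w 1) (w 1) = 1 := by rw [hw]; simp
  have hw01 : f₁ (w 0) (w 1) = 0 := by rw [hw]; simp
  have hw10 : f₁ (w 1) (w 0) = 0 := by rw [hw]; simp
  have hclass : ∀ u, f₁ u u ≠ 0 → ∃ (d : F) (k : Fin 2), d ≠ 0 ∧ u = d • w k := by
    intro u hne
    have hx := hwexp' u
    obtain ⟨a, ha⟩ : ∃ a, a = f₁ u (w 0) := ⟨_, rfl⟩
    obtain ⟨b, hb⟩ : ∃ b, b = f₁ u (w 1) := ⟨_, rfl⟩
    rw [← ha, ← hb] at hx
    have hxx : f₁ u u = a ^ 3 + b ^ 3 := by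
      conv_lhs => rw [hx]
      rw [hf₁'.add_left, hf₁'.smul_left, hf₁'.smul_left, ← hx, hf₁'.herm (w 0) u, hf₁'.herm (w 1) u, ← ha, ← hb]
      ring
    have hab : a = 0 ∨ b = 0 := by
      by_contra hcon
      push Not at hcon
      apply hne
      rw [hxx, Herm4.cube1 hF a hcon.1, Herm4.cube1 hF b hcon.2, hadd]
    have hu0 : u ≠ 0 := by
      intro h
      apply hne
      rw [h, hf₁'.zero_left]
    rcases hab with h | h
    · refine ⟨b, 1, ?_, by rw [hx, h, zero_smul, zero_add]⟩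
      intro hb0
      apply hu0
      rw [hx, h, hb0, zero_smul, zero_smul, add_zero]
    · refine ⟨a, 0, ?_, by rw [hx, h, zero_smul, add_zero]⟩
      intro ha0
      apply hu0
      rw [hx, h, ha0, zero_smul, zero_smul, add_zero]
  obtain ⟨s₀, hs₀, hs₀0⟩ := exists_isotropic hF f₂ hf₂' (by omega : 2 ≤ n₂)
  obtain ⟨⟨s, hs⟩, -⟩ := hf₂.nondegenerate s₀ hs₀
  have hs0 : s ≠ 0 := by
    intro h
    apply hs
    rw [h, hf₂'.zero_left]
  obtain ⟨μ, hμ⟩ : ∃ μ, μ = c * f₂ s s₀ := ⟨_, rfl⟩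
  have hμ0 : μ ≠ 0 := by rw [hμ]; exact mul_ne_zero hc hs
  have hCC0 : ∀ r r' : Fin n₂ → F, CC f₁ w 0 (ptens (w 0) r + ptens (w 1) r') = r := by
    intro r r'
    rw [CC_add f₁ w hf₁', CC_ptens f₁ w hf₁', CC_ptens f₁ w hf₁', hw00, hw10, one_smul, zero_smul, add_zero]
  have hCC1 : ∀ r r' : Fin n₂ → F, CC f₁ w 1 (ptens (w 0) r + ptens (w 1) r') = r' := by
    intro r r'
    rw [CC_add f₁ w hf₁', CC_ptens f₁ w hf₁', CC_ptens f₁ w hf₁', hw01, hw11, one_smul, zero_smul, zero_add]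
  refine ⟨Cfsg.Geo.decompositionStabilizer (DD e P w) ⊓ (Cfsg.GU n F 2 ⊓ Cfsg.Geo.specialLinear (Fin n) F), ?_, ?_⟩
  · rw [SetLike.lt_iff_le_and_exists]
    constructor
    · rintro g ⟨hgT, hgU⟩
      refine ⟨?_, hgU⟩
      obtain ⟨a, b, hab⟩ := mem_tensor e P g hgT
      have hU := (mem_GU_iff n g).1 hgU.1
      have hpt : ∀ u r, (g : Matrix (Fin n) (Fin n) F) *ᵥ Psi e P (ptens u r) =
          Psi e P (ptens ((a : Matrix (Fin 2) (Fin 2) F) *ᵥ u) ((b : Matrix (Fin n₂) (Fin n₂) F) *ᵥ r)) := by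
        intro u r
        rw [hab, kron_mulVec_ptens]
      have sim : ∀ u v r r', f₁ ((a : Matrix (Fin 2) (Fin 2) F) *ᵥ u) ((a : Matrix (Fin 2) (Fin 2) F) *ᵥ v) *
          f₂ ((b : Matrix (Fin n₂) (Fin n₂) F) *ᵥ r) ((b : Matrix (Fin n₂) (Fin n₂) F) *ᵥ r') = f₁ u v * f₂ r r' := by
        intro u v r r'
        have := hU (Psi e P (ptens u r)) (Psi e P (ptens v r'))
        rw [hpt, hpt, star, star] at this
        exact mul_left_cancel₀ hc this
      obtain ⟨lam, hlam⟩ : ∃ lam, lam = f₂ ((b : Matrix (Fin n₂) (Fin n₂) F) *ᵥ s) ((b : Matrix (Fin n₂) (Fin n₂) F) *ᵥ s₀) :=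
        ⟨_, rfl⟩
      have hlam0 : lam ≠ 0 := by
        intro h
        have := sim (w 0) (w 0) s s₀
        rw [← hlam, h, mul_zero, hw00, one_mul] at this
        exact hs this.symm
      have hnon : ∀ l, f₁ ((a : Matrix (Fin 2) (Fin 2) F) *ᵥ w l) ((a : Matrix (Fin 2) (Fin 2) F) *ᵥ w l) ≠ 0 := by
        intro l h
        have := sim (w l) (w l) s s₀
        rw [h, zero_mul, hw, if_pos rfl, one_mul] at this
        exact hs this.symm
      have horth : f₁ ((a : Matrix (Fin 2) (Fin 2) F) *ᵥ w 0) ((a : Matrix (Fin 2) (Fin 2) F) *ᵥ w 1) = 0 := by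
        have := sim (w 0) (w 1) s s₀
        rw [← hlam, hw01, zero_mul] at this
        exact (mul_eq_zero.1 this).resolve_right hlam0
      have hch := fun l => hclass _ (hnon l)
      choose dd π hd hπ using hch
      have hπ01 : π 0 ≠ π 1 := by
        intro h
        apply mul_ne_zero (hd 0) (pow_ne_zero 2 (hd 1))
        rw [hπ 0, hπ 1, h, hf₁'.smul_left, hf₁'.smul_right, hw, if_pos rfl, mul_one] at horth
        exact horth
      have hinj : Function.Injective π := by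
        intro l l' h
        fin_cases l <;> fin_cases l'
        · rfl
        · exact absurd h hπ01
        · exact absurd h.symm hπ01
        · rfl
      refine ⟨Equiv.ofBijective π ⟨hinj, Finite.surjective_of_injective hinj⟩, fun l => ?_⟩
      change Submodule.map (Matrix.toLin' (g : Matrix (Fin n) (Fin n) F)) (DD e P w l) = DD e P w (π l)
      apply le_antisymm
      · rintro _ ⟨y, ⟨r, rfl⟩, rfl⟩
        rw [Matrix.toLin'_apply, emb_apply, hpt, hπ l, ptens_smul_left, Psi_smul]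
        exact (DD e P w (π l)).smul_mem _ ⟨_, rfl⟩
      · rintro _ ⟨r, rfl⟩
        refine ⟨emb e P w l ((dd l)⁻¹ • (((b⁻¹ : GL (Fin n₂) F) : Matrix (Fin n₂) (Fin n₂) F) *ᵥ r)), ⟨_, rfl⟩, ?_⟩
        rw [Matrix.toLin'_apply, emb_apply, hpt, hπ l, Matrix.mulVec_smul, Cfsg.Agent.H9.Decomp.mulVec_inv_cancel,
          ptens_smul_left, ptens_smul_right, smul_smul, mul_inv_cancel₀ (hd l), one_smul, emb_apply]
    · -- an element of K outside the tensor group
      obtain ⟨u, hu⟩ : ∃ u, u = Psi e P (ptens (w 1) s₀) := ⟨_, rfl⟩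
      have huu : Cfsg.hermForm n F 2 u u = 0 := by
        rw [hu, star, hs₀0, mul_zero, mul_zero]
      have hfwd : ∀ l y, y ∈ DD e P w l →
          ((tau n u huu : GL (Fin n) F) : Matrix (Fin n) (Fin n) F) *ᵥ y ∈ DD e P w l := by
        rintro l _ ⟨r, rfl⟩
        rw [tau_mulVec, emb_apply, hu, star, hw]
        fin_cases l
        · simp only [Fin.zero_eta, Fin.isValue, zero_ne_one, if_false, zero_mul, mul_zero, zero_smul, add_zero]
          exact ⟨r, rfl⟩
        · exact (DD e P w 1).add_mem ⟨r, rfl⟩ ((DD e P w 1).smul_mem _ ⟨s₀, rfl⟩)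
      refine ⟨tau n u huu, ⟨⟨1, fun l => ?_⟩, tau_mem_GU hF n u huu, tau_mem_SL n u huu⟩, ?_⟩
      · rw [Equiv.Perm.one_apply]
        apply le_antisymm
        · rintro _ ⟨y, hy, rfl⟩
          rw [Matrix.toLin'_apply]
          exact hfwd l y hy
        · intro y hy
          refine ⟨_, hfwd l y hy, ?_⟩
          rw [Matrix.toLin'_apply, tau_tau hF]
      · rintro ⟨hT', -⟩
        obtain ⟨a, b, hab⟩ := mem_tensor e P _ hT'
        have h1 := hab (ptens (w 0 + w 1) s)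
        rw [kron_mulVec_ptens, tau_mulVec, hu, star, hf₁'.add_left, hw01, hw11, zero_add, one_mul, ← hμ,
          ← Psi_smul, ← Psi_add] at h1
        have h2' := Psi_injective e P h1
        have h3 : ptens (w 0 + w 1) s + μ • ptens (w 1) s₀ = ptens (w 0) s + ptens (w 1) (s + μ • s₀) := by
          rw [ptens_add_left, ptens_add_right, ptens_smul_right, add_assoc]
        rw [h3] at h2'
        have e0 := congrArg (CC f₁ w 0) h2'
        have e1 := congrArg (CC f₁ w 1) h2'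
        rw [hCC0, CC_ptens f₁ w hf₁'] at e0
        rw [hCC1, CC_ptens f₁ w hf₁'] at e1
        obtain ⟨α, hα⟩ : ∃ α, α = f₁ ((a : Matrix (Fin 2) (Fin 2) F) *ᵥ (w 0 + w 1)) (w 0) := ⟨_, rfl⟩
        obtain ⟨β, hβ⟩ : ∃ β, β = f₁ ((a : Matrix (Fin 2) (Fin 2) F) *ᵥ (w 0 + w 1)) (w 1) := ⟨_, rfl⟩
        obtain ⟨s'', hs''⟩ : ∃ s'', s'' = (b : Matrix (Fin n₂) (Fin n₂) F) *ᵥ s := ⟨_, rfl⟩
        rw [← hα, ← hs''] at e0
        rw [← hβ, ← hs''] at e1
        have hα0 : α ≠ 0 := by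
          intro h
          rw [h, zero_smul] at e0
          exact hs0 e0
        have hs''' : s'' = α⁻¹ • s := by
          rw [e0, smul_smul, inv_mul_cancel₀ hα0, one_smul]
        have hs₀' : s₀ = (μ⁻¹ * (β * α⁻¹ - 1)) • s := by
          have : μ • s₀ = (β * α⁻¹ - 1) • s := by
            rw [sub_smul, one_smul, mul_smul, ← hs''', ← e1]
            abel
          rw [mul_smul, ← this, smul_smul, inv_mul_cancel₀ hμ0, one_smul]
        obtain ⟨ν, hν⟩ : ∃ ν, ν = μ⁻¹ * (β * α⁻¹ - 1) := ⟨_, rfl⟩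
        rw [← hν] at hs₀'
        have hν0 : ν ≠ 0 := by
          intro h
          rw [h, zero_smul] at hs₀'
          exact hs₀ hs₀'
        have hss : f₂ s s = 0 := by
          have := hs₀0
          rw [hs₀', hf₂'.smul_left, hf₂'.smul_right] at this
          rcases mul_eq_zero.1 this with h | h
          · exact absurd h hν0
          · rcases mul_eq_zero.1 h with h | h
            · exact absurd h (pow_ne_zero 2 hν0)
            · exact h
        apply hs
        rw [hs₀', hf₂'.smul_right, hss, mul_zero]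
  · rw [SetLike.lt_iff_le_and_exists]
    refine ⟨inf_le_right, ?_⟩
    obtain ⟨u, hu⟩ : ∃ u, u = Psi e P (ptens (w 0 + w 1) s₀) := ⟨_, rfl⟩
    have huu : Cfsg.hermForm n F 2 u u = 0 := by
      rw [hu, star, hs₀0, mul_zero, mul_zero]
    refine ⟨tau n u huu, ⟨tau_mem_GU hF n u huu, tau_mem_SL n u huu⟩, ?_⟩
    rintro ⟨⟨σ, hσ⟩, -⟩
    have hmem : ((tau n u huu : GL (Fin n) F) : Matrix (Fin n) (Fin n) F) *ᵥ (emb e P w 0 s) ∈ DD e P w (σ 0) := by
      rw [← hσ 0]
      exact ⟨_, ⟨s, rfl⟩, Matrix.toLin'_apply _ _⟩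
    obtain ⟨r, hr⟩ := hmem
    rw [tau_mulVec, emb_apply, emb_apply, hu, star, hf₁'.add_right hF, hw00, hw01, add_zero, one_mul, ← hμ,
      ← Psi_smul, ← Psi_add] at hr
    have h2' := Psi_injective e P hr
    have h3 : ptens (w 0) s + μ • ptens (w 0 + w 1) s₀ = ptens (w 0) (s + μ • s₀) + ptens (w 1) (μ • s₀) := by
      rw [ptens_add_left, ptens_add_right, ptens_smul_right, ptens_smul_right, smul_add, add_assoc]
    rw [h3] at h2'
    have e0 := congrArg (CC f₁ w 0) h2'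
    have e1 := congrArg (CC f₁ w 1) h2'
    rw [hCC0, CC_ptens f₁ w hf₁', hw] at e0
    rw [hCC1, CC_ptens f₁ w hf₁', hw] at e1
    by_cases hσ0 : σ 0 = 0
    · rw [if_neg (by rw [hσ0]; exact zero_ne_one), zero_smul] at e1
      rcases smul_eq_zero.1 e1.symm with h | h
      · exact hμ0 h
      · exact hs₀ h
    · have hσ1 : σ 0 = 1 := by
        have h01 : ∀ k : Fin 2, k ≠ 0 → k = 1 := by
          intro k hk
          fin_cases k
          · exact absurd rfl hk
          · rfl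
        exact h01 _ hσ0
      rw [if_neg (by rw [hσ1]; exact one_ne_zero), zero_smul] at e0
      apply hs
      have : s = - (μ • s₀) := eq_neg_of_add_eq_zero_left e0.symm
      rw [this, ← neg_smul, hf₂'.smul_left, hs₀0, mul_zero]

end Cfsg.Agent.S5671
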