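import Cfsg.Statements.S5675
import Mathlib
import Cfsg.Agent.H9.OrthU
import Cfsg.Agent.H9.OrthK

set_option autoImplicit false
open Cfsg

namespace Cfsg.Agent.S5675

/-- Let F be a finite field of odd order q, m ≥ 6, Q the standard quadratic form on F^(2m+1) and Ω the commutator subgroup of its isometry group. Let W be a non-zero subspace of even dimension on which the polar form of Q is non-degenerate; exclude the case q = 3, dim W = 2 with Q vanishing on some line of W (a plus-type plane). Then the elements of Ω stabilising W (equivalently, stabilising its orthogonal complement, of odd dimension) form a maximal subgroup of Ω. -/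
theorem result {F : Type*} [Field F] [Fintype F] (hodd : Odd (Fintype.card F)) (m : ℕ) (hm : 6 ≤ m) (W : Submodule F (Unit ⊕ (Fin m ⊕ Fin m) → F)) (hW0 : W ≠ ⊥) (hev : Even (Module.finrank F W)) (hW : Cfsg.Geo.IsNondegenerateOn (QuadraticMap.polar (Cfsg.quadFormOdd m F)) W) (hex : ¬ (Fintype.card F = 3 ∧ Module.finrank F W = 2 ∧ Cfsg.Geo.IsPlusTypeOn (Cfsg.quadFormOdd m F) W)) : Cfsg.Geo.IsMaximalIn (Cfsg.Geo.omegaGL (Cfsg.quadFormOdd m F)) (Cfsg.Geo.subspaceStabilizer W ⊓ Cfsg.Geo.omegaGL (Cfsg.quadFormOdd m F)) := by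
  classical
  have h2 : (2 : F) ≠ 0 := by
    apply Ring.two_ne_zero
    intro h
    have := FiniteField.even_card_of_char_two h
    rw [Nat.odd_iff] at hodd
    omega
  have hQ := Cfsg.Agent.H9.Orth.isNondeg_quadFormOdd (F := F) m h2
  have hcard : Fintype.card (Unit ⊕ (Fin m ⊕ Fin m)) = 2 * m + 1 := by
    simp [Fintype.card_sum]; ring
  have hn' : 13 ≤ Fintype.card (Unit ⊕ (Fin m ⊕ Fin m)) := by rw [hcard]; omega
  have hWr := Cfsg.Agent.H9.Orth.inf_perp_of_nondegOn hQ W hW
  have hsum := Cfsg.Agent.H9.Orth.finrank_add_finrank_perp hQ W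
  rw [hcard] at hsum
  obtain ⟨r, hr⟩ := hev
  have hW1 : W ≠ ⊤ := by
    intro h
    have h3 : Module.finrank F W = 2 * m + 1 := by
      rw [h, finrank_top, Module.finrank_fintype_fun_eq_card, hcard]
    omega
  apply Cfsg.Agent.H9.Orth.nondeg_stab_maximal' hQ hn' W hWr hW0 hW1
  · intro h
    exfalso
    omega
  · rintro ⟨hc, h2', e, heW, he0, hqe⟩
    apply hex
    refine ⟨?_, h2', Cfsg.Agent.H9.Orth.plusType_of_singular hQ W h2' e heW he0 hqe⟩
    have h1 : 1 < Fintype.card F := Fintype.one_lt_card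
    rw [Nat.odd_iff] at hodd
    omega
  · rintro ⟨hc, h2', -⟩
    omega

end Cfsg.Agent.S5675
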