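import Cfsg.Statements.S5687
import Mathlib
import Cfsg.Agent.H9.OrthJ

set_option autoImplicit false
open Cfsg

namespace Cfsg.Agent.S5687

/-- Let F be a finite field with q elements, n ≥ 13 even, Q a non-degenerate quadratic form on F^n of minus type (no subspace of dimension n/2 is totally singular), and Ω the commutator subgroup of the isometry group of Q, viewed inside GL_n(F). The elements of Ω stabilising a non-zero subspace on which Q vanishes form a maximal subgroup of Ω. -/
theorem result {F : Type*} [Field F] [Fintype F] {n : ℕ} (hn : 13 ≤ n) (heven : Even n) (Q : (Fin n → F) → F) (hQ : Cfsg.Geo.IsNondegenerateQuadraticForm Q) (hminus : ¬ Cfsg.Geo.IsPlusTypeOn Q ⊤) (W : Submodule F (Fin n → F)) (hW0 : W ≠ ⊥) (hW : Cfsg.Geo.IsTotallySingularQuad Q W) : Cfsg.Geo.IsMaximalIn (Cfsg.Geo.omegaGL Q) (Cfsg.Geo.subspaceStabilizer W ⊓ Cfsg.Geo.omegaGL Q) := by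
  classical
  have hn' : 7 ≤ Fintype.card (Fin n) := by rw [Fintype.card_fin]; omega
  apply Cfsg.Agent.H9.Orth.parabolic_maximal hQ hn' W hW0 hW
  intro u hu hqu huW hcard
  rw [Fintype.card_fin] at hcard
  apply hminus
  refine ⟨W ⊔ Submodule.span F {u}, le_top, ?_, ?_⟩
  · intro x hx
    obtain ⟨w, hw, s, hs, rfl⟩ := Submodule.mem_sup.1 hx
    obtain ⟨c, rfl⟩ := Submodule.mem_span_singleton.1 hs
    rw [Cfsg.Agent.H9.Orth.Q_add_smul hQ, hW w hw, hqu,
      (Cfsg.Agent.H9.Orth.mem_perp hQ W u).1 hu w hw]
    ring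
  · have h5 : W < W ⊔ Submodule.span F {u} := by
      refine lt_of_le_of_ne le_sup_left ?_
      intro h
      apply huW
      rw [h]
      exact Submodule.mem_sup_right (Submodule.mem_span_singleton_self u)
    have h7 := Submodule.finrank_lt_finrank_of_lt h5
    have h8 := Submodule.finrank_add_le_finrank_add_finrank W (Submodule.span F {u})
    have h9 := Cfsg.Agent.H9.Orth.finrank_span_singleton_le (F := F) u
    rw [finrank_top, Module.finrank_fintype_fun_eq_card, Fintype.card_fin]
    omega

end Cfsg.Agent.S5687
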