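import Cfsg.Statements.S5688
import Mathlib
import Cfsg.Agent.H9.OrthU

set_option autoImplicit false
open Cfsg

namespace Cfsg.Agent.S5688

/-- Let F be a finite field with q elements, n ≥ 13 even, Q a non-degenerate quadratic form on F^n of plus type (some subspace of dimension n/2 is totally singular), and Ω the commutator subgroup of the isometry group of Q, viewed inside GL_n(F). Let W be a non-zero proper subspace with dim W ≠ n/2 on which the polar form of Q is non-degenerate. Exclude the case q ≤ 3 in which W, or its orthogonal complement, is a plane containing a line on which Q vanishes. Then the elements of Ω stabilising W form a maximal subgroup of Ω. -/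
theorem result {F : Type*} [Field F] [Fintype F] {n : ℕ} (hn : 13 ≤ n) (heven : Even n) (Q : (Fin n → F) → F) (hQ : Cfsg.Geo.IsNondegenerateQuadraticForm Q) (hplus : Cfsg.Geo.IsPlusTypeOn Q ⊤) (W : Submodule F (Fin n → F)) (hW0 : W ≠ ⊥) (hW1 : W ≠ ⊤) (hdim : 2 * Module.finrank F W ≠ n) (hW : Cfsg.Geo.IsNondegenerateOn (QuadraticMap.polar Q) W) (hex : ¬ (Fintype.card F ≤ 3 ∧ (∃ U : Submodule F (Fin n → F), Module.finrank F U = 2 ∧ Cfsg.Geo.IsNondegenerateOn (QuadraticMap.polar Q) U ∧ Cfsg.Geo.IsPlusTypeOn Q U ∧ (U = W ∨ (Cfsg.Geo.AreOrthogonalFor (QuadraticMap.polar Q) U W ∧ Module.finrank F U + Module.finrank F W = n))))) : Cfsg.Geo.IsMaximalIn (Cfsg.Geo.omegaGL Q) (Cfsg.Geo.subspaceStabilizer W ⊓ Cfsg.Geo.omegaGL Q) := by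
  classical
  have hn' : 13 ≤ Fintype.card (Fin n) := by rw [Fintype.card_fin]; exact hn
  have hWr := Cfsg.Agent.H9.Orth.inf_perp_of_nondegOn hQ W hW
  have hsum := Cfsg.Agent.H9.Orth.finrank_add_finrank_perp hQ W
  rw [Fintype.card_fin] at hsum
  apply Cfsg.Agent.H9.Orth.nondeg_stab_maximal' hQ hn' W hWr hW0 hW1
  · intro h
    exfalso
    apply hdim
    omega
  · rintro ⟨hc, h2, e, heW, he0, hqe⟩
    apply hex
    refine ⟨hc, W, h2, hW, Cfsg.Agent.H9.Orth.plusType_of_singular hQ W h2 e heW he0 hqe,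
      Or.inl rfl⟩
  · rintro ⟨hc, h2, e, heW, he0, hqe⟩
    apply hex
    have hW' : Cfsg.Agent.H9.Orth.perp hQ W ⊓
        Cfsg.Agent.H9.Orth.perp hQ (Cfsg.Agent.H9.Orth.perp hQ W) = ⊥ := by
      rw [Cfsg.Agent.H9.Orth.perp_perp, inf_comm]; exact hWr
    refine ⟨hc, Cfsg.Agent.H9.Orth.perp hQ W, h2,
      Cfsg.Agent.H9.Orth.nondegOn_of_inf_perp hQ _ hW',
      Cfsg.Agent.H9.Orth.plusType_of_singular hQ _ h2 e heW he0 hqe, Or.inr ⟨?_, ?_⟩⟩
    · intro u hu v hv
      exact (Cfsg.Agent.H9.Orth.mem_perp' hQ W u).1 hu v hv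
    · omega

end Cfsg.Agent.S5688
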