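import Cfsg.Statements.S5693
import Cfsg.Agent.Lib.Helper5.Orth.FrameDecomp
import Cfsg.Agent.H9.ODecC
import Cfsg.Agent.H9.ODecD
import Cfsg.Agent.H9.ODecE

set_option autoImplicit false
open Cfsg

namespace Cfsg.Agent.S5693

/-- Let F be a finite field with q elements, n ≥ 13 even, Q a non-degenerate quadratic form on F^n of plus type (some subspace of dimension n/2 is totally singular), and Ω the commutator subgroup of the isometry group of Q, viewed inside GL_n(F). Let D be a decomposition of F^n into t ≥ 2 pairwise orthogonal, pairwise Q-isometric subspaces of equal dimension k on which the polar form is non-degenerate (with, for even k, all members of plus type or t even; for odd k, q odd and square discriminant), in one of the cases: k = 2 with q = 3; k = 2 with plus-type members and q ∈ {2, 4, 5}; k = 3 with q = 3; k = 4 with plus-type members and q = 2. Then the elements of Ω permuting the members of D form a subgroup that is not maximal: some subgroup lies strictly between it and Ω. -/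
theorem result {F : Type*} [Field F] [Fintype F] {n : ℕ} (hn : 13 ≤ n) (heven : Even n) (Q : (Fin n → F) → F) (hQ : Cfsg.Geo.IsNondegenerateQuadraticForm Q) (hplus : Cfsg.Geo.IsPlusTypeOn Q ⊤) {t : ℕ} (k : ℕ) (D : Fin t → Submodule F (Fin n → F)) (hD : Cfsg.Geo.IsOrthogonalMDecomposition Q k D) (hke : Even k → ((∀ i, Cfsg.Geo.IsPlusTypeOn Q (D i)) ∨ Even t)) (hko : Odd k → (Odd (Fintype.card F) ∧ Cfsg.Geo.HasSquareDiscriminant Q)) (hcase : ((k = 2 ∧ (Fintype.card F = 3 ∨ ((∀ i, Cfsg.Geo.IsPlusTypeOn Q (D i)) ∧ (Fintype.card F = 2 ∨ Fintype.card F = 4 ∨ Fintype.card F = 5)))) ∨ (k = 3 ∧ Fintype.card F = 3) ∨ (k = 4 ∧ Fintype.card F = 2 ∧ ∀ i, Cfsg.Geo.IsPlusTypeOn Q (D i)))) : ∃ K : Subgroup (Matrix.GeneralLinearGroup (Fin n) F), Cfsg.Geo.decompositionStabilizer D ⊓ Cfsg.Geo.omegaGL Q < K ∧ K < Cfsg.Geo.omegaGL Q := by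
  have hq' := Cfsg.Agent.Lib.Helper5.Orth.IsQuad.of_nondeg hQ
  have hcard := Cfsg.Agent.Lib.Helper5.Orth.card_eq_of_decomp D hD.decomp.decomp
  rw [Fintype.card_fin] at hcard
  have hc7 : 7 ≤ Fintype.card (Fin n) := by rw [Fintype.card_fin]; omega
  rcases hcase with ⟨rfl, h⟩ | ⟨rfl, hq3⟩ | ⟨rfl, hq2, hpl⟩
  · have ht : 4 ≤ t := by omega
    rcases h with hq3 | ⟨hpl, hq2 | hq4 | hq5⟩
    · by_cases hp : Cfsg.Geo.IsPlusTypeOn Q (D ⟨0, by omega⟩)
      · have h3 : (3 : F) = 0 := Cfsg.Agent.Lib.Helper5.Orth.three_eq_zero hq3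
        refine Cfsg.Agent.H9.ODec.hyp_planes_frame_not_maximal hQ D hc7
          (Cfsg.Agent.Lib.Helper5.Orth.two_ne_zero_of_card_three hq3) ?_ hD (by omega) hp
        intro a ha
        left
        have := FiniteField.pow_card_sub_one_eq_one a ha
        rwa [hq3] at this
      · refine Cfsg.Agent.Lib.Helper5.Orth.decomposition_not_maximal hq' hq3 D hD (by omega)
          (by omega) (by omega) ?_
        refine Cfsg.Agent.Lib.Helper5.Orth.exists_frame2 hq' hq3 _ (hD.decomp.decomp.finrank_eq _)
          (hD.decomp.nondegenerate _) ?_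
        exact Cfsg.Agent.Lib.Helper5.Orth.aniso_of_not_plus hq' _ (hD.decomp.decomp.finrank_eq _) hp
    · exact Cfsg.Agent.H9.ODec.hyp_planes_two_not_maximal hQ D hc7 hq2 hD ht (hpl _)
    · exact Cfsg.Agent.H9.ODec.hyp_planes_four_not_maximal hQ D hc7 hq4 hD ht (hpl _)
    · have h5 : (5 : F) = 0 := by
        have hc : ((Fintype.card F : ℕ) : F) = 0 := FiniteField.cast_card_eq_zero F
        rw [hq5] at hc
        exact_mod_cast hc
      have h2 : (2 : F) ≠ 0 := by
        intro h2
        have : (1 : F) = 5 - 2 * 2 := by norm_num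
        rw [h5, h2] at this
        simp at this
      refine Cfsg.Agent.H9.ODec.hyp_planes_frame_not_maximal hQ D hc7 h2 ?_ hD (by omega) (hpl _)
      intro a ha
      have h4 := FiniteField.pow_card_sub_one_eq_one a ha
      rw [hq5] at h4
      have : (a ^ 2 - 1) * (a ^ 2 + 1) = 0 := by
        have e : (5 : ℕ) - 1 = 4 := rfl
        rw [e] at h4
        linear_combination h4
      rcases mul_eq_zero.1 this with h | h
      · left; linear_combination h
      · right; linear_combination h
  · have ht : 3 ≤ t := by omega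
    refine Cfsg.Agent.Lib.Helper5.Orth.decomposition_not_maximal hq' hq3 D hD ht (by omega) (by omega) ?_
    exact Cfsg.Agent.Lib.Helper5.Orth.exists_frame3 hq' hq3 _ (hD.decomp.decomp.finrank_eq _)
      (hD.decomp.nondegenerate _)
  · have ht : 3 ≤ t := by omega
    exact Cfsg.Agent.H9.ODec.hyp_four_two_not_maximal hQ D hc7 hq2 hD ht (hpl _)

end Cfsg.Agent.S5693
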