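import Cfsg.Statements.S5713
import Cfsg.Agent.Lib.S5713.Main

set_option autoImplicit false
open Cfsg

namespace Cfsg.Agent.S5713

/-- A classification-free minimal-degree bound. Let G be a finite group acting faithfully and primitively on a finite set Ω with n elements, and suppose that the image of G in the symmetric group on Ω does not contain the alternating group on Ω. Then every non-identity element of G moves at least (√n − 1)/2 points of Ω, that is, it fixes at most n − (√n − 1)/2 points. -/
theorem result {G Ω : Type*} [Group G] [Finite G] [MulAction G Ω] [FaithfulSMul G Ω] [Fintype Ω] [DecidableEq Ω]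
    (hprim : MulAction.IsPreprimitive G Ω)
    (hA : ¬ alternatingGroup Ω ≤ (MulAction.toPermHom G Ω).range)
    (g : G) (hg : g ≠ 1) :
    (Real.sqrt (Fintype.card Ω) - 1) / 2 ≤ (Fintype.card Ω : ℝ) - Nat.card (MulAction.fixedBy Ω g) := by
  classical
  set H : Subgroup (Equiv.Perm Ω) := (MulAction.toPermHom G Ω).range with hH
  set σ : Equiv.Perm Ω := MulAction.toPermHom G Ω g with hσdef
  have hσH : σ ∈ H := ⟨g, rfl⟩
  have hσ1 : σ ≠ 1 := by
    intro e
    apply hg
    apply MulAction.toPerm_injective (α := G) (β := Ω)
    rw [MulAction.toPerm_one]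
    exact e
  -- primitivity transfers to the image
  let φ : G → H := fun x => ⟨MulAction.toPermHom G Ω x, ⟨x, rfl⟩⟩
  let f : Ω →ₑ[φ] Ω := ⟨id, fun x ω => rfl⟩
  have : MulAction.IsPreprimitive H Ω :=
    MulAction.IsPreprimitive.of_surjective (f := f) Function.surjective_id
  have hcore := Cfsg.Agent.S5713L.core H hA σ hσH hσ1
  -- support of σ = complement of the fixed points of g
  have hsupp : (σ.support.card : ℝ) = (Fintype.card Ω : ℝ) - Nat.card (MulAction.fixedBy Ω g) := by
    have h1 : Nat.card (MulAction.fixedBy Ω g) = (Finset.univ.filter (fun ω : Ω => g • ω = ω)).card := by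
      rw [Nat.card_eq_fintype_card, Fintype.card_subtype]
      rfl
    have h2 : σ.support = Finset.univ.filter (fun ω : Ω => ¬ g • ω = ω) := by
      ext ω
      simp [hσdef, Equiv.Perm.mem_support]
    rw [h1, h2]
    have h3 := Finset.card_filter_add_card_filter_not (s := (Finset.univ : Finset Ω))
      (fun ω : Ω => g • ω = ω)
    rw [Finset.card_univ] at h3
    have h4 : ((Finset.univ.filter (fun ω : Ω => g • ω = ω)).card : ℝ) +
        ((Finset.univ.filter (fun ω : Ω => ¬ g • ω = ω)).card : ℝ) = (Fintype.card Ω : ℝ) := by
      exact_mod_cast h3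
    linarith
  rw [← hsupp]
  exact hcore

end Cfsg.Agent.S5713
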