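import Cfsg.Statements.S5726

set_option autoImplicit false
open Cfsg

namespace Cfsg.Agent.S5726

/-- A Sylow `p`-subgroup of a group acting transitively on a set of size `p ^ k` is transitive. -/
theorem sylow_orbit_eq_univ {G Ω : Type*} [Group G] [Finite G] [MulAction G Ω] [Fintype Ω]
    (htr : MulAction.IsPretransitive G Ω) (p k : ℕ) [Fact p.Prime] (hΩ : Fintype.card Ω = p ^ k)
    (P : Sylow p G) (ω : Ω) : MulAction.orbit (P : Subgroup G) ω = Set.univ := by
  set S := MulAction.stabilizer G ω with hS
  have hSidx : S.index = p ^ k := by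
    rw [hS, MulAction.index_stabilizer_of_transitive, Nat.card_eq_fintype_card, hΩ]
  -- the stabilizer in P
  have hstab : MulAction.stabilizer (P : Subgroup G) ω = S.subgroupOf P := by
    ext g
    simp [hS, Subgroup.mem_subgroupOf, MulAction.mem_stabilizer_iff, Subgroup.smul_def]
  have h1 : (S ⊓ P).relIndex P * (P : Subgroup G).index = (S ⊓ P).index :=
    Subgroup.relIndex_mul_index inf_le_right
  have h2 : (S ⊓ P).relIndex S * S.index = (S ⊓ P).index :=
    Subgroup.relIndex_mul_index inf_le_left
  have h3 : p ^ k ∣ (S ⊓ P).relIndex P * (P : Subgroup G).index := by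
    rw [h1, ← h2, hSidx]
    exact dvd_mul_left _ _
  have hcop : Nat.Coprime (p ^ k) (P : Subgroup G).index := by
    apply Nat.Coprime.pow_left
    rw [Nat.Prime.coprime_iff_not_dvd Fact.out]
    exact P.not_dvd_index
  have h4 : p ^ k ∣ (S ⊓ P).relIndex P := hcop.dvd_of_dvd_mul_right h3
  have h5 : (S ⊓ P).relIndex P = (MulAction.orbit (P : Subgroup G) ω).ncard := by
    rw [← MulAction.index_stabilizer, hstab, Subgroup.inf_relIndex_right]
    rfl
  rw [h5] at h4
  have h6 : (MulAction.orbit (P : Subgroup G) ω).ncard ≤ p ^ k := by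
    rw [← hΩ, ← Nat.card_eq_fintype_card, ← Set.ncard_univ]
    exact Set.ncard_le_ncard (Set.subset_univ _)
  have hpos : 0 < (MulAction.orbit (P : Subgroup G) ω).ncard := by
    rw [Set.ncard_pos]
    exact MulAction.nonempty_orbit ω
  have h7 : (MulAction.orbit (P : Subgroup G) ω).ncard = p ^ k :=
    le_antisymm h6 (Nat.le_of_dvd hpos h4)
  apply Set.eq_of_subset_of_ncard_le (Set.subset_univ _)
  rw [Set.ncard_univ, Nat.card_eq_fintype_card, hΩ, h7]

theorem result {G Ω : Type*} [Group G] [Finite G] [MulAction G Ω] [FaithfulSMul G Ω] [Fintype Ω] (htr : MulAction.IsPretransitive G Ω)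
    (p k : ℕ) (hp : p.Prime) (hk : 1 ≤ k) (hΩ : Fintype.card Ω = p ^ k) :
    ∃ g : G, orderOf g = p ∧ ∀ ω : Ω, g • ω ≠ ω := by
  have : Fact p.Prime := ⟨hp⟩
  obtain ⟨P⟩ : Nonempty (Sylow p G) := inferInstance
  -- p divides |G|
  have hΩne : Nonempty Ω := by
    rw [← Fintype.card_pos_iff, hΩ]
    exact pos_of_ne_zero (pow_ne_zero _ hp.ne_zero)
  obtain ⟨ω₀⟩ := hΩne
  have hpG : p ∣ Nat.card G := by
    have h1 : (MulAction.stabilizer G ω₀).index = p ^ k := by
      rw [MulAction.index_stabilizer_of_transitive, Nat.card_eq_fintype_card, hΩ]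
    have h2 : (MulAction.stabilizer G ω₀).index ∣ Nat.card G := Subgroup.index_dvd_card _
    rw [h1] at h2
    exact (dvd_pow_self p (by omega)).trans h2
  have hPnt : Nontrivial (P : Subgroup G) := by
    rw [Subgroup.nontrivial_iff_ne_bot]
    exact P.ne_bot_of_dvd_card hpG
  have hZnt : Nontrivial (Subgroup.center (P : Subgroup G)) := P.isPGroup'.center_nontrivial
  have hZp : IsPGroup p (Subgroup.center (P : Subgroup G)) := P.isPGroup'.to_subgroup _
  obtain ⟨n, hn0, hn⟩ := hZp.nontrivial_iff_card.mp hZnt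
  have hpZ : p ∣ Nat.card (Subgroup.center (P : Subgroup G)) := by
    rw [hn]; exact dvd_pow_self p (by omega)
  obtain ⟨z, hz⟩ := exists_prime_orderOf_dvd_card' p hpZ
  refine ⟨((z : (P : Subgroup G)) : G), ?_, ?_⟩
  · have : orderOf ((z : (P : Subgroup G)) : G) = orderOf z := by
        rw [Subgroup.orderOf_coe, Subgroup.orderOf_coe]
    rw [this, hz]
  · intro ω hω
    -- z fixes all of Ω
    have hall : ∀ ω' : Ω, ((z : (P : Subgroup G)) : G) • ω' = ω' := by
      intro ω'
      have : ω' ∈ MulAction.orbit (P : Subgroup G) ω := by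
        rw [sylow_orbit_eq_univ htr p k hΩ P ω]; trivial
      obtain ⟨h, hh⟩ := this
      have hh' : (h : G) • ω = ω' := hh
      have hc : (z : (P : Subgroup G)) * h = h * z := by
        have := Subgroup.mem_center_iff.mp z.2 h
        exact this.symm
      have hc' : ((z : (P : Subgroup G)) : G) * (h : G) = (h : G) * ((z : (P : Subgroup G)) : G) := by
        have := congrArg (Subtype.val) hc
        simpa using this
      rw [← hh', smul_smul, hc', ← smul_smul, hω]
    have h1 : ((z : (P : Subgroup G)) : G) = 1 := by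
      apply FaithfulSMul.eq_of_smul_eq_smul (α := Ω)
      intro a
      rw [hall a, one_smul]
    have h2 : orderOf ((z : (P : Subgroup G)) : G) = p := by
      have : orderOf ((z : (P : Subgroup G)) : G) = orderOf z := by
        rw [Subgroup.orderOf_coe, Subgroup.orderOf_coe]
      rw [this, hz]
    rw [h1, orderOf_one] at h2
    exact hp.one_lt.ne h2

end Cfsg.Agent.S5726
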