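import Cfsg.Statements.S5727
import Mathlib

set_option autoImplicit false
open Cfsg

namespace Cfsg.Agent.S5727
open MulAction

/-- Transitive case: a central element of order `p`. -/
theorem case_trans {Q Ω : Type*} [Group Q] [Finite Q] [MulAction Q Ω] (p : ℕ) [Fact p.Prime]
    (hQ : IsPGroup p Q) [Nontrivial Q] (htr : IsPretransitive Q Ω)
    (hfaith : ∀ g : Q, (∀ ω : Ω, g • ω = ω) → g = 1) :
    ∃ g : Q, orderOf g = p ∧ ∀ ω : Ω, g • ω ≠ ω := by
  have hZ : Nontrivial (Subgroup.center Q) := hQ.center_nontrivial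
  have hZp : IsPGroup p (Subgroup.center Q) := hQ.to_subgroup _
  obtain ⟨n, hn0, hn⟩ := hZp.nontrivial_iff_card.mp hZ
  have hdvd : p ∣ Nat.card (Subgroup.center Q) := hn ▸ dvd_pow_self _ (ne_of_gt hn0)
  obtain ⟨z, hz⟩ := exists_prime_orderOf_dvd_card' p hdvd
  have hz' : orderOf (z : Q) = p := by rw [Subgroup.orderOf_coe]; exact hz
  refine ⟨z, hz', ?_⟩
  intro ω hω
  have h1 : (z : Q) = 1 := hfaith _ (fun ω' => by
    obtain ⟨g, rfl⟩ := htr.exists_smul_eq ω ω'
    rw [smul_smul, ← (Subgroup.mem_center_iff.mp z.2 g), ← smul_smul, hω])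
  rw [h1, orderOf_one] at hz'
  exact (Fact.out : p.Prime).one_lt.ne hz'

/-- All orbits of size `p`. -/
theorem case_small {Q Ω : Type*} [Group Q] [Fintype Q] [DecidableEq Q] [MulAction Q Ω] [Fintype Ω] [DecidableEq Ω]
    (p m : ℕ) [Fact p.Prime]
    (hQ : IsPGroup p Q) (hm : 1 ≤ m) (hmp : m ≤ p) (hΩ : Fintype.card Ω = m * p)
    (hidx : ∀ ω : Ω, (stabilizer Q ω).index = p)
    (hfaith : ∀ g : Q, (∀ ω : Ω, g • ω = ω) → g = 1) :
    ∃ g : Q, orderOf g = p ∧ ∀ ω : Ω, g • ω ≠ ω := by
  have hp : p.Prime := Fact.out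
  have hΩne : Nonempty Ω := Fintype.card_pos_iff.mp (by rw [hΩ]; exact Nat.mul_pos hm hp.pos)
  -- Q is nontrivial and minFac of its order is p
  have hpdvd : p ∣ Nat.card Q := by
    obtain ⟨ω⟩ := hΩne
    rw [← hidx ω]
    exact Subgroup.index_dvd_card _
  have hminFac : (Nat.card Q).minFac = p := by
    obtain ⟨n, hn⟩ := hQ.exists_card_eq
    have hn0 : n ≠ 0 := by
      rintro rfl
      rw [pow_zero] at hn
      rw [hn] at hpdvd
      exact hp.one_lt.ne' (Nat.dvd_one.mp hpdvd)
    rw [hn, hp.pow_minFac hn0]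
  have hnormal : ∀ ω : Ω, (stabilizer Q ω).Normal := fun ω =>
    Subgroup.normal_of_index_eq_minFac_card (by rw [hidx ω, hminFac])
  -- fixing one point of an orbit means fixing all of it
  have hfixorb : ∀ (g h : Q) (ω : Ω), g • ω = ω → g • (h • ω) = h • ω := by
    intro g h ω hg
    have h1 : g ∈ stabilizer Q ω := hg
    have h2 : h⁻¹ * g * h⁻¹⁻¹ ∈ stabilizer Q ω := (hnormal ω).conj_mem g h1 h⁻¹
    rw [inv_inv, mem_stabilizer_iff, mul_smul, mul_smul] at h2
    have := congrArg (fun x => h • x) h2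
    simpa using this
  -- the common order of the stabilizers
  obtain ⟨s, hs⟩ : ∃ s, Nat.card Q = p * s := hpdvd
  have hspos : 0 < s := by
    rcases Nat.eq_zero_or_pos s with h | h
    · rw [h, mul_zero] at hs
      exact absurd hs Nat.card_pos.ne'
    · exact h
  have hstab : ∀ ω : Ω, Nat.card (stabilizer Q ω) = s := by
    intro ω
    have := (stabilizer Q ω).index_mul_card
    rw [hidx ω, hs] at this
    exact Nat.eq_of_mul_eq_mul_left hp.pos this
  -- p-th powers are trivial
  have hpow : ∀ g : Q, g ^ p = 1 := by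
    intro g
    apply hfaith
    intro ω
    have := (hnormal ω)
    have h := Subgroup.pow_index_mem (stabilizer Q ω) g
    rw [hidx ω] at h
    exact h
  -- double counting
  have hcount : ∑ g : Q, (Finset.univ.filter (fun ω : Ω => g • ω = ω)).card = m * p * s := by
    have h1 : ∀ g : Q, (Finset.univ.filter (fun ω : Ω => g • ω = ω)).card
        = ∑ ω : Ω, if g • ω = ω then 1 else 0 := by
      intro g
      rw [Finset.card_filter]
    simp_rw [h1]
    rw [Finset.sum_comm]
    have h2 : ∀ ω : Ω, (∑ g : Q, if g • ω = ω then 1 else 0) = s := by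
      intro ω
      rw [← Finset.card_filter, ← hstab ω, Nat.card_eq_fintype_card, Fintype.card_subtype]
      rfl
    simp_rw [h2]
    rw [Finset.sum_const, Finset.card_univ, hΩ, smul_eq_mul]
  -- suppose every element has a fixed point
  by_contra hcon
  push Not at hcon
  have hall : ∀ g : Q, ∃ ω : Ω, g • ω = ω := by
    intro g
    by_cases hg : g = 1
    · obtain ⟨ω⟩ := hΩne
      exact ⟨ω, by rw [hg, one_smul]⟩
    · have hord : orderOf g = p := by
        have h1 : orderOf g ∣ p := orderOf_dvd_of_pow_eq_one (hpow g)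
        rcases (Nat.dvd_prime hp).mp h1 with h | h
        · exact absurd (orderOf_eq_one_iff.mp h) hg
        · exact h
      exact hcon g hord
  have hge : ∀ g : Q, p ≤ (Finset.univ.filter (fun ω : Ω => g • ω = ω)).card := by
    intro g
    obtain ⟨ω, hω⟩ := hall g
    -- the orbit of ω has p elements and is fixed pointwise
    have horb : (orbit Q ω).ncard = p := by
      rw [← index_stabilizer, hidx ω]
    have hsub : orbit Q ω ⊆ ((Finset.univ.filter (fun ω : Ω => g • ω = ω) : Finset Ω) : Set Ω) := by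
      rintro _ ⟨h, rfl⟩
      simp only [Finset.coe_filter, Finset.mem_univ, true_and, Set.mem_ofPred_eq]
      exact hfixorb g h ω hω
    have := Set.ncard_le_ncard hsub (Finset.finite_toSet _)
    rw [horb, Set.ncard_coe_finset] at this
    exact this
  have h1card : (Finset.univ.filter (fun ω : Ω => (1 : Q) • ω = ω)).card = m * p := by
    rw [← hΩ, ← Finset.card_univ]
    congr 1
    ext ω
    simp
  have hsumge : m * p + (p * s - 1) * p ≤ ∑ g : Q, (Finset.univ.filter (fun ω : Ω => g • ω = ω)).card := by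
    rw [← Finset.add_sum_erase _ _ (Finset.mem_univ (1 : Q)), h1card]
    apply Nat.add_le_add_left
    have : (Finset.univ.erase (1 : Q)).card = p * s - 1 := by
      rw [Finset.card_erase_of_mem (Finset.mem_univ _), Finset.card_univ, ← Nat.card_eq_fintype_card, hs]
    calc (p * s - 1) * p = ∑ _g ∈ Finset.univ.erase (1 : Q), p := by
          rw [Finset.sum_const, this, smul_eq_mul]
      _ ≤ _ := Finset.sum_le_sum (fun g _ => hge g)
  rw [hcount] at hsumge
  -- arithmetic contradiction
  have hp2 : 2 ≤ p := hp.two_le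
  obtain ⟨k, hk⟩ : ∃ k, p * s = k + 1 := ⟨p * s - 1, by have := Nat.mul_pos hp.pos hspos; omega⟩
  rw [hk, Nat.add_sub_cancel] at hsumge
  -- m*p + k*p ≤ m*p*s, k + 1 = p*s
  have h3 : m + k ≤ m * s := by
    have : (m + k) * p ≤ (m * s) * p := by nlinarith
    exact Nat.le_of_mul_le_mul_right this hp.pos
  have h4 : m * s ≤ p * s := Nat.mul_le_mul_right s hmp
  -- m + k ≤ m s ≤ p s = k + 1 → m ≤ 1 → m = 1 → 1 + k ≤ s → p s ≤ s
  have hm1 : m = 1 := by omega
  subst hm1
  have : p * s ≤ s := by omega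
  nlinarith


theorem result {G Ω : Type*} [Group G] [Finite G] [MulAction G Ω] [FaithfulSMul G Ω] [Fintype Ω] (htr : MulAction.IsPretransitive G Ω)
    (p m : ℕ) (hp : p.Prime) (hm : 1 ≤ m) (hmp : m ≤ p) (hΩ : Fintype.card Ω = m * p) :
    ∃ g : G, orderOf g = p ∧ ∀ ω : Ω, g • ω ≠ ω := by
  classical
  have : Fact p.Prime := ⟨hp⟩
  have hΩne : Nonempty Ω := Fintype.card_pos_iff.mp (by rw [hΩ]; exact Nat.mul_pos hm hp.pos)
  obtain ⟨P⟩ : Nonempty (Sylow p G) := inferInstance
  obtain ⟨Q, hQdef⟩ : ∃ Q : Subgroup G, Q = (P : Subgroup G) := ⟨_, rfl⟩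
  have hQp : IsPGroup p Q := by rw [hQdef]; exact P.isPGroup'
  have hfaith : ∀ g : Q, (∀ ω : Ω, g • ω = ω) → g = 1 := by
    intro g hg
    apply Subtype.ext
    apply FaithfulSMul.eq_of_smul_eq_smul (α := Ω)
    intro ω
    rw [Subgroup.coe_one, one_smul]
    exact hg ω
  have hA : ∀ ω : Ω, ¬ (Q ≤ stabilizer G ω) := by
    intro ω hle
    have h1 := Subgroup.index_dvd_of_le hle
    rw [index_stabilizer_of_transitive, Nat.card_eq_fintype_card, hΩ, hQdef] at h1
    exact P.not_dvd_index ((dvd_mul_left p m).trans h1)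
  have : Fintype Q := Fintype.ofFinite Q
  -- orbit sizes
  have horb : ∀ ω : Ω, (stabilizer Q ω).index = p ∨ (stabilizer Q ω).index = p ^ 2 := by
    intro ω
    obtain ⟨a, ha⟩ := hQp.exists_card_eq
    have hdvd : (stabilizer Q ω).index ∣ p ^ a := ha ▸ Subgroup.index_dvd_card _
    obtain ⟨k, hka, hk⟩ := (Nat.dvd_prime_pow hp).mp hdvd
    have hk0 : k ≠ 0 := by
      rintro rfl
      rw [pow_zero, Subgroup.index_eq_one] at hk
      apply hA ω
      intro q hq
      have : (⟨q, hq⟩ : Q) ∈ stabilizer Q ω := by rw [hk]; trivial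
      exact this
    have hle : (stabilizer Q ω).index ≤ m * p := by
      rw [index_stabilizer, ← hΩ, ← Nat.card_eq_fintype_card, ← Set.ncard_univ]
      exact Set.ncard_le_ncard (Set.subset_univ _) Set.finite_univ
    have hk2 : k ≤ 2 := by
      by_contra h
      have h3 : 3 ≤ k := by omega
      have : p ^ 3 ≤ p ^ k := Nat.pow_le_pow_right hp.pos h3
      have h2 : m * p ≤ p * p := Nat.mul_le_mul_right p hmp
      have hp2 := hp.two_le
      rw [hk] at hle
      have : p * p * p ≤ p * p := by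
        calc p * p * p = p ^ 3 := by ring
          _ ≤ p ^ k := this
          _ ≤ m * p := hle
          _ ≤ p * p := h2
      nlinarith
    have : k = 1 ∨ k = 2 := by omega
    rcases this with rfl | rfl
    · left; rw [hk, pow_one]
    · right; exact hk
  by_cases hcase : ∃ ω : Ω, (stabilizer Q ω).index = p ^ 2
  · obtain ⟨ω, hω⟩ := hcase
    -- Q is transitive
    have hfull : orbit Q ω = Set.univ := by
      apply Set.eq_of_subset_of_ncard_le (Set.subset_univ _) _ Set.finite_univ
      rw [← index_stabilizer, hω, Set.ncard_univ, Nat.card_eq_fintype_card, hΩ, pow_two]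
      exact Nat.mul_le_mul_right p hmp
    have htrQ : IsPretransitive Q Ω := by
      refine ⟨fun x y => ?_⟩
      have hx : x ∈ orbit Q ω := by rw [hfull]; trivial
      have hy : y ∈ orbit Q ω := by rw [hfull]; trivial
      obtain ⟨g, rfl⟩ := hx
      obtain ⟨h, rfl⟩ := hy
      exact ⟨h * g⁻¹, by rw [mul_smul, inv_smul_smul]⟩
    have : Nontrivial Q := by
      by_contra hnt
      rw [not_nontrivial_iff_subsingleton] at hnt
      have : (stabilizer Q ω).index = 1 := by
        rw [Subgroup.index_eq_one]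
        exact Subsingleton.elim _ _
      rw [hω] at this
      have := hp.two_le
      nlinarith
    obtain ⟨g, hg, hfix⟩ := case_trans p hQp htrQ hfaith
    refine ⟨(g : G), ?_, fun ω => hfix ω⟩
    rw [Subgroup.orderOf_coe]; exact hg
  · have hidx : ∀ ω : Ω, (stabilizer Q ω).index = p := by
      intro ω
      rcases horb ω with h | h
      · exact h
      · exact absurd ⟨ω, h⟩ hcase
    obtain ⟨g, hg, hfix⟩ := case_small p m hQp hm hmp hΩ hidx hfaith
    refine ⟨(g : G), ?_, fun ω => hfix ω⟩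
    rw [Subgroup.orderOf_coe]; exact hg

end Cfsg.Agent.S5727
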