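import Cfsg.Statements.S5728

set_option autoImplicit false
open Cfsg

namespace Cfsg.Agent.S5728

/-- Elements fixed by Frobenius come from the prime field. -/
theorem exists_algebraMap (p : ℕ) [Fact p.Prime] {F : Type*} [Field F] [Algebra (ZMod p) F]
    [CharP F p] {x : F} (hx : x ^ p = x) : ∃ a : ZMod p, algebraMap (ZMod p) F a = x := by
  have h1 : x ∈ (⊥ : Subfield F) := (Subfield.mem_bot_iff_pow_eq_self F p).2 hx
  obtain ⟨n, hn⟩ := (mem_bot_iff_intCast p F).1 h1
  exact ⟨(n : ZMod p), by rw [map_intCast, hn]⟩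

/-- Conjugating the affine map `z ↦ α z + β` by `z ↦ γ z + δ`. -/
theorem conj_apply {F : Type*} [Field F] (g x : Equiv.Perm F) (α γ : Fˣ) (β δ : F)
    (hg : ∀ z, g z = (α : F) * z + β) (hx : ∀ z, x z = (γ : F) * z + δ) (y : F) :
    (x * g * x⁻¹) y = (α : F) * y + ((γ : F) * β + (1 - (α : F)) * δ) := by
  obtain ⟨z, rfl⟩ := x.surjective y
  have hz : x⁻¹ (x z) = z := by rw [Equiv.Perm.inv_def, Equiv.symm_apply_apply]
  rw [Equiv.Perm.coe_mul, Function.comp_apply, Equiv.Perm.coe_mul, Function.comp_apply, hz, hg,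
    hx, hx]
  ring

/-- An element of prime order of the affine group of the field with `p²` elements, `p = 2^s - 1` a
prime, is conjugate to a map with coefficients in the prime field. -/
theorem result (p s : ℕ) [Fact p.Prime] (hs : p = 2 ^ s - 1)
    (g : Equiv.Perm (GaloisField p 2)) (hg : g ∈ Cfsg.affineGroup (GaloisField p 2)) (hord : (orderOf g).Prime) :
    ∃ x ∈ Cfsg.affineGroup (GaloisField p 2), ∃ a b : ZMod p, a ≠ 0 ∧
      ∀ y : GaloisField p 2, (x * g * x⁻¹) y = algebraMap (ZMod p) (GaloisField p 2) a * y + algebraMap (ZMod p) (GaloisField p 2) b := by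
  have hp : p.Prime := Fact.out
  obtain ⟨α, β, hαβ⟩ := hg
  have hg1 : g ≠ 1 := by
    rintro rfl
    rw [orderOf_one] at hord
    exact Nat.not_prime_one hord
  by_cases hα : α = 1
  · -- translation
    subst hα
    have hβ : β ≠ 0 := by
      rintro rfl
      apply hg1
      ext z
      simp [hαβ]
    let γ : (GaloisField p 2)ˣ := (Units.mk0 β hβ)⁻¹
    let x : Equiv.Perm (GaloisField p 2) := Equiv.mulLeft₀ (γ : GaloisField p 2) γ.ne_zero
    have hx : ∀ z, x z = (γ : GaloisField p 2) * z + 0 := fun z => by simp [x]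
    refine ⟨x, ⟨γ, 0, hx⟩, 1, 1, one_ne_zero, fun y => ?_⟩
    rw [conj_apply g x 1 γ β 0 hαβ hx y]
    have : (γ : GaloisField p 2) * β = 1 := by simp [γ, hβ]
    simp [this]
  · -- a fixed point exists
    have hα1 : (1 - (α : GaloisField p 2)) ≠ 0 := by
      intro h
      apply hα
      ext
      rw [Units.val_one]
      exact (sub_eq_zero.1 h).symm
    let δ : GaloisField p 2 := -β / (1 - (α : GaloisField p 2))
    let x : Equiv.Perm (GaloisField p 2) := Equiv.addRight δ
    have hx : ∀ z, x z = ((1 : (GaloisField p 2)ˣ) : GaloisField p 2) * z + δ := fun z => by simp [x]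
    have hconj : ∀ y, (x * g * x⁻¹) y = (α : GaloisField p 2) * y := by
      intro y
      rw [conj_apply g x α 1 β δ hαβ hx y]
      have : (1 - (α : GaloisField p 2)) * δ = -β := by
        simp only [δ]
        field_simp
      rw [this]
      simp
    -- order of α
    have hpow : ∀ k : ℕ, ∀ y, ((x * g * x⁻¹) ^ k) y = (α : GaloisField p 2) ^ k * y := by
      intro k
      induction k with
      | zero => intro y; simp
      | succ k ih =>
        intro y
        rw [pow_succ, Equiv.Perm.coe_mul, Function.comp_apply, hconj, ih]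
        ring
    have hordc : orderOf (x * g * x⁻¹) = orderOf g := by
      have : x * g * x⁻¹ = MulAut.conj x g := rfl
      rw [this, MulEquiv.orderOf_eq]
    set r := orderOf g with hr
    have hαr : (α : GaloisField p 2) ^ r = 1 := by
      have h1 := hpow (orderOf (x * g * x⁻¹)) 1
      rw [pow_orderOf_eq_one, hordc] at h1
      simpa using h1.symm
    have hαr' : α ^ r = 1 := by
      ext
      simpa using hαr
    have hoα : orderOf α = r := by
      rcases (Nat.dvd_prime hord).1 (orderOf_dvd_of_pow_eq_one hαr') with h | h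
      · exact absurd (orderOf_eq_one_iff.1 h) hα
      · exact h
    -- r divides p^2 - 1
    have hcard : Nat.card (GaloisField p 2) = p ^ 2 := GaloisField.card p 2 two_ne_zero
    have hcardU : Nat.card (GaloisField p 2)ˣ = p ^ 2 - 1 := by
      have := Nat.card_units (GaloisField p 2)
      rw [this, hcard]
    have hr_dvd : r ∣ p ^ 2 - 1 := by
      rw [← hoα, ← hcardU]
      exact orderOf_dvd_natCard α
    have hs1 : p + 1 = 2 ^ s := by
      have : 1 ≤ 2 ^ s := Nat.one_le_two_pow
      omega
    have hfac : p ^ 2 - 1 = (p - 1) * 2 ^ s := by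
      rw [← hs1]
      have h1 : 1 ≤ p := hp.one_lt.le
      obtain ⟨k, rfl⟩ : ∃ k, p = k + 1 := ⟨p - 1, by omega⟩
      simp only [Nat.add_sub_cancel]
      have : (k + 1) ^ 2 = k * (k + 1 + 1) + 1 := by ring
      rw [this, Nat.add_sub_cancel]
    have hpodd : 2 ∣ p - 1 := by
      have hs2 : 2 ≤ s := by
        by_contra hlt
        have : s = 0 ∨ s = 1 := by omega
        rcases this with rfl | rfl
        · simp at hs1
          exact absurd (hs1 ▸ hp) Nat.not_prime_zero
        · simp at hs1
          exact absurd (hs1 ▸ hp) Nat.not_prime_one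
      obtain ⟨k, rfl⟩ : ∃ k, s = k + 1 := ⟨s - 1, by omega⟩
      rw [pow_succ] at hs1
      omega
    have hr_dvd' : r ∣ p - 1 := by
      rw [hfac] at hr_dvd
      rcases (Nat.Prime.dvd_mul hord).1 hr_dvd with h | h
      · exact h
      · have := (Nat.prime_dvd_prime_iff_eq hord Nat.prime_two).1 (hord.dvd_of_dvd_pow h)
        rw [this]
        exact hpodd
    have hαp : (α : GaloisField p 2) ^ p = α := by
      obtain ⟨k, hk⟩ := hr_dvd'
      have h1 : p = r * k + 1 := by have := hp.one_lt; omega
      have h2 : (α : GaloisField p 2) ^ (r * k + 1) = α := by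
        rw [pow_succ, pow_mul, hαr, one_pow, one_mul]
      exact (congrArg (fun n => (α : GaloisField p 2) ^ n) h1).trans h2
    obtain ⟨a, ha⟩ := exists_algebraMap p hαp
    refine ⟨x, ⟨1, δ, hx⟩, a, 0, ?_, fun y => ?_⟩
    · rintro rfl
      rw [map_zero] at ha
      exact α.ne_zero ha.symm
    · rw [hconj, ha, map_zero, add_zero]

end Cfsg.Agent.S5728
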