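import Cfsg.Statements.S5729
import Mathlib

set_option autoImplicit false
open Cfsg

namespace Cfsg.Agent.S5729
open MulAction

section
variable {G : Type*} {X : Type*} [Group G] [MulAction G X]

theorem burnside [Fintype G] [Finite X] :
    ∑ g : G, Nat.card (fixedBy X g) = Nat.card (Quotient (orbitRel G X)) * Nat.card G := by
  classical
  have := Fintype.ofFinite X
  have := sum_card_fixedBy_eq_card_orbits_mul_card_group G X
  simp only [Nat.card_eq_fintype_card]
  convert this

theorem card_orbits_eq_one [Finite X] [Nonempty X] (htr : IsPretransitive G X) :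
    Nat.card (Quotient (orbitRel G X)) = 1 := by
  rw [Nat.card_eq_one_iff_unique]
  refine ⟨⟨?_⟩, ⟨Quotient.mk'' (Classical.arbitrary X)⟩⟩
  intro a b
  induction a using Quotient.inductionOn'
  induction b using Quotient.inductionOn'
  apply Quotient.sound'
  rw [orbitRel_apply]
  exact htr.exists_smul_eq _ _ |>.elim fun g hg => ⟨g, hg⟩

theorem two_le_card_orbits_prod [Finite X] (α β : X) (hαβ : α ≠ β) :
    2 ≤ Nat.card (Quotient (orbitRel G (X × X))) := by
  have h : (1 : ℕ) < Nat.card (Quotient (orbitRel G (X × X))) := by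
    rw [Finite.one_lt_card_iff_nontrivial]
    refine ⟨⟨Quotient.mk'' (α, α), Quotient.mk'' (α, β), ?_⟩⟩
    intro h
    have h' := Quotient.exact' h
    rw [orbitRel_apply] at h'
    obtain ⟨g, hg⟩ := h'
    have h1 : g • α = α := congrArg Prod.fst hg
    have h2 : g • β = α := congrArg Prod.snd hg
    exact hαβ (MulAction.injective g (h1.trans h2.symm))
  exact h

theorem card_fixedBy_prod [Finite X] (g : G) :
    Nat.card (fixedBy (X × X) g) = Nat.card (fixedBy X g) ^ 2 := by
  rw [pow_two, ← Nat.card_prod]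
  apply Nat.card_congr
  refine ⟨fun p => (⟨p.1.1, congrArg Prod.fst p.2⟩, ⟨p.1.2, congrArg Prod.snd p.2⟩),
    fun q => ⟨(q.1.1, q.2.1), Prod.ext q.1.2 q.2.2⟩, ?_, ?_⟩
  · intro p; rfl
  · intro q; rfl

end


theorem result {G Ω : Type*} [Group G] [Finite G] [MulAction G Ω] [FaithfulSMul G Ω] [Fintype Ω] (htr : MulAction.IsPretransitive G Ω) (hn : 3 ≤ Fintype.card Ω) :
    ((MulAction.IsPretransitive G Ω ∧ (∃ g : G, g ≠ 1 ∧ ∃ ω : Ω, g • ω = ω) ∧ ∀ g : G, g ≠ 1 → Nat.card (MulAction.fixedBy Ω g) ≤ 1) ∧ Nat.card G = Fintype.card Ω * (Fintype.card Ω - 1) ∧ Fintype.card Ω * Nat.card {g : G // ∀ ω : Ω, g • ω ≠ ω} = Nat.card G) ∨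
    Nat.card G < Fintype.card Ω * Nat.card {g : G // ∀ ω : Ω, g • ω ≠ ω} := by
  classical
  have : Fintype G := Fintype.ofFinite G
  obtain ⟨n, hndef⟩ : ∃ n, n = Fintype.card Ω := ⟨_, rfl⟩
  rw [← hndef] at hn ⊢
  have hΩne : Nonempty Ω := Fintype.card_pos_iff.mp (by omega)
  obtain ⟨α, β, hαβ⟩ := Fintype.exists_pair_of_one_lt_card (by omega : 1 < Fintype.card Ω)
  obtain ⟨f, hf⟩ : ∃ f : G → ℕ, f = fun g => Nat.card (fixedBy Ω g) := ⟨_, rfl⟩
  have hfg : ∀ g, Nat.card (fixedBy Ω g) = f g := fun g => by rw [hf]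
  obtain ⟨c, hc⟩ : ∃ c, c = Nat.card G := ⟨_, rfl⟩
  have hcpos : 0 < c := by rw [hc]; exact Nat.card_pos
  have hF1 : ∑ g : G, f g = c := by
    rw [hf, burnside, card_orbits_eq_one htr, one_mul, hc]
  obtain ⟨N, hNdef⟩ : ∃ N, N = Nat.card (Quotient (orbitRel G (Ω × Ω))) := ⟨_, rfl⟩
  have hF2 : ∑ g : G, (f g) ^ 2 = N * c := by
    rw [hNdef, hc, ← burnside, hf]
    exact Finset.sum_congr rfl (fun g _ => (card_fixedBy_prod g).symm)
  have hN : 2 ≤ N := by rw [hNdef]; exact two_le_card_orbits_prod α β hαβ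
  have hfle : ∀ g, f g ≤ n := by
    intro g
    rw [← hfg, hndef, ← Nat.card_eq_fintype_card]
    exact Nat.card_le_card_of_injective Subtype.val Subtype.val_injective
  have hfn : ∀ g, f g = n → g = 1 := by
    intro g hg
    apply FaithfulSMul.eq_of_smul_eq_smul (α := Ω)
    intro ω
    rw [one_smul]
    have hfin : (fixedBy Ω g).ncard = (Set.univ : Set Ω).ncard := by
      rw [Set.ncard_univ, Nat.card_eq_fintype_card, ← hndef, ← hg, ← hfg]
      rfl
    have := Set.eq_of_subset_of_ncard_le (Set.subset_univ (fixedBy Ω g)) hfin.ge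
    have hω : ω ∈ fixedBy Ω g := by rw [this]; trivial
    exact hω
  have hf1 : f 1 = n := by
    rw [← hfg, hndef, ← Nat.card_eq_fintype_card]
    apply Nat.card_congr
    exact ⟨fun x => x.1, fun x => ⟨x, one_smul _ _⟩, fun _ => rfl, fun _ => rfl⟩
  obtain ⟨D, hDdef⟩ : ∃ D, D = Nat.card {g : G // ∀ ω : Ω, g • ω ≠ ω} := ⟨_, rfl⟩
  rw [← hDdef, ← hc]
  have hf0 : ∀ g : G, f g = 0 ↔ ∀ ω : Ω, g • ω ≠ ω := by
    intro g
    rw [← hfg, Nat.card_eq_zero]
    constructor
    · rintro (h | h)
      · intro ω hω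
        exact h.false ⟨ω, hω⟩
      · exact absurd (inferInstance : Finite (fixedBy Ω g)) (not_finite_iff_infinite.mpr h)
    · intro h
      left
      exact ⟨fun x => h x.1 x.2⟩
  have hD : D = (Finset.univ.filter (fun g : G => f g = 0)).card := by
    rw [hDdef, Nat.card_eq_fintype_card, Fintype.card_subtype]
    congr 1
    ext g
    simp only [Finset.mem_filter, Finset.mem_univ, true_and]
    exact (hf0 g).symm
  have hpt : ∀ g, (f g) ^ 2 + n ≤ (n + 1) * f g + n * (if f g = 0 then 1 else 0) := by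
    intro g
    by_cases h0 : f g = 0
    · simp [h0]
    · simp only [h0, if_false, mul_zero, add_zero]
      have h2 := hfle g
      obtain ⟨a, ha⟩ : ∃ a, f g = a + 1 := ⟨f g - 1, by omega⟩
      obtain ⟨b, hb⟩ : ∃ b, n = f g + b := ⟨n - f g, by omega⟩
      rw [hb, ha]
      nlinarith [Nat.zero_le (a * b)]
  have hsum : N * c + n * c ≤ (n + 1) * c + n * D := by
    calc N * c + n * c = ∑ g : G, ((f g) ^ 2 + n) := by
          rw [Finset.sum_add_distrib, hF2, Finset.sum_const, Finset.card_univ, hc,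
            Nat.card_eq_fintype_card, smul_eq_mul, mul_comm n]
      _ ≤ ∑ g : G, ((n + 1) * f g + n * (if f g = 0 then 1 else 0)) :=
          Finset.sum_le_sum (fun g _ => hpt g)
      _ = (n + 1) * c + n * D := by
          rw [Finset.sum_add_distrib, ← Finset.mul_sum, hF1, ← Finset.mul_sum, Finset.sum_boole, hD]
          simp
  by_cases hlt : c < n * D
  · exact Or.inr hlt
  left
  have hle : n * D ≤ c := not_lt.mp hlt
  have h1 : N * c ≤ c + n * D := by nlinarith
  have h2 : 2 * c ≤ N * c := Nat.mul_le_mul_right c hN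
  have heq : n * D = c := by omega
  have hN2 : N = 2 := by
    have : N * c ≤ 2 * c := by omega
    have := Nat.le_of_mul_le_mul_right this hcpos
    omega
  -- equality pointwise
  have hpteq : ∀ g, (f g) ^ 2 + n = (n + 1) * f g + n * (if f g = 0 then 1 else 0) := by
    have hsumeq : ∑ g : G, ((f g) ^ 2 + n) = ∑ g : G, ((n + 1) * f g + n * (if f g = 0 then 1 else 0)) := by
      have e1 : ∑ g : G, ((f g) ^ 2 + n) = N * c + n * c := by
        rw [Finset.sum_add_distrib, hF2, Finset.sum_const, Finset.card_univ, hc,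
            Nat.card_eq_fintype_card, smul_eq_mul, mul_comm n]
      have e2 : ∑ g : G, ((n + 1) * f g + n * (if f g = 0 then 1 else 0)) = (n + 1) * c + n * D := by
        rw [Finset.sum_add_distrib, ← Finset.mul_sum, hF1, ← Finset.mul_sum, Finset.sum_boole, hD]
        simp
      rw [e1, e2, hN2, heq]; ring
    intro g
    exact (Finset.sum_eq_sum_iff_of_le (fun g _ => hpt g)).mp hsumeq g (Finset.mem_univ g)
  have hval : ∀ g, g ≠ 1 → f g = 0 ∨ f g = 1 := by
    intro g hg
    by_cases h0 : f g = 0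
    · exact Or.inl h0
    right
    have h := hpteq g
    simp only [h0, if_false, mul_zero, add_zero] at h
    have h2 := hfle g
    have hne : f g ≠ n := fun h' => hg (hfn g h')
    obtain ⟨a, ha⟩ : ∃ a, f g = a + 1 := ⟨f g - 1, by omega⟩
    obtain ⟨b, hb⟩ : ∃ b, n = f g + b + 1 := ⟨n - f g - 1, by omega⟩
    rw [hb, ha] at h
    have : a * (b + 1) = 0 := by nlinarith
    rcases Nat.mul_eq_zero.mp this with h' | h'
    · omega
    · omega
  have hsq : ∀ g, g ≠ 1 → (f g) ^ 2 = f g := by
    intro g hg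
    rcases hval g hg with h | h <;> rw [h] <;> norm_num
  -- the order of G
  have hcard : c = n * (n - 1) := by
    have e1 : ∑ g : G, (f g) ^ 2 = n ^ 2 + ∑ g ∈ Finset.univ.erase (1 : G), f g := by
      rw [← Finset.add_sum_erase _ _ (Finset.mem_univ (1 : G)), hf1]
      congr 1
      apply Finset.sum_congr rfl
      intro g hg
      exact hsq g (Finset.ne_of_mem_erase hg)
    have e2 : ∑ g : G, f g = n + ∑ g ∈ Finset.univ.erase (1 : G), f g := by
      rw [← Finset.add_sum_erase _ _ (Finset.mem_univ (1 : G)), hf1]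
    rw [hF2, hN2] at e1
    rw [hF1] at e2
    have : c + n = n ^ 2 := by omega
    obtain ⟨k, hk⟩ : ∃ k, n = k + 1 := ⟨n - 1, by omega⟩
    rw [hk] at this ⊢
    simp only [Nat.add_sub_cancel]
    nlinarith
  refine ⟨⟨htr, ?_, ?_⟩, hcard, heq⟩
  · -- a non-identity element with a fixed point
    by_contra hcon
    push Not at hcon
    have hall : ∀ g, g ≠ 1 → f g = 0 := by
      intro g hg
      rw [hf0]
      exact hcon g hg
    have e2 : ∑ g : G, f g = n + ∑ g ∈ Finset.univ.erase (1 : G), f g := by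
      rw [← Finset.add_sum_erase _ _ (Finset.mem_univ (1 : G)), hf1]
    have e3 : ∑ g ∈ Finset.univ.erase (1 : G), f g = 0 := by
      apply Finset.sum_eq_zero
      intro g hg
      exact hall g (Finset.ne_of_mem_erase hg)
    rw [hF1, e3, add_zero] at e2
    rw [e2] at hcard
    obtain ⟨k, hk⟩ : ∃ k, n = k + 3 := ⟨n - 3, by omega⟩
    rw [hk] at hcard
    have : k + 3 - 1 = k + 2 := by omega
    rw [this] at hcard
    nlinarith
  · intro g hg
    rw [hfg]
    rcases hval g hg with h | h <;> omega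

end Cfsg.Agent.S5729
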