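import Cfsg.Statements.S5739
import Mathlib

set_option autoImplicit false

namespace Cfsg.Agent.S5739

open Module

variable {F K : Type*} [Field F] [Field K] [Algebra F K]

/-- left multiplication as a monoid hom. -/
noncomputable abbrev lm (F K : Type*) [Field F] [Field K] [Algebra F K] : K →* Module.End F K :=
  ((Algebra.lmul F K : K →ₐ[F] Module.End F K) : K →* Module.End F K)

theorem lm_apply (κ x : K) : lm F K κ x = κ * x := rfl

theorem lm_injective : Function.Injective (lm F K) := by
  intro a b hab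
  have := LinearMap.congr_fun hab 1
  rw [lm_apply, lm_apply, mul_one, mul_one] at this
  exact this

theorem lm_add (a b : K) : lm F K (a + b) = lm F K a + lm F K b := by
  apply LinearMap.ext
  intro x
  rw [LinearMap.add_apply, lm_apply, lm_apply, lm_apply, add_mul]

theorem lm_zero : lm F K 0 = 0 := by
  apply LinearMap.ext
  intro x
  rw [lm_apply, zero_mul, LinearMap.zero_apply]

theorem lm_algebraMap (c : F) : lm F K (algebraMap F K c) = algebraMap F (Module.End F K) c := by
  apply LinearMap.ext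
  intro x
  rw [lm_apply, Module.algebraMap_end_apply, Algebra.smul_def]

/-- the subalgebra of those `κ` whose multiplication lies in the conjugate of `lmul K`. -/
noncomputable def LL (g : (Module.End F K)ˣ) : Subalgebra F K where
  carrier := {κ | ∃ κ' : K, (g : Module.End F K) * lm F K κ' * ((g⁻¹ : (Module.End F K)ˣ) :
    Module.End F K) = lm F K κ}
  mul_mem' := by
    rintro a b ⟨a', ha⟩ ⟨b', hb⟩
    refine ⟨a' * b', ?_⟩
    rw [map_mul, map_mul, ← ha, ← hb]
    have h1 : ((g⁻¹ : (Module.End F K)ˣ) : Module.End F K) * (g : Module.End F K) = 1 := by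
      rw [← Units.val_mul, inv_mul_cancel, Units.val_one]
    calc (g : Module.End F K) * (lm F K a' * lm F K b') * ((g⁻¹ : (Module.End F K)ˣ) :
          Module.End F K)
        = (g : Module.End F K) * lm F K a' * (((g⁻¹ : (Module.End F K)ˣ) : Module.End F K) *
          (g : Module.End F K)) * lm F K b' * ((g⁻¹ : (Module.End F K)ˣ) :
          Module.End F K) := by rw [h1, mul_one]; simp only [mul_assoc]
      _ = _ := by simp only [mul_assoc]
  one_mem' := by
    refine ⟨1, ?_⟩
    rw [map_one, mul_one, ← Units.val_mul, mul_inv_cancel, Units.val_one]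
  add_mem' := by
    rintro a b ⟨a', ha⟩ ⟨b', hb⟩
    refine ⟨a' + b', ?_⟩
    rw [lm_add, lm_add, ← ha, ← hb, mul_add, add_mul]
  zero_mem' := by
    refine ⟨0, ?_⟩
    rw [lm_zero, mul_zero, zero_mul]
  algebraMap_mem' := by
    intro c
    refine ⟨algebraMap F K c, ?_⟩
    rw [lm_algebraMap, ← Algebra.commutes, mul_assoc, ← Units.val_mul, mul_inv_cancel, Units.val_one,
      mul_one]

theorem mem_LL (g : (Module.End F K)ˣ) (κ : K) : κ ∈ LL g ↔ ∃ κ' : K,
    (g : Module.End F K) * lm F K κ' * ((g⁻¹ : (Module.End F K)ˣ) : Module.End F K) = lm F K κ :=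
  Iff.rfl

/-- Let F ⊆ K be finite fields with |F| = q and [K : F] = n ≥ 2, and let M ≤ GL_F(K) be the Singer group of multiplications by non-zero elements of K. If g ∈ GL_F(K) does not normalise M, then the order of M ∩ gMg⁻¹ divides q^r − 1 for some proper divisor r of n. In particular, when n is prime, that order divides q − 1. -/
theorem result {F K : Type*} [Field F] [Fintype F] [Field K] [Fintype K] [Algebra F K] (n : ℕ) (hn : 2 ≤ n) (hdim : Module.finrank F K = n)
    (g : (Module.End F K)ˣ) (hg : ((Units.map ((Algebra.lmul F K : K →ₐ[F] Module.End F K) : K →* Module.End F K)).range).map (MulAut.conj g).toMonoidHom ≠ (Units.map ((Algebra.lmul F K : K →ₐ[F] Module.End F K) : K →* Module.End F K)).range) :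
    ∃ r : ℕ, 1 ≤ r ∧ r ∣ n ∧ r < n ∧ Nat.card ↥(((Units.map ((Algebra.lmul F K : K →ₐ[F] Module.End F K) : K →* Module.End F K)).range).map (MulAut.conj g).toMonoidHom ⊓ (Units.map ((Algebra.lmul F K : K →ₐ[F] Module.End F K) : K →* Module.End F K)).range) ∣ Fintype.card F ^ r - 1 := by
  classical
  change ((Units.map (lm F K)).range).map (MulAut.conj g).toMonoidHom ≠ (Units.map (lm F K)).range at hg
  change ∃ r : ℕ, 1 ≤ r ∧ r ∣ n ∧ r < n ∧ Nat.card ↥(((Units.map (lm F K)).range).map
    (MulAut.conj g).toMonoidHom ⊓ (Units.map (lm F K)).range) ∣ Fintype.card F ^ r - 1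
  set M := (Units.map (lm F K)).range with hM
  have hEfin : Finite (Module.End F K) :=
    Finite.of_injective (fun f : Module.End F K => (f : K → K)) DFunLike.coe_injective
  have halg : Algebra.IsAlgebraic F K := Algebra.IsAlgebraic.of_finite F K
  set Lf : IntermediateField F K :=
    (LL g).toIntermediateField' (Subalgebra.isField_of_algebraic (LL g)) with hLf
  have hmemLf : ∀ κ, κ ∈ Lf ↔ κ ∈ LL g := fun κ => Iff.rfl
  set r := finrank F Lf with hr
  have hr1 : 1 ≤ r := Module.finrank_pos
  have hrn : r ∣ n := by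
    rw [← hdim, ← Module.finrank_mul_finrank F Lf K]
    exact dvd_mul_right _ _
  have hcardLf : Nat.card Lf = Fintype.card F ^ r := by
    rw [Module.natCard_eq_pow_finrank (K := F) (V := Lf), Nat.card_eq_fintype_card]
  -- elements of M
  have hmemM : ∀ u : (Module.End F K)ˣ, u ∈ M ↔ ∃ v : Kˣ, lm F K v = (u : Module.End F K) := by
    intro u
    rw [hM, MonoidHom.mem_range]
    constructor
    · rintro ⟨v, rfl⟩
      exact ⟨v, rfl⟩
    · rintro ⟨v, hv⟩
      exact ⟨v, Units.ext hv⟩
  have hmemgM : ∀ u : (Module.End F K)ˣ, u ∈ M.map (MulAut.conj g).toMonoidHom ↔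
      ∃ v : Kˣ, (g : Module.End F K) * lm F K v * ((g⁻¹ : (Module.End F K)ˣ) : Module.End F K) =
        (u : Module.End F K) := by
    intro u
    rw [Subgroup.mem_map]
    constructor
    · rintro ⟨m, hm, rfl⟩
      obtain ⟨v, hv⟩ := (hmemM m).1 hm
      refine ⟨v, ?_⟩
      rw [hv]
      rfl
    · rintro ⟨v, hv⟩
      refine ⟨Units.map (lm F K) v, (hmemM _).2 ⟨v, rfl⟩, ?_⟩
      apply Units.ext
      rw [← hv]
      rfl
  -- r < n
  have hrlt : r < n := by
    by_contra hcon
    have hre : r = n := le_antisymm (Nat.le_of_dvd (by omega) hrn) (not_lt.1 hcon)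
    have htop : ∀ κ : K, κ ∈ LL g := by
      intro κ
      have h1 : (Subalgebra.toSubmodule (LL g)) = ⊤ := by
        apply Submodule.eq_top_of_finrank_eq
        rw [hdim, ← hre]
        rfl
      have : κ ∈ Subalgebra.toSubmodule (LL g) := by rw [h1]; trivial
      exact this
    apply hg
    symm
    apply Subgroup.eq_of_le_of_card_ge
    · intro u hu
      obtain ⟨v, hv⟩ := (hmemM u).1 hu
      obtain ⟨κ', hκ'⟩ := (mem_LL g v).1 (htop v)
      have hκ'0 : κ' ≠ 0 := by
        rintro rfl
        rw [lm_zero, mul_zero, zero_mul] at hκ'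
        have h2 : lm F K (v : K) = lm F K 0 := by rw [← hκ', lm_zero]
        exact v.ne_zero (lm_injective h2)
      rw [hmemgM]
      exact ⟨Units.mk0 κ' hκ'0, by rw [← hv, ← hκ']; rfl⟩
    · rw [Subgroup.card_map_of_injective (MulAut.conj g).injective]
  refine ⟨r, hr1, hrn, hrlt, ?_⟩
  -- the bijection
  have hΦmem : ∀ u : Lfˣ, Units.map (lm F K) (Units.map (algebraMap Lf K : Lf →* K) u) ∈
      M.map (MulAut.conj g).toMonoidHom ⊓ M := by
    intro u
    refine Subgroup.mem_inf.2 ⟨?_, (hmemM _).2 ⟨_, rfl⟩⟩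
    rw [hmemgM]
    obtain ⟨κ', hκ'⟩ := (mem_LL g _).1 ((hmemLf _).1 (u : Lf).2)
    have hκ'0 : κ' ≠ 0 := by
      rintro rfl
      rw [lm_zero, mul_zero, zero_mul] at hκ'
      have h2 : lm F K ((u : Lf) : K) = lm F K 0 := by rw [← hκ', lm_zero]
      have h3 : ((u : Lf) : K) = 0 := lm_injective h2
      exact u.ne_zero (Subtype.ext h3)
    exact ⟨Units.mk0 κ' hκ'0, hκ'⟩
  let Φ : Lfˣ → ↥(M.map (MulAut.conj g).toMonoidHom ⊓ M) := fun u => ⟨_, hΦmem u⟩
  have hΦbij : Function.Bijective Φ := by
    constructor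
    · intro u v huv
      have h1 : lm F K ((u : Lf) : K) = lm F K ((v : Lf) : K) := by
        have := congrArg (fun w : ↥(M.map (MulAut.conj g).toMonoidHom ⊓ M) =>
          ((w : (Module.End F K)ˣ) : Module.End F K)) huv
        exact this
      exact Units.ext (Subtype.ext (lm_injective h1))
    · rintro ⟨u, hu1, hu2⟩
      obtain ⟨v, hv⟩ := (hmemM u).1 hu2
      obtain ⟨v', hv'⟩ := (hmemgM u).1 hu1
      have hvL : (v : K) ∈ Lf := by
        rw [hmemLf, mem_LL]
        exact ⟨v', by rw [hv', hv]⟩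
      refine ⟨Units.mk0 ⟨(v : K), hvL⟩ (fun h0 => v.ne_zero (congrArg Subtype.val h0)), ?_⟩
      apply Subtype.ext
      apply Units.ext
      exact hv
  rw [← Nat.card_congr (Equiv.ofBijective Φ hΦbij), Nat.card_units, hcardLf]

end Cfsg.Agent.S5739
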