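import Cfsg.Statements.S5738
import Mathlib
import Cfsg.Agent.S5739

set_option autoImplicit false

namespace Cfsg.Agent.S5738

open Module Cfsg.Agent.S5739

variable {F K : Type*} [Field F] [Field K] [Algebra F K]

/-- an algebra automorphism as a unit of `End`. -/
noncomputable def sU (σ : K ≃ₐ[F] K) : (Module.End F K)ˣ :=
  ⟨σ.toLinearMap, σ.symm.toLinearMap,
    by apply LinearMap.ext; intro x; simp,
    by apply LinearMap.ext; intro x; simp⟩

theorem sU_apply (σ : K ≃ₐ[F] K) (x : K) : (sU σ : Module.End F K) x = σ x := rfl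

theorem sU_inv_apply (σ : K ≃ₐ[F] K) (x : K) :
    ((sU σ)⁻¹ : (Module.End F K)ˣ).1 x = σ.symm x := rfl

/-- multiplication by a unit as a unit of `End`. -/
noncomputable abbrev lU (κ : Kˣ) : (Module.End F K)ˣ := Units.map (lm F K) κ

theorem lU_apply (κ : Kˣ) (x : K) : (lU (F := F) κ : Module.End F K) x = κ * x := rfl

theorem conj_sU (σ : K ≃ₐ[F] K) (κ : Kˣ) :
    sU σ * lU κ * (sU σ)⁻¹ = lU (F := F) (Units.map (σ : K →* K) κ) := by
  apply Units.ext
  apply LinearMap.ext
  intro x
  rw [Units.val_mul, Units.val_mul, Module.End.mul_apply, Module.End.mul_apply, sU_inv_apply,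
    lU_apply, sU_apply, map_mul, AlgEquiv.apply_symm_apply, lU_apply]
  rfl

theorem mem_M (u : (Module.End F K)ˣ) :
    u ∈ (Units.map (lm F K)).range ↔ ∃ κ : Kˣ, lU κ = u := Iff.rfl

theorem sU_mem_normalizer (σ : K ≃ₐ[F] K) :
    sU σ ∈ Subgroup.normalizer (((Units.map (lm F K)).range : Subgroup (Module.End F K)ˣ) :
      Set (Module.End F K)ˣ) := by
  rw [Subgroup.mem_set_normalizer_iff]
  intro h
  constructor
  · rintro ⟨κ, rfl⟩
    exact ⟨_, (conj_sU σ κ).symm⟩
  · rintro ⟨μ, hμ⟩
    refine ⟨Units.map (σ.symm : K →* K) μ, ?_⟩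
    have h1 : h = (sU σ)⁻¹ * lU μ * sU σ := by
      change h = (sU σ)⁻¹ * (Units.map (lm F K) μ) * sU σ
      rw [hμ]; group
    have h2 : (sU σ)⁻¹ = sU σ.symm := by
      apply Units.ext
      apply LinearMap.ext
      intro x
      rfl
    rw [h1, h2]
    have := conj_sU (F := F) σ.symm μ
    have h3 : (sU σ.symm)⁻¹ = sU σ := by rw [← h2, inv_inv]
    rw [h3] at this
    exact this.symm

/-- Let F ⊆ K be finite fields with |F| = q and [K : F] = n ≥ 2, so |K| = q^n. Regard K as an n-dimensional F-vector space; the multiplications by non-zero elements of K form a cyclic subgroup of GL_F(K) of order q^n − 1 acting regularly on the non-zero vectors (a Singer group). Its normaliser in GL_F(K) has order n·(q^n − 1). -/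
theorem result {F K : Type*} [Field F] [Fintype F] [Field K] [Fintype K] [Algebra F K] (n : ℕ) (hn : 2 ≤ n) (hdim : Module.finrank F K = n) :
    Nat.card (Subgroup.normalizer (((Units.map ((Algebra.lmul F K : K →ₐ[F] Module.End F K) : K →* Module.End F K)).range : Subgroup (Module.End F K)ˣ) : Set (Module.End F K)ˣ)) = n * (Fintype.card K - 1) := by
  classical
  change Nat.card (Subgroup.normalizer (((Units.map (lm F K)).range : Subgroup (Module.End F K)ˣ) :
    Set (Module.End F K)ˣ)) = n * (Fintype.card K - 1)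
  set M : Subgroup (Module.End F K)ˣ := (Units.map (lm F K)).range with hM
  have hΨmem : ∀ p : Kˣ × (K ≃ₐ[F] K), lU p.1 * sU p.2 ∈ Subgroup.normalizer (M : Set _) := by
    intro p
    apply mul_mem
    · exact Subgroup.le_normalizer ⟨p.1, rfl⟩
    · exact sU_mem_normalizer p.2
  let Ψ : Kˣ × (K ≃ₐ[F] K) → ↥(Subgroup.normalizer (M : Set (Module.End F K)ˣ)) :=
    fun p => ⟨_, hΨmem p⟩
  have hΨinj : Function.Injective Ψ := by
    rintro ⟨κ, σ⟩ ⟨κ', σ'⟩ h
    have h1 : lU (F := F) κ * sU σ = lU κ' * sU σ' := congrArg Subtype.val h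
    have h2 : ∀ x, (κ : K) * σ x = (κ' : K) * σ' x := by
      intro x
      have := LinearMap.congr_fun (congrArg Units.val h1) x
      exact this
    have h3 : κ = κ' := by
      apply Units.ext
      have := h2 1
      rw [map_one, map_one, mul_one, mul_one] at this
      exact this
    subst h3
    have h4 : σ = σ' := by
      apply AlgEquiv.ext
      intro x
      exact mul_left_cancel₀ κ.ne_zero (h2 x)
    rw [h4]
  have hΨsurj : Function.Surjective Ψ := by
    rintro ⟨g, hg⟩
    rw [Subgroup.mem_set_normalizer_iff] at hg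
    -- κ = g 1
    have hginj : Function.Injective (g : Module.End F K) := by
      intro a b hab
      have := congrArg ((g⁻¹ : (Module.End F K)ˣ) : Module.End F K) hab
      rw [← Module.End.mul_apply, ← Module.End.mul_apply, ← Units.val_mul, inv_mul_cancel] at this
      exact this
    have hκ0 : (g : Module.End F K) 1 ≠ 0 := by
      intro h0
      have := hginj (h0.trans (map_zero _).symm)
      exact one_ne_zero this
    set κ : Kˣ := Units.mk0 _ hκ0 with hκ
    set g' : (Module.End F K)ˣ := (lU κ)⁻¹ * g with hg'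
    have hg'1 : (g' : Module.End F K) 1 = 1 := by
      rw [hg', Units.val_mul, Module.End.mul_apply]
      change (((lU (F := F) κ)⁻¹ : (Module.End F K)ˣ) : Module.End F K) ((κ : K)) = 1
      have h1 : (((lU (F := F) κ)⁻¹ : (Module.End F K)ˣ) : Module.End F K) ((κ : K)) =
          (((lU (F := F) κ)⁻¹ : (Module.End F K)ˣ) : Module.End F K)
            ((lU (F := F) κ : Module.End F K) 1) := by
        rw [lU_apply, mul_one]
      rw [h1, ← Module.End.mul_apply, ← Units.val_mul, inv_mul_cancel]
      rfl
    have hg'inv1 : ((g'⁻¹ : (Module.End F K)ˣ) : Module.End F K) 1 = 1 := by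
      have h1 : ((g'⁻¹ : (Module.End F K)ˣ) : Module.End F K) ((g' : Module.End F K) 1) = 1 := by
        rw [← Module.End.mul_apply, ← Units.val_mul, inv_mul_cancel]
        rfl
      rw [hg'1] at h1
      exact h1
    -- g' normalizes M
    have hg'N : ∀ h, h ∈ M → g' * h * g'⁻¹ ∈ M := by
      intro h hh
      have h1 : g' * h * g'⁻¹ = (lU κ)⁻¹ * (g * h * g⁻¹) * lU κ := by
        rw [hg']; group
      rw [h1]
      have hκM : lU (F := F) κ ∈ M := ⟨κ, rfl⟩
      exact mul_mem (mul_mem (inv_mem hκM) ((hg h).1 hh)) hκM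
    -- multiplicativity
    have hmul : ∀ a b : K, (g' : Module.End F K) (a * b) =
        (g' : Module.End F K) a * (g' : Module.End F K) b := by
      intro a b
      by_cases ha : a = 0
      · rw [ha, zero_mul, map_zero, zero_mul]
      · obtain ⟨τ, hτ⟩ := hg'N (lU (Units.mk0 a ha)) ⟨_, rfl⟩
        have h1 : ∀ x, (τ : K) * x = (g' : Module.End F K) (a *
            ((g'⁻¹ : (Module.End F K)ˣ) : Module.End F K) x) := by
          intro x
          have := LinearMap.congr_fun (congrArg Units.val hτ) x
          exact this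
        have h2 : (τ : K) = (g' : Module.End F K) a := by
          have := h1 1
          rw [mul_one, hg'inv1, mul_one] at this
          exact this
        have h3 := h1 ((g' : Module.End F K) b)
        rw [← Module.End.mul_apply ((g'⁻¹ : (Module.End F K)ˣ) : Module.End F K),
          ← Units.val_mul, inv_mul_cancel, Units.val_one, Module.End.one_apply, h2] at h3
        exact h3.symm
    let e : K ≃ₗ[F] K := LinearEquiv.ofLinearMap (g' : Module.End F K)
      ((g'⁻¹ : (Module.End F K)ˣ) : Module.End F K)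
      (by rw [← Module.End.mul_eq_comp, ← Units.val_mul, mul_inv_cancel]; rfl)
      (by rw [← Module.End.mul_eq_comp, ← Units.val_mul, inv_mul_cancel]; rfl)
    let σ : K ≃ₐ[F] K := AlgEquiv.ofLinearEquiv e hg'1 hmul
    refine ⟨(κ, σ), ?_⟩
    apply Subtype.ext
    change lU κ * sU σ = g
    have h1 : sU σ = g' := by
      apply Units.ext
      apply LinearMap.ext
      intro x
      rfl
    rw [h1, hg', mul_inv_cancel_left]
  rw [← Nat.card_congr (Equiv.ofBijective Ψ ⟨hΨinj, hΨsurj⟩), Nat.card_prod, Nat.card_units,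
    IsGalois.card_aut_eq_finrank, hdim, Nat.card_eq_fintype_card, mul_comm]

end Cfsg.Agent.S5738
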