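import Cfsg.Statements.S5747
import Mathlib

set_option autoImplicit false
open Cfsg

namespace Cfsg.Agent.S5747

section
variable {G Ω : Type*} [Group G] [MulAction G Ω]

/-- `g` fixes every point of the list. -/
def Fx (g : G) (P : List Ω) : Prop := ∀ x ∈ P, g • x = x

/-- Some element fixing `P` pointwise moves `x`. -/
def Mv (G : Type*) [Group G] [MulAction G Ω] (P : List Ω) (x : Ω) : Prop := ∃ g : G, Fx g P ∧ g • x ≠ x

/-- `l` is irredundant relative to the prefix `P`. -/
def Irr (G : Type*) [Group G] [MulAction G Ω] : List Ω → List Ω → Prop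
  | _, [] => True
  | P, x :: l => Mv G P x ∧ Irr G (P ++ [x]) l

/-- `P ++ l` is a base. -/
def Bs (G : Type*) [Group G] [MulAction G Ω] (P l : List Ω) : Prop := ∀ g : G, Fx g P → Fx g l → g = 1

/-- relative irredundant base -/
def Ch (G : Type*) [Group G] [MulAction G Ω] (P l : List Ω) : Prop := Irr G P l ∧ Bs G P l

theorem fx_append (g : G) (P Q : List Ω) : Fx g (P ++ Q) ↔ Fx g P ∧ Fx g Q := by
  unfold Fx
  simp only [List.mem_append]
  constructor
  · intro h
    exact ⟨fun x hx => h x (Or.inl hx), fun x hx => h x (Or.inr hx)⟩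
  · rintro ⟨h1, h2⟩ x (hx | hx)
    · exact h1 x hx
    · exact h2 x hx

theorem fx_cons (g : G) (x : Ω) (Q : List Ω) : Fx g (x :: Q) ↔ g • x = x ∧ Fx g Q := by
  unfold Fx
  simp only [List.mem_cons, forall_eq_or_imp]

theorem fx_nil (g : G) : Fx g ([] : List Ω) := by
  intro x hx
  simp at hx

theorem fx_singleton (g : G) (x : Ω) : Fx g [x] ↔ g • x = x := by
  rw [fx_cons]
  exact ⟨fun h => h.1, fun h => ⟨h, fx_nil g⟩⟩

theorem irr_cons (P : List Ω) (x : Ω) (l : List Ω) :
    Irr G P (x :: l) ↔ Mv G P x ∧ Irr G (P ++ [x]) l := Iff.rfl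

theorem bs_cons (P : List Ω) (x : Ω) (l : List Ω) : Bs G P (x :: l) ↔ Bs G (P ++ [x]) l := by
  unfold Bs
  constructor
  · intro h g h1 h2
    rw [fx_append, fx_singleton] at h1
    exact h g h1.1 ((fx_cons g x l).mpr ⟨h1.2, h2⟩)
  · intro h g h1 h2
    rw [fx_cons] at h2
    exact h g ((fx_append g P [x]).mpr ⟨h1, (fx_singleton g x).mpr h2.1⟩) h2.2

theorem ch_cons (P : List Ω) (x : Ω) (l : List Ω) :
    Ch G P (x :: l) ↔ Mv G P x ∧ Ch G (P ++ [x]) l := by
  unfold Ch
  rw [irr_cons, bs_cons, and_assoc]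

/-- prefix lists with the same fixers are interchangeable -/
theorem irr_congr {P P' : List Ω} (h : ∀ g : G, Fx g P ↔ Fx g P') (l : List Ω) :
    Irr G P l ↔ Irr G P' l := by
  induction l generalizing P P' with
  | nil => exact Iff.rfl
  | cons x l ih =>
    rw [irr_cons, irr_cons]
    have h1 : Mv G P x ↔ Mv G P' x := by
      unfold Mv
      constructor
      · rintro ⟨g, hg, hx⟩
        exact ⟨g, (h g).mp hg, hx⟩
      · rintro ⟨g, hg, hx⟩
        exact ⟨g, (h g).mpr hg, hx⟩
    have h2 : ∀ g : G, Fx g (P ++ [x]) ↔ Fx g (P' ++ [x]) := by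
      intro g
      rw [fx_append, fx_append, h g]
    rw [h1, ih h2]

theorem bs_congr {P P' : List Ω} (h : ∀ g : G, Fx g P ↔ Fx g P') (l : List Ω) :
    Bs G P l ↔ Bs G P' l := by
  unfold Bs
  constructor
  · intro hb g h1 h2
    exact hb g ((h g).mpr h1) h2
  · intro hb g h1 h2
    exact hb g ((h g).mp h1) h2

theorem ch_congr {P P' : List Ω} (h : ∀ g : G, Fx g P ↔ Fx g P') (l : List Ω) :
    Ch G P l ↔ Ch G P' l := by
  unfold Ch
  rw [irr_congr h, bs_congr h]

theorem irr_append (P Q l : List Ω) : Irr G P (Q ++ l) ↔ Irr G P Q ∧ Irr G (P ++ Q) l := by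
  induction Q generalizing P with
  | nil => simp [Irr]
  | cons x Q ih =>
    rw [List.cons_append, irr_cons, irr_cons, ih, and_assoc]
    have : P ++ [x] ++ Q = P ++ x :: Q := by simp
    rw [this]

theorem bs_append (P Q l : List Ω) : Bs G P (Q ++ l) ↔ Bs G (P ++ Q) l := by
  unfold Bs
  constructor
  · intro h g h1 h2
    rw [fx_append] at h1
    exact h g h1.1 ((fx_append g Q l).mpr ⟨h1.2, h2⟩)
  · intro h g h1 h2
    rw [fx_append] at h2
    exact h g ((fx_append g P Q).mpr ⟨h1, h2.1⟩) h2.2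

theorem ch_append (Q l : List Ω) : Ch G [] (Q ++ l) ↔ Irr G [] Q ∧ Ch G Q l := by
  unfold Ch
  rw [irr_append, bs_append, List.nil_append, and_assoc]

/-- Filtering a base to an irredundant base. -/
theorem filter (P l : List Ω) (h : Bs G P l) :
    ∃ l' : List Ω, l'.length ≤ l.length ∧ Ch G P l' ∧ (l'.length = l.length → l' = l) := by
  induction l generalizing P with
  | nil => exact ⟨[], le_refl _, ⟨trivial, h⟩, fun _ => rfl⟩
  | cons x l ih =>
    by_cases hm : Mv G P x
    · obtain ⟨l', h1, h2, h3⟩ := ih (P ++ [x]) ((bs_cons P x l).mp h)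
      refine ⟨x :: l', by simpa using h1, (ch_cons P x l').mpr ⟨hm, h2⟩, ?_⟩
      intro hlen
      have : l'.length = l.length := by simpa using hlen
      rw [h3 this]
    · have hb : Bs G P l := by
        intro g h1 h2
        apply h g h1
        rw [fx_cons]
        refine ⟨?_, h2⟩
        by_contra hx
        exact hm ⟨g, h1, hx⟩
      obtain ⟨l', h1, h2, _⟩ := ih P hb
      refine ⟨l', by simp only [List.length_cons]; omega, h2, ?_⟩
      intro hlen
      simp only [List.length_cons] at hlen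
      omega


theorem irr_snoc {Q : List Ω} {x : Ω} (hQ : Irr G [] Q) (hx : Mv G Q x) : Irr G [] (Q ++ [x]) := by
  rw [irr_append, List.nil_append]
  exact ⟨hQ, hx, trivial⟩

theorem claim (E : ∀ (Q : List Ω) (x y : Ω) (Z : List Ω), Irr G [] Q → Ch G Q (x :: y :: Z) →
      Ch G Q (y :: x :: Z)) :
    ∀ (n : ℕ) (Q l l' : List Ω), l.length = n → Irr G [] Q → Ch G Q l → Ch G Q l' → l'.length = n := by
  intro n
  induction n with
  | zero =>
    intro Q l l' hl hQ h1 h2
    have : l = [] := List.length_eq_zero_iff.mp hl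
    subst this
    cases l' with
    | nil => rfl
    | cons y l' =>
      exfalso
      obtain ⟨⟨g, hg, hy⟩, _⟩ := (ch_cons Q y l').mp h2
      have := h1.2 g hg (fx_nil g)
      rw [this, one_smul] at hy
      exact hy rfl
  | succ n ih =>
    intro Q l l' hl hQ h1 h2
    obtain ⟨x, l₁, rfl⟩ : ∃ x l₁, l = x :: l₁ := by
      cases l with
      | nil => simp at hl
      | cons x l₁ => exact ⟨x, l₁, rfl⟩
    have hl₁ : l₁.length = n := by simpa using hl
    obtain ⟨hmx, hc1⟩ := (ch_cons Q x l₁).mp h1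
    cases l' with
    | nil =>
      exfalso
      obtain ⟨g, hg, hx⟩ := hmx
      have := h2.2 g hg (fx_nil g)
      rw [this, one_smul] at hx
      exact hx rfl
    | cons y l'₁ =>
      obtain ⟨hmy, hc2⟩ := (ch_cons Q y l'₁).mp h2
      have hQx : Irr G [] (Q ++ [x]) := irr_snoc hQ hmx
      have hQy : Irr G [] (Q ++ [y]) := irr_snoc hQ hmy
      rw [List.length_cons, Nat.add_right_cancel_iff]
      by_cases hA : ∀ g : G, Fx g Q → (g • x = x ↔ g • y = y)
      · have hcongr : ∀ g : G, Fx g (Q ++ [y]) ↔ Fx g (Q ++ [x]) := by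
          intro g
          rw [fx_append, fx_append, fx_singleton, fx_singleton]
          constructor
          · rintro ⟨h1, h2⟩
            exact ⟨h1, (hA g h1).mpr h2⟩
          · rintro ⟨h1, h2⟩
            exact ⟨h1, (hA g h1).mp h2⟩
        have hc2' : Ch G (Q ++ [x]) l'₁ := (ch_congr hcongr l'₁).mp hc2
        exact ih (Q ++ [x]) l₁ l'₁ hl₁ hQx hc1 hc2'
      · push Not at hA
        have key : ∃ Z, Ch G Q (x :: y :: Z) ∧ Ch G Q (y :: x :: Z) := by
          obtain ⟨g, hgQ, hg⟩ := hA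
          rcases hg with ⟨hgx, hgy⟩ | ⟨hgx, hgy⟩
          · have hm : Mv G (Q ++ [x]) y :=
              ⟨g, (fx_append g Q [x]).mpr ⟨hgQ, (fx_singleton g x).mpr hgx⟩, hgy⟩
            have hb : Bs G (Q ++ [x] ++ [y]) l₁ := by
              intro g' h1 h2
              rw [fx_append] at h1
              exact hc1.2 g' h1.1 h2
            obtain ⟨Z, _, hZ, _⟩ := filter _ _ hb
            have hxy : Ch G Q (x :: y :: Z) :=
              (ch_cons Q x (y :: Z)).mpr ⟨hmx, (ch_cons (Q ++ [x]) y Z).mpr ⟨hm, hZ⟩⟩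
            exact ⟨Z, hxy, E Q x y Z hQ hxy⟩
          · have hm : Mv G (Q ++ [y]) x :=
              ⟨g, (fx_append g Q [y]).mpr ⟨hgQ, (fx_singleton g y).mpr hgy⟩, hgx⟩
            have hb : Bs G (Q ++ [y] ++ [x]) l₁ := by
              intro g' h1 h2
              rw [fx_append, fx_append] at h1
              exact hc1.2 g' ((fx_append g' Q [x]).mpr ⟨h1.1.1, h1.2⟩) h2
            obtain ⟨Z, _, hZ, _⟩ := filter _ _ hb
            have hyx : Ch G Q (y :: x :: Z) :=
              (ch_cons Q y (x :: Z)).mpr ⟨hmy, (ch_cons (Q ++ [y]) x Z).mpr ⟨hm, hZ⟩⟩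
            exact ⟨Z, E Q y x Z hQ hyx, hyx⟩
        obtain ⟨Z, hxy, hyx⟩ := key
        obtain ⟨_, hc3⟩ := (ch_cons Q x (y :: Z)).mp hxy
        obtain ⟨_, hc4⟩ := (ch_cons Q y (x :: Z)).mp hyx
        have h5 : (y :: Z).length = n := ih (Q ++ [x]) l₁ (y :: Z) hl₁ hQx hc1 hc3
        have h6 : (x :: Z).length = n := by simpa using h5
        exact ih (Q ++ [y]) (x :: Z) l'₁ h6 hQy hc4 hc2


/-- relative form of the irredundant-base condition for `Fin`-indexed sequences -/
def IBrel (G : Type*) [Group G] [MulAction G Ω] (P : List Ω) {t : ℕ} (f : Fin t → Ω) : Prop :=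
  (∀ g : G, Fx g P → (∀ i : Fin t, g • f i = f i) → g = 1) ∧
    ∀ i : Fin t, ∃ g : G, Fx g P ∧ (∀ j : Fin t, j < i → g • f j = f j) ∧ g • f i ≠ f i

theorem fx_ofFn (g : G) {t : ℕ} (f : Fin t → Ω) : Fx g (List.ofFn f) ↔ ∀ i : Fin t, g • f i = f i := by
  unfold Fx
  simp only [List.mem_ofFn]
  constructor
  · intro h i
    exact h (f i) ⟨i, rfl⟩
  · rintro h x ⟨i, rfl⟩
    exact h i

theorem ibrel_iff (P : List Ω) {t : ℕ} (f : Fin t → Ω) : IBrel G P f ↔ Ch G P (List.ofFn f) := by
  induction t generalizing P with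
  | zero =>
    unfold IBrel Ch Bs
    simp only [List.ofFn_zero]
    constructor
    · rintro ⟨h1, _⟩
      exact ⟨trivial, fun g hg _ => h1 g hg (fun i => i.elim0)⟩
    · rintro ⟨_, h2⟩
      exact ⟨fun g hg _ => h2 g hg (fx_nil g), fun i => i.elim0⟩
  | succ t ih =>
    rw [List.ofFn_succ, ch_cons, ← ih]
    unfold IBrel Mv
    constructor
    · rintro ⟨h1, h2⟩
      refine ⟨?_, ?_, ?_⟩
      · obtain ⟨g, hg, _, hg0⟩ := h2 0
        exact ⟨g, hg, hg0⟩
      · intro g hg hfix
        rw [fx_append, fx_singleton] at hg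
        apply h1 g hg.1
        intro i
        refine Fin.cases hg.2 (fun i' => hfix i') i
      · intro i
        obtain ⟨g, hg, hlt, hmv⟩ := h2 i.succ
        refine ⟨g, ?_, ?_, hmv⟩
        · rw [fx_append, fx_singleton]
          exact ⟨hg, hlt 0 (Fin.succ_pos i)⟩
        · intro j hj
          exact hlt j.succ (Fin.succ_lt_succ_iff.mpr hj)
    · rintro ⟨⟨g0, hg0, hmv0⟩, h1, h2⟩
      refine ⟨?_, ?_⟩
      · intro g hg hfix
        apply h1 g
        · rw [fx_append, fx_singleton]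
          exact ⟨hg, hfix 0⟩
        · intro i
          exact hfix i.succ
      · intro i
        refine Fin.cases ?_ (fun i' => ?_) i
        · exact ⟨g0, hg0, fun j hj => absurd hj (Fin.not_lt_zero j), hmv0⟩
        · obtain ⟨g, hg, hlt, hmv⟩ := h2 i'
          rw [fx_append, fx_singleton] at hg
          refine ⟨g, hg.1, ?_, hmv⟩
          intro j
          refine Fin.cases (fun _ => hg.2) (fun j' hj' => ?_) j
          exact hlt j' (Fin.succ_lt_succ_iff.mp hj')

theorem ib_iff {t : ℕ} (f : Fin t → Ω) :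
    ((∀ g : G, (∀ i : Fin t, g • f i = f i) → g = 1) ∧
      ∀ i : Fin t, ∃ g : G, (∀ j : Fin t, j < i → g • f j = f j) ∧ g • f i ≠ f i) ↔
    Ch G [] (List.ofFn f) := by
  rw [← ibrel_iff]
  unfold IBrel
  constructor
  · rintro ⟨h1, h2⟩
    refine ⟨fun g _ hg => h1 g hg, fun i => ?_⟩
    obtain ⟨g, hg1, hg2⟩ := h2 i
    exact ⟨g, fx_nil g, hg1, hg2⟩
  · rintro ⟨h1, h2⟩
    refine ⟨fun g hg => h1 g (fx_nil g) hg, fun i => ?_⟩
    obtain ⟨g, _, hg1, hg2⟩ := h2 i
    exact ⟨g, hg1, hg2⟩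

end

theorem swap_lemma {α : Type*} (Q : List α) (x y : α) (Z : List α) :
    ∃ σ : Equiv.Perm (Fin (Q ++ x :: y :: Z).length),
      List.ofFn (fun i => (Q ++ x :: y :: Z).get (σ i)) = Q ++ y :: x :: Z := by
  have hp : Q.length < (Q ++ x :: y :: Z).length := by simp
  have hp1 : Q.length + 1 < (Q ++ x :: y :: Z).length := by simp
  refine ⟨Equiv.swap ⟨Q.length, hp⟩ ⟨Q.length + 1, hp1⟩, ?_⟩
  apply List.ext_getElem
  · simp; omega
  · intro i h1 h2
    rw [List.getElem_ofFn]
    by_cases hi : i = Q.length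
    · subst hi
      rw [Equiv.swap_apply_left]
      simp [List.getElem_append_right]
    · by_cases hi1 : i = Q.length + 1
      · subst hi1
        rw [Equiv.swap_apply_right]
        simp [List.getElem_append_right]
      · rw [Equiv.swap_apply_of_ne_of_ne]
        · simp only [List.get_eq_getElem]
          by_cases hlt : i < Q.length
          · rw [List.getElem_append_left hlt, List.getElem_append_left hlt]
          · have hge : Q.length ≤ i := by omega
            rw [List.getElem_append_right hge, List.getElem_append_right hge]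
            obtain ⟨k, hk⟩ : ∃ k, i - Q.length = k + 2 := ⟨i - Q.length - 2, by omega⟩
            simp [hk]
        · intro h
          exact hi (congrArg Fin.val h)
        · intro h
          exact hi1 (congrArg Fin.val h)

theorem result {G Ω : Type*} [Group G] [Finite G] [MulAction G Ω] [Fintype Ω] :
    (∀ (t t' : ℕ) (f : Fin t → Ω) (f' : Fin t' → Ω), ((∀ g : G, (∀ i : Fin t, g • f i = f i) → g = 1) ∧ ∀ i : Fin t, ∃ g : G, (∀ j : Fin t, j < i → g • f j = f j) ∧ g • f i ≠ f i) → ((∀ g : G, (∀ i : Fin t', g • f' i = f' i) → g = 1) ∧ ∀ i : Fin t', ∃ g : G, (∀ j : Fin t', j < i → g • f' j = f' j) ∧ g • f' i ≠ f' i) → t = t') ↔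
    (∀ (t : ℕ) (f : Fin t → Ω) (σ : Equiv.Perm (Fin t)), ((∀ g : G, (∀ i : Fin t, g • f i = f i) → g = 1) ∧ ∀ i : Fin t, ∃ g : G, (∀ j : Fin t, j < i → g • f j = f j) ∧ g • f i ≠ f i) → ((∀ g : G, (∀ i : Fin t, g • (f ∘ σ) i = (f ∘ σ) i) → g = 1) ∧ ∀ i : Fin t, ∃ g : G, (∀ j : Fin t, j < i → g • (f ∘ σ) j = (f ∘ σ) j) ∧ g • (f ∘ σ) i ≠ (f ∘ σ) i)) := by
  constructor
  · intro hS t f σ hf
    rw [ib_iff]
    have hb : Bs G [] (List.ofFn (f ∘ σ)) := by
      intro g _ hg
      rw [fx_ofFn] at hg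
      apply hf.1 g
      intro i
      have := hg (σ.symm i)
      simpa using this
    obtain ⟨l', h1, h2, h3⟩ := filter [] _ hb
    rw [List.length_ofFn] at h1 h3
    have hl' : Ch G [] (List.ofFn (fun i : Fin l'.length => l'.get i)) := by
      rw [List.ofFn_get]
      exact h2
    rw [← ib_iff] at hl'
    have := hS t l'.length f (fun i => l'.get i) hf hl'
    rw [← h3 this.symm]
    exact h2
  · intro hR t t' f f' hf hf'
    have E : ∀ (Q : List Ω) (x y : Ω) (Z : List Ω), Irr G [] Q → Ch G Q (x :: y :: Z) →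
        Ch G Q (y :: x :: Z) := by
      intro Q x y Z hQ hch
      have h1 : Ch G [] (Q ++ x :: y :: Z) := (ch_append Q _).mpr ⟨hQ, hch⟩
      obtain ⟨σ, hσ⟩ := swap_lemma Q x y Z
      have h2 : Ch G [] (List.ofFn (fun i : Fin (Q ++ x :: y :: Z).length => (Q ++ x :: y :: Z).get i)) := by
        rw [List.ofFn_get]
        exact h1
      rw [← ib_iff] at h2
      have h3 := hR _ _ σ h2
      rw [ib_iff] at h3
      have h4 : Ch G [] (Q ++ y :: x :: Z) := by
        rw [← hσ]
        exact h3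
      exact ((ch_append Q _).mp h4).2
    rw [ib_iff] at hf hf'
    have := claim E t [] (List.ofFn f) (List.ofFn f') (List.length_ofFn) trivial hf hf'
    rw [List.length_ofFn] at this
    exact this.symm

end Cfsg.Agent.S5747
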