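import Cfsg.Statements.S5748
import Cfsg.Agent.S0183
import Cfsg.Agent.S1230
import Cfsg.Agent.Lib.Helper7.CAGrpB
import Cfsg.Agent.Lib.Helper7.CAGrpC

set_option autoImplicit false
open Cfsg

namespace Cfsg.Agent.S5748

open Cfsg.Agent.Lib.Helper7.CAGrp Cfsg.Agent.Lib.Helper7.ExcA

/-- the forward direction -/
theorem forward_aux {G : Type*} [Group G] [Finite G] [IsSimpleGroup G]
    (hG : ¬ IsMulCommutative G)
    (hCT : ∀ a b c : G, a ≠ 1 → b ≠ 1 → c ≠ 1 → Commute a b → Commute b c → Commute a c) :
    ∃ (F : Type) (_ : Field F) (_ : Fintype F) (f : ℕ), 2 ≤ f ∧ Fintype.card F = 2 ^ f ∧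
      Nonempty (G ≃* Matrix.ProjectiveSpecialLinearGroup (Fin 2) F) := by
  haveI : Fact (Nat.Prime 2) := ⟨Nat.prime_two⟩
  -- the centralizer of every nonidentity element is abelian
  have hCA : IsCA G := by
    intro x hx a b hax hbx
    by_cases ha : a = 1
    · rw [ha, one_mul, mul_one]
    by_cases hb : b = 1
    · rw [hb, one_mul, mul_one]
    exact (hCT a x b ha hx hb hax (hbx.symm : x * b = b * x)).eq
  -- `G` is not commutative
  have hnc : ∃ a b : G, a * b ≠ b * a := by
    by_contra hcon
    push Not at hcon
    exact hG ⟨⟨hcon⟩⟩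
  have hnsol : ¬ Group.IsSolvable G := fun hs => by
    obtain ⟨a, b, hab⟩ := hnc
    exact hab (IsSimpleGroup.comm_iff_isSolvable.mpr hs a b)
  -- `G` has even order
  have heven : 2 ∣ Nat.card G := by
    by_contra hodd
    apply hnsol
    apply Cfsg.Agent.S0183.result (Nat.not_even_iff_odd.mp (fun he => hodd (even_iff_two_dvd.mp he)))
    intro g hg
    have hcomm : ∀ a b : Subgroup.centralizer ({g} : Set G), a * b = b * a := by
      intro a b
      apply Subtype.ext
      exact (hyp hCA hg).comm a a.2 b b.2
    letI : CommGroup (Subgroup.centralizer ({g} : Set G)) :=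
      { (inferInstance : Group (Subgroup.centralizer ({g} : Set G))) with mul_comm := hcomm }
    exact CommGroup.isNilpotent
  obtain ⟨t, ht⟩ := exists_prime_orderOf_dvd_card' 2 heven
  have ht1 := ne_one_of_orderOf ht
  have hsq := centralizer_sq_eq_one hCA hnc ht
  have hA : Subgroup.centralizer ({t} : Set G) ≠ ⊤ := by
    intro htop
    obtain ⟨a, b, hab⟩ := hnc
    apply hab
    have ha : a ∈ Subgroup.centralizer ({t} : Set G) := by rw [htop]; trivial
    have hb : b ∈ Subgroup.centralizer ({t} : Set G) := by rw [htop]; trivial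
    exact (hyp hCA ht1).comm a ha b hb
  obtain ⟨s, hsA, hs2, hst⟩ := exists_two_involutions hCA ht hA
  have htA : t ∈ Subgroup.centralizer ({t} : Set G) := mem_cent.mpr rfl
  -- a Sylow `2`-subgroup containing the centralizer of `t`
  have hpA : IsPGroup 2 (Subgroup.centralizer ({t} : Set G)) := by
    intro y
    refine ⟨1, ?_⟩
    apply Subtype.ext
    rw [pow_one]
    exact hsq y y.2
  obtain ⟨P, hP⟩ := hpA.exists_le_sylow
  have htP : t ∈ (P : Subgroup G) := hP htA
  have hsP : s ∈ (P : Subgroup G) := hP hsA
  -- `P` is not cyclic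
  have hPnc : ¬ IsCyclic (P : Subgroup G) := by
    intro hcyc
    classical
    haveI : Fintype (P : Subgroup G) := Fintype.ofFinite _
    have hle := IsCyclic.card_pow_eq_one_le (α := (P : Subgroup G)) (n := 2) (by norm_num)
    have hsub : ({1, ⟨t, htP⟩, ⟨s, hsP⟩} : Finset (P : Subgroup G)) ⊆
        Finset.univ.filter (fun a : (P : Subgroup G) => a ^ 2 = 1) := by
      intro x hx
      rw [Finset.mem_filter]
      refine ⟨Finset.mem_univ _, ?_⟩
      rw [Finset.mem_insert, Finset.mem_insert, Finset.mem_singleton] at hx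
      rcases hx with rfl | rfl | rfl
      · exact one_pow 2
      · apply Subtype.ext; exact sq_eq_one_of_orderOf ht
      · apply Subtype.ext; exact sq_eq_one_of_orderOf hs2
    have h3 : ({1, ⟨t, htP⟩, ⟨s, hsP⟩} : Finset (P : Subgroup G)).card = 3 := by
      rw [Finset.card_insert_of_notMem, Finset.card_insert_of_notMem, Finset.card_singleton]
      · rw [Finset.mem_singleton]
        intro h
        exact hst (congrArg Subtype.val h).symm
      · rw [Finset.mem_insert, Finset.mem_singleton]
        rintro (h | h)
        · exact ht1 (congrArg Subtype.val h).symm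
        · exact ne_one_of_orderOf hs2 (congrArg Subtype.val h).symm
    have := Finset.card_le_card hsub
    omega
  -- `P` is not normal
  have hPnn : ¬ (P : Subgroup G).Normal := by
    intro hn
    rcases hn.eq_bot_or_eq_top with hb | hb
    · rw [hb, Subgroup.mem_bot] at htP
      exact ht1 htP
    · apply hnsol
      have hpG : IsPGroup 2 G := by
        intro g
        have hg : g ∈ (P : Subgroup G) := by rw [hb]; trivial
        obtain ⟨k, hk⟩ := P.isPGroup' ⟨g, hg⟩
        exact ⟨k, congrArg Subtype.val hk⟩
      haveI := hpG.isNilpotent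
      infer_instance
  -- the centralizers of involutions are elementary abelian
  have hC : ∀ u : G, orderOf u = 2 → IsMulCommutative (Subgroup.centralizer ({u} : Set G)) ∧
      ∀ c ∈ Subgroup.centralizer ({u} : Set G), c ^ 2 = 1 := by
    intro u hu
    refine ⟨⟨⟨fun a b => ?_⟩⟩, centralizer_sq_eq_one hCA hnc hu⟩
    apply Subtype.ext
    exact (hyp hCA (ne_one_of_orderOf hu)).comm a a.2 b b.2
  obtain ⟨F, hF1, hF2, hcard, hiso⟩ := Cfsg.Agent.S1230.result P hPnc hPnn hC
  obtain ⟨n, hn⟩ := (IsPGroup.iff_card.mp P.isPGroup')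
  refine ⟨F, hF1, hF2, n, ?_, ?_, hiso⟩
  · by_contra hlt
    apply hPnc
    have hn01 : n = 0 ∨ n = 1 := by omega
    rcases hn01 with rfl | rfl
    · rw [pow_zero] at hn
      haveI : Subsingleton (P : Subgroup G) := (Nat.card_eq_one_iff_unique.mp hn).1
      exact isCyclic_of_subsingleton
    · rw [pow_one] at hn
      exact isCyclic_of_prime_card hn
  · rw [hcard, hn]

/-- A finite non-abelian simple group in which commuting is a transitive relation on the non-identity elements (equivalently, every non-identity element has abelian centraliser) is isomorphic to PSL₂ over a field with 2^f elements for some f ≥ 2; conversely these groups have that property. -/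
theorem result {G : Type*} [Group G] [Finite G] [IsSimpleGroup G] (hG : ¬ IsMulCommutative G) :
    (∀ a b c : G, a ≠ 1 → b ≠ 1 → c ≠ 1 → Commute a b → Commute b c → Commute a c) ↔
    ∃ (F : Type) (_ : Field F) (_ : Fintype F) (f : ℕ), 2 ≤ f ∧ Fintype.card F = 2 ^ f ∧ Nonempty (G ≃* Matrix.ProjectiveSpecialLinearGroup (Fin 2) F) := by
  constructor
  · exact forward_aux hG
  · rintro ⟨F, hF1, hF2, f, hf, hcard, ⟨e⟩⟩
    have h2 : (2 : F) = 0 := by
      have h := Nat.cast_card_eq_zero F
      rw [hcard] at h
      push_cast at h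
      exact pow_eq_zero_iff (by omega) |>.mp h
    intro a b c ha hb hc hab hbc
    have hb' : e b ≠ 1 := by
      intro h
      apply hb
      apply e.injective
      rw [h, map_one]
    have := psl_char_two_ct h2 (e a) (e b) (e c) hb'
      (by rw [← map_mul, ← map_mul, hab.eq]) (by rw [← map_mul, ← map_mul, hbc.eq])
    apply e.injective
    rw [map_mul, map_mul, this]

end Cfsg.Agent.S5748
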