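import Cfsg.Statements.S5754
import Mathlib

set_option autoImplicit false

namespace Cfsg.Agent.S5754

open QuadraticMap

section
variable {F V : Type*} [Field F] [AddCommGroup V] [Module F V]

/-- the reflection (orthogonal transvection) in a nonsingular vector. -/
noncomputable def rf (Q : QuadraticForm F V) (x : V) : V →ₗ[F] V :=
  LinearMap.id - ((Q x)⁻¹ • (polarBilin Q).flip x).smulRight x

theorem rf_apply (Q : QuadraticForm F V) (x v : V) :
    rf Q x v = v - ((Q x)⁻¹ * polar Q v x) • x := by
  simp [rf]

theorem Q_rf (Q : QuadraticForm F V) {x : V} (hx : Q x ≠ 0) (v : V) : Q (rf Q x v) = Q v := by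
  rw [rf_apply, sub_eq_add_neg, QuadraticMap.map_add (⇑Q), QuadraticMap.map_neg,
    QuadraticMap.map_smul, polar_neg_right, polar_smul_right]
  simp only [smul_eq_mul]
  field_simp
  ring

theorem rf_involutive (Q : QuadraticForm F V) {x : V} (hx : Q x ≠ 0) :
    Function.Involutive (rf Q x) := by
  intro v
  rw [rf_apply, rf_apply, polar_sub_left, polar_smul_left, polar_self]
  simp only [smul_eq_mul, nsmul_eq_mul, Nat.cast_ofNat]
  have : (Q x)⁻¹ * (polar (⇑Q) v x - (Q x)⁻¹ * polar (⇑Q) v x * (2 * Q x)) =
      -((Q x)⁻¹ * polar (⇑Q) v x) := by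
    field_simp
    ring
  rw [this, neg_smul]
  abel

/-- the reflection as an isometry. -/
noncomputable def rfIso (Q : QuadraticForm F V) (x : V) (hx : Q x ≠ 0) : Q.IsometryEquiv Q :=
  { LinearEquiv.ofInvolutive (rf Q x) (rf_involutive Q hx) with
    map_app' := fun v => Q_rf Q hx v }

theorem rfIso_apply (Q : QuadraticForm F V) (x : V) (hx : Q x ≠ 0) (v : V) :
    rfIso Q x hx v = rf Q x v := rfl

theorem polar_iso (Q : QuadraticForm F V) (φ : Q.IsometryEquiv Q) (a b : V) :
    polar Q (φ a) (φ b) = polar Q a b := by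
  simp only [polar]
  rw [← map_add, φ.map_app, φ.map_app, φ.map_app]

/-- Witt extension for anisotropic forms, by successive reflections. -/
theorem witt (Q : QuadraticForm F V) (hQ : Q.Anisotropic) {n : ℕ} (u u' : Fin n → V)
    (h1 : ∀ i, Q (u i) = Q (u' i)) (h2 : ∀ i j, polar Q (u i) (u j) = polar Q (u' i) (u' j)) :
    ∀ k ≤ n, ∃ φ : Q.IsometryEquiv Q, ∀ i : Fin n, (i : ℕ) < k → φ (u i) = u' i := by
  intro k
  induction k with
  | zero =>
    intro _
    exact ⟨QuadraticMap.IsometryEquiv.refl Q, fun i hi => absurd hi (Nat.not_lt_zero _)⟩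
  | succ k ih =>
    intro hk
    obtain ⟨φ, hφ⟩ := ih (by omega)
    set i₀ : Fin n := ⟨k, by omega⟩ with hi₀
    set w := φ (u i₀) with hw
    set w' := u' i₀ with hw'
    by_cases hx0 : w - w' = 0
    · refine ⟨φ, fun i hi => ?_⟩
      rcases Nat.lt_succ_iff_lt_or_eq.1 hi with h | h
      · exact hφ i h
      · have : i = i₀ := Fin.ext h
        rw [this]
        exact sub_eq_zero.1 hx0
    · have hx : Q (w - w') ≠ 0 := fun h => hx0 (hQ _ h)
      have hQw : Q w = Q w' := by rw [hw, φ.map_app, h1]
      refine ⟨φ.trans (rfIso Q (w - w') hx), fun i hi => ?_⟩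
      change rfIso Q (w - w') hx (φ (u i)) = u' i
      rw [rfIso_apply, rf_apply]
      rcases Nat.lt_succ_iff_lt_or_eq.1 hi with h | h
      · rw [hφ i h]
        have : polar Q (u' i) (w - w') = 0 := by
          rw [polar_sub_right, hw, ← hφ i h, polar_iso, h2 i i₀, hφ i h]
          exact sub_self _
        rw [this, mul_zero, zero_smul, sub_zero]
      · have : i = i₀ := Fin.ext h
        rw [this, ← hw]
        have e1 : polar Q w (w - w') = Q (w - w') := by
          rw [polar_sub_right, polar_self]
          have : Q (w - w') = Q w + Q w' - polar Q w w' := by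
            rw [sub_eq_add_neg, QuadraticMap.map_add (⇑Q), QuadraticMap.map_neg, polar_neg_right]
            ring
          rw [this, ← hQw]
          simp only [nsmul_eq_mul, Nat.cast_ofNat]
          ring
        rw [e1, inv_mul_cancel₀ hx, one_smul]
        abel

end

/-- Let V be a finite-dimensional vector space over a finite field F carrying an anisotropic quadratic form Q (Q(v) = 0 only for v = 0). Then the group of all maps v ↦ φ(v) + c, with φ an isometry of Q and c ∈ V, acts on V as a binary permutation group: given n ≥ 2 and two n-tuples u, u' of vectors such that every pair of corresponding entries of u is carried to that of u' by such a map, one such map carries u to u'. -/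
theorem result {F V : Type*} [Field F] [Finite F] [AddCommGroup V] [Module F V] [Module.Finite F V]
    (Q : QuadraticForm F V) (hQ : Q.Anisotropic) (n : ℕ) (hn : 2 ≤ n) (u u' : Fin n → V)
    (h2 : ∀ i j : Fin n, i ≠ j → ∃ (φ : Q.IsometryEquiv Q) (c : V), φ (u i) + c = u' i ∧ φ (u j) + c = u' j) :
    ∃ (φ : Q.IsometryEquiv Q) (c : V), ∀ i, φ (u i) + c = u' i := by
  have hd : ∀ i j : Fin n, Q (u i - u j) = Q (u' i - u' j) := by
    intro i j
    by_cases hij : i = j
    · subst hij
      simp
    · obtain ⟨φ, c, e1, e2⟩ := h2 i j hij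
      rw [← e1, ← e2, add_sub_add_right_eq_sub, ← map_sub, φ.map_app]
  have hpol : ∀ a b : V, polar Q a b = Q a + Q b - Q (a - b) := by
    intro a b
    have : Q (a - b) = Q a + Q b - polar Q a b := by
      rw [sub_eq_add_neg a b, QuadraticMap.map_add (⇑Q), QuadraticMap.map_neg, polar_neg_right]
      ring
    rw [this]
    ring
  set i₀ : Fin n := ⟨0, by omega⟩ with hi₀
  obtain ⟨φ, hφ⟩ := witt Q hQ (fun i => u i - u i₀) (fun i => u' i - u' i₀) (fun i => hd i i₀)
    (fun i j => by
      rw [hpol, hpol, hd i i₀, hd j i₀, sub_sub_sub_cancel_right, sub_sub_sub_cancel_right, hd i j])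
    n le_rfl
  refine ⟨φ, u' i₀ - φ (u i₀), fun i => ?_⟩
  have := hφ i i.2
  rw [map_sub] at this
  have e : φ (u i) = u' i - u' i₀ + φ (u i₀) := by rw [← this]; abel
  rw [e]
  abel

end Cfsg.Agent.S5754
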