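import Cfsg.Statements.S5763
import Mathlib
import Cfsg.Agent.H9.Basic

set_option autoImplicit false
open Cfsg

namespace Cfsg.Agent.S5763

def pp (a : Fin 8) : Fin 4 := ⟨a.val / 2, by omega⟩
def qq' (i : Fin 4) : Fin 2 := ⟨i.val / 2, by omega⟩
def qq (a : Fin 8) : Fin 2 := qq' (pp a)
def rep (i : Fin 4) : Fin 8 := ⟨2 * i.val, by omega⟩

def muFun (a : Fin 8) : Fin 8 := ![1, 0, 3, 2, 5, 4, 7, 6] a

theorem muFun_muFun : ∀ a, muFun (muFun a) = a := by decide

def mu : Equiv.Perm (Fin 8) := ⟨muFun, muFun, muFun_muFun, muFun_muFun⟩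

theorem mu_mu : ∀ a, mu (mu a) = a := muFun_muFun
theorem mu_ne : ∀ a, mu a ≠ a := by decide
theorem pp_mu : ∀ a, pp (mu a) = pp a := by decide
theorem pp_eq_iff : ∀ a b, pp a = pp b ↔ (b = a ∨ b = mu a) := by decide
theorem pp_rep : ∀ i, pp (rep i) = i := by decide
theorem pp_surj : ∀ i, ∃ a, pp a = i := fun i => ⟨rep i, pp_rep i⟩

theorem mu_mul_mu : mu * mu = 1 := by
  ext a; simp [mu_mu]

/-- The automorphism group of the binary tree on 8 leaves. -/
def H0 : Subgroup (Equiv.Perm (Fin 8)) where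
  carrier := {g | (∀ a b, pp (g a) = pp (g b) ↔ pp a = pp b) ∧ (∀ a b, qq (g a) = qq (g b) ↔ qq a = qq b)}
  mul_mem' := by
    rintro g h ⟨hg1, hg2⟩ ⟨hh1, hh2⟩
    refine ⟨fun a b => ?_, fun a b => ?_⟩
    · rw [Equiv.Perm.mul_apply, Equiv.Perm.mul_apply, hg1, hh1]
    · rw [Equiv.Perm.mul_apply, Equiv.Perm.mul_apply, hg2, hh2]
  one_mem' := ⟨fun _ _ => Iff.rfl, fun _ _ => Iff.rfl⟩
  inv_mem' := by
    rintro g ⟨hg1, hg2⟩
    have e1 : ∀ a, g (g⁻¹ a) = a := fun a => by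
      rw [← Equiv.Perm.mul_apply, mul_inv_cancel, Equiv.Perm.one_apply]
    refine ⟨fun a b => ?_, fun a b => ?_⟩
    · have := hg1 (g⁻¹ a) (g⁻¹ b)
      rw [e1, e1] at this
      exact this.symm
    · have := hg2 (g⁻¹ a) (g⁻¹ b)
      rw [e1, e1] at this
      exact this.symm

theorem mem_H0 (g : Equiv.Perm (Fin 8)) : g ∈ H0 ↔
    (∀ a b, pp (g a) = pp (g b) ↔ pp a = pp b) ∧ (∀ a b, qq (g a) = qq (g b) ↔ qq a = qq b) := Iff.rfl

theorem D1 : ∀ f : Fin 4 → Fin 4, Function.Injective f → (∀ i j, qq' i = qq' j → qq' (f i) = qq' (f j)) →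
    ∀ i, f (f (f (f i))) = i := by decide +kernel

theorem D2 : ∀ f : Fin 4 → Fin 4, (∀ i, f (f i) = i) → (∀ i, f i ≠ i) →
    ∀ i j, qq' i = qq' j → qq' (f i) = qq' (f j) := by decide +kernel

theorem pow8 (g : Equiv.Perm (Fin 8)) (hg : g ∈ H0) : g ^ 8 = 1 := by
  obtain ⟨hg1, hg2⟩ := hg
  let gb : Fin 4 → Fin 4 := fun i => pp (g (rep i))
  have hgb : ∀ a, pp (g a) = gb (pp a) := by
    intro a
    show pp (g a) = pp (g (rep (pp a)))
    rw [hg1, pp_rep]
  have hinj : Function.Injective gb := by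
    intro i j h
    have := (hg1 (rep i) (rep j)).1 h
    rwa [pp_rep, pp_rep] at this
  have hq : ∀ i j, qq' i = qq' j → qq' (gb i) = qq' (gb j) := by
    intro i j h
    have h' : qq (rep i) = qq (rep j) := by unfold qq; rw [pp_rep, pp_rep]; exact h
    exact (hg2 (rep i) (rep j)).2 h'
  have h4 := D1 gb hinj hq
  have hpow : ∀ a, pp ((g ^ 4) a) = pp a := by
    intro a
    have : (g ^ 4) a = g (g (g (g a))) := by
      simp [pow_succ, Equiv.Perm.mul_apply]
    rw [this, hgb, hgb, hgb, hgb, h4]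
  have hk : ∀ a, (g ^ 4) ((g ^ 4) a) = a := by
    intro a
    rcases (pp_eq_iff a ((g ^ 4) a)).1 (hpow a).symm with h | h
    · rw [h, h]
    · have h' := (pp_eq_iff (mu a) ((g ^ 4) (mu a))).1 (hpow (mu a)).symm
      rw [mu_mu] at h'
      rcases h' with h' | h'
      · exfalso
        have := (g ^ 4).injective (h'.trans h.symm)
        exact mu_ne a this
      · rw [h, h']
  ext a
  have : (g ^ 8) a = (g ^ 4) ((g ^ 4) a) := by rw [← Equiv.Perm.mul_apply, ← pow_add]
  rw [this, hk]; rfl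

theorem H0_pgroup : IsPGroup 2 H0 := by
  intro g
  refine ⟨3, Subtype.ext ?_⟩
  simp only [Subgroup.coe_pow, Subgroup.coe_one]
  exact pow8 g.1 g.2

theorem mem_H0_of (ρ : Equiv.Perm (Fin 8)) (h1 : ∀ a, ρ (ρ a) = a) (h2 : ∀ a, ρ (mu a) = mu (ρ a))
    (h3 : ∀ a, ρ a ≠ a) (h4 : ∀ a, ρ (mu a) ≠ a) : ρ ∈ H0 := by
  have hp : ∀ a b, pp a = pp b → pp (ρ a) = pp (ρ b) := by
    intro a b h
    rcases (pp_eq_iff a b).1 h with rfl | rfl
    · rfl
    · rw [h2, pp_mu]
  obtain ⟨ρb, hρb'⟩ : ∃ f : Fin 4 → Fin 4, ∀ i, f i = pp (ρ (rep i)) := ⟨_, fun _ => rfl⟩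
  have hρb : ∀ a, pp (ρ a) = ρb (pp a) := by
    intro a
    rw [hρb']
    exact hp _ _ (pp_rep _).symm
  have hinv : ∀ i, ρb (ρb i) = i := by
    intro i
    obtain ⟨a, rfl⟩ := pp_surj i
    rw [← hρb, ← hρb, h1]
  have hne : ∀ i, ρb i ≠ i := by
    intro i
    obtain ⟨a, rfl⟩ := pp_surj i
    rw [← hρb]
    intro h
    rcases (pp_eq_iff a (ρ a)).1 h.symm with h' | h'
    · exact h3 a h'
    · apply h4 (mu a)
      rw [mu_mu]; exact h'
  have hq : ∀ a b, qq a = qq b → qq (ρ a) = qq (ρ b) := by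
    intro a b h
    unfold qq at h ⊢
    rw [hρb, hρb]
    exact D2 ρb hinv hne _ _ h
  refine ⟨fun a b => ⟨fun h => ?_, hp a b⟩, fun a b => ⟨fun h => ?_, hq a b⟩⟩
  · have := hp _ _ h
    rwa [h1, h1] at this
  · have := hq _ _ h
    rwa [h1, h1] at this

theorem pp_swap : ∀ a x : Fin 8, pp (Equiv.swap a (muFun a) x) = pp x := by decide

theorem swap_mem (a : Fin 8) : Equiv.swap a (mu a) ∈ H0 := by
  have h : ∀ x, pp (Equiv.swap a (mu a) x) = pp x := pp_swap a
  refine ⟨fun x y => by rw [h, h], fun x y => by unfold qq; rw [h, h]⟩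

theorem pinv_apply {α : Type*} (g : Equiv.Perm α) (a : α) : g⁻¹ (g a) = a := by simp
theorem papply_inv {α : Type*} (g : Equiv.Perm α) (a : α) : g (g⁻¹ a) = a := by simp

section core
variable (r μ : Equiv.Perm (Fin 8)) (hμ : ∀ a, μ (μ a) = a) (hμne : ∀ a, μ a ≠ a)
  (hrne : ∀ a, r a ≠ a) (hμr : ∀ a, μ (r a) ≠ a) (hsc : ∀ a, μ (r a) = r⁻¹ (μ a))

include hsc in
theorem hsc_pow (i : ℕ) (a : Fin 8) : μ ((r ^ i) a) = (r ^ i)⁻¹ (μ a) := by
  induction i generalizing a with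
  | zero => simp
  | succ i ih =>
    conv_lhs => rw [pow_succ, Equiv.Perm.mul_apply, ih, hsc]
    rw [pow_succ', mul_inv_rev, Equiv.Perm.mul_apply]

include hμ hμne hμr hsc in
theorem claimA (j : ℕ) (a : Fin 8) : (r ^ j) a ≠ μ a := by
  intro h
  rcases Nat.even_or_odd' j with ⟨i, rfl | rfl⟩
  · apply hμne ((r ^ i) a)
    rw [hsc_pow r μ hsc, ← h, two_mul, pow_add, Equiv.Perm.mul_apply, pinv_apply]
  · apply hμr ((r ^ i) a)
    have : μ ((r ^ i) a) = r ((r ^ i) a) := by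
      rw [hsc_pow r μ hsc, ← h, show 2 * i + 1 = i + (1 + i) by ring, pow_add, Equiv.Perm.mul_apply,
        pinv_apply, pow_add, pow_one, Equiv.Perm.mul_apply]
    rw [← this, hμ]

include hμ hμne hμr hsc in
theorem claimA' (i j : ℕ) (a : Fin 8) : (r ^ i) a ≠ μ ((r ^ j) a) := by
  intro h
  rw [hsc_pow r μ hsc] at h
  apply claimA r μ hμ hμne hμr hsc (j + i) a
  rw [pow_add, Equiv.Perm.mul_apply, h, papply_inv]

/-- The points `r^i a₀`, `μ (r^i a₀)`, `i < k`. -/
def phi (k : ℕ) (a₀ : Fin 8) (p : Fin k × Fin 2) : Fin 8 :=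
  if p.2 = 0 then (r ^ (p.1 : ℕ)) a₀ else μ ((r ^ (p.1 : ℕ)) a₀)

include hμ hμne hμr hsc in
theorem phi_inj (k : ℕ) (a₀ : Fin 8) (hk : ∀ d, 0 < d → d < k → (r ^ d) a₀ ≠ a₀) :
    Function.Injective (phi r μ k a₀) := by
  have hshift : ∀ i d, (r ^ (i + d)) a₀ = (r ^ i) a₀ → (r ^ d) a₀ = a₀ := by
    intro i d h
    rw [pow_add, Equiv.Perm.mul_apply] at h
    exact (r ^ i).injective h
  have hinj : ∀ i i' : ℕ, i < k → i' < k → (r ^ i) a₀ = (r ^ i') a₀ → i = i' := by
    intro i i' hi hi' h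
    by_contra hne
    rcases lt_or_gt_of_ne hne with hlt | hlt
    · obtain ⟨d, rfl⟩ := Nat.exists_eq_add_of_lt hlt
      exact hk (d + 1) (by omega) (by omega) (hshift i (d + 1) (by rw [← add_assoc]; exact h.symm))
    · obtain ⟨d, rfl⟩ := Nat.exists_eq_add_of_lt hlt
      exact hk (d + 1) (by omega) (by omega) (hshift i' (d + 1) (by rw [← add_assoc]; exact h))
  rintro ⟨i, ε⟩ ⟨i', ε'⟩ h
  unfold phi at h
  fin_cases ε <;> fin_cases ε'
  · simp only [Fin.zero_eta, if_true] at h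
    have := hinj i i' i.2 i'.2 h
    simp [Fin.ext this]
  · exfalso
    simp only [Fin.zero_eta, if_true, Fin.mk_one, one_ne_zero, if_false] at h
    exact claimA' r μ hμ hμne hμr hsc _ _ _ h
  · exfalso
    simp only [Fin.zero_eta, if_true, Fin.mk_one, one_ne_zero, if_false] at h
    exact claimA' r μ hμ hμne hμr hsc _ _ _ h.symm
  · simp only [Fin.mk_one, one_ne_zero, if_false] at h
    have := hinj i i' i.2 i'.2 (μ.injective h)
    simp [Fin.ext this]

include hsc in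
theorem hsc' (c : Fin 8) : r (μ c) = μ (r⁻¹ c) := by
  have h := hsc (r⁻¹ c)
  rw [papply_inv] at h
  rw [h, papply_inv]

include hμ hμne hrne hμr hsc in
theorem core (a₀ : Fin 8) (ha₀ : (r ^ 2) a₀ ≠ a₀) : (∀ a, (r ^ 4) a = a) ∧ ∀ a, (r ^ 2) a ≠ a := by
  have n1 : (r ^ 1) a₀ ≠ a₀ := by rw [pow_one]; exact hrne a₀
  by_cases h3 : (r ^ 3) a₀ = a₀
  · exfalso
    have hk : ∀ d, 0 < d → d < 3 → (r ^ d) a₀ ≠ a₀ := by
      intro d h0 h3
      interval_cases d
      · exact n1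
      · exact ha₀
    have hinj := phi_inj r μ hμ hμne hμr hsc 3 a₀ hk
    set X : Finset (Fin 8) := Finset.univ.image (phi r μ 3 a₀) with hX
    have hXcard : X.card = 6 := by
      rw [hX, Finset.card_image_of_injective _ hinj]; simp
    have hmemX : ∀ b, b ∈ X ↔ ∃ p, phi r μ 3 a₀ p = b := by
      intro b; simp [hX]
    have hXμ : ∀ b ∈ X, μ b ∈ X := by
      intro b hb
      obtain ⟨⟨i, ε⟩, rfl⟩ := (hmemX b).1 hb
      fin_cases ε
      · exact (hmemX _).2 ⟨(i, 1), by simp [phi]⟩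
      · exact (hmemX _).2 ⟨(i, 0), by simp [phi, hμ]⟩
    have hinv0 : r⁻¹ a₀ = (r ^ 2) a₀ := by
      rw [Equiv.Perm.inv_eq_iff_eq, ← Equiv.Perm.mul_apply, ← pow_succ', h3]
    have hXr : ∀ b ∈ X, r b ∈ X := by
      intro b hb
      obtain ⟨⟨i, ε⟩, rfl⟩ := (hmemX b).1 hb
      fin_cases ε
      · fin_cases i
        · exact (hmemX _).2 ⟨(1, 0), by simp [phi]⟩
        · exact (hmemX _).2 ⟨(2, 0), by simp [phi, pow_succ, Equiv.Perm.mul_apply]⟩
        · refine (hmemX _).2 ⟨(0, 0), ?_⟩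
          have h3' : r (r (r a₀)) = a₀ := by simpa [pow_succ, Equiv.Perm.mul_apply] using h3
          simp [phi, pow_succ, Equiv.Perm.mul_apply, h3']
      · fin_cases i
        · refine (hmemX _).2 ⟨(2, 1), ?_⟩
          simp only [phi, Fin.mk_one, Fin.isValue, one_ne_zero, if_false, pow_zero,
            Equiv.Perm.one_apply]
          rw [hsc' r μ hsc, hinv0]; rfl
        · refine (hmemX _).2 ⟨(0, 1), ?_⟩
          simp only [phi, Fin.mk_one, Fin.isValue, one_ne_zero, if_false, Fin.val_zero, pow_zero,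
            Equiv.Perm.one_apply, pow_one]
          rw [hsc' r μ hsc, pinv_apply]
        · refine (hmemX _).2 ⟨(1, 1), ?_⟩
          simp only [phi, Fin.mk_one, Fin.isValue, one_ne_zero, if_false, Fin.val_one, pow_one]
          rw [hsc' r μ hsc]
          congr 1
          rw [Equiv.Perm.eq_inv_iff_eq]
          simp [pow_succ, Equiv.Perm.mul_apply]
    have hμ'inv : ∀ a, μ (r (μ (r a))) = a := by
      intro a
      rw [hsc' r μ hsc, pinv_apply, hμ]
    have hT1 : ∀ c, c ∉ X → μ c ∉ X := by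
      intro c hc h
      apply hc
      have := hXμ _ h
      rwa [hμ] at this
    have hT2 : ∀ c, c ∉ X → μ (r c) ∉ X := by
      intro c hc h
      apply hc
      have := hXμ _ (hXr _ h)
      rwa [hμ'inv] at this
    have hTcard : (Xᶜ).card = 2 := by
      rw [Finset.card_compl, hXcard]; simp
    obtain ⟨c, hc⟩ : ∃ c, c ∈ Xᶜ := by
      apply Finset.card_pos.1
      rw [hTcard]; norm_num
    rw [Finset.mem_compl] at hc
    have hsub : ({c, μ c, μ (r c)} : Finset (Fin 8)) ⊆ Xᶜ := by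
      intro b hb
      simp only [Finset.mem_insert, Finset.mem_singleton] at hb
      rw [Finset.mem_compl]
      rcases hb with rfl | rfl | rfl
      · exact hc
      · exact hT1 c hc
      · exact hT2 c hc
    have hcard3 : ({c, μ c, μ (r c)} : Finset (Fin 8)).card = 3 := by
      rw [Finset.card_insert_of_notMem, Finset.card_insert_of_notMem, Finset.card_singleton]
      · simp only [Finset.mem_singleton]
        intro h
        exact hrne c (μ.injective h).symm
      · simp only [Finset.mem_insert, Finset.mem_singleton, not_or]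
        exact ⟨fun h => hμne c h.symm, fun h => hμr c h.symm⟩
    have := Finset.card_le_card hsub
    rw [hcard3, hTcard] at this
    omega
  · have hk : ∀ d, 0 < d → d < 4 → (r ^ d) a₀ ≠ a₀ := by
      intro d h0 h4
      interval_cases d
      · exact n1
      · exact ha₀
      · exact h3
    have hinj := phi_inj r μ hμ hμne hμr hsc 4 a₀ hk
    have hsurj : Function.Surjective (phi r μ 4 a₀) :=
      ((Fintype.bijective_iff_injective_and_card _).2 ⟨hinj, by simp⟩).2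
    have h4 : (r ^ 4) a₀ = a₀ := by
      obtain ⟨⟨i, ε⟩, hp⟩ := hsurj ((r ^ 4) a₀)
      fin_cases ε
      · simp only [phi, Fin.zero_eta, if_true] at hp
        fin_cases i
        · simpa using hp.symm
        · exfalso
          apply h3
          have : (r ^ (1 + 3)) a₀ = (r ^ 1) a₀ := by simpa using hp.symm
          rw [pow_add, Equiv.Perm.mul_apply] at this
          exact (r ^ 1).injective this
        · exfalso
          apply ha₀
          have : (r ^ (2 + 2)) a₀ = (r ^ 2) a₀ := by simpa using hp.symm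
          rw [pow_add, Equiv.Perm.mul_apply] at this
          exact (r ^ 2).injective this
        · exfalso
          apply n1
          have : (r ^ (3 + 1)) a₀ = (r ^ 3) a₀ := by simpa using hp.symm
          rw [pow_add, Equiv.Perm.mul_apply] at this
          exact (r ^ 3).injective this
      · exfalso
        simp only [phi, Fin.mk_one, one_ne_zero, if_false] at hp
        exact claimA' r μ hμ hμne hμr hsc _ _ _ hp.symm
    -- the two statements for points `c = r^i a₀`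
    have hc4 : ∀ i : ℕ, (r ^ 4) ((r ^ i) a₀) = (r ^ i) a₀ := by
      intro i
      rw [← Equiv.Perm.mul_apply, ← pow_add, add_comm, pow_add, Equiv.Perm.mul_apply, h4]
    have hc2 : ∀ i : ℕ, (r ^ 2) ((r ^ i) a₀) ≠ (r ^ i) a₀ := by
      intro i h
      apply ha₀
      rw [← Equiv.Perm.mul_apply, ← pow_add, add_comm, pow_add, Equiv.Perm.mul_apply] at h
      exact (r ^ i).injective h
    -- transfer through `μ`
    have hμ4 : ∀ c, (r ^ 4) c = c → (r ^ 4) (μ c) = μ c := by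
      intro c hc
      have h := hsc_pow r μ hsc 4 c
      rw [hc] at h
      rw [Equiv.Perm.eq_inv_iff_eq] at h
      exact h
    have hμ2 : ∀ c, (r ^ 2) c ≠ c → (r ^ 2) (μ c) ≠ μ c := by
      intro c hc h
      apply hc
      have h' := hsc_pow r μ hsc 2 c
      have h'' : (r ^ 2)⁻¹ (μ c) = μ c := by rw [Equiv.Perm.inv_eq_iff_eq]; exact h.symm
      exact μ.injective (h'.trans h'')
    refine ⟨fun a => ?_, fun a => ?_⟩
    · obtain ⟨⟨i, ε⟩, rfl⟩ := hsurj a
      fin_cases ε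
      · simp only [phi, Fin.zero_eta, if_true]; exact hc4 _
      · simp only [phi, Fin.mk_one, one_ne_zero, if_false]; exact hμ4 _ (hc4 _)
    · obtain ⟨⟨i, ε⟩, rfl⟩ := hsurj a
      fin_cases ε
      · simp only [phi, Fin.zero_eta, if_true]; exact hc2 _
      · simp only [phi, Fin.mk_one, one_ne_zero, if_false]; exact hμ2 _ (hc2 _)

end core

theorem exists_rho (μ μ' : Equiv.Perm (Fin 8)) (hμ : ∀ a, μ (μ a) = a) (hμ' : ∀ a, μ' (μ' a) = a)
    (hμne : ∀ a, μ a ≠ a) (hμ'ne : ∀ a, μ' a ≠ a) (hne : ∀ a, μ' a ≠ μ a) :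
    ∃ ρ : Equiv.Perm (Fin 8), (∀ a, ρ (ρ a) = a) ∧ (∀ a, ρ (μ a) = μ (ρ a)) ∧ (∀ a, ρ (μ' a) = μ' (ρ a)) ∧
      (∀ a, ρ a ≠ a) ∧ (∀ a, ρ (μ a) ≠ a) ∧ (∀ a, ρ (μ' a) ≠ a) := by
  set r : Equiv.Perm (Fin 8) := μ * μ' with hr
  have hra : ∀ a, r a = μ (μ' a) := fun a => rfl
  have hμinv : μ⁻¹ = μ := by
    apply Equiv.Perm.ext; intro a; rw [Equiv.Perm.inv_eq_iff_eq, hμ]
  have hμ'inv : μ'⁻¹ = μ' := by
    apply Equiv.Perm.ext; intro a; rw [Equiv.Perm.inv_eq_iff_eq, hμ']
  have hrinv : ∀ a, r⁻¹ a = μ' (μ a) := by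
    intro a
    rw [hr, mul_inv_rev, hμinv, hμ'inv]; rfl
  have hsc : ∀ a, μ (r a) = r⁻¹ (μ a) := by
    intro a
    rw [hra, hμ, hrinv, hμ]
  have hrne : ∀ a, r a ≠ a := by
    intro a h
    rw [hra] at h
    apply hne a
    rw [← h, hμ, h]
  have hμr : ∀ a, μ (r a) ≠ a := by
    intro a
    rw [hra, hμ]; exact hμ'ne a
  have hμ'r : ∀ a, μ' a = μ (r a) := by
    intro a; rw [hra, hμ]
  by_cases hrr : ∀ a, r (r a) = a
  · refine ⟨r, hrr, ?_, ?_, hrne, ?_, ?_⟩
    · intro a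
      have := hrr (μ' a)
      rw [hra (μ' a), hμ'] at this
      rw [this, hra, hμ]
    · intro a
      rw [hra (μ' a), hμ']
      have := hrr a
      rw [hra (r a)] at this
      have h2 := congrArg μ this
      rw [hμ] at h2
      exact h2.symm
    · intro a
      have : r (μ a) = μ' a := by
        have := hrr (μ' a)
        rw [hra (μ' a), hμ'] at this
        exact this
      rw [this]; exact hμ'ne a
    · intro a
      rw [hra (μ' a), hμ']; exact hμne a
  · push Not at hrr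
    obtain ⟨a₀, ha₀⟩ := hrr
    have ha₀' : (r ^ 2) a₀ ≠ a₀ := by
      simpa [pow_succ, Equiv.Perm.mul_apply] using ha₀
    obtain ⟨h4, h2⟩ := core r μ hμ hμne hrne hμr hsc a₀ ha₀'
    have h4' : ∀ a, r (r (r (r a))) = a := by
      intro a; simpa [pow_succ, Equiv.Perm.mul_apply] using h4 a
    have h2' : ∀ a, r (r a) ≠ a := by
      intro a; simpa [pow_succ, Equiv.Perm.mul_apply] using h2 a
    have hinv2 : ∀ a, r⁻¹ (r⁻¹ a) = r (r a) := by
      intro a
      rw [Equiv.Perm.inv_eq_iff_eq, Equiv.Perm.inv_eq_iff_eq, h4']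
    have hinv1 : ∀ a, r⁻¹ a = r (r (r a)) := by
      intro a
      rw [Equiv.Perm.inv_eq_iff_eq, h4']
    have hρμ : ∀ a, (r * r) (μ a) = μ ((r * r) a) := by
      intro a
      simp only [Equiv.Perm.mul_apply]
      rw [hsc, hsc, hinv2]
    refine ⟨r * r, ?_, hρμ, ?_, ?_, ?_, ?_⟩
    · intro a
      simp only [Equiv.Perm.mul_apply]; exact h4' a
    · intro a
      rw [hμ'r, hρμ, hμ'r]
      simp only [Equiv.Perm.mul_apply]
    · intro a
      simp only [Equiv.Perm.mul_apply]; exact h2' a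
    · intro a h
      simp only [Equiv.Perm.mul_apply] at h
      rw [hsc' r μ hsc] at h
      have : μ (r⁻¹ a) = r⁻¹ a := by
        rw [Equiv.Perm.eq_inv_iff_eq]; exact h
      exact hμne _ this
    · intro a h
      simp only [Equiv.Perm.mul_apply] at h
      rw [hμ'r, hsc' r μ hsc, pinv_apply, hra] at h
      have h2 := congrArg μ h
      rw [hμ] at h2
      exact hμ'ne _ h2


/-- For every `w`, the tree group `H0` meets its conjugate by `w` nontrivially. -/
theorem H0_meet (w : Equiv.Perm (Fin 8)) :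
    ∃ g g' : Equiv.Perm (Fin 8), g ≠ 1 ∧ g ∈ H0 ∧ g' ∈ H0 ∧ g = w * g' * w⁻¹ := by
  set μ' : Equiv.Perm (Fin 8) := w * mu * w⁻¹ with hμ'
  have hμ'a : ∀ a, μ' a = w (mu (w⁻¹ a)) := fun a => rfl
  have hμ'2 : ∀ a, μ' (μ' a) = a := by
    intro a
    rw [hμ'a, hμ'a, pinv_apply, mu_mu, papply_inv]
  have hμ'ne : ∀ a, μ' a ≠ a := by
    intro a h
    rw [hμ'a] at h
    exact mu_ne (w⁻¹ a) (Equiv.Perm.eq_inv_iff_eq.2 h)
  by_cases hcase : ∃ a, μ' a = mu a
  · obtain ⟨a, ha⟩ := hcase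
    refine ⟨Equiv.swap a (mu a), Equiv.swap (w⁻¹ a) (mu (w⁻¹ a)), ?_, swap_mem a, swap_mem _, ?_⟩
    · rw [Ne, Equiv.swap_eq_one_iff]
      exact fun h => mu_ne a h.symm
    · have h1 : mu (w⁻¹ a) = w⁻¹ (mu a) := by
        rw [← ha, hμ'a, pinv_apply]
      rw [h1, Equiv.swap_apply_apply]
      group
  · push Not at hcase
    obtain ⟨ρ, h1, h2, h3, h4, h5, h6⟩ := exists_rho mu μ' mu_mu hμ'2 mu_ne hμ'ne hcase
    refine ⟨ρ, w⁻¹ * ρ * w, ?_, mem_H0_of ρ h1 h2 h4 h5, ?_, by group⟩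
    · intro h
      apply h4 0
      rw [h]; rfl
    · apply mem_H0_of
      · intro a
        simp only [Equiv.Perm.mul_apply]
        rw [papply_inv, h1, pinv_apply]
      · intro a
        simp only [Equiv.Perm.mul_apply]
        have := h3 (w a)
        simp only [hμ'a, pinv_apply] at this
        rw [this, pinv_apply]
      · intro a h
        simp only [Equiv.Perm.mul_apply] at h
        apply h4 (w a)
        rw [Equiv.Perm.inv_eq_iff_eq] at h
        exact h
      · intro a h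
        simp only [Equiv.Perm.mul_apply] at h
        apply h6 (w a)
        rw [Equiv.Perm.inv_eq_iff_eq] at h
        rw [hμ'a, pinv_apply]
        exact h

/-- In the symmetric group on 8 letters any two Sylow 2-subgroups have non-trivial intersection: for a Sylow 2-subgroup H and every element x, H ∩ xHx⁻¹ ≠ 1. -/
theorem result (H : Sylow 2 (Equiv.Perm (Fin 8))) (x : Equiv.Perm (Fin 8)) :
    (H : Subgroup (Equiv.Perm (Fin 8))) ⊓ (H : Subgroup (Equiv.Perm (Fin 8))).map (MulAut.conj x).toMonoidHom ≠ ⊥ := by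
  obtain ⟨h, -, hh⟩ := Cfsg.Agent.H9.exists_conj_mem_sylow_of_le H ⊤ le_top H0 H0_pgroup le_top
  obtain ⟨g, g', hg1, hg, hg', hgg'⟩ := H0_meet (h⁻¹ * x * h)
  intro hbot
  have hmem : h * g * h⁻¹ ∈ (H : Subgroup (Equiv.Perm (Fin 8))) ⊓
      (H : Subgroup (Equiv.Perm (Fin 8))).map (MulAut.conj x).toMonoidHom := by
    refine ⟨hh g hg, ?_⟩
    refine ⟨h * g' * h⁻¹, hh g' hg', ?_⟩
    simp only [MulEquiv.coe_toMonoidHom, MulAut.conj_apply]
    rw [hgg']
    group
  rw [hbot, Subgroup.mem_bot] at hmem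
  apply hg1
  have : g = h⁻¹ * (h * g * h⁻¹) * h := by group
  rw [this, hmem]
  group

end Cfsg.Agent.S5763
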