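import Mathlib
import Cfsg.Statements.S5887

set_option autoImplicit false
open Cfsg

namespace Cfsg.Agent.S5887


section Part0

open Matrix Cfsg.Geo

variable {F : Type*} [Field F] {n : ℕ}

/-- a subalgebra of the matrix algebra which is a field -/
structure FieldLike (A : Subalgebra F (Matrix (Fin n) (Fin n) F)) : Prop where
  comm : ∀ x ∈ A, ∀ y ∈ A, x * y = y * x
  inv : ∀ x ∈ A, x ≠ 0 → ∃ y ∈ A, x * y = 1

theorem FieldLike.isField [Nonempty (Fin n)] {A : Subalgebra F (Matrix (Fin n) (Fin n) F)}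
    (hA : FieldLike A) : IsField ↥A where
  exists_pair_ne := ⟨0, 1, fun h => by
    have := congrArg Subtype.val h
    exact zero_ne_one this⟩
  mul_comm x y := Subtype.ext (hA.comm x.1 x.2 y.1 y.2)
  mul_inv_cancel {a} ha := by
    obtain ⟨y, hy, hxy⟩ := hA.inv a.1 a.2 (fun h => ha (Subtype.ext h))
    exact ⟨⟨y, hy⟩, Subtype.ext hxy⟩

theorem exists_functional {K V : Type*} [Field K] [AddCommGroup V] [Module K V] (v u w : V)
    (h : w ∉ Submodule.span K ({v, u} : Set V)) :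
    ∃ φ : V →ₗ[K] K, φ v = 0 ∧ φ u = 0 ∧ φ w = 1 := by
  obtain ⟨g, hg, hgw⟩ := LinearMap.exists_extend_of_notMem
    (0 : (Submodule.span K ({v, u} : Set V)) →ₗ[K] K) h 1
  have hz : ∀ x ∈ Submodule.span K ({v, u} : Set V), g x = 0 := by
    intro x hx
    have := congrArg (fun f => f ⟨x, hx⟩) hg
    simpa using this
  exact ⟨g, hz v (Submodule.subset_span (by simp)), hz u (Submodule.subset_span (by simp)), hgw⟩

/-- in a field of characteristic `p`, `x ^ p = 1` forces `x = 1` -/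
theorem eq_one_of_pow_char [Fintype F] (x : F) (p : ℕ) [Fact p.Prime] [CharP F p]
    (h : x ^ p = 1) : x = 1 := by
  have h1 : (x - 1) ^ p = 0 := by
    rw [sub_pow_char, h, one_pow, sub_self]
  exact sub_eq_zero.mp (pow_eq_zero_iff (Fact.out : p.Prime).ne_zero |>.mp h1)

end Part0

section Part1

open Matrix Cfsg.Geo

variable {F : Type*} [Field F] {n : ℕ}

/-- square-zero perturbations of the identity have determinant one over a finite field -/
theorem det_one_add_of_sq_zero [Fintype F] (N : Matrix (Fin n) (Fin n) F) (hN : N * N = 0) :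
    (1 + N).det = 1 := by
  rcases Nat.eq_zero_or_pos n with h0 | h0
  · subst h0
    exact Matrix.det_isEmpty
  haveI : Nonempty (Fin n) := ⟨⟨0, h0⟩⟩
  obtain ⟨p, hp⟩ := CharP.exists F
  haveI : Fact p.Prime := ⟨CharP.char_is_prime F p⟩
  have h2 : 2 ≤ p := (Fact.out : p.Prime).two_le
  have hNp : N ^ p = 0 := by
    obtain ⟨k, rfl⟩ : ∃ k, p = 2 + k := ⟨p - 2, by omega⟩
    rw [pow_add, pow_two, hN, zero_mul]
  have h1 : (1 + N) ^ p = 1 := by
    rw [add_pow_char_of_commute p (Commute.one_left N), one_pow, hNp,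
      add_zero]
  apply eq_one_of_pow_char _ p
  rw [← Matrix.det_pow, h1, Matrix.det_one]

end Part1

section Part2

open Matrix Cfsg.Geo

variable {F : Type*} [Field F] {n : ℕ}

set_option linter.style.haveILetI false in
/-- the unipotent map `x ↦ x + φ(x) u` -/
theorem exists_sl_not_normalizing [Fintype F]
    (A B : Subalgebra F (Matrix (Fin n) (Fin n) F)) (hA : FieldLike A) (hB : FieldLike B)
    (hAB : A ≤ B) (hne : ∃ b ∈ B, b ∉ A) (hdim : Module.finrank F B < n) :
    ∃ g : GL (Fin n) F, g ∈ specialLinear (Fin n) F ∧ (∀ a ∈ A, g.1 * a = a * g.1) ∧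
      g ∉ subalgebraNormalizer B := by
  classical
  have hn : 0 < n := by omega
  haveI : Nonempty (Fin n) := ⟨⟨0, hn⟩⟩
  letI instF : Field ↥A := hA.isField.toField
  letI instM : Module ↥A (Fin n → F) :=
    Module.compHom (Fin n → F)
      ((Matrix.toLinAlgEquiv' : Matrix (Fin n) (Fin n) F ≃ₐ[F] _).toAlgHom.toRingHom.comp
        A.val.toRingHom)
  have hsmul : ∀ (a : ↥A) (x : Fin n → F), a • x = a.1 *ᵥ x := fun _ _ => rfl
  have hmul1 : ∀ a b : ↥A, (a * b).1 = a.1 * b.1 := fun _ _ => rfl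
  have hadd1 : ∀ a b : ↥A, (a + b).1 = a.1 + b.1 := fun _ _ => rfl
  have hone1 : (1 : ↥A).1 = 1 := rfl
  have hzero1 : (0 : ↥A).1 = 0 := rfl
  -- the vector `v`
  let v : Fin n → F := Pi.single ⟨0, hn⟩ 1
  have hv : v ≠ 0 := by
    intro h
    have := congrFun h ⟨0, hn⟩
    simp [v] at this
  -- the `B`-line through `v`
  let lin : ↥B →ₗ[F] (Fin n → F) :=
    { toFun := fun b => b.1 *ᵥ v
      map_add' := fun b c => by simp [Matrix.add_mulVec]
      map_smul' := fun c b => by simp [Matrix.smul_mulVec] }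
  let L : Submodule F (Fin n → F) := LinearMap.range lin
  have hL : L ≠ ⊤ := by
    intro htop
    have h1 : Module.finrank F L ≤ Module.finrank F B := LinearMap.finrank_range_le lin
    rw [htop, finrank_top, Module.finrank_fintype_fun_eq_card, Fintype.card_fin] at h1
    omega
  obtain ⟨w', hw'⟩ : ∃ w', w' ∉ L := by
    by_contra h
    apply hL
    rw [eq_top_iff]
    intro y _
    by_contra hy
    exact h ⟨y, hy⟩
  have hLmem : ∀ b ∈ B, b *ᵥ v ∈ L := fun b hb => ⟨⟨b, hb⟩, rfl⟩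
  obtain ⟨b₀, hb₀B, hb₀A⟩ := hne
  let w : Fin n → F := b₀ *ᵥ v
  have hwL : w ∈ L := hLmem b₀ hb₀B
  have hvL : v ∈ L := by
    have := hLmem 1 B.one_mem
    rwa [Matrix.one_mulVec] at this
  -- `L` is stable under `B`
  have hLB : ∀ b ∈ B, ∀ x ∈ L, b *ᵥ x ∈ L := by
    rintro b hb x ⟨c, rfl⟩
    show b *ᵥ (c.1 *ᵥ v) ∈ L
    rw [Matrix.mulVec_mulVec]
    exact hLmem _ (B.mul_mem hb c.2)
  let u : Fin n → F := w' - w
  -- `w` is not in the `A`-span of `v` and `u`
  have hwU : w ∉ Submodule.span ↥A ({v, u} : Set (Fin n → F)) := by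
    intro hmem
    obtain ⟨α, β, hαβ'⟩ := Submodule.mem_span_pair.mp hmem
    have hαβ : α.1 *ᵥ v + β.1 *ᵥ u = w := hαβ'
    have hαB : α.1 ∈ B := hAB α.2
    have hβB : β.1 ∈ B := hAB β.2
    by_cases hβ : β.1 = 0
    · rw [hβ, Matrix.zero_mulVec, add_zero] at hαβ
      -- (b₀ - α) v = 0
      have h1 : (b₀ - α.1) *ᵥ v = 0 := by
        rw [Matrix.sub_mulVec, hαβ]; exact sub_self _
      have h2 : b₀ - α.1 ≠ 0 := by
        intro h
        apply hb₀A
        rw [sub_eq_zero.mp h]; exact α.2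
      obtain ⟨y, hyB, hy⟩ := hB.inv (b₀ - α.1) (B.sub_mem hb₀B hαB) h2
      apply hv
      have h3 : (y * (b₀ - α.1)) *ᵥ v = v := by
        rw [hB.comm y hyB (b₀ - α.1) (B.sub_mem hb₀B hαB), hy, Matrix.one_mulVec]
      rw [← h3, ← Matrix.mulVec_mulVec, h1, Matrix.mulVec_zero]
    · apply hw'
      obtain ⟨y, hyB, hy⟩ := hB.inv β.1 hβB hβ
      have hy' : y * β.1 = 1 := by rw [hB.comm y hyB β.1 hβB, hy]
      -- β w' = (1 + β) w - α v
      have h1 : β.1 *ᵥ w' = (1 + β.1) *ᵥ w - α.1 *ᵥ v := by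
        have e0 : β.1 *ᵥ u = β.1 *ᵥ w' - β.1 *ᵥ w := Matrix.mulVec_sub _ _ _
        have e1 : β.1 *ᵥ u = w - α.1 *ᵥ v := by
          rw [← hαβ]; abel
        have e2 : β.1 *ᵥ w' = β.1 *ᵥ u + β.1 *ᵥ w := by
          rw [e0]; abel
        rw [Matrix.add_mulVec, Matrix.one_mulVec, e2, e1]
        abel
      have h2 : w' = y *ᵥ (β.1 *ᵥ w') := by
        rw [Matrix.mulVec_mulVec, hy', Matrix.one_mulVec]
      rw [h2, h1]
      exact hLB y hyB _ (L.sub_mem (hLB _ (B.add_mem B.one_mem hβB) _ hwL) (hLB _ hαB _ hvL))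
  obtain ⟨φ, hφv, hφu, hφw⟩ := exists_functional (K := ↥A) v u w hwU
  -- the nilpotent map
  let Nl : (Fin n → F) →ₗ[F] (Fin n → F) :=
    { toFun := fun x => (φ x).1 *ᵥ u
      map_add' := fun x y => by rw [map_add, hadd1, Matrix.add_mulVec]
      map_smul' := fun c x => by
        have : c • x = (⟨c • 1, A.smul_mem A.one_mem c⟩ : ↥A) • x := by
          rw [hsmul]; simp [Matrix.smul_mulVec]
        rw [this, map_smul, smul_eq_mul, hmul1]
        simp [Matrix.smul_mulVec] }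
  have hNl : ∀ x, Nl x = (φ x).1 *ᵥ u := fun _ => rfl
  let N : Matrix (Fin n) (Fin n) F := LinearMap.toMatrix' Nl
  have hN : ∀ x, N *ᵥ x = (φ x).1 *ᵥ u := by
    intro x
    have : N *ᵥ x = Nl x := by
      rw [← Matrix.toLin'_apply, Matrix.toLin'_toMatrix']
    rw [this, hNl]
  have hφA : ∀ (a : ↥A) (x : Fin n → F), (φ (a.1 *ᵥ x)).1 = a.1 * (φ x).1 := by
    intro a x
    rw [← hsmul, map_smul, smul_eq_mul, hmul1]
  have hNN : N * N = 0 := by
    apply Matrix.toLin'.injective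
    apply LinearMap.ext
    intro x
    rw [Matrix.toLin'_mul, LinearMap.comp_apply, Matrix.toLin'_apply, Matrix.toLin'_apply, hN x,
      hN, hφA, hφu, hzero1, mul_zero, Matrix.zero_mulVec]
    simp
  have hNA : ∀ a ∈ A, N * a = a * N := by
    intro a ha
    apply Matrix.toLin'.injective
    apply LinearMap.ext
    intro x
    rw [Matrix.toLin'_mul, Matrix.toLin'_mul, LinearMap.comp_apply, LinearMap.comp_apply,
      Matrix.toLin'_apply, Matrix.toLin'_apply, Matrix.toLin'_apply, Matrix.toLin'_apply,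
      hN, hN, hφA ⟨a, ha⟩ x, Matrix.mulVec_mulVec]
  -- the group element
  have h12 : (1 + N) * (1 - N) = 1 := by
    rw [mul_sub, mul_one, add_mul, one_mul, hNN]; abel
  have h21 : (1 - N) * (1 + N) = 1 := by
    rw [mul_add, mul_one, sub_mul, one_mul, hNN]; abel
  let g : GL (Fin n) F := ⟨1 + N, 1 - N, h12, h21⟩
  have hg1 : g.1 = 1 + N := rfl
  have hg2 : (g⁻¹ : GL (Fin n) F).1 = 1 - N := rfl
  refine ⟨g, ?_, ?_, ?_⟩
  · show Matrix.GeneralLinearGroup.det g = 1
    apply Units.ext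
    rw [Matrix.GeneralLinearGroup.val_det_apply, hg1, Units.val_one]
    exact det_one_add_of_sq_zero N hNN
  · intro a ha
    rw [hg1, add_mul, one_mul, mul_add, mul_one, hNA a ha]
  · intro hmem
    have h1 := (hmem b₀).mp hb₀B
    rw [hg1, hg2] at h1
    have h2 : ((1 + N) * b₀ * (1 - N)) *ᵥ v ∈ L := hLmem _ h1
    apply hw'
    have h3 : (1 - N) *ᵥ v = v := by
      rw [Matrix.sub_mulVec, Matrix.one_mulVec, hN, hφv, hzero1, Matrix.zero_mulVec, sub_zero]
    have h4 : (1 + N) *ᵥ w = w' := by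
      rw [Matrix.add_mulVec, Matrix.one_mulVec, hN, hφw, hone1, Matrix.one_mulVec]
      show w + (w' - w) = w'
      abel
    rw [← Matrix.mulVec_mulVec, h3, ← Matrix.mulVec_mulVec] at h2
    rw [← h4]
    exact h2

end Part2

section Part3

open Matrix Cfsg.Geo

/-- in a finite field of order `q ^ r` with a proper divisor `1 < s < r`: an element not fixed by
the `q ^ s` power map, and a fixed one not killed by `q - 1` -/
theorem field_elements {E : Type*} [Field E] [Finite E] (q r s : ℕ) (hq : 1 < q)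
    (hcard : Nat.card E = q ^ r) (hs : 1 < s) (hsr : s ∣ r) (hlt : s < r) :
    (∃ x : E, x ^ (q ^ s) ≠ x) ∧ (∃ x : E, x ≠ 0 ∧ x ^ (q ^ s) = x ∧ x ^ (q - 1) ≠ 1) := by
  classical
  haveI : Fintype E := Fintype.ofFinite E
  obtain ⟨γ, hγ⟩ := IsCyclic.exists_generator (α := Eˣ)
  have hord : orderOf γ = q ^ r - 1 := by
    rw [orderOf_eq_card_of_forall_mem_zpowers hγ, Nat.card_units, hcard]
  have hqs : q < q ^ s := by
    calc q = q ^ 1 := (pow_one q).symm
      _ < q ^ s := Nat.pow_lt_pow_right hq hs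
  have hsr' : q ^ s < q ^ r := Nat.pow_lt_pow_right hq hlt
  obtain ⟨t, rfl⟩ := hsr
  have hdvd : q ^ s - 1 ∣ q ^ (s * t) - 1 := by
    have := Nat.sub_dvd_pow_sub_pow (q ^ s) 1 t
    rwa [one_pow, ← pow_mul] at this
  obtain ⟨m, hm⟩ := hdvd
  have hmpos : 0 < m := by
    rcases Nat.eq_zero_or_pos m with h | h
    · rw [h, mul_zero] at hm; omega
    · exact h
  constructor
  · refine ⟨γ.1, fun h => ?_⟩
    have h1 : γ ^ (q ^ s - 1) = 1 := by
      apply Units.ext
      rw [Units.val_pow_eq_pow_val, Units.val_one]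
      have h2 : γ.1 ^ (q ^ s - 1) * γ.1 = 1 * γ.1 := by
        rw [← pow_succ, one_mul, Nat.sub_add_cancel (by omega)]; exact h
      exact mul_right_cancel₀ γ.ne_zero h2
    have h3 := orderOf_dvd_of_pow_eq_one h1
    rw [hord] at h3
    have := Nat.le_of_dvd (by omega) h3
    omega
  · refine ⟨(γ ^ m).1, (γ ^ m).ne_zero, ?_, ?_⟩
    · have h1 : (γ ^ m) ^ (q ^ s - 1) = 1 := by
        rw [← pow_mul, mul_comm, ← hm, ← hord]; exact pow_orderOf_eq_one γ
      have h2 : (γ ^ m) ^ (q ^ s) = γ ^ m := by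
        have : q ^ s = (q ^ s - 1) + 1 := by omega
        rw [this, pow_succ, h1, one_mul]
      rw [← Units.val_pow_eq_pow_val, h2]
    · intro h
      have h1 : γ ^ (m * (q - 1)) = 1 := by
        apply Units.ext
        rw [pow_mul, Units.val_pow_eq_pow_val, Units.val_one]; exact h
      have h3 := orderOf_dvd_of_pow_eq_one h1
      rw [hord, hm] at h3
      have h4 : m * (q - 1) < (q ^ s - 1) * m := by
        rw [mul_comm]
        exact Nat.mul_lt_mul_of_pos_right (by omega) hmpos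
      have := Nat.le_of_dvd (Nat.mul_pos hmpos (by omega)) h3
      omega

end Part3

section Part4

open Matrix Cfsg.Geo

variable {F : Type*} [Field F] {n : ℕ}

/-- the elements of a commutative subalgebra fixed by the `m`-th power map, `m` a power of `|F|` -/
def fixedSub [Fintype F] [Nonempty (Fin n)] (K : Subalgebra F (Matrix (Fin n) (Fin n) F))
    (hK : ∀ x ∈ K, ∀ y ∈ K, x * y = y * x) (s : ℕ) :
    Subalgebra F (Matrix (Fin n) (Fin n) F) where
  carrier := {x | x ∈ K ∧ x ^ (Fintype.card F ^ s) = x}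
  mul_mem' := by
    rintro x y ⟨hx, hx'⟩ ⟨hy, hy'⟩
    refine ⟨K.mul_mem hx hy, ?_⟩
    have hc : Commute x y := hK x hx y hy
    rw [hc.mul_pow, hx', hy']
  add_mem' := by
    rintro x y ⟨hx, hx'⟩ ⟨hy, hy'⟩
    refine ⟨K.add_mem hx hy, ?_⟩
    have hc : Commute x y := hK x hx y hy
    obtain ⟨p, hp⟩ := CharP.exists F
    obtain ⟨k, hpk, hqk⟩ := FiniteField.card F p
    haveI : Fact p.Prime := ⟨hpk⟩
    rw [hqk, ← pow_mul] at hx' hy' ⊢
    rw [add_pow_char_pow_of_commute p _ hc, hx', hy']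
  algebraMap_mem' := by
    intro c
    refine ⟨K.algebraMap_mem c, ?_⟩
    rw [← map_pow, FiniteField.pow_card_pow]

theorem mem_fixedSub [Fintype F] [Nonempty (Fin n)] (K : Subalgebra F (Matrix (Fin n) (Fin n) F))
    (hK : ∀ x ∈ K, ∀ y ∈ K, x * y = y * x) (s : ℕ) (x : Matrix (Fin n) (Fin n) F) :
    x ∈ fixedSub K hK s ↔ x ∈ K ∧ x ^ (Fintype.card F ^ s) = x := Iff.rfl

theorem fixedSub_le [Fintype F] [Nonempty (Fin n)] (K : Subalgebra F (Matrix (Fin n) (Fin n) F))
    (hK : ∀ x ∈ K, ∀ y ∈ K, x * y = y * x) (s : ℕ) : fixedSub K hK s ≤ K := fun _ hx => hx.1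

theorem fieldLike_fixedSub [Fintype F] [Nonempty (Fin n)]
    (K : Subalgebra F (Matrix (Fin n) (Fin n) F)) (hK : FieldLike K) (s : ℕ) :
    FieldLike (fixedSub K hK.comm s) where
  comm x hx y hy := hK.comm x hx.1 y hy.1
  inv x hx hx0 := by
    obtain ⟨y, hy, hxy⟩ := hK.inv x hx.1 hx0
    refine ⟨y, ⟨hy, ?_⟩, hxy⟩
    have hc : Commute x y := hK.comm x hx.1 y hy
    have h1 : x * y ^ (Fintype.card F ^ s) = 1 := by
      have := congrArg (· ^ (Fintype.card F ^ s)) hxy
      simp only [one_pow] at this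
      rw [hc.mul_pow, hx.2] at this
      exact this
    have hyx : y * x = 1 := by rw [← hc.eq]; exact hxy
    calc y ^ (Fintype.card F ^ s) = (y * x) * y ^ (Fintype.card F ^ s) := by rw [hyx, one_mul]
      _ = y * (x * y ^ (Fintype.card F ^ s)) := mul_assoc _ _ _
      _ = y := by rw [h1, mul_one]

theorem normalizer_le_fixedSub [Fintype F] [Nonempty (Fin n)]
    (K : Subalgebra F (Matrix (Fin n) (Fin n) F))
    (hK : ∀ x ∈ K, ∀ y ∈ K, x * y = y * x) (s : ℕ) :
    subalgebraNormalizer K ≤ subalgebraNormalizer (fixedSub K hK s) := by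
  intro g hg k
  have hpow : ∀ m : ℕ, (g.1 * k * (g⁻¹ : GL (Fin n) F).1) ^ m = g.1 * k ^ m * (g⁻¹ : GL (Fin n) F).1 := by
    intro m
    induction m with
    | zero => simp
    | succ m ih =>
      rw [pow_succ, ih, pow_succ]
      have : (g⁻¹ : GL (Fin n) F).1 * g.1 = 1 := by
        rw [← Units.val_mul, inv_mul_cancel, Units.val_one]
      calc g.1 * k ^ m * (g⁻¹ : GL (Fin n) F).1 * (g.1 * k * (g⁻¹ : GL (Fin n) F).1)
          = g.1 * k ^ m * ((g⁻¹ : GL (Fin n) F).1 * g.1) * k * (g⁻¹ : GL (Fin n) F).1 := by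
            simp only [mul_assoc]
        _ = g.1 * (k ^ m * k) * (g⁻¹ : GL (Fin n) F).1 := by rw [this, mul_one, mul_assoc g.1]
  rw [mem_fixedSub, mem_fixedSub, ← hg k, hpow]
  constructor
  · rintro ⟨h1, h2⟩
    exact ⟨h1, by rw [h2]⟩
  · rintro ⟨h1, h2⟩
    refine ⟨h1, ?_⟩
    have h3 : (g⁻¹ : GL (Fin n) F).1 * g.1 = 1 := by
      rw [← Units.val_mul, inv_mul_cancel, Units.val_one]
    have h4 : g.1 * (g⁻¹ : GL (Fin n) F).1 = 1 := by
      rw [← Units.val_mul, mul_inv_cancel, Units.val_one]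
    have e : ∀ z : Matrix (Fin n) (Fin n) F,
        (g⁻¹ : GL (Fin n) F).1 * (g.1 * z * (g⁻¹ : GL (Fin n) F).1) * g.1 = z := by
      intro z
      calc (g⁻¹ : GL (Fin n) F).1 * (g.1 * z * (g⁻¹ : GL (Fin n) F).1) * g.1
          = ((g⁻¹ : GL (Fin n) F).1 * g.1) * z * ((g⁻¹ : GL (Fin n) F).1 * g.1) := by
            simp only [mul_assoc]
        _ = z := by rw [h3, one_mul, mul_one]
    rw [← e (k ^ _), h2, e]

theorem fieldLike_bot [Nonempty (Fin n)] :
    FieldLike (⊥ : Subalgebra F (Matrix (Fin n) (Fin n) F)) where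
  comm x hx y hy := by
    obtain ⟨c, rfl⟩ := Algebra.mem_bot.mp hx
    exact Algebra.commutes c y
  inv x hx hx0 := by
    obtain ⟨c, rfl⟩ := Algebra.mem_bot.mp hx
    have hc : c ≠ 0 := by
      rintro rfl
      exact hx0 (map_zero _)
    refine ⟨algebraMap F _ c⁻¹, Subalgebra.algebraMap_mem _ _, ?_⟩
    rw [← map_mul, mul_inv_cancel₀ hc, map_one]

theorem mem_normalizer_of_commute (A : Subalgebra F (Matrix (Fin n) (Fin n) F)) (g : GL (Fin n) F)
    (h : ∀ a ∈ A, g.1 * a = a * g.1) : g ∈ subalgebraNormalizer A := by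
  intro k
  have h4 : g.1 * (g⁻¹ : GL (Fin n) F).1 = 1 := by
    rw [← Units.val_mul, mul_inv_cancel, Units.val_one]
  have h3 : (g⁻¹ : GL (Fin n) F).1 * g.1 = 1 := by
    rw [← Units.val_mul, inv_mul_cancel, Units.val_one]
  constructor
  · intro hk
    rw [h k hk, mul_assoc, h4, mul_one]; exact hk
  · intro hk
    have h5 := h _ hk
    have h6 : g.1 * k * (g⁻¹ : GL (Fin n) F).1 = k := by
      calc g.1 * k * (g⁻¹ : GL (Fin n) F).1
          = (g⁻¹ : GL (Fin n) F).1 * (g.1 * (g.1 * k * (g⁻¹ : GL (Fin n) F).1)) := by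
            rw [← mul_assoc (g⁻¹ : GL (Fin n) F).1, h3, one_mul]
        _ = (g⁻¹ : GL (Fin n) F).1 * (g.1 * k * (g⁻¹ : GL (Fin n) F).1 * g.1) := by rw [h5]
        _ = ((g⁻¹ : GL (Fin n) F).1 * g.1) * k * ((g⁻¹ : GL (Fin n) F).1 * g.1) := by
            simp only [mul_assoc]
        _ = k := by rw [h3, one_mul, mul_one]
    rwa [h6] at hk

end Part4

section Part5

open Matrix Cfsg.Geo

set_option linter.style.haveILetI false in
theorem result {F : Type*} [Field F]
    [Fintype F] (n r : ℕ) (hr1 : 1 < r) (hrp : ¬ r.Prime) (hrn : r ∣ n) (hlt : r < n)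
    (K : Subalgebra F (Matrix (Fin n) (Fin n) F)) (hK : Cfsg.Geo.IsFieldSubalgebra r K) :
    ¬ IsCoatom (Cfsg.Geo.subalgebraNormalizer K) ∧
      ¬ Cfsg.Geo.IsMaximalIn (Cfsg.Geo.specialLinear (Fin n) F)
        (Cfsg.Geo.subalgebraNormalizer K ⊓ Cfsg.Geo.specialLinear (Fin n) F) := by
  classical
  have hn : 0 < n := by omega
  haveI : Nonempty (Fin n) := ⟨⟨0, hn⟩⟩
  have hKF : FieldLike K := ⟨hK.comm, hK.inv⟩
  have hq1 : 1 < Fintype.card F := Fintype.one_lt_card
  have hsp : r.minFac.Prime := Nat.minFac_prime (by omega)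
  have hs1 : 1 < r.minFac := hsp.one_lt
  have hsr : r.minFac ∣ r := Nat.minFac_dvd r
  have hslt : r.minFac < r := by
    have h1 : r.minFac ≤ r := Nat.minFac_le (by omega)
    rcases h1.lt_or_eq with h | h
    · exact h
    · exfalso; apply hrp; rw [← h]; exact hsp
  have hK₁ : FieldLike (fixedSub K hK.comm r.minFac) := fieldLike_fixedSub K hKF r.minFac
  have hle : fixedSub K hK.comm r.minFac ≤ K := fixedSub_le K hK.comm r.minFac
  have hcard : Nat.card ↥K = Fintype.card F ^ r := by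
    rw [Module.natCard_eq_pow_finrank (K := F), hK.finrank_eq, Nat.card_eq_fintype_card]
  have hdim1 : Module.finrank F ↥(fixedSub K hK.comm r.minFac) < n := by
    have h1 : Module.finrank F ↥(fixedSub K hK.comm r.minFac) ≤ Module.finrank F ↥K :=
      LinearMap.finrank_le_finrank_of_injective
        (f := (Subalgebra.inclusion hle).toLinearMap) (Subalgebra.inclusion_injective hle)
    rw [hK.finrank_eq] at h1
    omega
  have hne : (∃ b ∈ K, b ∉ fixedSub K hK.comm r.minFac) ∧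
      (∃ b ∈ fixedSub K hK.comm r.minFac, b ∉ (⊥ : Subalgebra F (Matrix (Fin n) (Fin n) F))) := by
    letI instF : Field ↥K := hKF.isField.toField
    obtain ⟨⟨x, hx⟩, ⟨y, hy0, hy1, hy2⟩⟩ :=
      field_elements (E := ↥K) (Fintype.card F) r r.minFac hq1 hcard hs1 hsr hslt
    have hpow : ∀ (z : ↥K) (m : ℕ), (z ^ m).1 = z.1 ^ m := fun _ _ => rfl
    constructor
    · refine ⟨x.1, x.2, fun h => hx (Subtype.ext ?_)⟩
      rw [hpow]; exact h.2
    · refine ⟨y.1, ⟨y.2, ?_⟩, ?_⟩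
      · rw [← hpow, hy1]
      · intro hbot
        obtain ⟨c, hc⟩ := Algebra.mem_bot.mp hbot
        apply hy2
        apply Subtype.ext
        rw [hpow]
        have hc0 : c ≠ 0 := by
          rintro rfl
          apply hy0
          apply Subtype.ext
          rw [← hc, map_zero]; rfl
        rw [← hc, ← map_pow, FiniteField.pow_card_sub_one_eq_one c hc0, map_one]; rfl
  obtain ⟨hne2, hne1⟩ := hne
  obtain ⟨g₁, hg₁S, -, hg₁N⟩ :=
    exists_sl_not_normalizing ⊥ (fixedSub K hK.comm r.minFac) fieldLike_bot hK₁ bot_le hne1 hdim1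
  obtain ⟨g₂, hg₂S, hg₂C, hg₂N⟩ :=
    exists_sl_not_normalizing (fixedSub K hK.comm r.minFac) K hK₁ hKF hle hne2
      (by rw [hK.finrank_eq]; exact hlt)
  have hg₂K₁ : g₂ ∈ subalgebraNormalizer (fixedSub K hK.comm r.minFac) :=
    mem_normalizer_of_commute _ g₂ hg₂C
  have hNle : subalgebraNormalizer K ≤ subalgebraNormalizer (fixedSub K hK.comm r.minFac) :=
    normalizer_le_fixedSub K hK.comm r.minFac
  constructor
  · intro hco
    have hlt' : subalgebraNormalizer K < subalgebraNormalizer (fixedSub K hK.comm r.minFac) :=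
      lt_of_le_of_ne hNle (fun h => hg₂N (h ▸ hg₂K₁))
    have := hco.2 _ hlt'
    apply hg₁N; rw [this]; trivial
  · rintro ⟨-, hmax⟩
    rcases hmax (subalgebraNormalizer (fixedSub K hK.comm r.minFac) ⊓ specialLinear (Fin n) F)
      (inf_le_inf_right _ hNle) inf_le_right with h | h
    · have : g₂ ∈ subalgebraNormalizer (fixedSub K hK.comm r.minFac) ⊓ specialLinear (Fin n) F :=
        ⟨hg₂K₁, hg₂S⟩
      rw [h] at this
      exact hg₂N this.1
    · have : g₁ ∈ subalgebraNormalizer (fixedSub K hK.comm r.minFac) ⊓ specialLinear (Fin n) F := by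
        rw [h]; exact hg₁S
      exact hg₁N this.1

end Part5

end Cfsg.Agent.S5887
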