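import Cfsg.Statements.S5890
import Cfsg.Agent.H9.PGLMeet4

set_option autoImplicit false
open Cfsg

namespace Cfsg.Agent.S5890

/-- Let F be a finite field with q ≥ 4 elements, let L ≤ PGL₂(F) be the image of SL₂(F) (a copy of PSL₂(F), of index gcd(2, q − 1)), and let M be a maximal subgroup of PGL₂(F) that does not contain L. Suppose q ∉ {7, 9, 11} and that q is not a prime congruent to ±11 or ±19 modulo 40. Then M ∩ L is a maximal subgroup of L. (For the excluded q there are maximal subgroups of PGL₂(q) — dihedral groups of order 12 and 16 at q = 7, of order 20 and 16 at q = 9, of order 20 at q = 11, and S₄ at the excluded primes — whose intersection with L is not maximal in L.) -/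
theorem result {F : Type*} [Field F]
    [Fintype F] (h4 : 4 ≤ Fintype.card F) (h7 : Fintype.card F ≠ 7) (h9 : Fintype.card F ≠ 9) (h11 : Fintype.card F ≠ 11)
    (h40 : (Fintype.card F).Prime → Fintype.card F % 40 ∉ ({11, 19, 21, 29} : Finset ℕ))
    (M : Subgroup (Matrix.ProjGenLinGroup (Fin 2) F)) (hM : IsCoatom M)
    (hML : ¬ (Matrix.ProjGenLinGroup.mk.comp Matrix.SpecialLinearGroup.toGL).range ≤ M) :
    IsCoatom ((M ⊓ (Matrix.ProjGenLinGroup.mk.comp Matrix.SpecialLinearGroup.toGL).range).subgroupOf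
      (Matrix.ProjGenLinGroup.mk.comp Matrix.SpecialLinearGroup.toGL).range) := by
  classical
  by_cases hodd : Odd (Fintype.card F)
  · obtain ⟨p, hp⟩ := CharP.exists F
    haveI : Fact p.Prime := ⟨CharP.char_is_prime F p⟩
    have h5 : 5 ≤ Fintype.card F := by
      obtain ⟨r, hr⟩ := hodd
      omega
    have hML' : ¬ (Cfsg.Agent.H9.PGL.LL : Subgroup (Matrix.ProjGenLinGroup (Fin 2) F)) ≤ M := hML
    have hA := Cfsg.Agent.H9.PGLMeet.comap_coatom p hodd h5 h7 h9 h11 h40 M hM hML'
    exact Cfsg.Agent.H9.PGLMeet.coatom_meet _ M Cfsg.Agent.H9.PGL.jj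
      Cfsg.Agent.H9.PGL.jj_injective Cfsg.Agent.H9.PGL.LL_eq_range hA
  · have htop := Cfsg.Agent.H9.PGLMeet.LL_eq_top_of_even hodd
    apply Cfsg.Agent.H9.PGLMeet.coatom_meet _ M
      (MonoidHom.id (Matrix.ProjGenLinGroup (Fin 2) F)) Function.injective_id
    · show (Cfsg.Agent.H9.PGL.LL : Subgroup (Matrix.ProjGenLinGroup (Fin 2) F)) = _
      rw [htop]
      symm
      rw [MonoidHom.range_eq_top]
      exact Function.surjective_id
    · rw [Subgroup.comap_id]
      exact hM

end Cfsg.Agent.S5890
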