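import Cfsg.Statements.S5905
import Mathlib

set_option autoImplicit false
open Cfsg

namespace Cfsg.Agent.S5905
open MulAction
open scoped Pointwise

section
variable {Ω : Type*} {b : ℕ} (f : Ω → Fin b)

/-- The stabilizer of the partition given by the fibres of `f`. -/
def stab : Subgroup (Equiv.Perm Ω) where
  carrier := {g | ∀ x y : Ω, f x = f y ↔ f (g x) = f (g y)}
  mul_mem' {g h} hg hh := by
    intro x y
    rw [hh x y, hg (h x) (h y)]
    rfl
  one_mem' := by
    intro x y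
    rfl
  inv_mem' {g} hg := by
    intro x y
    have := hg (g⁻¹ x) (g⁻¹ y)
    rw [← Equiv.Perm.mul_apply, ← Equiv.Perm.mul_apply, mul_inv_cancel, Equiv.Perm.one_apply,
      Equiv.Perm.one_apply] at this
    exact this.symm

theorem mem_stab (g : Equiv.Perm Ω) : g ∈ stab f ↔ ∀ x y : Ω, f x = f y ↔ f (g x) = f (g y) := Iff.rfl

theorem closure_eq : Subgroup.closure {g : Equiv.Perm Ω | ∀ x y : Ω, f x = f y ↔ f (g x) = f (g y)} = stab f :=
  Subgroup.closure_eq (stab f)

theorem swap_mem [DecidableEq Ω] (x y : Ω) (h : f x = f y) : Equiv.swap x y ∈ stab f := by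
  have key : ∀ z, f (Equiv.swap x y z) = f z := by
    intro z
    by_cases hzx : z = x
    · rw [hzx, Equiv.swap_apply_left, h]
    · by_cases hzy : z = y
      · rw [hzy, Equiv.swap_apply_right, h]
      · rw [Equiv.swap_apply_of_ne_of_ne hzx hzy]
  intro u v
  rw [key u, key v]

variable {a : ℕ} (hf : ∀ i : Fin b, Nat.card {x : Ω // f x = i} = a)

/-- A bijection of `Ω` with `Fin b × Fin a` compatible with `f`. -/
noncomputable def Φ (ha : 0 < a) : Ω ≃ Fin b × Fin a :=
  (Equiv.sigmaFiberEquiv f).symm.trans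
    ((Equiv.sigmaCongrRight fun i =>
      haveI : Finite {x : Ω // f x = i} := Nat.finite_of_card_ne_zero (by rw [hf i]; exact ha.ne')
      Finite.equivFinOfCardEq (hf i)).trans (Equiv.sigmaEquivProd _ _))

theorem Φ_fst (ha : 0 < a) (x : Ω) : (Φ f hf ha x).1 = f x := rfl

/-- The permutation swapping two parts. -/
noncomputable def partSwap (ha : 0 < a) (i j : Fin b) : Equiv.Perm Ω :=
  (Φ f hf ha).trans ((Equiv.prodCongr (Equiv.swap i j) (Equiv.refl (Fin a))).trans (Φ f hf ha).symm)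

theorem f_partSwap (ha : 0 < a) (i j : Fin b) (x : Ω) :
    f (partSwap f hf ha i j x) = Equiv.swap i j (f x) := by
  rw [← Φ_fst f hf ha, partSwap]
  simp only [Equiv.trans_apply, Equiv.apply_symm_apply, Equiv.prodCongr_apply, Prod.map_fst]
  rw [Φ_fst]

theorem partSwap_mem (ha : 0 < a) (i j : Fin b) : partSwap f hf ha i j ∈ stab f := by
  intro x y
  rw [f_partSwap f hf ha, f_partSwap f hf ha, (Equiv.swap i j).injective.eq_iff]

theorem partSwap_fix (ha : 0 < a) (i j : Fin b) (x : Ω) (hi : f x ≠ i) (hj : f x ≠ j) :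
    partSwap f hf ha i j x = x := by
  apply (Φ f hf ha).injective
  rw [partSwap]
  simp only [Equiv.trans_apply, Equiv.apply_symm_apply, Equiv.prodCongr_apply]
  apply Prod.ext
  · simp only [Prod.map_fst, Φ_fst]
    exact Equiv.swap_apply_of_ne_of_ne hi hj
  · simp


end

section
variable {Ω : Type*} {b : ℕ} (f : Ω → Fin b) {a : ℕ}

theorem exists_other (hf : ∀ i : Fin b, Nat.card {x : Ω // f x = i} = a) (ha : 2 ≤ a) (x : Ω) : ∃ x' : Ω, f x' = f x ∧ x' ≠ x := by
  have : Finite {z : Ω // f z = f x} := Nat.finite_of_card_ne_zero (by rw [hf (f x)]; omega)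
  have h1 : 1 < Nat.card {z : Ω // f z = f x} := by rw [hf (f x)]; omega
  rw [Finite.one_lt_card_iff_nontrivial] at h1
  obtain ⟨y, hy⟩ := exists_ne (⟨x, rfl⟩ : {z : Ω // f z = f x})
  exact ⟨y.1, y.2, fun h => hy (Subtype.ext h)⟩

theorem exists_in_part (hf : ∀ i : Fin b, Nat.card {x : Ω // f x = i} = a) (ha : 0 < a) (i : Fin b) : ∃ x : Ω, f x = i := by
  have : Finite {z : Ω // f z = i} := Nat.finite_of_card_ne_zero (by rw [hf i]; omega)
  have h1 : 0 < Nat.card {z : Ω // f z = i} := by rw [hf i]; omega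
  rw [Nat.card_pos_iff] at h1
  obtain ⟨⟨y⟩, _⟩ := h1
  exact ⟨y.1, y.2⟩

theorem block_fix {K : Subgroup (Equiv.Perm Ω)} {B : Set Ω} (hB : IsBlock K B) {g : Equiv.Perm Ω}
    (hg : g ∈ K) {x : Ω} (hx : x ∈ B) (hgx : g x ∈ B) {y : Ω} (hy : y ∈ B) : g y ∈ B := by
  have h := isBlock_iff_smul_eq_of_mem.mp hB (g := ⟨g, hg⟩) hx hgx
  rw [← h]
  exact Set.smul_mem_smul_set (a := (⟨g, hg⟩ : K)) hy

/-- A non-subsingleton block of an overgroup of `stab f` is a union of parts. -/
theorem part_subset_block [DecidableEq Ω] (hf : ∀ i : Fin b, Nat.card {x : Ω // f x = i} = a) (ha : 2 ≤ a) {K : Subgroup (Equiv.Perm Ω)} (hHK : stab f ≤ K)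
    {B : Set Ω} (hB : IsBlock K B) (hns : ¬ B.Subsingleton) {x : Ω} (hx : x ∈ B) :
    ∀ z : Ω, f z = f x → z ∈ B := by
  -- first find a point of B other than x in the same part
  have h1 : ∃ y ∈ B, y ≠ x ∧ f y = f x := by
    have : ∃ y ∈ B, y ≠ x := by
      by_contra hcon
      push Not at hcon
      apply hns
      intro u hu v hv
      rw [hcon u hu, hcon v hv]
    obtain ⟨y, hyB, hyx⟩ := this
    by_cases hfy : f y = f x
    · exact ⟨y, hyB, hyx, hfy⟩
    · obtain ⟨x', hx'f, hx'x⟩ := exists_other f hf ha x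
      have hs : Equiv.swap x x' ∈ K := hHK (swap_mem f x x' hx'f.symm)
      have hy1 : y ≠ x' := fun h => hfy (h ▸ hx'f)
      have hfixy : Equiv.swap x x' y = y := Equiv.swap_apply_of_ne_of_ne hyx hy1
      have := block_fix hB hs hyB (by rw [hfixy]; exact hyB) hx
      rw [Equiv.swap_apply_left] at this
      exact ⟨x', this, hx'x, hx'f⟩
  obtain ⟨y, hyB, hyx, hfy⟩ := h1
  intro z hz
  by_cases hzx : z = x
  · rw [hzx]; exact hx
  by_cases hzy : z = y
  · rw [hzy]; exact hyB
  have hs : Equiv.swap y z ∈ K := hHK (swap_mem f y z (by rw [hfy, hz]))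
  have hfixx : Equiv.swap y z x = x := Equiv.swap_apply_of_ne_of_ne (Ne.symm hyx) (Ne.symm hzx)
  have := block_fix hB hs hx (by rw [hfixx]; exact hx) hyB
  rw [Equiv.swap_apply_left] at this
  exact this


theorem ncard_part [Finite Ω] (hf : ∀ i : Fin b, Nat.card {x : Ω // f x = i} = a) (i : Fin b) :
    {z : Ω | f z = i}.ncard = a := by
  rw [← hf i]
  rfl

theorem le_stab_of_block [Fintype Ω] [DecidableEq Ω] (hf : ∀ i : Fin b, Nat.card {x : Ω // f x = i} = a)
    (ha : 2 ≤ a) {K : Subgroup (Equiv.Perm Ω)} (hHK : stab f ≤ K) (htr : IsPretransitive K Ω)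
    {B : Set Ω} (hB : IsBlock K B) (hns : ¬ B.Subsingleton) (hnu : B ≠ Set.univ) : K ≤ stab f := by
  have ha0 : 0 < a := by omega
  obtain ⟨a0, ha0B⟩ : B.Nonempty := by
    by_contra h
    rw [Set.not_nonempty_iff_eq_empty] at h
    exact hns (h ▸ Set.subsingleton_empty)
  have hU : ∀ x ∈ B, ∀ z : Ω, f z = f x → z ∈ B := fun x hx => part_subset_block f hf ha hHK hB hns hx
  -- B is exactly one part
  have hone : ∀ x ∈ B, f x = f a0 := by
    intro x hx
    by_contra hne
    obtain ⟨d, hd⟩ : ∃ d, d ∉ B := by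
      by_contra h
      push Not at h
      exact hnu (Set.eq_univ_of_forall h)
    have hj0 : f a0 ≠ f d := fun h => hd (hU a0 ha0B d h.symm)
    have hji : f d ≠ f x := fun h => hd (hU x hx d h)
    have hmem : partSwap f hf ha0 (f x) (f d) ∈ K := hHK (partSwap_mem f hf ha0 _ _)
    have hfix : partSwap f hf ha0 (f x) (f d) a0 = a0 :=
      partSwap_fix f hf ha0 _ _ a0 (Ne.symm hne) hj0
    have hxB := block_fix hB hmem ha0B (by rw [hfix]; exact ha0B) hx
    have hfx : f (partSwap f hf ha0 (f x) (f d) x) = f d := by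
      rw [f_partSwap f hf ha0, Equiv.swap_apply_left]
    exact hd (hU _ hxB d hfx.symm)
  have hBeq : B = {z : Ω | f z = f a0} := by
    ext z
    exact ⟨fun hz => hone z hz, fun hz => hU a0 ha0B z hz⟩
  -- translates of B are parts
  have htrans : ∀ k : K, (k • B : Set Ω) = {z : Ω | f z = f ((k : Equiv.Perm Ω) a0)} := by
    intro k
    have hkB : IsBlock K (k • B) := hB.translate k
    have hkns : ¬ (k • B : Set Ω).Subsingleton := by
      intro h
      apply hns
      intro u hu v hv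
      have := h (Set.smul_mem_smul_set (a := k) hu) (Set.smul_mem_smul_set (a := k) hv)
      exact MulAction.injective k this
    have hka : (k : Equiv.Perm Ω) a0 ∈ (k • B : Set Ω) := Set.smul_mem_smul_set (a := k) ha0B
    have hsub : {z : Ω | f z = f ((k : Equiv.Perm Ω) a0)} ⊆ (k • B : Set Ω) :=
      fun z hz => part_subset_block f hf ha hHK hkB hkns hka z hz
    symm
    apply Set.eq_of_subset_of_ncard_le hsub _ (Set.toFinite _)
    rw [ncard_part f hf, Set.ncard_smul_set, hBeq, ncard_part f hf]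
  have hstar : ∀ k : K, ∀ y : Ω, f y = f a0 → f ((k : Equiv.Perm Ω) y) = f ((k : Equiv.Perm Ω) a0) := by
    intro k y hy
    have hyB : y ∈ B := by rw [hBeq]; exact hy
    have : (k : Equiv.Perm Ω) y ∈ (k • B : Set Ω) := Set.smul_mem_smul_set (a := k) hyB
    rw [htrans k] at this
    exact this
  have hfwd : ∀ k : K, ∀ x y : Ω, f x = f y → f ((k : Equiv.Perm Ω) x) = f ((k : Equiv.Perm Ω) y) := by
    intro k x y hxy
    obtain ⟨k0, hk0⟩ := htr.exists_smul_eq a0 x
    have hk0' : (k0 : Equiv.Perm Ω) a0 = x := hk0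
    have hy : y ∈ (k0 • B : Set Ω) := by
      rw [htrans k0, hk0']
      exact hxy.symm
    obtain ⟨y0, hy0B, hy0⟩ := hy
    have hy0' : (k0 : Equiv.Perm Ω) y0 = y := hy0
    have hfy0 : f y0 = f a0 := hone y0 hy0B
    have h1 := hstar (k * k0) y0 hfy0
    rw [Subgroup.coe_mul, Equiv.Perm.mul_apply, Equiv.Perm.mul_apply, hk0', hy0'] at h1
    exact h1.symm
  intro k hk
  intro x y
  constructor
  · exact hfwd ⟨k, hk⟩ x y
  · intro h
    have := hfwd ⟨k⁻¹, K.inv_mem hk⟩ (k x) (k y) h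
    simpa using this

theorem stab_transitive [Fintype Ω] [DecidableEq Ω] (hf : ∀ i : Fin b, Nat.card {x : Ω // f x = i} = a)
    (ha : 0 < a) (x y : Ω) : ∃ g ∈ stab f, g x = y := by
  by_cases h : f x = f y
  · exact ⟨Equiv.swap x y, swap_mem f x y h, Equiv.swap_apply_left x y⟩
  · refine ⟨Equiv.swap (partSwap f hf ha (f x) (f y) x) y * partSwap f hf ha (f x) (f y), ?_, ?_⟩
    · apply (stab f).mul_mem _ (partSwap_mem f hf ha _ _)
      apply swap_mem
      rw [f_partSwap f hf ha, Equiv.swap_apply_left]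
    · rw [Equiv.Perm.mul_apply, Equiv.swap_apply_left]

end

theorem result {Ω : Type*} [Fintype Ω] [DecidableEq Ω] (a b : ℕ) (ha : 2 ≤ a) (hb : 2 ≤ b)
    (f : Ω → Fin b) (hf : ∀ i : Fin b, Nat.card {x : Ω // f x = i} = a) :
    IsCoatom (Subgroup.closure {g : Equiv.Perm Ω | ∀ x y : Ω, f x = f y ↔ f (g x) = f (g y)}) := by
  rw [closure_eq]
  have ha0 : 0 < a := by omega
  obtain ⟨i0, hi0⟩ : ∃ i0 : Fin b, i0 = ⟨0, by omega⟩ := ⟨_, rfl⟩
  obtain ⟨i1, hi1⟩ : ∃ i1 : Fin b, i1 = ⟨1, by omega⟩ := ⟨_, rfl⟩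
  have hi01 : i0 ≠ i1 := by
    rw [hi0, hi1]
    intro h
    have := congrArg Fin.val h
    simp at this
  obtain ⟨x0, hx0⟩ := exists_in_part f hf ha0 i0
  obtain ⟨x0', hx0'f, hx0'x⟩ := exists_other f hf ha x0
  obtain ⟨z, hz⟩ := exists_in_part f hf ha0 i1
  constructor
  · intro htop
    have hmem : Equiv.swap x0' z ∈ stab f := by rw [htop]; trivial
    have hzx0 : x0 ≠ z := by
      intro h
      apply hi01
      rw [← hx0, ← hz, h]
    have := (hmem x0 x0').mp hx0'f.symm
    rw [Equiv.swap_apply_left, Equiv.swap_apply_of_ne_of_ne (Ne.symm hx0'x) hzx0] at this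
    apply hi01
    rw [← hx0, ← hz, this]
  · intro K hK
    have hHK : stab f ≤ K := hK.le
    have htr : IsPretransitive K Ω := by
      refine ⟨fun x y => ?_⟩
      obtain ⟨g, hg, hgx⟩ := stab_transitive f hf ha0 x y
      exact ⟨⟨g, hHK hg⟩, hgx⟩
    have hprim : IsPreprimitive K Ω := by
      apply IsPreprimitive.of_isTrivialBlock_base x0
      intro B _ hB
      by_contra hnt
      rw [IsTrivialBlock, not_or] at hnt
      exact hK.not_ge (le_stab_of_block f hf ha hHK htr hB hnt.1 hnt.2)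
    exact Equiv.Perm.subgroup_eq_top_of_isPreprimitive_of_isSwap_mem hprim (Equiv.swap x0 x0')
      ⟨x0, x0', hx0'x.symm, rfl⟩ (hHK (swap_mem f x0 x0' hx0'f.symm))

end Cfsg.Agent.S5905
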