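import Cfsg.Statements.S5894
import Cfsg.Agent.S5905

set_option autoImplicit false
open Cfsg

namespace Cfsg.Agent.S5894
open MulAction
open scoped Pointwise

/-- Transfer of coatoms along an injective homomorphism. -/
theorem isCoatom_subgroupOf_range {G' G : Type*} [Group G'] [Group G] (f : G' →* G)
    (hf : Function.Injective f) (H' : Subgroup G') (hH' : IsCoatom H') :
    IsCoatom ((H'.map f).subgroupOf f.range) := by
  let e : G' ≃* f.range := MonoidHom.ofInjective hf
  have h1 : IsCoatom (e.mapSubgroup H') := (OrderIso.isCoatom_iff e.mapSubgroup H').2 hH'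
  have h2 : (H'.map f).subgroupOf f.range = e.mapSubgroup H' := by
    ext ⟨y, hy⟩
    rw [Subgroup.mem_subgroupOf, MulEquiv.coe_mapSubgroup, Subgroup.mem_map, Subgroup.mem_map]
    constructor
    · rintro ⟨x, hx, hxy⟩
      exact ⟨x, hx, Subtype.ext hxy⟩
    · rintro ⟨x, hx, hxy⟩
      exact ⟨x, hx, congrArg Subtype.val hxy⟩
  rwa [h2]

/-- For every m ≥ 2 the symmetric group on 2m letters has a maximal subgroup M of index 2m together with a maximal subgroup H of M that is not second maximal: some maximal subgroup K of the symmetric group contains H without H being maximal in K. (One may take M the stabiliser of a letter, H ≅ S_m × S_{m−1} inside it, and K ≅ S_m ≀ S₂ the stabiliser of a partition into two m-sets, with H < S_m × S_m < K.) So the prime-index hypothesis in the second-maximality criterion cannot be relaxed to any even index ≥ 4. -/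
theorem result (m : ℕ) (hm : 2 ≤ m) :
    ∃ M H K : Subgroup (Equiv.Perm (Fin (2 * m))), IsCoatom M ∧ M.index = 2 * m ∧ H ≤ M ∧ IsCoatom (H.subgroupOf M) ∧
      IsCoatom K ∧ H ≤ K ∧ ¬ IsCoatom (H.subgroupOf K) := by
  classical
  let x₀ : Fin (2 * m) := ⟨0, by omega⟩
  let x₁ : Fin (2 * m) := ⟨1, by omega⟩
  let xm : Fin (2 * m) := ⟨m, by omega⟩
  let p : Fin (2 * m) → Prop := fun x => x ≠ x₀
  let B : Set (Fin (2 * m)) := {x | x.val < m}
  let s' : Set (Subtype p) := {y | y.1.val < m}
  let f : Equiv.Perm (Subtype p) →* Equiv.Perm (Fin (2 * m)) := Equiv.Perm.ofSubtype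
  have hfinj : Function.Injective f := Equiv.Perm.ofSubtype_injective
  let M : Subgroup (Equiv.Perm (Fin (2 * m))) := f.range
  let H : Subgroup (Equiv.Perm (Fin (2 * m))) := (stabilizer (Equiv.Perm (Subtype p)) s').map f
  let fp : Fin (2 * m) → Fin 2 := fun x => if x.val < m then 0 else 1
  let K : Subgroup (Equiv.Perm (Fin (2 * m))) :=
    Subgroup.closure {g | ∀ x y, fp x = fp y ↔ fp (g x) = fp (g y)}
  let T : Subgroup (Equiv.Perm (Fin (2 * m))) := stabilizer (Equiv.Perm (Fin (2 * m))) B
  -- M is the stabilizer of x₀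
  have hM : M = stabilizer (Equiv.Perm (Fin (2 * m))) x₀ := by
    ext g
    change g ∈ (Equiv.Perm.ofSubtype : Equiv.Perm (Subtype p) →* _).range ↔ _
    rw [Equiv.Perm.mem_range_ofSubtype_iff, mem_stabilizer_iff]
    constructor
    · intro h
      by_contra hne
      have : x₀ ∈ (g.support : Set (Fin (2 * m))) := by
        rw [Finset.mem_coe, Equiv.Perm.mem_support]
        exact hne
      exact (h this) rfl
    · intro h x hx
      rw [Finset.mem_coe, Equiv.Perm.mem_support] at hx
      intro hxx
      apply hx
      rw [hxx]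
      exact h
  have hcardα : Nat.card (Fin (2 * m)) = 2 * m := by simp
  have hMco : IsCoatom M := by
    rw [hM, ← stabilizer_singleton]
    apply Equiv.Perm.isCoatom_stabilizer
    · exact ⟨x₀, rfl⟩
    · refine ⟨x₁, ?_⟩
      intro h
      have : x₁ = x₀ := h
      have := congrArg Fin.val this
      simp [x₀, x₁] at this
    · rw [hcardα, Set.ncard_singleton]
      omega
  have hMidx : M.index = 2 * m := by
    rw [hM, index_stabilizer_of_transitive, hcardα]
  have hHM : H ≤ M := Subgroup.map_le_range _ _
  -- the stabilizer in Perm β is maximal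
  have hcardβ : Nat.card (Subtype p) = 2 * m - 1 := by
    rw [Nat.card_eq_fintype_card, Fintype.card_subtype]
    have : (Finset.univ.filter fun x : Fin (2 * m) => p x) = Finset.univ.erase x₀ := by
      ext x
      simp [p]
    rw [this, Finset.card_erase_of_mem (Finset.mem_univ _), Finset.card_univ, Fintype.card_fin]
  have hco' : IsCoatom (stabilizer (Equiv.Perm (Subtype p)) s') := by
    apply Equiv.Perm.isCoatom_stabilizer
    · refine ⟨⟨x₁, ?_⟩, ?_⟩
      · intro h
        have := congrArg Fin.val h
        simp [x₀, x₁] at this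
      · change (1 : ℕ) < m
        omega
    · refine ⟨⟨xm, ?_⟩, ?_⟩
      · intro h
        have := congrArg Fin.val h
        simp [x₀, xm] at this
        omega
      · intro h
        have : m < m := h
        omega
    · rw [hcardβ]
      omega
  have hHco : IsCoatom (H.subgroupOf M) := isCoatom_subgroupOf_range f hfinj _ hco'
  -- K is maximal
  have hfp : ∀ i : Fin 2, Nat.card {x : Fin (2 * m) // fp x = i} = m := by
    intro i
    rw [Nat.card_eq_fintype_card, Fintype.card_subtype]
    have h0 : (Finset.univ.filter fun x : Fin (2 * m) => (x : ℕ) < m).card = m := by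
      rw [Fin.card_filter_val_lt]
      omega
    fin_cases i
    · have : (Finset.univ.filter fun x : Fin (2 * m) => fp x = (0 : Fin 2))
          = Finset.univ.filter fun x : Fin (2 * m) => (x : ℕ) < m := by
        ext x
        simp only [Finset.mem_filter, Finset.mem_univ, true_and, fp]
        split_ifs with h <;> simp [h]
      exact this ▸ h0
    · have : (Finset.univ.filter fun x : Fin (2 * m) => fp x = (1 : Fin 2))
          = Finset.univ.filter fun x : Fin (2 * m) => ¬ (x : ℕ) < m := by
        ext x
        simp only [Finset.mem_filter, Finset.mem_univ, true_and, fp]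
        split_ifs with h <;> simp [h]
      have h1 : (Finset.univ.filter fun x : Fin (2 * m) => ¬ (x : ℕ) < m).card = m := by
        have := Finset.card_filter_add_card_filter_not (s := (Finset.univ : Finset (Fin (2 * m))))
          (fun x : Fin (2 * m) => (x : ℕ) < m)
        rw [h0, Finset.card_univ, Fintype.card_fin] at this
        omega
      exact this ▸ h1
  have hKco : IsCoatom K := Cfsg.Agent.S5905.result m 2 hm le_rfl fp hfp
  have hK : K = Cfsg.Agent.S5905.stab fp := Cfsg.Agent.S5905.closure_eq fp
  -- H ≤ T ≤ K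
  have hTK : T ≤ K := by
    intro g hg
    rw [hK, Cfsg.Agent.S5905.mem_stab]
    have hg' : ∀ x, g x ∈ B ↔ x ∈ B := fun x => (mem_stabilizer_set.1 hg) x
    have key : ∀ x, fp (g x) = fp x := by
      intro x
      have := hg' x
      simp only [B, Set.mem_ofPred_eq] at this
      simp only [fp]
      by_cases hx : (x : ℕ) < m
      · rw [if_pos hx, if_pos (this.2 hx)]
      · rw [if_neg hx, if_neg (fun h => hx (this.1 h))]
    intro x y
    rw [key x, key y]
  have hHT : H ≤ T := by
    rintro _ ⟨g, hg, rfl⟩
    rw [mem_stabilizer_set]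
    intro x
    have hg' := mem_stabilizer_set.1 hg
    by_cases hx : x = x₀
    · have : f g x = x := by
        rw [hx]
        exact Equiv.Perm.ofSubtype_apply_of_not_mem g (fun h : p x₀ => h rfl)
      change f g x ∈ B ↔ x ∈ B
      rw [this]
    · have : f g x = g ⟨x, hx⟩ := Equiv.Perm.ofSubtype_apply_of_mem g hx
      change f g x ∈ B ↔ x ∈ B
      rw [this]
      exact hg' ⟨x, hx⟩
  have hHK : H ≤ K := hHT.trans hTK
  refine ⟨M, H, K, hMco, hMidx, hHM, hHco, hKco, hHK, ?_⟩
  intro hco
  -- the swap (x₀ x₁) is in T but not in H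
  have hswT : Equiv.swap x₀ x₁ ∈ T := by
    rw [mem_stabilizer_set]
    intro x
    change Equiv.swap x₀ x₁ x ∈ B ↔ x ∈ B
    have h0 : x₀ ∈ B := by change (0 : ℕ) < m; omega
    have h1 : x₁ ∈ B := by change (1 : ℕ) < m; omega
    by_cases hx0 : x = x₀
    · rw [hx0, Equiv.swap_apply_left]
      exact ⟨fun _ => h0, fun _ => h1⟩
    · by_cases hx1 : x = x₁
      · rw [hx1, Equiv.swap_apply_right]
        exact ⟨fun _ => h1, fun _ => h0⟩
      · rw [Equiv.swap_apply_of_ne_of_ne hx0 hx1]
  have hswH : Equiv.swap x₀ x₁ ∉ H := by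
    intro h
    have := hHM h
    rw [hM, mem_stabilizer_iff] at this
    change Equiv.swap x₀ x₁ x₀ = x₀ at this
    rw [Equiv.swap_apply_left] at this
    have := congrArg Fin.val this
    simp [x₀, x₁] at this
  have hlt : H.subgroupOf K < T.subgroupOf K := by
    rw [SetLike.lt_iff_le_and_exists]
    refine ⟨fun x hx => ?_, ⟨Equiv.swap x₀ x₁, hTK hswT⟩, ?_, ?_⟩
    · rw [Subgroup.mem_subgroupOf] at hx ⊢
      exact hHT hx
    · rw [Subgroup.mem_subgroupOf]
      exact hswT
    · rw [Subgroup.mem_subgroupOf]
      exact hswH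
  have htop := hco.2 _ hlt
  rw [Subgroup.subgroupOf_eq_top] at htop
  -- the reversal is in K but not in T
  have hrevK : (Fin.revPerm : Equiv.Perm (Fin (2 * m))) ∈ K := by
    rw [hK, Cfsg.Agent.S5905.mem_stab]
    have key : ∀ x : Fin (2 * m), ((Fin.revPerm x : Fin (2 * m)) : ℕ) < m ↔ ¬ (x : ℕ) < m := by
      intro x
      rw [Fin.revPerm_apply, Fin.val_rev]
      have := x.2
      omega
    have key2 : ∀ x : Fin (2 * m), fp (Fin.revPerm x) = if (x : ℕ) < m then 1 else 0 := by
      intro x
      simp only [fp]
      by_cases hx : (x : ℕ) < m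
      · rw [if_neg (fun h => ((key x).1 h) hx), if_pos hx]
      · rw [if_pos ((key x).2 hx), if_neg hx]
    intro x y
    rw [key2 x, key2 y]
    simp only [fp]
    by_cases hx : (x : ℕ) < m <;> by_cases hy : (y : ℕ) < m <;>
      simp [hx, hy]
  have hrevT := htop hrevK
  rw [mem_stabilizer_set] at hrevT
  have h0 : x₀ ∈ B := by change (0 : ℕ) < m; omega
  have := (hrevT x₀).2 h0
  change ((Fin.revPerm x₀ : Fin (2 * m)) : ℕ) < m at this
  rw [Fin.revPerm_apply, Fin.val_rev] at this
  simp only [x₀] at this
  omega

end Cfsg.Agent.S5894
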