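import Cfsg.Statements.S5895
import Mathlib

set_option autoImplicit false
open Cfsg

namespace Cfsg.Agent.S5895
open MulAction SemidirectProduct
open scoped LinearAlgebra.Projectivization

section
variable (K : Type*) (V : Type*) [Field K] [AddCommGroup V] [Module K V]

/-- The action of the linear automorphisms on the multiplicative copy of `V`. -/
def phi : (V ≃ₗ[K] V) →* MulAut (Multiplicative V) where
  toFun c := AddEquiv.toMultiplicative c.toAddEquiv
  map_one' := by ext; rfl
  map_mul' a b := by ext; rfl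

theorem phi_apply (c : V ≃ₗ[K] V) (x : Multiplicative V) :
    phi K V c x = Multiplicative.ofAdd (c (Multiplicative.toAdd x)) := rfl

/-- The affine group. -/
abbrev Aff := Multiplicative V ⋊[phi K V] (V ≃ₗ[K] V)

variable {K V}

/-- Transitivity on non-zero vectors. -/
theorem exists_linearEquiv_apply_eq {u u' : V} (hu : u ≠ 0) (hu' : u' ≠ 0) :
    ∃ c : V ≃ₗ[K] V, c u = u' := by
  have h2 := Projectivization.linearEquiv_is_two_pretransitive K V
  have htr : IsPretransitive (V ≃ₗ[K] V) (ℙ K V) := isPretransitive_of_is_two_pretransitive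
  obtain ⟨c, hc⟩ := htr.exists_smul_eq (Projectivization.mk K u hu) (Projectivization.mk K u' hu')
  rw [Projectivization.smul_mk, Projectivization.mk_eq_mk_iff] at hc
  obtain ⟨a, ha⟩ := hc
  refine ⟨LinearEquiv.smulOfUnit a⁻¹ * c, ?_⟩
  rw [LinearEquiv.mul_apply]
  rw [LinearEquiv.smul_def] at ha
  rw [← ha]
  simp [LinearEquiv.smulOfUnit]


/-- The complement `M` of the translation subgroup. -/
def Msub (K V : Type*) [Field K] [AddCommGroup V] [Module K V] : Subgroup (Aff K V) :=
  (inr : (V ≃ₗ[K] V) →* Aff K V).range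

theorem mem_Msub (x : Aff K V) : x ∈ Msub K V ↔ x.left = 1 := by
  constructor
  · rintro ⟨c, rfl⟩
    rfl
  · intro h
    refine ⟨x.right, ?_⟩
    rw [← inl_left_mul_inr_right x, h, map_one, one_mul]
    simp

theorem isCoatom_Msub {v : V} (hv : v ≠ 0) : IsCoatom (Msub K V) := by
  constructor
  · intro htop
    have : (inl (Multiplicative.ofAdd v) : Aff K V) ∈ Msub K V := by rw [htop]; trivial
    rw [mem_Msub] at this
    exact hv this
  · intro X hX
    obtain ⟨x, hxX, hxM⟩ := SetLike.exists_of_lt hX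
    rw [mem_Msub] at hxM
    have hr : (inr x.right : Aff K V) ∈ X := hX.le ⟨x.right, rfl⟩
    have hl : (inl x.left : Aff K V) ∈ X := by
      have := X.mul_mem hxX (X.inv_mem hr)
      have e : x * (inr x.right : Aff K V)⁻¹ = inl x.left := by
        calc x * (inr x.right : Aff K V)⁻¹ = (inl x.left * inr x.right) * (inr x.right : Aff K V)⁻¹ := by
              rw [inl_left_mul_inr_right]
          _ = inl x.left := by rw [mul_inv_cancel_right]
      rwa [e] at this
    have hu : Multiplicative.toAdd x.left ≠ 0 := hxM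
    -- every translation lies in X
    have hall : ∀ n : Multiplicative V, (inl n : Aff K V) ∈ X := by
      intro n
      by_cases hn : Multiplicative.toAdd n = 0
      · have : n = 1 := hn
        rw [this, map_one]
        exact X.one_mem
      · obtain ⟨c, hc⟩ := exists_linearEquiv_apply_eq (K := K) hu hn
        have h1 : (inl (phi K V c x.left) : Aff K V) ∈ X := by
          rw [inl_aut]
          exact X.mul_mem (X.mul_mem (hX.le ⟨c, rfl⟩) hl) (hX.le ⟨c⁻¹, rfl⟩)
        rw [phi_apply, hc] at h1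
        exact h1
    rw [eq_top_iff]
    intro y _
    rw [← inl_left_mul_inr_right y]
    exact X.mul_mem (hall _) (hX.le ⟨y.right, rfl⟩)

theorem index_Msub [Finite V] : (Msub K V).index = Nat.card V := by
  have : Finite (V ≃ₗ[K] V) := Finite.of_injective (fun c => (c : V → V)) DFunLike.coe_injective
  have : Finite (Aff K V) := Finite.of_equiv _ (SemidirectProduct.equivProd).symm
  have h1 := (Msub K V).index_mul_card
  have h2 : Nat.card (Msub K V) = Nat.card (V ≃ₗ[K] V) :=
    (Nat.card_congr (MonoidHom.ofInjective (inr_injective (φ := phi K V))).toEquiv).symm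
  rw [SemidirectProduct.card, h2] at h1
  have hpos : 0 < Nat.card (V ≃ₗ[K] V) := Nat.card_pos
  have : Nat.card (Multiplicative V) = Nat.card V := Nat.card_congr Multiplicative.toAdd
  rw [this] at h1
  exact Nat.eq_of_mul_eq_mul_right hpos h1


theorem isCoatom_stab [Nontrivial (ℙ K V)] (ℓ : ℙ K V) : IsCoatom (stabilizer (V ≃ₗ[K] V) ℓ) := by
  have h2 := Projectivization.linearEquiv_is_two_pretransitive K V
  have : IsPreprimitive (V ≃ₗ[K] V) (ℙ K V) := isPreprimitive_of_is_two_pretransitive h2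
  exact IsPreprimitive.isCoatom_stabilizer_of_isPreprimitive (V ≃ₗ[K] V) ℓ

/-- the subgroup `H`: linear maps fixing the point `ℓ`. -/
def Hsub (ℓ : ℙ K V) : Subgroup (Aff K V) := (stabilizer (V ≃ₗ[K] V) ℓ).map inr

/-- the subgroup `K`: affine maps whose linear part fixes the point `ℓ`. -/
def Ksub (ℓ : ℙ K V) : Subgroup (Aff K V) := (stabilizer (V ≃ₗ[K] V) ℓ).comap rightHom

theorem mem_Hsub (ℓ : ℙ K V) (x : Aff K V) : x ∈ Hsub ℓ ↔ x.left = 1 ∧ x.right ∈ stabilizer (V ≃ₗ[K] V) ℓ := by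
  constructor
  · rintro ⟨c, hc, rfl⟩
    exact ⟨rfl, hc⟩
  · rintro ⟨h1, h2⟩
    refine ⟨x.right, h2, ?_⟩
    rw [← inl_left_mul_inr_right x, h1, map_one, one_mul]
    simp

theorem Hsub_le_Msub (ℓ : ℙ K V) : Hsub ℓ ≤ Msub K V := by
  intro x hx
  rw [mem_Msub]
  exact ((mem_Hsub ℓ x).mp hx).1

theorem Hsub_le_Ksub (ℓ : ℙ K V) : Hsub ℓ ≤ Ksub ℓ := by
  intro x hx
  exact ((mem_Hsub ℓ x).mp hx).2

theorem isCoatom_Hsub [Nontrivial (ℙ K V)] (ℓ : ℙ K V) : IsCoatom ((Hsub ℓ).subgroupOf (Msub K V)) := by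
  let e : (V ≃ₗ[K] V) ≃* (Msub K V) := MonoidHom.ofInjective (inr_injective (φ := phi K V))
  rw [← Subgroup.isCoatom_comap e]
  convert isCoatom_stab ℓ using 1
  ext c
  rw [Subgroup.mem_comap, Subgroup.mem_subgroupOf, mem_Hsub]
  constructor
  · rintro ⟨_, h⟩
    exact h
  · intro h
    exact ⟨rfl, h⟩

theorem isCoatom_Ksub [Nontrivial (ℙ K V)] (ℓ : ℙ K V) : IsCoatom (Ksub ℓ) :=
  Subgroup.isCoatom_comap_of_surjective rightHom_surjective (isCoatom_stab ℓ)

theorem stab_span {v : V} (hv : v ≠ 0) {c : V ≃ₗ[K] V}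
    (hc : c ∈ stabilizer (V ≃ₗ[K] V) (Projectivization.mk K v hv)) {w : V}
    (hw : w ∈ Submodule.span K {v}) : c w ∈ Submodule.span K {v} := by
  rw [mem_stabilizer_iff, Projectivization.smul_mk, Projectivization.mk_eq_mk_iff] at hc
  obtain ⟨a, ha⟩ := hc
  rw [Submodule.mem_span_singleton] at hw ⊢
  obtain ⟨b, rfl⟩ := hw
  refine ⟨b * a, ?_⟩
  rw [map_smul]
  have : c v = a • v := ha.symm
  rw [this, Units.smul_def, smul_smul]

/-- the intermediate subgroup. -/
def Lsub {v : V} (hv : v ≠ 0) : Subgroup (Aff K V) where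
  carrier := {x | x.right ∈ stabilizer (V ≃ₗ[K] V) (Projectivization.mk K v hv) ∧
    Multiplicative.toAdd x.left ∈ Submodule.span K {v}}
  mul_mem' {x y} hx hy := by
    refine ⟨Subgroup.mul_mem _ hx.1 hy.1, ?_⟩
    rw [mul_left, toAdd_mul, phi_apply, toAdd_ofAdd]
    exact Submodule.add_mem _ hx.2 (stab_span hv hx.1 hy.2)
  one_mem' := ⟨Subgroup.one_mem _, Submodule.zero_mem _⟩
  inv_mem' {x} hx := by
    refine ⟨Subgroup.inv_mem _ hx.1, ?_⟩
    rw [inv_left, phi_apply, toAdd_ofAdd, toAdd_inv]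
    exact stab_span hv (Subgroup.inv_mem _ hx.1) (Submodule.neg_mem _ hx.2)

theorem not_isCoatom_Hsub {v w : V} (hv : v ≠ 0) (hw : w ∉ Submodule.span K {v}) :
    ¬ IsCoatom ((Hsub (Projectivization.mk K v hv)).subgroupOf (Ksub (Projectivization.mk K v hv))) := by
  intro hco
  have hHL : Hsub (Projectivization.mk K v hv) ≤ Lsub hv := by
    intro x hx
    rw [mem_Hsub] at hx
    refine ⟨hx.2, ?_⟩
    rw [hx.1]
    exact Submodule.zero_mem _
  have hLK : Lsub hv ≤ Ksub (Projectivization.mk K v hv) := fun x hx => hx.1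
  have hlt : (Hsub (Projectivization.mk K v hv)).subgroupOf (Ksub (Projectivization.mk K v hv))
      < (Lsub hv).subgroupOf (Ksub (Projectivization.mk K v hv)) := by
    refine lt_of_le_of_ne (fun x hx => hHL hx) ?_
    intro heq
    have hmemL : (inl (Multiplicative.ofAdd v) : Aff K V) ∈ Lsub hv :=
      ⟨Subgroup.one_mem _, Submodule.mem_span_singleton_self v⟩
    have h1 : (⟨inl (Multiplicative.ofAdd v), hLK hmemL⟩ : Ksub (Projectivization.mk K v hv)) ∈
        (Lsub hv).subgroupOf (Ksub (Projectivization.mk K v hv)) := hmemL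
    rw [← heq] at h1
    have h2 : (inl (Multiplicative.ofAdd v) : Aff K V) ∈ Hsub (Projectivization.mk K v hv) := h1
    rw [mem_Hsub] at h2
    exact hv h2.1
  have htop := hco.2 _ hlt
  rw [Subgroup.subgroupOf_eq_top] at htop
  have hmemK : (inl (Multiplicative.ofAdd w) : Aff K V) ∈ Ksub (Projectivization.mk K v hv) := by
    show rightHom (inl (Multiplicative.ofAdd w) : Aff K V) ∈ stabilizer (V ≃ₗ[K] V) (Projectivization.mk K v hv)
    rw [rightHom_inl]
    exact Subgroup.one_mem _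
  exact hw (htop hmemK).2

end


theorem result (p d : ℕ) (hp : p.Prime)
    (hd : 2 ≤ d) :
    ∃ (G : Type) (_ : Group G) (_ : Finite G) (M H K : Subgroup G), IsCoatom M ∧ M.index = p ^ d ∧ H ≤ M ∧
      IsCoatom (H.subgroupOf M) ∧ IsCoatom K ∧ H ≤ K ∧ ¬ IsCoatom (H.subgroupOf K) := by
  have : Fact p.Prime := ⟨hp⟩
  obtain ⟨i0, hi0⟩ : ∃ i0 : Fin d, i0 = ⟨0, by omega⟩ := ⟨_, rfl⟩
  obtain ⟨i1, hi1⟩ : ∃ i1 : Fin d, i1 = ⟨1, by omega⟩ := ⟨_, rfl⟩
  have hi01 : i1 ≠ i0 := by
    rw [hi0, hi1]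
    intro h
    have := congrArg Fin.val h
    simp at this
  obtain ⟨v, hvdef⟩ : ∃ v : Fin d → ZMod p, v = Pi.single i0 1 := ⟨_, rfl⟩
  obtain ⟨w, hwdef⟩ : ∃ w : Fin d → ZMod p, w = Pi.single i1 1 := ⟨_, rfl⟩
  have hv : v ≠ 0 := by
    intro h
    have := congrFun h i0
    rw [hvdef] at this
    simp at this
  have hw0 : w ≠ 0 := by
    intro h
    have := congrFun h i1
    rw [hwdef] at this
    simp at this
  have hw : w ∉ Submodule.span (ZMod p) {v} := by
    rw [Submodule.mem_span_singleton]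
    rintro ⟨a, ha⟩
    have := congrFun ha i1
    rw [hvdef, hwdef] at this
    simp [hi01] at this
  have : Nontrivial (ℙ (ZMod p) (Fin d → ZMod p)) := by
    refine ⟨Projectivization.mk _ v hv, Projectivization.mk _ w hw0, ?_⟩
    intro h
    rw [Projectivization.mk_eq_mk_iff] at h
    obtain ⟨a, ha⟩ := h
    apply hw
    rw [Submodule.mem_span_singleton]
    refine ⟨((a⁻¹ : (ZMod p)ˣ) : ZMod p), ?_⟩
    rw [← ha, Units.smul_def, smul_smul, ← Units.val_mul, inv_mul_cancel, Units.val_one, one_smul]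
  have hfin1 : Finite ((Fin d → ZMod p) ≃ₗ[ZMod p] (Fin d → ZMod p)) :=
    Finite.of_injective (fun c => (c : (Fin d → ZMod p) → (Fin d → ZMod p))) DFunLike.coe_injective
  have hfin : Finite (Aff (ZMod p) (Fin d → ZMod p)) :=
    Finite.of_equiv _ (SemidirectProduct.equivProd).symm
  refine ⟨Aff (ZMod p) (Fin d → ZMod p), inferInstance, hfin, Msub _ _,
    Hsub (Projectivization.mk _ v hv), Ksub (Projectivization.mk _ v hv), isCoatom_Msub hv, ?_,
    Hsub_le_Msub _, isCoatom_Hsub _, isCoatom_Ksub _, Hsub_le_Ksub _, not_isCoatom_Hsub hv hw⟩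
  rw [index_Msub, Nat.card_eq_fintype_card, Fintype.card_pi_const, ZMod.card]

end Cfsg.Agent.S5895
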