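import Cfsg.Statements.S5901

set_option autoImplicit false
open Cfsg

namespace Cfsg.Agent.S5901

/-- In a finite group, a proper subgroup containing `X`, where `X` lies in a unique maximal subgroup `M`,
is contained in `M`. -/
theorem le_of_unique_coatom {G : Type*} [Group G] [Finite G] (X M : Subgroup G)
    (huniq : ∀ M' : Subgroup G, IsCoatom M' → X ≤ M' → M' = M)
    (K : Subgroup G) (hXK : X ≤ K) (hK : K ≠ ⊤) : K ≤ M := by
  obtain ⟨M', hM', hKM'⟩ := (eq_top_or_exists_le_coatom K).resolve_left hK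
  have := huniq M' hM' (hXK.trans hKM')
  exact this ▸ hKM'

theorem result {G : Type*} [Group G] [Finite G] (T X M : Subgroup G)
    (hTX : T ≤ X) (hX : X ≠ ⊤)
    (hint : ∀ Y : Subgroup G, T ≤ Y → Y ≤ X → ∃ C : Subgroup G, T ≤ C ∧ C ≤ X ∧ Y ⊔ C = X ∧ Y ⊓ C = T)
    (hM : IsCoatom M) (hXM : X ≤ M) (huniq : ∀ M' : Subgroup G, IsCoatom M' → X ≤ M' → M' = M)
    (H : Subgroup G) (hH : ¬ H ≤ M) (hHT : H ⊓ T = ⊥) :
    ∃ C : Subgroup G, H ⊔ C = ⊤ ∧ H ⊓ C = ⊥ := by
  obtain ⟨C, hTC, hCX, hsup, hinf⟩ := hint ((H ⊓ X) ⊔ T) le_sup_right (sup_le inf_le_right hTX)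
  refine ⟨C, ?_, ?_⟩
  · by_contra hne
    have hXle : X ≤ H ⊔ C := by
      rw [← hsup]
      refine sup_le (sup_le (inf_le_left.trans le_sup_left) (hTC.trans le_sup_right)) le_sup_right
    have := le_of_unique_coatom X M huniq (H ⊔ C) hXle hne
    exact hH (le_sup_left.trans this)
  · have h1 : H ⊓ C ≤ T := by
      rw [← hinf]
      refine le_inf ?_ inf_le_right
      exact le_sup_of_le_left (le_inf inf_le_left (inf_le_right.trans hCX))
    have : H ⊓ C ≤ H ⊓ T := le_inf inf_le_left h1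
    rw [hHT] at this
    exact le_bot_iff.mp this

end Cfsg.Agent.S5901
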