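import Cfsg.Statements.S5902
import Cfsg.Agent.S5901

set_option autoImplicit false
open Cfsg

namespace Cfsg.Agent.S5902

open scoped Pointwise

/-- If the subgroup lattice of `X` is complemented then the interval `[⊥, X]` is complemented. -/
theorem interval_of_complemented {G : Type*} [Group G] (X : Subgroup G)
    (hK : ComplementedLattice (Subgroup X)) (Y : Subgroup G) (hYX : Y ≤ X) :
    ∃ C : Subgroup G, ⊥ ≤ C ∧ C ≤ X ∧ Y ⊔ C = X ∧ Y ⊓ C = ⊥ := by
  obtain ⟨C', hC'⟩ := hK.exists_isCompl (Y.subgroupOf X)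
  refine ⟨C'.map X.subtype, bot_le, ?_, ?_, ?_⟩
  · exact Subgroup.map_subtype_le C'
  · have h1 : (Y.subgroupOf X).map X.subtype = Y := Subgroup.map_subgroupOf_eq_of_le hYX
    have h2 : (Y.subgroupOf X ⊔ C').map X.subtype = X := by
      rw [hC'.sup_eq_top, ← MonoidHom.range_eq_map, Subgroup.range_subtype]
    rw [Subgroup.map_sup, h1] at h2
    exact h2
  · have h1 : (Y.subgroupOf X).map X.subtype = Y := Subgroup.map_subgroupOf_eq_of_le hYX
    have h2 : (Y.subgroupOf X ⊓ C').map X.subtype = ⊥ := by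
      rw [hC'.inf_eq_bot]
      simp
    rw [Subgroup.map_inf _ _ _ X.subtype_injective, h1] at h2
    exact h2

theorem part1 {G : Type*} [Group G] [Finite G] (X M : Subgroup G)
    (hK : ComplementedLattice (Subgroup X))
    (hM : IsCoatom M) (hXM : X ≤ M) (huniq : ∀ M' : Subgroup G, IsCoatom M' → X ≤ M' → M' = M)
    (H : Subgroup G) (hH : ¬ H ≤ M.normalCore) : ∃ C : Subgroup G, H ⊔ C = ⊤ ∧ H ⊓ C = ⊥ := by
  have hXtop : X ≠ ⊤ := by
    rintro rfl
    exact hM.1 (top_le_iff.mp hXM)
  obtain ⟨h, hhH, hh⟩ := SetLike.not_le_iff_exists.mp hH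
  have hh' : ¬ ∀ b : G, b * h * b⁻¹ ∈ M := hh
  push Not at hh'
  obtain ⟨b, hb⟩ := hh'
  -- H' = conj b • H is not in M
  have hH' : ¬ (MulAut.conj b • H) ≤ M := by
    intro hle
    apply hb
    apply hle
    exact ⟨h, hhH, by simp⟩
  obtain ⟨C', hsup, hinf⟩ := Cfsg.Agent.S5901.result ⊥ X M bot_le hXtop
    (fun Y _ hYX => interval_of_complemented X hK Y hYX) hM hXM huniq (MulAut.conj b • H) hH'
    (by simp)
  refine ⟨MulAut.conj b⁻¹ • C', ?_, ?_⟩
  · have htop : (MulAut.conj b⁻¹ • (⊤ : Subgroup G)) = ⊤ := by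
      rw [Subgroup.pointwise_smul_def]
      exact Subgroup.map_top_of_surjective _ (MulEquiv.surjective _)
    have := congrArg (fun K : Subgroup G => MulAut.conj b⁻¹ • K) hsup
    simp only [Subgroup.smul_sup, map_inv, inv_smul_smul] at this
    rw [map_inv] at htop
    rw [htop] at this
    simpa using this
  · have := congrArg (fun K : Subgroup G => MulAut.conj b⁻¹ • K) hinf
    simp only [Subgroup.smul_inf, map_inv, inv_smul_smul, Subgroup.smul_bot] at this
    simpa using this

theorem result {G : Type*} [Group G] [Finite G] (X M : Subgroup G)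
    (hK : ComplementedLattice (Subgroup X))
    (hM : IsCoatom M) (hXM : X ≤ M) (huniq : ∀ M' : Subgroup G, IsCoatom M' → X ≤ M' → M' = M) :
    (∀ H : Subgroup G, ¬ H ≤ M.normalCore → ∃ C : Subgroup G, H ⊔ C = ⊤ ∧ H ⊓ C = ⊥) ∧
    ComplementedLattice (Subgroup (G ⧸ M.normalCore)) := by
  refine ⟨fun H hH => part1 X M hK hM hXM huniq H hH, ⟨fun Hbar => ?_⟩⟩
  by_cases hle : Hbar.comap (QuotientGroup.mk' M.normalCore) ≤ M.normalCore
  · refine ⟨⊤, ?_⟩
    have : Hbar = ⊥ := by
      rw [eq_bot_iff]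
      intro x hx
      obtain ⟨g, rfl⟩ := QuotientGroup.mk'_surjective M.normalCore x
      have : g ∈ M.normalCore := hle hx
      rw [Subgroup.mem_bot]
      exact (QuotientGroup.eq_one_iff g).mpr this
    rw [this]
    exact isCompl_bot_top
  · obtain ⟨C, hsup, hinf⟩ := part1 X M hK hM hXM huniq _ hle
    refine ⟨C.map (QuotientGroup.mk' M.normalCore), ?_⟩
    rw [isCompl_iff, disjoint_iff, codisjoint_iff]
    constructor
    · rw [eq_bot_iff]
      rintro x ⟨hx1, c, hc, rfl⟩
      have : c ∈ Hbar.comap (QuotientGroup.mk' M.normalCore) ⊓ C := ⟨hx1, hc⟩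
      rw [hinf, Subgroup.mem_bot] at this
      rw [this]
      simp
    · have h1 : (Hbar.comap (QuotientGroup.mk' M.normalCore)).map (QuotientGroup.mk' M.normalCore) = Hbar :=
        Subgroup.map_comap_eq_self_of_surjective (QuotientGroup.mk'_surjective _) Hbar
      rw [← h1, ← Subgroup.map_sup, hsup]
      exact Subgroup.map_top_of_surjective _ (QuotientGroup.mk'_surjective _)

end Cfsg.Agent.S5902
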