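import Cfsg.Statements.S5903
import Cfsg.Agent.S5901

set_option autoImplicit false
open Cfsg

namespace Cfsg.Agent.S5903

open scoped Pointwise

/-- If the subgroup lattice of `X ⧸ N` is complemented then the interval `[N, X]` is complemented. -/
theorem interval_of_quotient_complemented {G : Type*} [Group G] (X N : Subgroup G) (hNX : N ≤ X)
    [(N.subgroupOf X).Normal] (hK : ComplementedLattice (Subgroup (X ⧸ N.subgroupOf X)))
    (Y : Subgroup G) (hNY : N ≤ Y) (hYX : Y ≤ X) :
    ∃ C : Subgroup G, N ≤ C ∧ C ≤ X ∧ Y ⊔ C = X ∧ Y ⊓ C = N := by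
  set π := QuotientGroup.mk' (N.subgroupOf X) with hπ
  have hπs : Function.Surjective π := QuotientGroup.mk'_surjective _
  have hker : π.ker = N.subgroupOf X := QuotientGroup.ker_mk' _
  obtain ⟨C', hC'⟩ := hK.exists_isCompl ((Y.subgroupOf X).map π)
  have hkerY : π.ker ≤ Y.subgroupOf X := by
    rw [hker]; exact Subgroup.comap_mono hNY
  have hcm : ((Y.subgroupOf X).map π).comap π = Y.subgroupOf X := Subgroup.comap_map_eq_self hkerY
  have hmapN : (N.subgroupOf X).map X.subtype = N := Subgroup.map_subgroupOf_eq_of_le hNX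
  have hmapY : (Y.subgroupOf X).map X.subtype = Y := Subgroup.map_subgroupOf_eq_of_le hYX
  refine ⟨(C'.comap π).map X.subtype, ?_, Subgroup.map_subtype_le _, ?_, ?_⟩
  · refine hmapN.ge.trans (Subgroup.map_mono ?_)
    have := Subgroup.ker_le_comap π C'
    rwa [hker] at this
  · have h2 : (Y.subgroupOf X ⊔ C'.comap π).map X.subtype = X := by
      have : Y.subgroupOf X ⊔ C'.comap π = ⊤ := by
        rw [← hcm, Subgroup.comap_sup_eq _ _ _ hπs, hC'.sup_eq_top, Subgroup.comap_top]
      rw [this, ← MonoidHom.range_eq_map, Subgroup.range_subtype]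
    rw [Subgroup.map_sup, hmapY] at h2
    exact h2
  · have h2 : (Y.subgroupOf X ⊓ C'.comap π).map X.subtype = N := by
      have : Y.subgroupOf X ⊓ C'.comap π = N.subgroupOf X := by
        rw [← hcm, ← Subgroup.comap_inf, hC'.inf_eq_bot, MonoidHom.comap_bot, hker]
      rw [this, hmapN]
    rw [Subgroup.map_inf _ _ _ X.subtype_injective, hmapY] at h2
    exact h2

theorem smul_top' {G : Type*} [Group G] (b : G) : (MulAut.conj b • (⊤ : Subgroup G)) = ⊤ := by
  rw [Subgroup.pointwise_smul_def]
  exact Subgroup.map_top_of_surjective _ (MulEquiv.surjective _)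

theorem key {G : Type*} [Group G] [Finite G] [IsSimpleGroup G] (M N : Subgroup G)
    (hM : IsCoatom M) (hN : (Nat.card N).Prime) (hcen : ∀ n ∈ N, ∀ m ∈ M, m * n = n * m)
    (H : Subgroup G) (hHbot : H ≠ ⊥) (hHtop : H ≠ ⊤) :
    ∃ g : G, ¬ (MulAut.conj g • H ≤ M) ∧ (MulAut.conj g • H) ⊓ N = ⊥ := by
  by_contra hcon
  push Not at hcon
  have : Fact (Nat.card N).Prime := ⟨hN⟩
  have hNbot : N ≠ ⊥ := by
    intro h
    rw [h] at hN
    simp at hN
    exact Nat.not_prime_one hN
  -- for every g : H ≤ M^g or N^g ≤ H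
  have hdich : ∀ g : G, H ≤ MulAut.conj g • M ∨ MulAut.conj g • N ≤ H := by
    intro g
    by_cases h1 : ¬ MulAut.conj g⁻¹ • H ≤ M
    · right
      have h2 := hcon g⁻¹ h1
      have h3 : ((MulAut.conj g⁻¹ • H) ⊓ N).subgroupOf N = ⊤ := by
        rcases Subgroup.eq_bot_or_eq_top_of_prime_card (((MulAut.conj g⁻¹ • H) ⊓ N).subgroupOf N) with h | h
        · exfalso
          apply h2
          rw [Subgroup.subgroupOf_eq_bot] at h
          rw [disjoint_iff, inf_assoc, inf_idem] at h
          exact h
        · exact h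
      rw [Subgroup.subgroupOf_eq_top] at h3
      have h4 : N ≤ MulAut.conj g⁻¹ • H := (le_inf_iff.mp h3).1
      have h5 := Subgroup.pointwise_smul_le_pointwise_smul_iff (a := MulAut.conj g) |>.mpr h4
      rw [map_inv, smul_inv_smul] at h5
      exact h5
    · left
      push Not at h1
      have h5 : MulAut.conj g • (MulAut.conj g⁻¹ • H) ≤ MulAut.conj g • M := by
        rw [Subgroup.pointwise_smul_le_pointwise_smul_iff]; exact h1
      rw [map_inv, smul_inv_smul] at h5
      exact h5
  -- K : generated by the conjugates of N inside H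
  set K : Subgroup G := Subgroup.closure {x : G | ∃ g : G, x ∈ MulAut.conj g • N ∧ MulAut.conj g • N ≤ H} with hKdef
  have hKH : K ≤ H := by
    rw [hKdef, Subgroup.closure_le]
    rintro x ⟨g, hx, hle⟩
    exact hle hx
  -- the normalizer of K contains all conjugates of N
  have hnorm : Subgroup.normalClosure (N : Set G) ≤ Subgroup.normalizer (K : Set G) := by
    rw [Subgroup.normalClosure, Subgroup.closure_le]
    intro x hx
    rw [Group.mem_conjugatesOfSet_iff] at hx
    obtain ⟨n, hn, hconj⟩ := hx
    rw [isConj_iff] at hconj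
    obtain ⟨g, rfl⟩ := hconj
    have hxmem : g * n * g⁻¹ ∈ MulAut.conj g • N := ⟨n, hn, by simp⟩
    rcases hdich g with hA | hB
    · -- x centralizes H
      apply Subgroup.centralizer_le_normalizer
      rw [Subgroup.mem_centralizer_iff]
      intro k hk
      have hkH : k ∈ H := hKH hk
      have hm : g⁻¹ * k * g ∈ M := by
        have := Subgroup.mem_pointwise_smul_iff_inv_smul_mem.mp (hA hkH)
        simpa [MulAut.smul_def] using this
      have := hcen n hn _ hm
      calc k * (g * n * g⁻¹) = g * ((g⁻¹ * k * g) * n) * g⁻¹ := by group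
        _ = g * (n * (g⁻¹ * k * g)) * g⁻¹ := by rw [this]
        _ = g * n * g⁻¹ * k := by group
    · apply Subgroup.le_normalizer
      exact Subgroup.subset_closure ⟨g, hxmem, hB⟩
  have hNC : Subgroup.normalClosure (N : Set G) = ⊤ := by
    rcases (Subgroup.normalClosure_normal (s := (N : Set G))).eq_bot_or_eq_top with h | h
    · exfalso
      apply hNbot
      rw [eq_bot_iff, ← h]
      exact Subgroup.le_normalClosure
    · exact h
  have hKnormal : K.Normal := by
    rw [← Subgroup.normalizer_eq_top_iff, eq_top_iff, ← hNC]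
    exact hnorm
  rcases hKnormal.eq_bot_or_eq_top with hK | hK
  · -- no conjugate of N lies in H, so H ≤ core M
    have hall : ∀ g : G, H ≤ MulAut.conj g • M := by
      intro g
      rcases hdich g with h | h
      · exact h
      · exfalso
        apply hNbot
        have h1 : MulAut.conj g • N ≤ K := by
          intro x hx
          exact Subgroup.subset_closure ⟨g, hx, h⟩
        rw [hK, le_bot_iff] at h1
        have := congrArg (fun L : Subgroup G => MulAut.conj g⁻¹ • L) h1
        simpa using this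
    have hcore : H ≤ M.normalCore := by
      intro h hh b
      have := Subgroup.mem_pointwise_smul_iff_inv_smul_mem.mp (hall b⁻¹ hh)
      simpa [MulAut.smul_def] using this
    rcases (Subgroup.normalCore_normal M).eq_bot_or_eq_top with h | h
    · apply hHbot
      rw [eq_bot_iff, ← h]; exact hcore
    · apply hM.1
      rw [eq_top_iff, ← h]; exact Subgroup.normalCore_le M
  · apply hHtop
    rw [eq_top_iff, ← hK]; exact hKH

theorem result {G : Type*} [Group G] [Finite G] [IsSimpleGroup G] (X M N : Subgroup G)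
    (hM : IsCoatom M) (hXM : X ≤ M) (huniq : ∀ M' : Subgroup G, IsCoatom M' → X ≤ M' → M' = M)
    (hNX : N ≤ X) (hN : (Nat.card N).Prime) (hcen : ∀ n ∈ N, ∀ m ∈ M, m * n = n * m)
    [(N.subgroupOf X).Normal] (hK : ComplementedLattice (Subgroup (X ⧸ N.subgroupOf X))) :
    ComplementedLattice (Subgroup G) := by
  refine ⟨fun H => ?_⟩
  by_cases hHbot : H = ⊥
  · exact ⟨⊤, hHbot ▸ isCompl_bot_top⟩
  by_cases hHtop : H = ⊤
  · exact ⟨⊥, hHtop ▸ isCompl_top_bot⟩
  have hXtop : X ≠ ⊤ := by
    rintro rfl
    exact hM.1 (top_le_iff.mp hXM)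
  obtain ⟨b, hb1, hb2⟩ := key M N hM hN hcen H hHbot hHtop
  obtain ⟨C', hsup, hinf⟩ := Cfsg.Agent.S5901.result N X M hNX hXtop
    (fun Y hNY hYX => interval_of_quotient_complemented X N hNX hK Y hNY hYX) hM hXM huniq
    (MulAut.conj b • H) hb1 hb2
  refine ⟨MulAut.conj b⁻¹ • C', ?_⟩
  rw [isCompl_iff, disjoint_iff, codisjoint_iff]
  constructor
  · have := congrArg (fun K : Subgroup G => MulAut.conj b⁻¹ • K) hinf
    simp only [Subgroup.smul_inf, map_inv, inv_smul_smul, Subgroup.smul_bot] at this
    simpa using this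
  · have htop := smul_top' (G := G) b⁻¹
    have := congrArg (fun K : Subgroup G => MulAut.conj b⁻¹ • K) hsup
    simp only [Subgroup.smul_sup, map_inv, inv_smul_smul] at this
    rw [map_inv] at htop
    rw [htop] at this
    simpa using this

end Cfsg.Agent.S5903
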