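import Cfsg.Statements.S5904

set_option autoImplicit false
open scoped Pointwise
open Cfsg

namespace Cfsg.Agent.S5904

theorem result {Ω : Type*} [Fintype Ω] [DecidableEq Ω] (hΩ : 2 < Fintype.card Ω)
    (O : Set Ω) (hO : Nat.card O = Nat.card ↥Oᶜ) :
    ¬ IsCoatom (MulAction.stabilizer (Equiv.Perm Ω) O) := by
  classical
  intro hco
  have hcard : O.ncard + Oᶜ.ncard = Fintype.card Ω := by
    rw [Set.ncard_add_ncard_compl, Nat.card_eq_fintype_card]
  rw [Nat.card_coe_set_eq, Nat.card_coe_set_eq] at hO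
  have h2 : 1 < O.ncard := by omega
  have h2' : 0 < Oᶜ.ncard := by omega
  obtain ⟨x, x', hx, hx', hxx'⟩ := (Set.one_lt_ncard_iff (Set.toFinite O)).mp h2
  obtain ⟨y, hy⟩ := (Set.ncard_pos (Set.toFinite _)).mp h2'
  have hsmulc : ∀ σ : Equiv.Perm Ω, σ • Oᶜ = (σ • O)ᶜ := fun σ => Set.smul_set_compl
  have hOne : O ≠ Oᶜ := by
    intro h
    have : x ∈ Oᶜ := h ▸ hx
    exact this hx
  set K := MulAction.stabilizer (Equiv.Perm Ω) ({O, Oᶜ} : Set (Set Ω)) with hK
  have hmemK : ∀ σ : Equiv.Perm Ω, σ ∈ K ↔ (σ • O = O ∨ σ • O = Oᶜ) := by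
    intro σ
    rw [hK, MulAction.mem_stabilizer_iff]
    have e : σ • ({O, Oᶜ} : Set (Set Ω)) = {σ • O, (σ • O)ᶜ} := by
      rw [Set.smul_set_insert, Set.smul_set_singleton, hsmulc]
    rw [e]
    constructor
    · intro h
      have : σ • O ∈ ({O, Oᶜ} : Set (Set Ω)) := by rw [← h]; exact Set.mem_insert _ _
      simpa using this
    · rintro (h | h)
      · rw [h]
      · rw [h, compl_compl, Set.pair_comm]
  have hSK : MulAction.stabilizer (Equiv.Perm Ω) O ≤ K := by
    intro σ hσ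
    rw [hmemK]
    left
    exact hσ
  -- an element of K outside the stabilizer
  have hσ : ∃ σ ∈ K, σ ∉ MulAction.stabilizer (Equiv.Perm Ω) O := by
    have hcard' : Nat.card O = Nat.card ↥Oᶜ := by rw [Nat.card_coe_set_eq, Nat.card_coe_set_eq]; exact hO
    obtain ⟨e⟩ : Nonempty ({a // a ∈ O} ≃ {a // a ∈ Oᶜ}) := Finite.card_eq.mp hcard'
    have himg : e.extendSubtype • O = Oᶜ := by
      ext w
      constructor
      · rintro ⟨v, hv, rfl⟩
        exact e.extendSubtype_mem v hv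
      · intro hw
        refine ⟨e.extendSubtype.symm w, ?_, by simp⟩
        by_contra hn
        have := e.extendSubtype_not_mem _ hn
        simp only [Equiv.apply_symm_apply] at this
        exact this hw
    refine ⟨e.extendSubtype, (hmemK _).mpr (Or.inr himg), ?_⟩
    rw [MulAction.mem_stabilizer_iff, himg]
    exact fun h => hOne h.symm
  -- an element outside K
  have hτ : ∃ τ : Equiv.Perm Ω, τ ∉ K := by
    refine ⟨Equiv.swap x y, ?_⟩
    rw [hmemK]
    have hyO : y ∉ O := hy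
    have hy_mem : y ∈ Equiv.swap x y • O := ⟨x, hx, by simp⟩
    have hx'_mem : x' ∈ Equiv.swap x y • O := by
      refine ⟨x', hx', ?_⟩
      have : x' ≠ y := fun h => hyO (h ▸ hx')
      simp [Equiv.swap_apply_of_ne_of_ne hxx'.symm this]
    rintro (h | h)
    · rw [h] at hy_mem; exact hyO hy_mem
    · rw [h] at hx'_mem; exact hx'_mem hx'
  obtain ⟨σ, hσK, hσS⟩ := hσ
  obtain ⟨τ, hτK⟩ := hτ
  have hlt : MulAction.stabilizer (Equiv.Perm Ω) O < K :=
    lt_of_le_of_ne hSK (fun h => hσS (h ▸ hσK))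
  have := hco.2 K hlt
  rw [this] at hτK
  exact hτK (Subgroup.mem_top τ)

end Cfsg.Agent.S5904
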