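import Mathlib
import Cfsg.Statements.S5908
import Cfsg.Agent.S0827

set_option autoImplicit false
open Cfsg

namespace Cfsg.Agent.S5908

open Cfsg.Agent.Lib.Helper8.Q8Ext

theorem a2_ne_one : (QuaternionGroup.a 2 : QuaternionGroup 2) ≠ 1 := by decide

theorem a1_not_mem : (QuaternionGroup.a 1 : QuaternionGroup 2) ∉
    Subgroup.zpowers (QuaternionGroup.a 2 : QuaternionGroup 2) := by
  have h2 : (QuaternionGroup.a 2 : QuaternionGroup 2) ^ 2 = 1 := by decide
  intro h
  rw [Subgroup.mem_zpowers_iff] at h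
  obtain ⟨k, hk⟩ := h
  rcases Int.even_or_odd' k with ⟨m, rfl | rfl⟩
  · rw [zpow_mul, zpow_two, ← sq, h2, one_zpow] at hk
    revert hk
    decide
  · rw [zpow_add, zpow_mul, zpow_two, ← sq, h2, one_zpow, one_mul, zpow_one] at hk
    revert hk
    decide

/-- a subgroup of `Q₈` which together with the centre generates everything contains the centre -/
theorem q8_frattini (Y : Subgroup (QuaternionGroup 2))
    (h : Subgroup.zpowers (QuaternionGroup.a 2 : QuaternionGroup 2) ⊔ Y = ⊤) :
    (QuaternionGroup.a 2 : QuaternionGroup 2) ∈ Y := by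
  by_contra hn
  have hY : Y = ⊥ := by
    rw [Subgroup.eq_bot_iff_forall]
    intro y hy
    by_contra hne
    rcases q8_min y hne with h1 | h1
    · exact hn (h1 ▸ Y.pow_mem hy 2)
    · exact hn (h1 ▸ hy)
  rw [hY, sup_bot_eq] at h
  exact a1_not_mem (h ▸ Subgroup.mem_top _)

/-- The subgroup lattice of PSU₃(2) (the solvable group of order 72, realised over the field with 4 elements) is not complemented: some subgroup H has no subgroup X with H ⊔ X = ⊤ and H ⊓ X = ⊥. -/
theorem result {F : Type*} [Field F] [Fintype F] (hF : Fintype.card F = 4) :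
    ¬ ComplementedLattice (Subgroup (Cfsg.PSU 3 F 2)) := by
  intro hcl
  obtain ⟨N, hN, -, -, ⟨ψ⟩⟩ := Cfsg.Agent.S0827.result hF
  let π : Cfsg.PSU 3 F 2 →* QuaternionGroup 2 := ψ.toMonoidHom.comp (QuotientGroup.mk' N)
  have hπ : Function.Surjective π := ψ.surjective.comp (QuotientGroup.mk'_surjective N)
  let H : Subgroup (Cfsg.PSU 3 F 2) :=
    (Subgroup.zpowers (QuaternionGroup.a 2 : QuaternionGroup 2)).comap π
  obtain ⟨X, hX⟩ := hcl.exists_isCompl H
  have h1 : H.map π ⊔ X.map π = ⊤ := by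
    rw [← Subgroup.map_sup, hX.sup_eq_top, ← MonoidHom.range_eq_map,
      MonoidHom.range_eq_top.2 hπ]
  rw [Subgroup.map_comap_eq_self_of_surjective hπ] at h1
  obtain ⟨x, hxX, hx⟩ := q8_frattini _ h1
  have hxH : x ∈ H := by
    show π x ∈ Subgroup.zpowers (QuaternionGroup.a 2 : QuaternionGroup 2)
    rw [hx]
    exact Subgroup.mem_zpowers _
  have hx1 : x ∈ H ⊓ X := ⟨hxH, hxX⟩
  rw [hX.inf_eq_bot, Subgroup.mem_bot] at hx1
  rw [hx1, map_one] at hx
  exact a2_ne_one hx.symm

end Cfsg.Agent.S5908
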