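import Mathlib
import Cfsg.Statements.S5909
import Cfsg.Agent.S5905
import Cfsg.Agent.Lib.Helper8.Marggraf

set_option autoImplicit false
open Cfsg

namespace Cfsg.Agent.S5909


section Part0
open Cfsg MulAction
open scoped Pointwise
open Cfsg.Agent.S5905

variable {Ω : Type*} [Fintype Ω] [DecidableEq Ω] {b : ℕ} (f : Ω → Fin b)

/-- the even part of the partition stabilizer -/
def evenStab : Subgroup (Equiv.Perm Ω) := stab f ⊓ alternatingGroup Ω

theorem f_swap {u v : Ω} (huv : f u = f v) (z : Ω) : f (Equiv.swap u v z) = f z := by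
  by_cases hzx : z = u
  · rw [hzx, Equiv.swap_apply_left, huv]
  · by_cases hzy : z = v
    · rw [hzy, Equiv.swap_apply_right, huv]
    · rw [Equiv.swap_apply_of_ne_of_ne hzx hzy]

theorem swap_swap_mem {x y u v : Ω} (hxy : f x = f y) (huv : f u = f v) (hxy' : x ≠ y)
    (huv' : u ≠ v) : Equiv.swap x y * Equiv.swap u v ∈ evenStab f := by
  refine ⟨(stab f).mul_mem (swap_mem f x y hxy) (swap_mem f u v huv), ?_⟩
  show _ ∈ alternatingGroup Ω
  rw [Equiv.Perm.mem_alternatingGroup, map_mul, Equiv.Perm.sign_swap hxy',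
    Equiv.Perm.sign_swap huv']
  decide

theorem exists_even (g : Equiv.Perm Ω) (hg : g ∈ stab f) {u v : Ω} (huv : f u = f v)
    (hne : u ≠ v) :
    ∃ g' ∈ evenStab f, (∀ z, z ≠ u → z ≠ v → g' z = g z) ∧ (∀ z, f (g' z) = f (g z)) := by
  by_cases hs : Equiv.Perm.sign g = 1
  · exact ⟨g, ⟨hg, hs⟩, fun _ _ _ => rfl, fun _ => rfl⟩
  · refine ⟨g * Equiv.swap u v, ⟨(stab f).mul_mem hg (swap_mem f u v huv), ?_⟩, ?_, ?_⟩
    · show _ ∈ alternatingGroup Ω
      rw [Equiv.Perm.mem_alternatingGroup, map_mul, Equiv.Perm.sign_swap hne]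
      rcases Int.units_eq_one_or (Equiv.Perm.sign g) with h | h
      · exact absurd h hs
      · rw [h]; decide
    · intro z hzu hzv
      rw [Equiv.Perm.mul_apply, Equiv.swap_apply_of_ne_of_ne hzu hzv]
    · intro z
      rw [Equiv.Perm.mul_apply]
      exact (hg _ _).mp (f_swap f huv z)

variable {a : ℕ} (hf : ∀ i : Fin b, Nat.card {x : Ω // f x = i} = a)
include hf

/-- two distinct points in a given part -/
theorem exists_two_in_part (ha : 2 ≤ a) (i : Fin b) : ∃ u v : Ω, u ≠ v ∧ f u = i ∧ f v = i := by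
  obtain ⟨u, hu⟩ := exists_in_part f hf (by omega) i
  obtain ⟨v, hv, hvu⟩ := exists_other f hf ha u
  exact ⟨u, v, hvu.symm, hu, hv.trans hu⟩

/-- two distinct points in one part different from the part of `x` -/
theorem exists_pair_other (ha : 2 ≤ a) (hb : 2 ≤ b) (x : Ω) :
    ∃ u v : Ω, u ≠ v ∧ f u = f v ∧ f u ≠ f x := by
  obtain ⟨i, hi⟩ : ∃ i : Fin b, i ≠ f x := by
    by_cases h0 : f x = ⟨0, by omega⟩
    · refine ⟨⟨1, by omega⟩, ?_⟩
      rw [h0]
      intro h
      have := congrArg Fin.val h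
      simp at this
    · exact ⟨_, fun h => h0 h.symm⟩
  obtain ⟨u, v, huv, hu, hv⟩ := exists_two_in_part f hf ha i
  exact ⟨u, v, huv, hu.trans hv.symm, by rw [hu]; exact hi⟩

/-- two distinct points in one part, outside the part of `x` and different from `y` -/
theorem exists_pair_avoid (ha : 2 ≤ a) (hab : 3 ≤ a ∨ 3 ≤ b) (x y : Ω) (hxy : f x ≠ f y) :
    ∃ u v : Ω, u ≠ v ∧ f u = f v ∧ f u ≠ f x ∧ u ≠ y ∧ v ≠ y := by
  rcases hab with h3 | h3
  · -- inside the part of y
    have hS : ({z : Ω | f z = f y} \ {y}).ncard = a - 1 := by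
      rw [Set.ncard_sdiff_singleton_of_mem (show y ∈ {z : Ω | f z = f y} from rfl),
        ncard_part f hf]
    have h1 : 1 < ({z : Ω | f z = f y} \ {y}).ncard := by rw [hS]; omega
    rw [Set.one_lt_ncard] at h1
    obtain ⟨u, hu, v, hv, huv⟩ := h1
    refine ⟨u, v, huv, hu.1.trans hv.1.symm, ?_, hu.2, hv.2⟩
    rw [hu.1]
    exact fun h => hxy h.symm
  · obtain ⟨i, -, hi⟩ := Finset.exists_mem_notMem_of_card_lt_card
      (s := ({f x, f y} : Finset (Fin b))) (t := Finset.univ) (by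
        rw [Finset.card_univ, Fintype.card_fin]
        exact lt_of_le_of_lt Finset.card_le_two h3)
    simp only [Finset.mem_insert, Finset.mem_singleton, not_or] at hi
    obtain ⟨u, v, huv, hu, hv⟩ := exists_two_in_part f hf ha i
    refine ⟨u, v, huv, hu.trans hv.symm, by rw [hu]; exact hi.1, ?_, ?_⟩
    · intro h; rw [h] at hu; exact hi.2 hu.symm
    · intro h; rw [h] at hv; exact hi.2 hv.symm

theorem evenStab_transitive (ha : 2 ≤ a) (hb : 2 ≤ b) (x y : Ω) :
    ∃ g ∈ evenStab f, g x = y := by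
  obtain ⟨g, hg, hgx⟩ := stab_transitive f hf (by omega) x y
  obtain ⟨u, v, huv, hfuv, hfu⟩ := exists_pair_other f hf ha hb x
  obtain ⟨g', hg', h1, -⟩ := exists_even f g hg hfuv huv
  refine ⟨g', hg', ?_⟩
  rw [h1 x, hgx]
  · intro h; exact hfu (by rw [h])
  · intro h; exact hfu (by rw [hfuv, h])

omit hf in
theorem evenStab_le : evenStab f ≤ alternatingGroup Ω := inf_le_right

theorem not_alt_le (ha : 2 ≤ a) (hb : 2 ≤ b) : ¬ alternatingGroup Ω ≤ evenStab f := by
  intro hle
  obtain ⟨x0, x0', hne, h1, h2⟩ := exists_two_in_part f hf ha ⟨0, by omega⟩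
  obtain ⟨z, z', hzne, hzz, hfz⟩ := exists_pair_other f hf ha hb x0
  have hx0z : x0 ≠ z := fun h => hfz (by rw [h])
  have hx0z' : x0 ≠ z' := fun h => hfz (by rw [hzz, h])
  have hx0'z : x0' ≠ z := fun h => hfz (by rw [← h, h2, h1])
  have hx0'z' : x0' ≠ z' := fun h => hfz (by rw [hzz, ← h, h2, h1])
  have hmem : Equiv.swap x0' z * Equiv.swap z z' ∈ alternatingGroup Ω := by
    rw [Equiv.Perm.mem_alternatingGroup, map_mul, Equiv.Perm.sign_swap hx0'z,
      Equiv.Perm.sign_swap hzne]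
    decide
  have := ((hle hmem).1 x0 x0').mp (h1.trans h2.symm)
  rw [Equiv.Perm.mul_apply, Equiv.Perm.mul_apply, Equiv.swap_apply_of_ne_of_ne hx0z hx0z',
    Equiv.swap_apply_of_ne_of_ne hne hx0z, Equiv.swap_apply_of_ne_of_ne hx0'z hx0'z',
    Equiv.swap_apply_left] at this
  exact hfz this.symm

end Part0

section Part1
open Cfsg MulAction
open scoped Pointwise
open Cfsg.Agent.S5905

variable {Ω : Type*} [Fintype Ω] [DecidableEq Ω] {b : ℕ} (f : Ω → Fin b)
variable {a : ℕ} (hf : ∀ i : Fin b, Nat.card {x : Ω // f x = i} = a)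
include hf

/-- A non-subsingleton block of an overgroup of `evenStab f` is a union of parts. -/
theorem part_subset_block' (ha : 2 ≤ a) (hb : 2 ≤ b) (hab : 3 ≤ a ∨ 3 ≤ b)
    {K : Subgroup (Equiv.Perm Ω)} (hHK : evenStab f ≤ K)
    {B : Set Ω} (hB : IsBlock K B) (hns : ¬ B.Subsingleton) {x : Ω} (hx : x ∈ B) :
    ∀ z : Ω, f z = f x → z ∈ B := by
  have h1 : ∃ y ∈ B, y ≠ x ∧ f y = f x := by
    have : ∃ y ∈ B, y ≠ x := by
      by_contra hcon
      simp only [not_exists, not_and, not_not] at hcon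
      apply hns
      intro u hu v hv
      rw [hcon u hu, hcon v hv]
    obtain ⟨y, hyB, hyx⟩ := this
    by_cases hfy : f y = f x
    · exact ⟨y, hyB, hyx, hfy⟩
    · obtain ⟨x', hx'f, hx'x⟩ := exists_other f hf ha x
      obtain ⟨u, v, huv, hfuv, hfu, huy, hvy⟩ :=
        exists_pair_avoid f hf ha hab x y (fun h => hfy h.symm)
      have hs : Equiv.swap x x' * Equiv.swap u v ∈ K :=
        hHK (swap_swap_mem f hx'f.symm hfuv hx'x.symm huv)
      have hy1 : y ≠ x' := fun h => hfy (h ▸ hx'f)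
      have hxu : x ≠ u := fun h => hfu (by rw [h])
      have hxv : x ≠ v := fun h => hfu (by rw [hfuv, h])
      have hfixy : (Equiv.swap x x' * Equiv.swap u v) y = y := by
        rw [Equiv.Perm.mul_apply, Equiv.swap_apply_of_ne_of_ne huy.symm hvy.symm,
          Equiv.swap_apply_of_ne_of_ne hyx hy1]
      have := block_fix hB hs hyB (by rw [hfixy]; exact hyB) hx
      rw [Equiv.Perm.mul_apply, Equiv.swap_apply_of_ne_of_ne hxu hxv,
        Equiv.swap_apply_left] at this
      exact ⟨x', this, hx'x, hx'f⟩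
  obtain ⟨y, hyB, hyx, hfy⟩ := h1
  intro z hz
  by_cases hzx : z = x
  · rw [hzx]; exact hx
  by_cases hzy : z = y
  · rw [hzy]; exact hyB
  obtain ⟨u, v, huv, hfuv, hfu⟩ := exists_pair_other f hf ha hb x
  have hxu : x ≠ u := fun h => hfu (by rw [h])
  have hxv : x ≠ v := fun h => hfu (by rw [hfuv, h])
  have hyu : y ≠ u := fun h => hfu (by rw [← h, hfy])
  have hyv : y ≠ v := fun h => hfu (by rw [hfuv, ← h, hfy])
  have hs : Equiv.swap y z * Equiv.swap u v ∈ K :=
    hHK (swap_swap_mem f (by rw [hfy, hz]) hfuv (Ne.symm hzy) huv)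
  have hfixx : (Equiv.swap y z * Equiv.swap u v) x = x := by
    rw [Equiv.Perm.mul_apply, Equiv.swap_apply_of_ne_of_ne hxu hxv,
      Equiv.swap_apply_of_ne_of_ne (Ne.symm hyx) (Ne.symm hzx)]
  have := block_fix hB hs hx (by rw [hfixx]; exact hx) hyB
  rw [Equiv.Perm.mul_apply, Equiv.swap_apply_of_ne_of_ne hyu hyv, Equiv.swap_apply_left] at this
  exact this

theorem le_stab_of_block' (ha : 2 ≤ a) (hb : 2 ≤ b) (hab : 3 ≤ a ∨ 3 ≤ b)
    {K : Subgroup (Equiv.Perm Ω)} (hHK : evenStab f ≤ K) (htr : IsPretransitive K Ω)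
    {B : Set Ω} (hB : IsBlock K B) (hns : ¬ B.Subsingleton) (hnu : B ≠ Set.univ) :
    K ≤ stab f := by
  have ha0 : 0 < a := by omega
  obtain ⟨a0, ha0B⟩ : B.Nonempty := by
    by_contra h
    rw [Set.not_nonempty_iff_eq_empty] at h
    exact hns (h ▸ Set.subsingleton_empty)
  have hU : ∀ x ∈ B, ∀ z : Ω, f z = f x → z ∈ B :=
    fun x hx => part_subset_block' f hf ha hb hab hHK hB hns hx
  -- B is exactly one part
  have hone : ∀ x ∈ B, f x = f a0 := by
    intro x hx
    by_contra hne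
    obtain ⟨d, hd⟩ : ∃ d, d ∉ B := by
      by_contra h
      simp only [not_exists, not_not] at h
      exact hnu (Set.eq_univ_of_forall h)
    have hj0 : f a0 ≠ f d := fun h => hd (hU a0 ha0B d h.symm)
    have hji : f d ≠ f x := fun h => hd (hU x hx d h)
    obtain ⟨a0', ha0'f, ha0'ne⟩ := exists_other f hf ha a0
    obtain ⟨g', hg', -, hg'f⟩ := exists_even f (partSwap f hf ha0 (f x) (f d))
      (partSwap_mem f hf ha0 _ _) ha0'f.symm ha0'ne.symm
    have hmem : g' ∈ K := hHK hg'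
    have hfa0 : f (g' a0) = f a0 := by
      rw [hg'f, f_partSwap f hf ha0, Equiv.swap_apply_of_ne_of_ne (Ne.symm hne) hj0]
    have hxB := block_fix hB hmem ha0B (hU a0 ha0B _ hfa0) hx
    have hfx : f (g' x) = f d := by
      rw [hg'f, f_partSwap f hf ha0, Equiv.swap_apply_left]
    exact hd (hU _ hxB d hfx.symm)
  have hBeq : B = {z : Ω | f z = f a0} := by
    ext z
    exact ⟨fun hz => hone z hz, fun hz => hU a0 ha0B z hz⟩
  -- translates of B are parts
  have htrans : ∀ k : K, (k • B : Set Ω) = {z : Ω | f z = f ((k : Equiv.Perm Ω) a0)} := by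
    intro k
    have hkB : IsBlock K (k • B) := hB.translate k
    have hkns : ¬ (k • B : Set Ω).Subsingleton := by
      intro h
      apply hns
      intro u hu v hv
      have := h (Set.smul_mem_smul_set (a := k) hu) (Set.smul_mem_smul_set (a := k) hv)
      exact MulAction.injective k this
    have hka : (k : Equiv.Perm Ω) a0 ∈ (k • B : Set Ω) := Set.smul_mem_smul_set (a := k) ha0B
    have hsub : {z : Ω | f z = f ((k : Equiv.Perm Ω) a0)} ⊆ (k • B : Set Ω) :=
      fun z hz => part_subset_block' f hf ha hb hab hHK hkB hkns hka z hz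
    symm
    apply Set.eq_of_subset_of_ncard_le hsub _ (Set.toFinite _)
    rw [ncard_part f hf, Set.ncard_smul_set, hBeq, ncard_part f hf]
  have hstar : ∀ k : K, ∀ y : Ω, f y = f a0 →
      f ((k : Equiv.Perm Ω) y) = f ((k : Equiv.Perm Ω) a0) := by
    intro k y hy
    have hyB : y ∈ B := by rw [hBeq]; exact hy
    have : (k : Equiv.Perm Ω) y ∈ (k • B : Set Ω) := Set.smul_mem_smul_set (a := k) hyB
    rw [htrans k] at this
    exact this
  have hfwd : ∀ k : K, ∀ x y : Ω, f x = f y →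
      f ((k : Equiv.Perm Ω) x) = f ((k : Equiv.Perm Ω) y) := by
    intro k x y hxy
    obtain ⟨k0, hk0⟩ := htr.exists_smul_eq a0 x
    have hk0' : (k0 : Equiv.Perm Ω) a0 = x := hk0
    have hy : y ∈ (k0 • B : Set Ω) := by
      rw [htrans k0, hk0']
      exact hxy.symm
    obtain ⟨y0, hy0B, hy0⟩ := hy
    have hy0' : (k0 : Equiv.Perm Ω) y0 = y := hy0
    have hfy0 : f y0 = f a0 := hone y0 hy0B
    have h1 := hstar (k * k0) y0 hfy0
    rw [Subgroup.coe_mul, Equiv.Perm.mul_apply, Equiv.Perm.mul_apply, hk0', hy0'] at h1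
    exact h1.symm
  intro k hk x y
  constructor
  · exact hfwd ⟨k, hk⟩ x y
  · intro h
    have := hfwd ⟨k⁻¹, K.inv_mem hk⟩ (k x) (k y) h
    simpa using this

/-- an overgroup of `evenStab f` inside `A` not contained in `evenStab f` is primitive -/
theorem isPreprimitive_of_lt (ha : 2 ≤ a) (hb : 2 ≤ b) (hab : 3 ≤ a ∨ 3 ≤ b)
    {K : Subgroup (Equiv.Perm Ω)} (hHK : evenStab f ≤ K) (hKA : K ≤ alternatingGroup Ω)
    (hne : ¬ K ≤ evenStab f) : IsPreprimitive K Ω := by
  have htr : IsPretransitive K Ω := by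
    refine ⟨fun x y => ?_⟩
    obtain ⟨g, hg, hgx⟩ := evenStab_transitive f hf ha hb x y
    exact ⟨⟨g, hHK hg⟩, hgx⟩
  obtain ⟨x0, -⟩ := exists_in_part f hf (by omega) ⟨0, by omega⟩
  apply IsPreprimitive.of_isTrivialBlock_base x0
  intro B _ hB
  by_contra hnt
  rw [IsTrivialBlock, not_or] at hnt
  exact hne (le_inf (le_stab_of_block' f hf ha hb hab hHK htr hB hnt.1 hnt.2) hKA)

end Part1

section Part2
open Cfsg MulAction
open scoped Pointwise
open Cfsg.Agent.S5905

variable {Ω : Type*} [Fintype Ω] [DecidableEq Ω] {b : ℕ} (f : Ω → Fin b)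
variable {a : ℕ} (hf : ∀ i : Fin b, Nat.card {x : Ω // f x = i} = a)
include hf

theorem card_eq_mul : Fintype.card Ω = a * b := by
  have h := Fintype.card_congr (Equiv.sigmaFiberEquiv f).symm
  rw [h, Fintype.card_sigma]
  have : ∀ i : Fin b, Fintype.card {x : Ω // f x = i} = a := fun i => by
    rw [← Nat.card_eq_fintype_card, hf i]
  simp only [this, Finset.sum_const, Finset.card_univ, Fintype.card_fin, smul_eq_mul]
  ring

/-- the case `a ≥ 3`: a 3-cycle inside one part -/
theorem alt_le_of_three (ha : 3 ≤ a) (hb : 2 ≤ b)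
    {K : Subgroup (Equiv.Perm Ω)} (hHK : evenStab f ≤ K) (hprim : IsPreprimitive K Ω) :
    alternatingGroup Ω ≤ K := by
  obtain ⟨x, y, hxy, hx, hy⟩ := exists_two_in_part f hf (by omega) (⟨0, by omega⟩ : Fin b)
  have hS : ({z : Ω | f z = f x} \ {x}).ncard = a - 1 := by
    rw [Set.ncard_sdiff_singleton_of_mem (show x ∈ {z : Ω | f z = f x} from rfl),
      ncard_part f hf]
  have hS2 : (({z : Ω | f z = f x} \ {x}) \ {y}).ncard = a - 2 := by
    rw [Set.ncard_sdiff_singleton_of_mem, hS]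
    · omega
    · exact ⟨by rw [Set.mem_ofPred_eq, hx, hy], fun h => hxy h.symm⟩
  have hne : (({z : Ω | f z = f x} \ {x}) \ {y}).Nonempty := by
    rw [← Set.ncard_pos, hS2]; omega
  obtain ⟨z, ⟨hz1, hz2⟩, hz3⟩ := hne
  have hzx : z ≠ x := hz2
  have hzy : z ≠ y := hz3
  have hfz : f z = f x := hz1
  have h3 : (Equiv.swap x y * Equiv.swap x z).IsThreeCycle :=
    Equiv.Perm.isThreeCycle_swap_mul_swap_same hxy hzx.symm hzy.symm
  have hmem : Equiv.swap x y * Equiv.swap x z ∈ K :=
    hHK (swap_swap_mem f (hx.trans hy.symm) hfz.symm hxy hzx.symm)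
  exact Equiv.Perm.alternatingGroup_le_of_isPreprimitive_of_isThreeCycle_mem hprim h3 hmem

/-- the case of four points -/
theorem alt_le_of_card_four (ha : 2 ≤ a) (hb : 2 ≤ b) (h4 : Fintype.card Ω = 4)
    {K : Subgroup (Equiv.Perm Ω)} (hHK : evenStab f ≤ K) (hKA : K ≤ alternatingGroup Ω)
    (hne : ¬ K ≤ evenStab f) : alternatingGroup Ω ≤ K := by
  have hA : Nat.card (alternatingGroup Ω) = 12 := by
    have hnt : Nontrivial Ω := by
      rw [← Fintype.one_lt_card_iff_nontrivial]; omega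
    have h2 := two_mul_card_alternatingGroup (α := Ω)
    rw [Fintype.card_perm, h4] at h2
    rw [Nat.card_eq_fintype_card]
    have : Nat.factorial 4 = 24 := by decide
    omega
  -- 4 divides the order of evenStab
  have htr : IsPretransitive (evenStab f) Ω := by
    refine ⟨fun x y => ?_⟩
    obtain ⟨g, hg, hgx⟩ := evenStab_transitive f hf ha hb x y
    exact ⟨⟨g, hg⟩, hgx⟩
  obtain ⟨x0, -⟩ := exists_in_part f hf (by omega) ⟨0, by omega⟩
  have h4M : 4 ∣ Nat.card (evenStab f) := by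
    have h1 := MulAction.index_stabilizer_of_transitive (evenStab f) x0
    rw [Nat.card_eq_fintype_card, h4] at h1
    rw [← h1]
    exact Subgroup.index_dvd_card _
  have hMK : Nat.card (evenStab f) ∣ Nat.card K := Subgroup.card_dvd_of_le hHK
  have hKA' : Nat.card K ∣ 12 := hA ▸ Subgroup.card_dvd_of_le hKA
  have hMlt : Nat.card (evenStab f) < Nat.card K := by
    apply lt_of_le_of_ne (Nat.le_of_dvd Nat.card_pos hMK)
    intro heq
    apply hne
    exact (Subgroup.eq_of_le_of_card_ge hHK heq.ge).ge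
  have hK12 : Nat.card K = 12 := by
    obtain ⟨c, hc⟩ := h4M
    obtain ⟨d, hd⟩ := hMK
    obtain ⟨e, he⟩ := hKA'
    have hKpos : 0 < Nat.card K := Nat.card_pos
    have h1 : Nat.card K ≤ 12 := Nat.le_of_dvd (by norm_num) ⟨e, he⟩
    have hcd : 12 = 4 * c * d * e := by rw [he, hd, hc]
    have hMpos : 0 < Nat.card (evenStab f) := Nat.card_pos
    have hcpos : 0 < c := by
      rcases Nat.eq_zero_or_pos c with h | h
      · rw [h] at hc; omega
      · exact h
    have hdgt : 1 < d := by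
      by_contra hle
      have : d = 0 ∨ d = 1 := by omega
      rcases this with h | h
      · rw [h] at hd; omega
      · rw [h, mul_one] at hd; omega
    have hepos : 0 < e := by
      rcases Nat.eq_zero_or_pos e with h | h
      · rw [h] at he; omega
      · exact h
    -- 3 = c * d * e with d ≥ 2 forces c = e = 1, d = 3
    have h3 : c * d * e = 3 := by nlinarith
    have hc1 : c = 1 := by
      by_contra hc1
      have : 2 ≤ c := by omega
      nlinarith
    have he1 : e = 1 := by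
      by_contra he1
      have : 2 ≤ e := by omega
      nlinarith
    rw [he1, mul_one] at he
    exact he.symm
  have := Subgroup.eq_of_le_of_card_ge hKA (by rw [hA, hK12])
  exact this.ge

end Part2

section Part3
open Cfsg MulAction
open scoped Pointwise
open Cfsg.Agent.Lib.Helper8.Marggraf

section Generic

variable {G Ω : Type*} [Group G] [MulAction G Ω] [Finite Ω]

/-- a small Jordan set in a primitive group gives 4-fold transitivity -/
theorem four_trans (hprim : IsPreprimitive G Ω) (Γ : Set Ω) (h1 : 1 < Γ.ncard)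
    (h2 : 2 * Γ.ncard + 1 ≤ Nat.card Ω) (hJ : IsJ G Γ) : IsMultiplyPretransitive G Ω 4 := by
  have h3 : IsMultiplyPretransitive G Ω 3 := marggraf hprim Γ h1 (by omega) hJ
  obtain ⟨α, hα⟩ : ∃ α, α ∉ Γ := by
    by_contra h
    simp only [not_exists, not_not] at h
    have : Γ = Set.univ := Set.eq_univ_of_forall h
    rw [this, Set.ncard_univ] at h2
    omega
  haveI : IsPretransitive G Ω := hprim.toIsPretransitive
  rw [show (4 : ℕ) = Nat.succ 3 from rfl, SubMulAction.ofStabilizer.isMultiplyPretransitive (a := α)]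
  have h2' : IsMultiplyPretransitive (stabilizer G α) (SubMulAction.ofStabilizer G α) 2 :=
    (SubMulAction.ofStabilizer.isMultiplyPretransitive (a := α)).mp h3
  have hprim' : IsPreprimitive (stabilizer G α) (SubMulAction.ofStabilizer G α) :=
    isPreprimitive_of_is_two_pretransitive h2'
  have hsub : Γ ⊆ Set.range (Subtype.val : SubMulAction.ofStabilizer G α → Ω) := by
    intro x hx
    refine ⟨⟨x, ?_⟩, rfl⟩
    rw [SubMulAction.mem_ofStabilizer_iff]
    intro h
    exact hα (h ▸ hx)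
  have hcard : ((Subtype.val : SubMulAction.ofStabilizer G α → Ω) ⁻¹' Γ).ncard = Γ.ncard :=
    Set.ncard_preimage_of_injective_subset_range Subtype.val_injective hsub
  refine marggraf hprim' ((Subtype.val : SubMulAction.ofStabilizer G α → Ω) ⁻¹' Γ)
    (by rw [hcard]; exact h1) ?_ ?_
  · rw [hcard, SubMulAction.nat_card_ofStabilizer_eq G α]
    omega
  · intro x hx y hy
    obtain ⟨g, hg1, hg2⟩ := hJ x.1 hx y.1 hy
    have hgα : g ∈ stabilizer G α := by
      rw [mem_stabilizer_iff]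
      exact hg1 α hα
    refine ⟨⟨g, hgα⟩, ?_, ?_⟩
    · intro z hz
      apply Subtype.ext
      exact hg1 z.1 hz
    · apply Subtype.ext
      exact hg2

theorem exists_of_four (h4 : IsMultiplyPretransitive G Ω 4) (p q : Fin 4 → Ω)
    (hp : Function.Injective p) (hq : Function.Injective q) : ∃ g : G, ∀ i, g • p i = q i := by
  obtain ⟨g, hg⟩ := h4.exists_smul_eq ⟨p, hp⟩ ⟨q, hq⟩
  refine ⟨g, fun i => ?_⟩
  have := DFunLike.congr_fun hg i
  simpa using this

end Generic

end Part3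

section Part4
open Cfsg MulAction
open scoped Pointwise
open Cfsg.Agent.S5905
open Cfsg.Agent.Lib.Helper8.Marggraf

variable {Ω : Type*} [Fintype Ω] [DecidableEq Ω] {b : ℕ} (f : Ω → Fin b)
variable {a : ℕ} (hf : ∀ i : Fin b, Nat.card {x : Ω // f x = i} = a)
include hf

theorem ncard_two_parts {i j : Fin b} (hij : i ≠ j) :
    {z : Ω | f z = i ∨ f z = j}.ncard = 2 * a := by
  have : {z : Ω | f z = i ∨ f z = j} = {z : Ω | f z = i} ∪ {z : Ω | f z = j} := by
    ext z; rfl
  rw [this, Set.ncard_union_eq, ncard_part f hf, ncard_part f hf]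
  · ring
  · rw [Set.disjoint_left]
    intro z hz1 hz2
    exact hij (hz1.symm.trans hz2)

/-- the union of two parts is a Jordan set for every overgroup of `evenStab f` -/
theorem isJ_two_parts (ha : 2 ≤ a) {i j : Fin b} (hij : i ≠ j)
    {K : Subgroup (Equiv.Perm Ω)} (hHK : evenStab f ≤ K) :
    IsJ K {z : Ω | f z = i ∨ f z = j} := by
  have ha0 : 0 < a := by omega
  intro x hx y hy
  by_cases hfxy : f x = f y
  · by_cases hxy : x = y
    · exact ⟨1, fun z _ => one_smul _ z, by rw [one_smul, hxy]⟩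
    · -- the other part
      obtain ⟨k, hk1, hk2⟩ : ∃ k : Fin b, (k = i ∨ k = j) ∧ k ≠ f x := by
        rcases hx with h | h
        · exact ⟨j, Or.inr rfl, by rw [h]; exact hij.symm⟩
        · exact ⟨i, Or.inl rfl, by rw [h]; exact hij⟩
      obtain ⟨u, v, huv, hu, hv⟩ := exists_two_in_part f hf ha k
      have hmem : Equiv.swap x y * Equiv.swap u v ∈ K :=
        hHK (swap_swap_mem f hfxy (hu.trans hv.symm) hxy huv)
      have hxu : x ≠ u := fun h => hk2 (by rw [h, hu])
      have hxv : x ≠ v := fun h => hk2 (by rw [h, hv])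
      refine ⟨⟨_, hmem⟩, ?_, ?_⟩
      · intro z hz
        have hzx : z ≠ x := fun h => hz (h ▸ hx)
        have hzy : z ≠ y := fun h => hz (h ▸ hy)
        have hzu : z ≠ u := fun h => hz (by rw [h]; show f u = i ∨ f u = j; rw [hu]; exact hk1)
        have hzv : z ≠ v := fun h => hz (by rw [h]; show f v = i ∨ f v = j; rw [hv]; exact hk1)
        show (Equiv.swap x y * Equiv.swap u v) z = z
        rw [Equiv.Perm.mul_apply, Equiv.swap_apply_of_ne_of_ne hzu hzv,
          Equiv.swap_apply_of_ne_of_ne hzx hzy]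
      · show (Equiv.swap x y * Equiv.swap u v) x = y
        rw [Equiv.Perm.mul_apply, Equiv.swap_apply_of_ne_of_ne hxu hxv, Equiv.swap_apply_left]
  · -- different parts
    have hg0 : partSwap f hf ha0 (f x) (f y) ∈ stab f := partSwap_mem f hf ha0 _ _
    have hfw : f (partSwap f hf ha0 (f x) (f y) x) = f y := by
      rw [f_partSwap f hf ha0, Equiv.swap_apply_left]
    have hg1 : Equiv.swap (partSwap f hf ha0 (f x) (f y) x) y * partSwap f hf ha0 (f x) (f y)
        ∈ stab f := (stab f).mul_mem (swap_mem f _ _ hfw) hg0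
    obtain ⟨u, v, huv, hu, hv⟩ := exists_two_in_part f hf ha (f y)
    obtain ⟨g', hg', h1, -⟩ := exists_even f _ hg1 (hu.trans hv.symm) huv
    have hxu : x ≠ u := fun h => hfxy (by rw [h, hu])
    have hxv : x ≠ v := fun h => hfxy (by rw [h, hv])
    have hfxy' : ∀ z, z ∉ {z : Ω | f z = i ∨ f z = j} → f z ≠ f x ∧ f z ≠ f y := by
      intro z hz
      constructor
      · intro h; apply hz; show f z = i ∨ f z = j; rw [h]; exact hx
      · intro h; apply hz; show f z = i ∨ f z = j; rw [h]; exact hy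
    refine ⟨⟨g', hHK hg'⟩, ?_, ?_⟩
    · intro z hz
      obtain ⟨hz1, hz2⟩ := hfxy' z hz
      have hzu : z ≠ u := fun h => hz2 (by rw [h, hu])
      have hzv : z ≠ v := fun h => hz2 (by rw [h, hv])
      show g' z = z
      rw [h1 z hzu hzv, Equiv.Perm.mul_apply, partSwap_fix f hf ha0 _ _ z hz1 hz2,
        Equiv.swap_apply_of_ne_of_ne]
      · intro h; apply hz2; rw [h, hfw]
      · intro h; apply hz2; rw [h]
    · show g' x = y
      rw [h1 x hxu hxv, Equiv.Perm.mul_apply, Equiv.swap_apply_left]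

/-- the case `a = 2`, `b ≥ 5` -/
theorem alt_le_of_two_big (ha : a = 2) (hb : 5 ≤ b)
    {K : Subgroup (Equiv.Perm Ω)} (hHK : evenStab f ≤ K) (hprim : IsPreprimitive K Ω) :
    alternatingGroup Ω ≤ K := by
  have ha2 : 2 ≤ a := by omega
  obtain ⟨p1, p2, hp12, hp1, hp2⟩ := exists_two_in_part f hf ha2 (⟨0, by omega⟩ : Fin b)
  obtain ⟨p3, p4, hp34, hp3, hp4⟩ := exists_two_in_part f hf ha2 (⟨1, by omega⟩ : Fin b)
  obtain ⟨q5, q6, hq56, hq5, hq6⟩ := exists_two_in_part f hf ha2 (⟨2, by omega⟩ : Fin b)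
  obtain ⟨q7, -, -, hq7, -⟩ := exists_two_in_part f hf ha2 (⟨3, by omega⟩ : Fin b)
  have h01 : (⟨0, by omega⟩ : Fin b) ≠ ⟨1, by omega⟩ := by
    intro h; have := congrArg Fin.val h; simp at this
  have hne : ∀ {u v : Ω} {m n : ℕ} (hm : m < b) (hn : n < b), f u = ⟨m, hm⟩ → f v = ⟨n, hn⟩ →
      m ≠ n → u ≠ v := by
    intro u v m n hm hn hu hv hmn huv
    rw [huv, hv] at hu
    exact hmn (congrArg Fin.val hu).symm
  have hJ := isJ_two_parts f hf ha2 h01 hHK
  have hcard : {z : Ω | f z = (⟨0, by omega⟩ : Fin b) ∨ f z = ⟨1, by omega⟩}.ncard = 4 := by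
    rw [ncard_two_parts f hf h01, ha]
  have hn : Nat.card Ω = 2 * b := by
    rw [Nat.card_eq_fintype_card, card_eq_mul f hf, ha]
  have h4 : IsMultiplyPretransitive K Ω 4 :=
    four_trans hprim _ (by rw [hcard]; norm_num) (by rw [hcard, hn]; omega) hJ
  have hinj1 : Function.Injective ![p1, p2, p3, p4] := by
    have h13 := hne _ _ hp1 hp3 (by norm_num)
    have h14 := hne _ _ hp1 hp4 (by norm_num)
    have h23 := hne _ _ hp2 hp3 (by norm_num)
    have h24 := hne _ _ hp2 hp4 (by norm_num)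
    intro i j hij
    fin_cases i <;> fin_cases j <;> simp_all
  have h15 := hne _ _ hp1 hq5 (by norm_num)
  have h16 := hne _ _ hp1 hq6 (by norm_num)
  have h17 := hne _ _ hp1 hq7 (by norm_num)
  have h57 := hne _ _ hq5 hq7 (by norm_num)
  have h67 := hne _ _ hq6 hq7 (by norm_num)
  have hinj2 : Function.Injective ![p1, q5, q6, q7] := by
    intro i j hij
    fin_cases i <;> fin_cases j <;> simp_all
  obtain ⟨x, hx⟩ := exists_of_four h4 _ _ hinj1 hinj2
  have hx1 : (x : Equiv.Perm Ω) p1 = p1 := hx 0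
  have hx2 : (x : Equiv.Perm Ω) p2 = q5 := hx 1
  have hx3 : (x : Equiv.Perm Ω) p3 = q6 := hx 2
  have hx4 : (x : Equiv.Perm Ω) p4 = q7 := hx 3
  have hh : Equiv.swap p1 p2 * Equiv.swap p3 p4 ∈ K :=
    hHK (swap_swap_mem f (hp1.trans hp2.symm) (hp3.trans hp4.symm) hp12 hp34)
  have hk : (x : Equiv.Perm Ω) * (Equiv.swap p1 p2 * Equiv.swap p3 p4) * (x : Equiv.Perm Ω)⁻¹ ∈ K :=
    K.mul_mem (K.mul_mem x.2 hh) (K.inv_mem x.2)
  have hkeq : (x : Equiv.Perm Ω) * (Equiv.swap p1 p2 * Equiv.swap p3 p4) * (x : Equiv.Perm Ω)⁻¹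
      = Equiv.swap p1 q5 * Equiv.swap q6 q7 := by
    have e1 := Equiv.swap_apply_apply (x : Equiv.Perm Ω) p1 p2
    have e2 := Equiv.swap_apply_apply (x : Equiv.Perm Ω) p3 p4
    rw [hx1, hx2] at e1
    rw [hx3, hx4] at e2
    rw [e1, e2]
    group
  rw [hkeq] at hk
  have hc : (Equiv.swap p1 p2 * Equiv.swap p3 p4) * (Equiv.swap p1 q5 * Equiv.swap q6 q7) *
      (Equiv.swap p1 p2 * Equiv.swap p3 p4)⁻¹ * (Equiv.swap p1 q5 * Equiv.swap q6 q7)⁻¹ ∈ K :=
    K.mul_mem (K.mul_mem (K.mul_mem hh hk) (K.inv_mem hh)) (K.inv_mem hk)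
  -- the points q are fixed by h
  have hfixq : ∀ q : Ω, q ≠ p1 → q ≠ p2 → q ≠ p3 → q ≠ p4 →
      (Equiv.swap p1 p2 * Equiv.swap p3 p4) q = q := by
    intro q h1 h2 h3 h4
    rw [Equiv.Perm.mul_apply, Equiv.swap_apply_of_ne_of_ne h3 h4,
      Equiv.swap_apply_of_ne_of_ne h1 h2]
  have h25 := hne _ _ hp2 hq5 (by norm_num)
  have h26 := hne _ _ hp2 hq6 (by norm_num)
  have h27 := hne _ _ hp2 hq7 (by norm_num)
  have h35 := hne _ _ hp3 hq5 (by norm_num)
  have h36 := hne _ _ hp3 hq6 (by norm_num)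
  have h37 := hne _ _ hp3 hq7 (by norm_num)
  have h45 := hne _ _ hp4 hq5 (by norm_num)
  have h46 := hne _ _ hp4 hq6 (by norm_num)
  have h47 := hne _ _ hp4 hq7 (by norm_num)
  have h13 := hne _ _ hp1 hp3 (by norm_num)
  have h14 := hne _ _ hp1 hp4 (by norm_num)
  have hh1 : (Equiv.swap p1 p2 * Equiv.swap p3 p4) p1 = p2 := by
    rw [Equiv.Perm.mul_apply, Equiv.swap_apply_of_ne_of_ne h13 h14, Equiv.swap_apply_left]
  have hceq : (Equiv.swap p1 p2 * Equiv.swap p3 p4) * (Equiv.swap p1 q5 * Equiv.swap q6 q7) *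
      (Equiv.swap p1 p2 * Equiv.swap p3 p4)⁻¹ * (Equiv.swap p1 q5 * Equiv.swap q6 q7)⁻¹
      = Equiv.swap q5 p2 * Equiv.swap q5 p1 := by
    have e1 : (Equiv.swap p1 p2 * Equiv.swap p3 p4) * (Equiv.swap p1 q5 * Equiv.swap q6 q7) *
        (Equiv.swap p1 p2 * Equiv.swap p3 p4)⁻¹ = Equiv.swap p2 q5 * Equiv.swap q6 q7 := by
      have e2 := Equiv.swap_apply_apply (Equiv.swap p1 p2 * Equiv.swap p3 p4) p1 q5
      have e3 := Equiv.swap_apply_apply (Equiv.swap p1 p2 * Equiv.swap p3 p4) q6 q7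
      rw [hh1, hfixq q5 h15.symm h25.symm h35.symm h45.symm] at e2
      rw [hfixq q6 h16.symm h26.symm h36.symm h46.symm,
        hfixq q7 h17.symm h27.symm h37.symm h47.symm] at e3
      calc (Equiv.swap p1 p2 * Equiv.swap p3 p4) * (Equiv.swap p1 q5 * Equiv.swap q6 q7) *
          (Equiv.swap p1 p2 * Equiv.swap p3 p4)⁻¹
          = ((Equiv.swap p1 p2 * Equiv.swap p3 p4) * Equiv.swap p1 q5 *
              (Equiv.swap p1 p2 * Equiv.swap p3 p4)⁻¹) *
            ((Equiv.swap p1 p2 * Equiv.swap p3 p4) * Equiv.swap q6 q7 *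
              (Equiv.swap p1 p2 * Equiv.swap p3 p4)⁻¹) := by group
        _ = Equiv.swap p2 q5 * Equiv.swap q6 q7 := by rw [← e2, ← e3]
    rw [e1, mul_inv_rev, Equiv.swap_inv, Equiv.swap_inv, mul_assoc,
      ← mul_assoc (Equiv.swap q6 q7), Equiv.swap_mul_self, one_mul,
      Equiv.swap_comm p2 q5, Equiv.swap_comm p1 q5]
  rw [hceq] at hc
  have h3 : (Equiv.swap q5 p2 * Equiv.swap q5 p1).IsThreeCycle :=
    Equiv.Perm.isThreeCycle_swap_mul_swap_same h25.symm h15.symm hp12.symm
  exact Equiv.Perm.alternatingGroup_le_of_isPreprimitive_of_isThreeCycle_mem hprim h3 hc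

end Part4

section Part5
open Cfsg MulAction
open scoped Pointwise
open Cfsg.Agent.S5905
open Cfsg.Agent.Lib.Helper8.Marggraf

section Generic

variable {G Ω : Type*} [Group G] [MulAction G Ω]

theorem two_of_isJ [Finite Ω] (hprim : IsPreprimitive G Ω) (Γ : Set Ω) (h1 : 2 ≤ Γᶜ.ncard)
    (h2 : Γᶜ.ncard + 1 < Nat.card Ω) (htr : IsJ G Γ) : IsMultiplyPretransitive G Ω 2 := by
  refine hprim.is_two_pretransitive (s := Γᶜ) (n := Γᶜ.ncard - 1) (by omega) (by omega) ?_
  constructor
  rintro ⟨x, hx⟩ ⟨y, hy⟩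
  rw [SubMulAction.mem_ofFixingSubgroup_iff, Set.notMem_compl_iff] at hx hy
  obtain ⟨g, hg1, hg2⟩ := htr x hx y hy
  refine ⟨⟨g, ?_⟩, ?_⟩
  · rw [mem_fixingSubgroup_iff]
    intro z hz
    exact hg1 z hz
  · apply Subtype.ext
    exact hg2

theorem three_of_pair (h2t : IsMultiplyPretransitive G Ω 2) {α β : Ω} (hαβ : α ≠ β)
    (hJ : IsJ G ({α, β}ᶜ : Set Ω)) : IsMultiplyPretransitive G Ω 3 := by
  have h2' : ∀ a b c d : Ω, a ≠ b → c ≠ d → ∃ g : G, g • a = c ∧ g • b = d := by
    intro a b c d hab hcd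
    exact (is_two_pretransitive_iff.mp h2t) hab hcd
  rw [isMultiplyPretransitive_iff]
  intro x y
  have hx01 : x 0 ≠ x 1 := fun h => by simpa using x.injective h
  have hx02 : x 0 ≠ x 2 := fun h => by simpa using x.injective h
  have hx12 : x 1 ≠ x 2 := fun h => by simpa using x.injective h
  have hy01 : y 0 ≠ y 1 := fun h => by simpa using y.injective h
  have hy02 : y 0 ≠ y 2 := fun h => by simpa using y.injective h
  have hy12 : y 1 ≠ y 2 := fun h => by simpa using y.injective h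
  obtain ⟨g1, hg10, hg11⟩ := h2' (x 0) (x 1) α β hx01 hαβ
  obtain ⟨g2, hg20, hg21⟩ := h2' (y 0) (y 1) α β hy01 hαβ
  have hmem1 : g1 • x 2 ∈ ({α, β}ᶜ : Set Ω) := by
    simp only [Set.mem_compl_iff, Set.mem_insert_iff, Set.mem_singleton_iff, not_or]
    refine ⟨?_, ?_⟩
    · rw [← hg10]; intro h; exact hx02 (smul_left_cancel _ h).symm
    · rw [← hg11]; intro h; exact hx12 (smul_left_cancel _ h).symm
  have hmem2 : g2 • y 2 ∈ ({α, β}ᶜ : Set Ω) := by
    simp only [Set.mem_compl_iff, Set.mem_insert_iff, Set.mem_singleton_iff, not_or]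
    refine ⟨?_, ?_⟩
    · rw [← hg20]; intro h; exact hy02 (smul_left_cancel _ h).symm
    · rw [← hg21]; intro h; exact hy12 (smul_left_cancel _ h).symm
  obtain ⟨h, hfix, hmove⟩ := hJ _ hmem1 _ hmem2
  have hfα : h • α = α := hfix α (by simp)
  have hfβ : h • β = β := hfix β (by simp)
  refine ⟨g2⁻¹ * h * g1, ?_⟩
  ext i
  change (g2⁻¹ * h * g1) • x i = y i
  fin_cases i
  · simp only [Fin.zero_eta, Fin.isValue]
    rw [mul_smul, mul_smul, hg10, hfα, inv_smul_eq_iff, hg20]
  · simp only [Fin.mk_one, Fin.isValue]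
    rw [mul_smul, mul_smul, hg11, hfβ, inv_smul_eq_iff, hg21]
  · simp only [Fin.reduceFinMk, Fin.isValue]
    rw [mul_smul, mul_smul, hmove, inv_smul_eq_iff]

/-- a simple group of order > 6 has no subgroup of index 3 -/
theorem no_index_three {A : Type*} [Group A] [Finite A] [IsSimpleGroup A] (H : Subgroup A)
    (hidx : H.index = 3) (hcard : 6 < Nat.card A) : False := by
  have hne : H.normalCore ≠ ⊤ := by
    intro h
    have : H = ⊤ := top_le_iff.mp (h ▸ Subgroup.normalCore_le H)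
    rw [this, Subgroup.index_top] at hidx
    omega
  have hbot : H.normalCore = ⊥ := (Subgroup.Normal.eq_bot_or_eq_top inferInstance).resolve_right hne
  rw [Subgroup.normalCore_eq_ker] at hbot
  have hinj : Function.Injective (MulAction.toPermHom A (A ⧸ H)) :=
    (MonoidHom.ker_eq_bot_iff _).mp hbot
  have hfin : Finite (A ⧸ H) := inferInstance
  have := Nat.card_le_card_of_injective _ hinj
  rw [Nat.card_perm, ← Subgroup.index_eq_card, hidx] at this
  have h6 : Nat.factorial 3 = 6 := by decide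
  omega

end Generic

variable {Ω : Type*} [Fintype Ω] [DecidableEq Ω] {b : ℕ} (f : Ω → Fin b)
variable {a : ℕ} (hf : ∀ i : Fin b, Nat.card {x : Ω // f x = i} = a)
include hf

/-- the case `a = 2`, `b = 3` -/
theorem alt_le_of_two_three (ha : a = 2) (hb : b = 3)
    {K : Subgroup (Equiv.Perm Ω)} (hHK : evenStab f ≤ K) (hKA : K ≤ alternatingGroup Ω)
    (hprim : IsPreprimitive K Ω) : alternatingGroup Ω ≤ K := by
  subst hb
  have ha2 : 2 ≤ a := by omega
  have hn : Nat.card Ω = 6 := by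
    rw [Nat.card_eq_fintype_card, card_eq_mul f hf, ha]
  have h01 : (0 : Fin 3) ≠ 1 := by decide
  have hJ := isJ_two_parts f hf ha2 h01 hHK
  have hcard : {z : Ω | f z = (0 : Fin 3) ∨ f z = 1}.ncard = 4 := by
    rw [ncard_two_parts f hf h01, ha]
  obtain ⟨α, β, hαβ, hα, hβ⟩ := exists_two_in_part f hf ha2 (2 : Fin 3)
  have hΓ : {z : Ω | f z = (0 : Fin 3) ∨ f z = 1} = ({α, β}ᶜ : Set Ω) := by
    have hpart : ({α, β} : Set Ω) = {z : Ω | f z = (2 : Fin 3)} := by
      apply Set.eq_of_subset_of_ncard_le _ _ (Set.toFinite _)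
      · intro z hz
        rcases hz with h | h
        · rw [h]; exact hα
        · rw [Set.mem_singleton_iff] at h; rw [h]; exact hβ
      · rw [ncard_part f hf, Set.ncard_pair hαβ, ha]
    rw [hpart]
    ext z
    simp only [Set.mem_ofPred_eq, Set.mem_compl_iff]
    have : ∀ t : Fin 3, (t = 0 ∨ t = 1) ↔ ¬ t = 2 := by decide
    exact this (f z)
  have hcc : ({z : Ω | f z = (0 : Fin 3) ∨ f z = 1}ᶜ).ncard = 2 := by
    have := Set.ncard_add_ncard_compl {z : Ω | f z = (0 : Fin 3) ∨ f z = 1}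
    omega
  have h2t : IsMultiplyPretransitive K Ω 2 :=
    two_of_isJ hprim _ (by rw [hcc]) (by rw [hcc, hn]; norm_num) hJ
  have h3t : IsMultiplyPretransitive K Ω 3 := three_of_pair h2t hαβ (hΓ ▸ hJ)
  -- 120 divides the order of K
  obtain ⟨s, -, hs⟩ := Set.exists_subset_card_eq (s := (Set.univ : Set Ω)) (n := 3)
    (by rw [Set.ncard_univ, hn]; norm_num)
  have hidx := h3t.index_of_fixingSubgroup_mul hs
  rw [hn] at hidx
  have h720 : Nat.factorial 6 = 720 := by decide
  have h6 : Nat.factorial (6 - 3) = 6 := by decide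
  rw [h720, h6] at hidx
  have h120 : (fixingSubgroup K s).index = 120 := by omega
  have hdvd : 120 ∣ Nat.card K := h120 ▸ Subgroup.index_dvd_card _
  -- order of A
  have hA : Nat.card (alternatingGroup Ω) = 360 := by
    have hnt : Nontrivial Ω := by
      rw [← Finite.one_lt_card_iff_nontrivial, hn]; norm_num
    have h2 := two_mul_card_alternatingGroup (α := Ω)
    rw [Fintype.card_perm, ← Nat.card_eq_fintype_card (α := Ω), hn, h720] at h2
    rw [Nat.card_eq_fintype_card]
    omega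
  have hKA' : Nat.card K ∣ 360 := hA ▸ Subgroup.card_dvd_of_le hKA
  have hcases : Nat.card K = 120 ∨ Nat.card K = 360 := by
    obtain ⟨c, hc⟩ := hdvd
    obtain ⟨d, hd⟩ := hKA'
    have hcd : 360 = 120 * (c * d) := by rw [hd, hc]; ring
    have hcd3 : c * d = 3 := by omega
    have hc13 : c = 1 ∨ c = 3 := by
      have hcdvd : c ∣ 3 := ⟨d, hcd3.symm⟩
      have := (Nat.dvd_prime Nat.prime_three).mp hcdvd
      exact this
    rcases hc13 with h | h
    · left; rw [hc, h]
    · right; rw [hc, h]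
  rcases hcases with h | h
  · exfalso
    haveI : IsSimpleGroup (alternatingGroup Ω) :=
      alternatingGroup.isSimpleGroup (by rw [hn]; norm_num)
    have hcardH : Nat.card (K.subgroupOf (alternatingGroup Ω)) = 120 := by
      rw [Nat.card_congr (Subgroup.subgroupOfEquivOfLe hKA).toEquiv, h]
    have hidx3 : (K.subgroupOf (alternatingGroup Ω)).index = 3 := by
      have := Subgroup.card_mul_index (K.subgroupOf (alternatingGroup Ω))
      rw [hcardH, hA] at this
      omega
    exact no_index_three _ hidx3 (by rw [hA]; norm_num)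
  · exact (Subgroup.eq_of_le_of_card_ge hKA (by rw [hA, h])).ge

end Part5

section Part6
open Cfsg MulAction
open scoped Pointwise
open Cfsg.Agent.S5905

theorem main {Ω : Type*} [Fintype Ω] [DecidableEq Ω] (h8 : Fintype.card Ω ≠ 8) {a b : ℕ}
    (ha : 2 ≤ a) (hb : 2 ≤ b) (f : Ω → Fin b)
    (hf : ∀ i : Fin b, Nat.card {x : Ω // f x = i} = a)
    {K : Subgroup (Equiv.Perm Ω)} (hHK : evenStab f ≤ K) (hKA : K ≤ alternatingGroup Ω)
    (hne : ¬ K ≤ evenStab f) : alternatingGroup Ω ≤ K := by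
  have hcard := card_eq_mul f hf
  by_cases h4 : Fintype.card Ω = 4
  · exact alt_le_of_card_four f hf ha hb h4 hHK hKA hne
  have hab : 3 ≤ a ∨ 3 ≤ b := by
    by_contra hcon
    rw [not_or] at hcon
    have ha2 : a = 2 := by omega
    have hb2 : b = 2 := by omega
    rw [ha2, hb2] at hcard
    exact h4 hcard
  have hprim := isPreprimitive_of_lt f hf ha hb hab hHK hKA hne
  by_cases ha3 : 3 ≤ a
  · exact alt_le_of_three f hf ha3 hb hHK hprim
  have ha2 : a = 2 := by omega
  have hb2 : b ≠ 2 := by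
    intro h; rw [ha2, h] at hcard; exact h4 hcard
  have hb4 : b ≠ 4 := by
    intro h; rw [ha2, h] at hcard; exact h8 hcard
  by_cases hb3 : b = 3
  · exact alt_le_of_two_three f hf ha2 hb3 hHK hKA hprim
  · exact alt_le_of_two_big f hf ha2 (by omega) hHK hprim

theorem result {Ω : Type*} [Fintype Ω] [DecidableEq Ω] (h8 : Fintype.card Ω ≠ 8) (a b : ℕ) (ha : 2 ≤ a) (hb : 2 ≤ b)
    (f : Ω → Fin b) (hf : ∀ i : Fin b, Nat.card {x : Ω // f x = i} = a) :
    IsCoatom ((Subgroup.closure {g : Equiv.Perm Ω | ∀ x y : Ω, f x = f y ↔ f (g x) = f (g y)} ⊓ alternatingGroup Ω).subgroupOf (alternatingGroup Ω)) := by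
  rw [closure_eq]
  change IsCoatom ((evenStab f).subgroupOf (alternatingGroup Ω))
  constructor
  · rw [Ne, Subgroup.subgroupOf_eq_top]
    exact not_alt_le f hf ha hb
  · intro K hK
    have hKA : K.map (alternatingGroup Ω).subtype ≤ alternatingGroup Ω :=
      Subgroup.map_subtype_le K
    have hHK : evenStab f ≤ K.map (alternatingGroup Ω).subtype := by
      intro g hg
      have hgA : g ∈ alternatingGroup Ω := evenStab_le f hg
      refine ⟨⟨g, hgA⟩, hK.le ?_, rfl⟩
      rw [Subgroup.mem_subgroupOf]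
      exact hg
    have hne : ¬ K.map (alternatingGroup Ω).subtype ≤ evenStab f := by
      intro hle
      apply hK.not_ge
      intro k hk
      rw [Subgroup.mem_subgroupOf]
      exact hle (Subgroup.mem_map_of_mem _ hk)
    have hmain := main h8 ha hb f hf hHK hKA hne
    rw [eq_top_iff]
    intro k _
    obtain ⟨k', hk', hk'eq⟩ := hmain k.2
    have : k' = k := Subtype.ext hk'eq
    exact this ▸ hk'

end Part6

end Cfsg.Agent.S5909
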