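import Cfsg.Statements.S5910
import Mathlib

set_option autoImplicit false
open Cfsg

namespace Cfsg.Agent.S5910

abbrev W := ZMod 2 × ZMod 2
abbrev C := ZMod 2
abbrev M := W × C

theorem pi_affine : ∀ π : W → W, Function.Injective π → ∀ a b c, π (a + b + c) = π a + π b + π c := by
  decide +kernel

theorem phi_affine : ∀ φ : W → C, (∏ w, (if φ w = 0 then (1 : ℤˣ) else -1)) = 1 →
    ∀ a b c, φ (a + b + c) = φ a + φ b + φ c := by
  decide +kernel

theorem zmod2_ne : ∀ x y : ZMod 2, x ≠ y → x = y + 1 := by decide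

theorem sign_addLeft : ∀ c : ZMod 2, Equiv.Perm.sign (Equiv.addLeft c) = if c = 0 then 1 else -1 := by
  decide

theorem papply_inv {α : Type*} (g : Equiv.Perm α) (a : α) : g (g⁻¹ a) = a := by simp

/-- Permutations preserving the partition of `M` into the pairs `{(w,0),(w,1)}`. -/
def PM : Subgroup (Equiv.Perm M) where
  carrier := {T | ∀ u v : M, u.1 = v.1 ↔ (T u).1 = (T v).1}
  mul_mem' := by
    intro T S hT hS u v
    rw [Equiv.Perm.mul_apply, Equiv.Perm.mul_apply, ← hT, ← hS]
  one_mem' := fun _ _ => Iff.rfl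
  inv_mem' := by
    intro T hT u v
    have := hT (T⁻¹ u) (T⁻¹ v)
    simp only [papply_inv] at this
    exact this.symm

/-- Affine permutations of `M = F₂³`. -/
def Aff : Subgroup (Equiv.Perm M) where
  carrier := {T | ∀ u v w : M, T (u + v + w) = T u + T v + T w}
  mul_mem' := by
    intro T S hT hS u v w
    rw [Equiv.Perm.mul_apply, Equiv.Perm.mul_apply, Equiv.Perm.mul_apply, Equiv.Perm.mul_apply, hS, hT]
  one_mem' := fun _ _ _ => rfl
  inv_mem' := by
    intro T hT u v w
    apply T.injective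
    rw [hT]
    simp only [papply_inv]

theorem key (T : Equiv.Perm M) (hT : T ∈ PM) (hs : Equiv.Perm.sign T = 1) : T ∈ Aff := by
  obtain ⟨π, hπ⟩ : ∃ π : W → W, ∀ w, π w = (T (w, 0)).1 := ⟨_, fun _ => rfl⟩
  obtain ⟨φ, hφ⟩ : ∃ φ : W → C, ∀ w, φ w = (T (w, 0)).2 := ⟨_, fun _ => rfl⟩
  have h1 : ∀ w c, (T (w, c)).1 = π w := by
    intro w c
    rw [hπ]
    exact (hT (w, c) (w, 0)).1 rfl
  have πinj : Function.Injective π := by
    intro w w' h
    rw [hπ, hπ] at h
    exact (hT (w, 0) (w', 0)).2 h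
  have h2 : ∀ w, (T (w, 1)).2 = φ w + 1 := by
    intro w
    apply zmod2_ne
    intro h
    have : T (w, 1) = T (w, 0) := by
      apply Prod.ext
      · rw [h1, h1]
      · rw [h, hφ]
    have := T.injective this
    simp at this
  have h3 : ∀ w c, T (w, c) = (π w, φ w + c) := by
    intro w c
    apply Prod.ext
    · exact h1 w c
    · fin_cases c
      · change (T (w, 0)).2 = φ w + 0
        rw [add_zero, hφ]
      · exact h2 w
  let πperm : Equiv.Perm W := Equiv.ofBijective π (Finite.injective_iff_bijective.1 πinj)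
  have hTAB : T = (Equiv.prodCongrLeft (fun _ : C => πperm) : Equiv.Perm M) *
      (Equiv.prodCongrRight (fun w : W => Equiv.addLeft (φ w)) : Equiv.Perm M) := by
    apply Equiv.Perm.ext
    rintro ⟨w, c⟩
    rw [h3, Equiv.Perm.mul_apply]
    simp [πperm]
  have hsign : (∏ w, (if φ w = 0 then (1 : ℤˣ) else -1)) = 1 := by
    rw [hTAB, map_mul, Equiv.Perm.sign_prodCongrLeft, Equiv.Perm.sign_prodCongrRight] at hs
    simp only [sign_addLeft, Finset.prod_const, Finset.card_univ, ZMod.card, Int.units_sq, one_mul] at hs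
    exact hs
  have hφa := phi_affine φ hsign
  have hπa := pi_affine π πinj
  rintro ⟨a, c⟩ ⟨a', c'⟩ ⟨a'', c''⟩
  simp only [Prod.mk_add_mk, h3, hφa, hπa]
  apply Prod.ext
  · rfl
  · simp only; ring

def T1 : Equiv.Perm M := Equiv.swap ((1, 0), 0) ((0, 0), 1) * Equiv.swap ((1, 1), 0) ((0, 1), 1)

def T2 : Equiv.Perm M := Equiv.swap ((0, 0), 0) ((1, 0), 0) * Equiv.swap ((1, 0), 0) ((0, 1), 0)

theorem T1_aff : T1 ∈ Aff := by
  have : ∀ u v w : M, T1 (u + v + w) = T1 u + T1 v + T1 w := by decide +kernel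
  exact this

theorem T1_sign : Equiv.Perm.sign T1 = 1 := by
  unfold T1
  rw [map_mul, Equiv.Perm.sign_swap (by decide), Equiv.Perm.sign_swap (by decide)]
  rfl

theorem T1_not_PM : T1 ∉ PM := by
  have : ¬ ∀ u v : M, u.1 = v.1 ↔ (T1 u).1 = (T1 v).1 := by decide +kernel
  exact this

theorem T2_sign : Equiv.Perm.sign T2 = 1 := by
  unfold T2
  rw [map_mul, Equiv.Perm.sign_swap (by decide), Equiv.Perm.sign_swap (by decide)]
  rfl

theorem T2_not_aff : T2 ∉ Aff := by
  have : ¬ ∀ u v w : M, T2 (u + v + w) = T2 u + T2 v + T2 w := by decide +kernel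
  exact this

/-- Let Ω be a set with 8 elements and f : Ω → Fin 4 a labelling whose four fibres all have size 2 (a partition of the 8 points into 4 pairs). Then the group of even permutations preserving this partition, (S₂ ≀ S₄) ∩ A₈, is not a maximal subgroup of the alternating group A₈ (it lies in a subgroup isomorphic to the affine group AGL₃(2)). -/
theorem result {Ω : Type*} [Fintype Ω] [DecidableEq Ω] (h8 : Fintype.card Ω = 8)
    (f : Ω → Fin 4) (hf : ∀ i : Fin 4, Nat.card {x : Ω // f x = i} = 2) :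
    ¬ IsCoatom ((Subgroup.closure {g : Equiv.Perm Ω | ∀ x y : Ω, f x = f y ↔ f (g x) = f (g y)} ⊓ alternatingGroup Ω).subgroupOf (alternatingGroup Ω)) := by
  classical
  -- an identification of `Ω` with the model `M`
  have hcardi : ∀ i : Fin 4, Fintype.card {x : Ω // f x = i} = Fintype.card C := by
    intro i
    rw [← Nat.card_eq_fintype_card, hf i]; rfl
  let ψ : ∀ i : Fin 4, {x : Ω // f x = i} ≃ C := fun i => Fintype.equivOfCardEq (hcardi i)
  let e₀ : Ω ≃ Fin 4 × C := (Equiv.sigmaFiberEquiv f).symm.trans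
    ((Equiv.sigmaCongrRight ψ).trans (Equiv.sigmaEquivProd (Fin 4) C))
  have he₀ : ∀ x, (e₀ x).1 = f x := fun x => rfl
  let φ₄ : Fin 4 ≃ W := Fintype.equivOfCardEq (by simp)
  let e : Ω ≃ M := e₀.trans (Equiv.prodCongr φ₄ (Equiv.refl C))
  have he : ∀ x, (e x).1 = φ₄ (f x) := fun x => by
    rw [← he₀]; rfl
  have hfe : ∀ x y, f x = f y ↔ (e x).1 = (e y).1 := by
    intro x y
    rw [he, he]
    exact φ₄.injective.eq_iff.symm
  let E : Equiv.Perm Ω ≃* Equiv.Perm M := e.permCongrHom
  have hE : ∀ (g : Equiv.Perm Ω) (u : M), (E g) u = e (g (e.symm u)) := fun g u => rfl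
  have hEsign : ∀ g : Equiv.Perm Ω, Equiv.Perm.sign (E g) = Equiv.Perm.sign g := fun g =>
    Equiv.Perm.sign_permCongr e g
  have hcl : Subgroup.closure {g : Equiv.Perm Ω | ∀ x y : Ω, f x = f y ↔ f (g x) = f (g y)} ≤
      PM.comap E.toMonoidHom := by
    rw [Subgroup.closure_le]
    intro g hg u v
    simp only [MulEquiv.toMonoidHom_eq_coe, MonoidHom.coe_coe]
    rw [hE, hE, ← hfe, ← hg, hfe, Equiv.apply_symm_apply, Equiv.apply_symm_apply]
  set S := Subgroup.closure {g : Equiv.Perm Ω | ∀ x y : Ω, f x = f y ↔ f (g x) = f (g y)} ⊓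
    alternatingGroup Ω with hS
  let K : Subgroup (Equiv.Perm Ω) := Aff.comap E.toMonoidHom ⊓ alternatingGroup Ω
  have hSK : S ≤ K := by
    intro g hg
    obtain ⟨hg1, hg2⟩ := hg
    refine ⟨?_, hg2⟩
    have h1 : E g ∈ PM := hcl hg1
    have h2 : Equiv.Perm.sign (E g) = 1 := by
      rw [hEsign]; exact Equiv.Perm.mem_alternatingGroup.1 hg2
    exact key (E g) h1 h2
  have hg1A : E.symm T1 ∈ alternatingGroup Ω := by
    rw [Equiv.Perm.mem_alternatingGroup, ← hEsign, MulEquiv.apply_symm_apply]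
    exact T1_sign
  have hg1K : E.symm T1 ∈ K := by
    refine ⟨?_, hg1A⟩
    change E (E.symm T1) ∈ Aff
    rw [MulEquiv.apply_symm_apply]
    exact T1_aff
  have hg1S : E.symm T1 ∉ S := by
    intro h
    have : E (E.symm T1) ∈ PM := hcl h.1
    rw [MulEquiv.apply_symm_apply] at this
    exact T1_not_PM this
  have hg2A : E.symm T2 ∈ alternatingGroup Ω := by
    rw [Equiv.Perm.mem_alternatingGroup, ← hEsign, MulEquiv.apply_symm_apply]
    exact T2_sign
  have hg2K : E.symm T2 ∉ K := by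
    intro h
    have : E (E.symm T2) ∈ Aff := h.1
    rw [MulEquiv.apply_symm_apply] at this
    exact T2_not_aff this
  intro hco
  have hlt : S.subgroupOf (alternatingGroup Ω) < K.subgroupOf (alternatingGroup Ω) := by
    refine lt_of_le_of_ne ?_ ?_
    · intro x hx
      exact hSK hx
    · intro h
      apply hg1S
      have : (⟨E.symm T1, hg1A⟩ : alternatingGroup Ω) ∈ K.subgroupOf (alternatingGroup Ω) := hg1K
      rw [← h] at this
      exact this
  have htop := hco.2 _ hlt
  apply hg2K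
  have : (⟨E.symm T2, hg2A⟩ : alternatingGroup Ω) ∈ K.subgroupOf (alternatingGroup Ω) := by
    rw [htop]; exact Subgroup.mem_top _
  exact this

end Cfsg.Agent.S5910
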