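import Cfsg.Statements.S5913

set_option autoImplicit false
open Cfsg

namespace Cfsg.Agent.S5913

theorem result {S : Type*} [Group S] [IsSimpleGroup S] (hS : ¬ IsMulCommutative S) (n : ℕ)
    (N : Subgroup (Fin n → S)) [N.Normal] :
    ∃ T : Finset (Fin n), ∀ x : Fin n → S, x ∈ N ↔ ∀ i, i ∉ T → x i = 1 := by
  classical
  -- the centre of S is trivial
  have hcenter : Subgroup.center S = ⊥ := by
    rcases (inferInstance : (Subgroup.center S).Normal).eq_bot_or_eq_top with h | h
    · exact h
    · exfalso
      apply hS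
      refine ⟨⟨fun a b => ?_⟩⟩
      have : b ∈ Subgroup.center S := h ▸ Subgroup.mem_top b
      exact Subgroup.mem_center_iff.mp this a
  refine ⟨Finset.univ.filter (fun i => ∃ x ∈ N, x i ≠ 1), fun x => ⟨?_, ?_⟩⟩
  · intro hx i hi
    by_contra hne
    exact hi (Finset.mem_filter.mpr ⟨Finset.mem_univ i, x, hx, hne⟩)
  · intro hx
    -- for i ∈ T, all mulSingle i s lie in N
    have hsingle : ∀ i, (∃ y ∈ N, y i ≠ 1) → ∀ s : S, Pi.mulSingle i s ∈ N := by
      rintro i ⟨y, hyN, hyi⟩ s
      have hnorm : (N.comap (MonoidHom.mulSingle (fun _ : Fin n => S) i)).Normal := inferInstance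
      have hnc : ¬ (y i ∈ Subgroup.center S) := by
        rw [hcenter, Subgroup.mem_bot]; exact hyi
      rw [Subgroup.mem_center_iff] at hnc
      push Not at hnc
      obtain ⟨t, ht⟩ := hnc
      -- commutator
      have hc : y * Pi.mulSingle i t * y⁻¹ * (Pi.mulSingle i t)⁻¹ ∈ N := by
        have h1 : Pi.mulSingle i t * y⁻¹ * (Pi.mulSingle i t)⁻¹ ∈ N :=
          ‹N.Normal›.conj_mem _ (N.inv_mem hyN) _
        have := N.mul_mem hyN h1
        simpa [mul_assoc] using this
      have hceq : y * Pi.mulSingle i t * y⁻¹ * (Pi.mulSingle i t)⁻¹ =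
          Pi.mulSingle i (y i * t * (y i)⁻¹ * t⁻¹) := by
        ext j
        by_cases hj : j = i
        · subst hj; simp
        · simp [Pi.mulSingle_eq_of_ne hj]
      rw [hceq] at hc
      have hne1 : y i * t * (y i)⁻¹ * t⁻¹ ≠ 1 := by
        intro h
        apply ht
        have : y i * t = t * y i := by
          have := congrArg (fun w => w * t * y i) h
          simpa [mul_assoc] using this
        exact this.symm
      rcases hnorm.eq_bot_or_eq_top with h | h
      · exfalso
        have : y i * t * (y i)⁻¹ * t⁻¹ ∈ N.comap (MonoidHom.mulSingle (fun _ : Fin n => S) i) := hc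
        rw [h, Subgroup.mem_bot] at this
        exact hne1 this
      · have : s ∈ N.comap (MonoidHom.mulSingle (fun _ : Fin n => S) i) := h ▸ Subgroup.mem_top s
        exact this
    rw [← Finset.noncommProd_mulSingle x]
    apply Subgroup.noncommProd_mem
    intro i _
    by_cases hi : ∃ y ∈ N, y i ≠ 1
    · exact hsingle i hi (x i)
    · have : x i = 1 := hx i (by simpa using hi)
      rw [this, Pi.mulSingle_one]
      exact N.one_mem

end Cfsg.Agent.S5913
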