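import Cfsg.Statements.S5914
import Cfsg.Agent.S5913
import Mathlib

set_option autoImplicit false
open Cfsg

namespace Cfsg.Agent.S5914

/-- Swapping two coordinates. -/
def swapAut (S : Type*) [Group S] {n : ℕ} (i j : Fin n) : (Fin n → S) ≃* (Fin n → S) :=
  MulEquiv.arrowCongr (Equiv.swap i j) (MulEquiv.refl S)

theorem swapAut_apply {S : Type*} [Group S] {n : ℕ} (i j : Fin n) (y : Fin n → S) (k : Fin n) :
    swapAut S i j y k = y (Equiv.swap i j k) := rfl

theorem swapAut_mulSingle {S : Type*} [Group S] {n : ℕ} (i j : Fin n) (s : S) :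
    swapAut S i j (Pi.mulSingle i s) = Pi.mulSingle j s := by
  ext k
  rw [swapAut_apply]
  by_cases hk : k = j
  · rw [hk, Equiv.swap_apply_right, Pi.mulSingle_eq_same, Pi.mulSingle_eq_same]
  · rw [Pi.mulSingle_eq_of_ne hk, Pi.mulSingle_eq_of_ne]
    intro h
    apply hk
    have := congrArg (Equiv.swap i j) h
    rwa [Equiv.swap_apply_self, Equiv.swap_apply_left] at this

theorem mem_of_char {P : Type*} [Group P] {H : Subgroup P} (hH : H.Characteristic) (ϕ : P ≃* P)
    {x : P} (hx : x ∈ H) : ϕ x ∈ H :=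
  Subgroup.characteristic_iff_map_le.mp hH ϕ (Subgroup.mem_map_of_mem _ hx)

theorem char_nonabelian {S : Type*} [Group S] [IsSimpleGroup S] (hS : ¬ IsMulCommutative S) (n : ℕ)
    (H : Subgroup (Fin n → S)) (hH : H.Characteristic) : H = ⊥ ∨ H = ⊤ := by
  have : H.Normal := Subgroup.normal_of_characteristic H
  obtain ⟨T, hT⟩ := Cfsg.Agent.S5913.result hS n H
  by_cases h1 : ∀ i, i ∈ T
  · right
    rw [eq_top_iff]
    intro x _
    rw [hT]
    intro i hi
    exact absurd (h1 i) hi
  by_cases h0 : ∀ i, i ∉ T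
  · left
    rw [eq_bot_iff]
    intro x hx
    rw [hT] at hx
    rw [Subgroup.mem_bot]
    ext i
    exact hx i (h0 i)
  push Not at h1 h0
  obtain ⟨j, hj⟩ := h1
  obtain ⟨i, hi⟩ := h0
  obtain ⟨s, hs⟩ := exists_ne (1 : S)
  have hx : Pi.mulSingle i s ∈ H := by
    rw [hT]
    intro k hk
    have : k ≠ i := fun h => hk (h ▸ hi)
    rw [Pi.mulSingle_eq_of_ne this]
  have hy := mem_of_char hH (swapAut S i j) hx
  rw [swapAut_mulSingle, hT] at hy
  have := hy j hj
  rw [Pi.mulSingle_eq_same] at this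
  exact absurd this hs

/-- The shear automorphism adding multiples of the `i₀`-th coordinate to the others. -/
def shear {A : Type*} [CommGroup A] {n : ℕ} (i₀ : Fin n) (k : Fin n → ℤ) : (Fin n → A) ≃* (Fin n → A) where
  toFun y := fun j => if j = i₀ then y i₀ else y j * (y i₀) ^ (k j)
  invFun y := fun j => if j = i₀ then y i₀ else y j * (y i₀) ^ (-k j)
  left_inv y := by
    ext j
    by_cases hj : j = i₀
    · simp [hj]
    · simp [hj]
  right_inv y := by
    ext j
    by_cases hj : j = i₀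
    · simp [hj]
    · simp [hj]
  map_mul' y y' := by
    ext j
    by_cases hj : j = i₀
    · simp [hj]
    · simp only [hj, if_false, Pi.mul_apply, mul_zpow]
      exact mul_mul_mul_comm _ _ _ _

theorem char_abelian {A : Type*} [CommGroup A] [IsSimpleGroup A] (n : ℕ)
    (H : Subgroup (Fin n → A)) (hH : H.Characteristic) : H = ⊥ ∨ H = ⊤ := by
  by_cases hbot : H = ⊥
  · exact Or.inl hbot
  right
  obtain ⟨x, hxH, hx1⟩ : ∃ x ∈ H, x ≠ 1 := by
    obtain ⟨x, hx⟩ := Subgroup.ne_bot_iff_exists_ne_one.mp hbot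
    exact ⟨(x : Fin n → A), x.2, fun h => hx (Subtype.ext h)⟩
  obtain ⟨i₀, hi₀⟩ : ∃ i₀, x i₀ ≠ 1 := by
    by_contra hcon
    push Not at hcon
    exact hx1 (funext hcon)
  -- x i₀ generates A
  have hgen : ∀ t : A, ∃ m : ℤ, (x i₀) ^ m = t := by
    intro t
    have hz : Subgroup.zpowers (x i₀) = ⊤ := by
      have hn : (Subgroup.zpowers (x i₀)).Normal := inferInstance
      rcases hn.eq_bot_or_eq_top with h | h
      · exfalso
        apply hi₀
        have : x i₀ ∈ Subgroup.zpowers (x i₀) := Subgroup.mem_zpowers _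
        rw [h, Subgroup.mem_bot] at this
        exact this
      · exact h
    have : t ∈ Subgroup.zpowers (x i₀) := by rw [hz]; trivial
    exact Subgroup.mem_zpowers_iff.mp this
  choose k hk using fun j => hgen (x j)⁻¹
  have h1 : shear i₀ k x = Pi.mulSingle i₀ (x i₀) := by
    ext j
    by_cases hj : j = i₀
    · subst hj
      simp [shear]
    · rw [Pi.mulSingle_eq_of_ne hj]
      simp only [shear, MulEquiv.coe_mk, Equiv.coe_fn_mk, hj, if_false]
      rw [hk j, mul_inv_cancel]
  have h2 : Pi.mulSingle i₀ (x i₀) ∈ H := h1 ▸ mem_of_char hH (shear i₀ k) hxH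
  have h3 : ∀ t : A, Pi.mulSingle i₀ t ∈ H := by
    intro t
    obtain ⟨m, rfl⟩ := hgen t
    have := H.zpow_mem h2 m
    rwa [← Pi.mulSingle_zpow] at this
  have h4 : ∀ (j : Fin n) (t : A), Pi.mulSingle j t ∈ H := by
    intro j t
    have := mem_of_char hH (swapAut A i₀ j) (h3 t)
    rwa [swapAut_mulSingle] at this
  rw [eq_top_iff]
  intro y _
  exact Subgroup.pi_mem_of_mulSingle_mem y (fun j => h4 j (y j))


theorem char_pi {S : Type*} [Group S] [IsSimpleGroup S] (n : ℕ)
    (H : Subgroup (Fin n → S)) (hH : H.Characteristic) : H = ⊥ ∨ H = ⊤ := by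
  by_cases hS : IsMulCommutative S
  · letI : CommGroup S := { (inferInstance : Group S) with mul_comm := fun a b => hS.is_comm.comm a b }
    exact char_abelian n H hH
  · exact char_nonabelian hS n H hH

section forward
variable {G : Type*} [Group G]

/-- Minimal normal subgroups. -/
def IsMinNormal (N : Subgroup G) : Prop :=
  N.Normal ∧ N ≠ ⊥ ∧ ∀ B : Subgroup G, B.Normal → B ≤ N → B = ⊥ ∨ B = N

theorem exists_isMinNormal [Finite G] [Nontrivial G] : ∃ N : Subgroup G, IsMinNormal N := by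
  have hne : {B : Subgroup G | B.Normal ∧ B ≠ ⊥}.Nonempty :=
    ⟨⊤, inferInstance, top_ne_bot⟩
  obtain ⟨N, ⟨hN1, hN2⟩, hmin⟩ := wellFounded_lt.has_min _ hne
  refine ⟨N, hN1, hN2, fun B hB hBN => ?_⟩
  by_cases hb : B = ⊥
  · exact Or.inl hb
  · right
    by_contra hne'
    exact hmin B ⟨hB, hb⟩ (lt_of_le_of_ne hBN hne')

theorem IsMinNormal.map {N : Subgroup G} (hN : IsMinNormal N) (ψ : G ≃* G) :
    IsMinNormal (N.map ψ.toMonoidHom) := by
  obtain ⟨h1, h2, h3⟩ := hN
  refine ⟨h1.map _ ψ.surjective, ?_, ?_⟩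
  · intro h
    exact h2 ((Subgroup.map_eq_bot_iff_of_injective N ψ.injective).mp h)
  · intro B hB hBN
    have hc : (B.comap ψ.toMonoidHom) ≤ N := by
      intro x hx
      obtain ⟨y, hy, hyx⟩ := hBN hx
      have : y = x := ψ.injective hyx
      rwa [← this]
    have hB' : B = (B.comap ψ.toMonoidHom).map ψ.toMonoidHom :=
      (Subgroup.map_comap_eq_self_of_surjective ψ.surjective B).symm
    rcases h3 _ (hB.comap _) hc with h | h
    · left
      rw [hB', h, Subgroup.map_bot]
    · right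
      rw [hB', h]

/-- The homomorphism `y ↦ g (y 0) * f (tail y)`. -/
def extend {N : Type*} [Group N] {k : ℕ} (f : (Fin k → N) →* G) (g : N →* G)
    (comm : ∀ a y, Commute (g a) (f y)) : (Fin (k + 1) → N) →* G where
  toFun y := g (y 0) * f (Fin.tail y)
  map_one' := by
    have : Fin.tail (1 : Fin (k + 1) → N) = 1 := rfl
    rw [this, map_one, Pi.one_apply, map_one, one_mul]
  map_mul' y y' := by
    have : Fin.tail (y * y') = Fin.tail y * Fin.tail y' := rfl
    rw [this, map_mul, Pi.mul_apply, map_mul]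
    have hc := comm (y' 0) (Fin.tail y)
    calc g (y 0) * g (y' 0) * (f (Fin.tail y) * f (Fin.tail y'))
        = g (y 0) * (g (y' 0) * f (Fin.tail y)) * f (Fin.tail y') := by group
      _ = g (y 0) * (f (Fin.tail y) * g (y' 0)) * f (Fin.tail y') := by rw [hc.eq]
      _ = g (y 0) * f (Fin.tail y) * (g (y' 0) * f (Fin.tail y')) := by group

theorem extend_apply {N : Type*} [Group N] {k : ℕ} (f : (Fin k → N) →* G) (g : N →* G)
    (comm : ∀ a y, Commute (g a) (f y)) (y : Fin (k + 1) → N) :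
    extend f g comm y = g (y 0) * f (Fin.tail y) := rfl


/-- An embedding of a power of `N` with normal image, one factor being `N` itself. -/
structure Good (N : Subgroup G) (k : ℕ) (f : (Fin k → N) →* G) : Prop where
  inj : Function.Injective f
  normal : f.range.Normal
  base : ∃ i₀ : Fin k, ∀ x : N, f (Pi.mulSingle i₀ x) = x

theorem Good.lt_card [Finite G] {N : Subgroup G} (hN : N ≠ ⊥) {k : ℕ} {f : (Fin k → N) →* G}
    (h : Good N k f) : k < Nat.card G := by
  have h1 := Nat.card_le_card_of_injective f h.inj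
  rw [Nat.card_fun, Nat.card_fin] at h1
  have h2 : 2 ≤ Nat.card N := by
    have : Nontrivial N := (Subgroup.nontrivial_iff_ne_bot N).mpr hN
    exact Finite.one_lt_card
  calc k < 2 ^ k := Nat.lt_two_pow_self
    _ ≤ Nat.card N ^ k := Nat.pow_le_pow_left h2 k
    _ ≤ Nat.card G := h1

theorem Good.step [Finite G] (hchar : ∀ H : Subgroup G, H.Characteristic → H = ⊥ ∨ H = ⊤)
    {N : Subgroup G} (hN : IsMinNormal N) {k : ℕ} {f : (Fin k → N) →* G}
    (h : Good N k f) (hne : f.range ≠ ⊤) : ∃ f' : (Fin (k + 1) → N) →* G, Good N (k + 1) f' := by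
  -- the automorphic images of N generate G
  have hC : (⨆ ψ : G ≃* G, N.map ψ.toMonoidHom) = ⊤ := by
    have hch : (⨆ ψ : G ≃* G, N.map ψ.toMonoidHom).Characteristic := by
      rw [Subgroup.characteristic_iff_map_le]
      intro ϕ
      rw [Subgroup.map_iSup]
      apply iSup_le
      intro ψ
      rw [Subgroup.map_map]
      exact le_iSup (fun ψ : G ≃* G => N.map ψ.toMonoidHom) (ψ.trans ϕ)
    rcases hchar _ hch with h0 | h1
    · exfalso
      apply hN.2.1
      rw [eq_bot_iff, ← h0]
      have := le_iSup (fun ψ : G ≃* G => N.map ψ.toMonoidHom) (MulEquiv.refl G)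
      refine le_trans ?_ this
      intro x hx
      exact ⟨x, hx, rfl⟩
    · exact h1
  obtain ⟨ψ, hψ⟩ : ∃ ψ : G ≃* G, ¬ N.map ψ.toMonoidHom ≤ f.range := by
    by_contra hcon
    push Not at hcon
    apply hne
    rw [eq_top_iff, ← hC]
    exact iSup_le hcon
  have hN' := hN.map ψ
  have hMn : f.range.Normal := h.normal
  have hdisj : N.map ψ.toMonoidHom ⊓ f.range = ⊥ := by
    have hnorm : (N.map ψ.toMonoidHom ⊓ f.range).Normal := by
      have := hN'.1
      exact Subgroup.normal_inf_normal _ _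
    rcases hN'.2.2 _ hnorm inf_le_left with h0 | h1
    · exact h0
    · exfalso
      apply hψ
      rw [← h1]
      exact inf_le_right
  let g : N →* G := ψ.toMonoidHom.comp N.subtype
  have hgr : g.range = N.map ψ.toMonoidHom := by
    rw [MonoidHom.range_comp, Subgroup.range_subtype]
  have comm : ∀ a y, Commute (g a) (f y) := by
    intro a y
    apply Subgroup.commute_of_normal_of_disjoint _ _ hN'.1 hMn (disjoint_iff.mpr hdisj)
    · rw [← hgr]; exact ⟨a, rfl⟩
    · exact ⟨y, rfl⟩
  have hginj : Function.Injective g := ψ.injective.comp Subtype.val_injective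
  refine ⟨extend f g comm, ?_, ?_, ?_⟩
  · -- injective
    rw [injective_iff_map_eq_one]
    intro y hy
    rw [extend_apply] at hy
    have h1 : g (y 0) ∈ N.map ψ.toMonoidHom ⊓ f.range := by
      refine ⟨by rw [← hgr]; exact ⟨_, rfl⟩, ?_⟩
      have : g (y 0) = (f (Fin.tail y))⁻¹ := eq_inv_of_mul_eq_one_left hy
      rw [this]
      exact f.range.inv_mem ⟨_, rfl⟩
    rw [hdisj, Subgroup.mem_bot] at h1
    have h2 : f (Fin.tail y) = 1 := by rwa [h1, one_mul] at hy
    have h3 : y 0 = 1 := hginj (by rw [h1, map_one])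
    have h4 : Fin.tail y = 1 := h.inj (by rw [h2, map_one])
    ext j
    refine Fin.cases ?_ (fun i => ?_) j
    · rw [h3]; rfl
    · have := congrFun h4 i
      exact congrArg Subtype.val this
  · -- normal range
    refine ⟨?_⟩
    rintro _ ⟨y, rfl⟩ c
    rw [extend_apply]
    have h1 : c * g (y 0) * c⁻¹ ∈ g.range := by
      rw [hgr]
      exact hN'.1.conj_mem _ (by rw [← hgr]; exact ⟨_, rfl⟩) c
    have h2 : c * f (Fin.tail y) * c⁻¹ ∈ f.range := hMn.conj_mem _ ⟨_, rfl⟩ c
    obtain ⟨a, ha⟩ := h1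
    obtain ⟨t, ht⟩ := h2
    refine ⟨Fin.cons a t, ?_⟩
    rw [extend_apply, Fin.cons_zero, Fin.tail_cons, ha, ht]
    group
  · obtain ⟨i₀, hi₀⟩ := h.base
    refine ⟨i₀.succ, fun x => ?_⟩
    rw [extend_apply]
    have h1 : (Pi.mulSingle i₀.succ x : Fin (k + 1) → N) 0 = 1 :=
      Pi.mulSingle_eq_of_ne (Fin.succ_ne_zero i₀).symm x
    have h2 : Fin.tail (Pi.mulSingle i₀.succ x : Fin (k + 1) → N) = Pi.mulSingle i₀ x := by
      ext j
      simp only [Fin.tail]
      by_cases hj : j = i₀
      · rw [hj, Pi.mulSingle_eq_same, Pi.mulSingle_eq_same]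
      · rw [Pi.mulSingle_eq_of_ne hj, Pi.mulSingle_eq_of_ne]
        intro h'
        exact hj (Fin.succ_injective _ h')
    rw [h1, h2, map_one, one_mul, hi₀]

theorem exists_good_top [Finite G] (hchar : ∀ H : Subgroup G, H.Characteristic → H = ⊥ ∨ H = ⊤)
    {N : Subgroup G} (hN : IsMinNormal N) :
    ∃ (k : ℕ) (f : (Fin k → N) →* G), Good N k f ∧ f.range = ⊤ := by
  -- starting point
  have hstart : ∃ f : (Fin 1 → N) →* G, Good N 1 f := by
    refine ⟨N.subtype.comp (MulEquiv.funUnique (Fin 1) N).toMonoidHom, ?_, ?_, ?_⟩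
    · exact Subtype.val_injective.comp (MulEquiv.funUnique (Fin 1) N).injective
    · rw [MonoidHom.range_comp, MonoidHom.range_eq_top.mpr (MulEquiv.funUnique (Fin 1) N).surjective,
        ← MonoidHom.range_eq_map, Subgroup.range_subtype]
      exact hN.1
    · refine ⟨0, fun x => ?_⟩
      simp [MulEquiv.funUnique]
  obtain ⟨f1, hf1⟩ := hstart
  have key : ∀ m : ℕ, ∀ (k : ℕ) (f : (Fin k → N) →* G), Good N k f → Nat.card G - k = m →
      ∃ (k' : ℕ) (f' : (Fin k' → N) →* G), Good N k' f' ∧ f'.range = ⊤ := by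
    intro m
    induction m using Nat.strong_induction_on with
    | _ m ih =>
      intro k f hf hm
      by_cases htop : f.range = ⊤
      · exact ⟨k, f, hf, htop⟩
      · obtain ⟨f', hf'⟩ := hf.step hchar hN htop
        have h1 := hf.lt_card hN.2.1
        have h2 := hf'.lt_card hN.2.1
        exact ih (Nat.card G - (k + 1)) (by omega) (k + 1) f' hf' rfl
  exact key _ 1 f1 hf1 rfl


theorem simple_of_good {N : Subgroup G} (hN : IsMinNormal N) {k : ℕ} {f : (Fin k → N) →* G}
    (h : Good N k f) (htop : f.range = ⊤) : IsSimpleGroup N := by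
  have : Nontrivial N := (Subgroup.nontrivial_iff_ne_bot N).mpr hN.2.1
  refine ⟨fun A hA => ?_⟩
  obtain ⟨i₀, hi₀⟩ := h.base
  have hA' : (A.map N.subtype).Normal := by
    refine ⟨?_⟩
    rintro _ ⟨a, ha, rfl⟩ c
    obtain ⟨y, rfl⟩ : c ∈ f.range := by rw [htop]; trivial
    refine ⟨y i₀ * a * (y i₀)⁻¹, hA.conj_mem a ha (y i₀), ?_⟩
    show ((y i₀ * a * (y i₀)⁻¹ : N) : G) = f y * (a : G) * (f y)⁻¹
    rw [← hi₀, ← hi₀ a, ← map_inv, ← map_mul, ← map_mul]
    congr 1
    ext j
    by_cases hj : j = i₀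
    · subst hj; simp
    · simp [Pi.mulSingle_eq_of_ne hj]
  rcases hN.2.2 _ hA' (Subgroup.map_subtype_le A) with h0 | h1
  · left
    exact (Subgroup.map_eq_bot_iff_of_injective A Subtype.val_injective).mp h0
  · right
    rw [eq_top_iff]
    intro x _
    have : (x : G) ∈ A.map N.subtype := by rw [h1]; exact x.2
    obtain ⟨a, ha, hax⟩ := this
    have : a = x := Subtype.ext hax
    rwa [← this]

end forward

/-- A carrier type in the lowest universe. -/
structure Carrier (m : ℕ) : Type where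
  /-- the underlying index -/
  val : Fin m

/-- `Carrier m` is in bijection with `Fin m`. -/
def carrierEquiv (m : ℕ) : Carrier m ≃ Fin m :=
  ⟨Carrier.val, Carrier.mk, fun _ => rfl, fun _ => rfl⟩

theorem exists_small_copy (N : Type*) [Group N] [Finite N] :
    ∃ (S : Type) (_ : Group S), Nonempty (S ≃* N) := by
  let ε : Carrier (Nat.card N) ≃ N := (carrierEquiv _).trans (Finite.equivFin N).symm
  exact ⟨Carrier (Nat.card N), Equiv.group ε, ⟨by letI := Equiv.group ε; exact Equiv.mulEquiv ε⟩⟩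

theorem result {G : Type*} [Group G] [Finite G] [Nontrivial G] :
    (∀ H : Subgroup G, H.Characteristic → H = ⊥ ∨ H = ⊤) ↔
    ∃ (S : Type) (_ : Group S) (_ : IsSimpleGroup S) (n : ℕ), 1 ≤ n ∧ Nonempty (G ≃* (Fin n → S)) := by
  constructor
  · intro hchar
    obtain ⟨N, hN⟩ := exists_isMinNormal (G := G)
    obtain ⟨k, f, hf, htop⟩ := exists_good_top hchar hN
    have hs := simple_of_good hN hf htop
    let e : (Fin k → N) ≃* G := MulEquiv.ofBijective f ⟨hf.inj, MonoidHom.range_eq_top.mp htop⟩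
    have hk : 1 ≤ k := by
      by_contra hk0
      have hk0' : k = 0 := by omega
      subst hk0'
      have : Subsingleton G := e.symm.injective.subsingleton
      exact not_subsingleton G this
    obtain ⟨S, hS, ⟨μ⟩⟩ := exists_small_copy N
    have hs' : IsSimpleGroup S := μ.isSimpleGroup
    exact ⟨S, hS, hs', k, hk,
      ⟨e.symm.trans (MulEquiv.arrowCongr (Equiv.refl (Fin k)) μ.symm)⟩⟩
  · rintro ⟨S, hGrp, hS, n, _, ⟨e⟩⟩ H hH
    have hH' : (H.map e.toMonoidHom).Characteristic := by
      rw [Subgroup.characteristic_iff_map_le]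
      intro ϕ
      rintro _ ⟨_, ⟨h, hh, rfl⟩, rfl⟩
      have := mem_of_char hH ((e.trans ϕ).trans e.symm) hh
      refine ⟨_, this, ?_⟩
      simp
    rcases char_pi n _ hH' with h0 | h1
    · left
      exact (Subgroup.map_eq_bot_iff_of_injective H e.injective).mp h0
    · right
      rw [eq_top_iff]
      intro x _
      have : e x ∈ H.map e.toMonoidHom := by rw [h1]; trivial
      obtain ⟨y, hy, hyx⟩ := this
      have : y = x := e.injective hyx
      rwa [← this]

end Cfsg.Agent.S5914
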