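import Cfsg.Statements.S5938
import Cfsg.Agent.H9.DicksonMax2
import Cfsg.Agent.S0803

set_option autoImplicit false
open Cfsg

namespace Cfsg.Agent.S5938

/-- Let p be a prime with p ≡ ±1 (mod 8) and F a field with p elements. Then PSL_2(F) has a maximal subgroup isomorphic to the symmetric group S_4. -/
theorem result {F : Type*} [Field F] [Fintype F] (p : ℕ) [Fact p.Prime] (hF : Fintype.card F = p) (hp : p % 8 = 1 ∨ p % 8 = 7) : ∃ H : Subgroup (Matrix.ProjectiveSpecialLinearGroup (Fin 2) F), IsCoatom H ∧ Nonempty (H ≃* Equiv.Perm (Fin 4)) := by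
  classical
  have : CharP F p := charP_of_card_eq_prime hF
  have hp2 := (Fact.out : p.Prime).two_le
  have hp7 : 7 ≤ p := by
    rcases hp with h | h
    · by_contra hcon
      have : p = 1 := by omega
      omega
    · omega
  -- existence
  have h16 : p ^ 2 % 16 = 1 := by
    have : p % 16 = 1 ∨ p % 16 = 9 ∨ p % 16 = 7 ∨ p % 16 = 15 := by omega
    rw [Nat.pow_mod]
    rcases this with h | h | h | h <;> rw [h]
  obtain ⟨H0, ⟨e0⟩⟩ := (Cfsg.Agent.S0803.result hF).2 h16
  have hH0 : Nat.card H0 = 24 := by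
    rw [Nat.card_congr e0.toEquiv, Nat.card_eq_fintype_card, Fintype.card_perm, Fintype.card_fin]
    rfl
  -- the order of the whole group
  have hodd : p % 2 = 1 := by omega
  have hgcd : Nat.gcd 2 (p - 1) = 2 := by
    have : p - 1 = 2 * ((p - 1) / 2) := by omega
    rw [this]; simp
  have hG := Cfsg.Agent.H9.DicksonMax.card_PSL2_mul F
  rw [hF, hgcd] at hG
  have hbig : 7 * 48 ≤ p * (p ^ 2 - 1) := by
    have h1 : 49 ≤ p ^ 2 := by
      have := Nat.pow_le_pow_left hp7 2
      omega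
    exact Nat.mul_le_mul hp7 (by omega)
  refine ⟨H0, ?_, ⟨e0⟩⟩
  apply Cfsg.Agent.H9.DicksonMax.isCoatom_of
  · intro htop
    rw [htop, Subgroup.card_top] at hH0
    omega
  intro L hle hLtop
  have hdvd : Nat.card H0 ∣ Nat.card L := Subgroup.card_dvd_of_le hle
  rw [hH0] at hdvd
  rw [hH0]
  have hLne : Nat.card L ≠ Nat.card (Matrix.ProjectiveSpecialLinearGroup (Fin 2) F) := by
    intro h
    exact hLtop (Subgroup.eq_top_of_card_eq L h)
  have hLle : Nat.card L ≤ Nat.card (Matrix.ProjectiveSpecialLinearGroup (Fin 2) F) :=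
    Subgroup.card_le_card_group L
  -- the embedding of `S₄`
  set ψ : Equiv.Perm (Fin 4) →* L := (Subgroup.inclusion hle).comp e0.symm.toMonoidHom with hψ
  have hψ_inj : Function.Injective ψ :=
    (Subgroup.inclusion_injective hle).comp e0.symm.injective
  rcases Cfsg.Agent.H9.DicksonUN.dickson p p hF L with
    ⟨k, -, ⟨hc, -⟩ | ⟨⟨f⟩⟩⟩ | ⟨P, K', hK', ⟨f⟩⟩ | ⟨⟨f⟩⟩ | ⟨⟨f⟩⟩ | ⟨⟨f⟩⟩ |
    ⟨K', i1, i2, m, hm, ⟨⟨f⟩⟩ | ⟨⟨f⟩⟩⟩
  · exfalso
    have := hc
    exact Cfsg.Agent.H9.DicksonMax.no_cyclic _ _ Cfsg.Agent.H9.DicksonMax.s4_ne ψ hψ_inj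
  · exfalso
    exact Cfsg.Agent.H9.DicksonMax.no_dihedral Cfsg.Agent.H9.DicksonMax.s4a
      Cfsg.Agent.H9.DicksonMax.s4b
      (by rw [Cfsg.Agent.H9.DicksonMax.s4a_order]; norm_num)
      (by rw [Cfsg.Agent.H9.DicksonMax.s4b_order]; norm_num)
      Cfsg.Agent.H9.DicksonMax.s4_ne (f.toMonoidHom.comp ψ) (f.injective.comp hψ_inj)
  · exfalso
    apply Cfsg.Agent.H9.DicksonMax.no_borel p (X := Equiv.Perm (Fin 4)) _
      Cfsg.Agent.H9.DicksonMax.s4a Cfsg.Agent.H9.DicksonMax.s4b Cfsg.Agent.H9.DicksonMax.s4_ne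
      (K'.subtype.comp (f.toMonoidHom.comp ψ))
      (K'.subtype_injective.comp (f.injective.comp hψ_inj)) P
    · intro x
      exact hK' (f (ψ x)).2
    · rw [Nat.card_eq_fintype_card, Fintype.card_perm, Fintype.card_fin]
      intro hd
      have : p ∣ 24 := hd
      have := Nat.le_of_dvd (by norm_num) this
      have hpp := (Fact.out : p.Prime)
      interval_cases p <;> omega
  · exfalso
    have : Nat.card L = 12 := by
      rw [Nat.card_congr f.toEquiv, nat_card_alternatingGroup, Nat.card_eq_fintype_card,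
        Fintype.card_fin]
      rfl
    rw [this] at hdvd
    omega
  · rw [Nat.card_congr f.toEquiv, Nat.card_eq_fintype_card, Fintype.card_perm, Fintype.card_fin]
    rfl
  · exfalso
    have : Nat.card L = 60 := by
      rw [Nat.card_congr f.toEquiv, nat_card_alternatingGroup, Nat.card_eq_fintype_card,
        Fintype.card_fin]
      rfl
    rw [this] at hdvd
    omega
  · exfalso
    obtain ⟨hK, -⟩ := ((Fact.out : p.Prime).pow_eq_iff).1 hm
    have h1 := Cfsg.Agent.H9.DicksonMax.card_PSL2_mul K'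
    rw [hK, hgcd, ← Nat.card_congr f.toEquiv] at h1
    apply hLne
    omega
  · exfalso
    have hK : Fintype.card K' = p := (((Fact.out : p.Prime).pow_eq_iff).1 hm).1
    have h1 : Nat.card L = p * (p ^ 2 - 1) := by
      rw [Nat.card_congr f.toEquiv, Cfsg.Agent.S0265.result,
        Cfsg.Agent.H9.SubfieldPSL2.card_SL2_all, hK]
    omega

end Cfsg.Agent.S5938
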