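import Cfsg.Statements.S5939
import Cfsg.Agent.H9.DicksonMax2
import Cfsg.Agent.S0804

set_option autoImplicit false
open Cfsg

namespace Cfsg.Agent.S5939

/-- Let p be a prime and F a finite field of characteristic p such that either F has p elements and p ≡ ±1 (mod 10), or F has p² elements and p ≡ ±3 (mod 10). Then PSL_2(F) has a maximal subgroup isomorphic to the alternating group A_5. -/
theorem result {F : Type*} [Field F] [Fintype F] (p : ℕ) [Fact p.Prime] [CharP F p] (h : (Fintype.card F = p ∧ (p % 10 = 1 ∨ p % 10 = 9)) ∨ (Fintype.card F = p ^ 2 ∧ (p % 10 = 3 ∨ p % 10 = 7))) : ∃ H : Subgroup (Matrix.ProjectiveSpecialLinearGroup (Fin 2) F), IsCoatom H ∧ Nonempty (H ≃* alternatingGroup (Fin 5)) := by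
  classical
  have hpp := (Fact.out : p.Prime)
  have hp2 := hpp.two_le
  set q := Fintype.card F with hq
  -- basic arithmetic
  have hp3 : 3 ≤ p := by
    rcases h with ⟨-, h | h⟩ | ⟨-, h | h⟩ <;> omega
  have hpodd : p % 2 = 1 := by
    rcases h with ⟨-, h | h⟩ | ⟨-, h | h⟩ <;> omega
  have hq9 : 9 ≤ q := by
    rcases h with ⟨h1, h | h⟩ | ⟨h1, h | h⟩
    · rw [h1]
      by_contra hcon
      have : p = 1 := by omega
      omega
    · rw [h1]; omega
    · rw [h1]; nlinarith
    · rw [h1]; nlinarith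
  have hqodd : q % 2 = 1 := by
    rcases h with ⟨h1, -⟩ | ⟨h1, -⟩
    · rw [h1]; exact hpodd
    · rw [h1, Nat.pow_mod, hpodd]
  have hgcd : Nat.gcd 2 (q - 1) = 2 := by
    have : q - 1 = 2 * ((q - 1) / 2) := by omega
    rw [this]; simp
  have hG := Cfsg.Agent.H9.DicksonMax.card_PSL2_mul F
  rw [← hq, hgcd] at hG
  have hbig : 9 * 80 ≤ q * (q ^ 2 - 1) := by
    have h1 : 81 ≤ q ^ 2 := by
      have := Nat.pow_le_pow_left hq9 2
      omega
    exact Nat.mul_le_mul hq9 (by omega)
  have hp5 : ¬ 5 ∣ p := by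
    intro hd
    have : p = 5 := ((Nat.prime_dvd_prime_iff_eq (by norm_num) hpp).1 hd).symm
    rcases h with ⟨-, h | h⟩ | ⟨-, h | h⟩ <;> omega
  -- existence
  have h5 : 5 ∣ q * (q ^ 2 - 1) := by
    apply Dvd.dvd.mul_left
    rcases h with ⟨h1, hm⟩ | ⟨h1, hm⟩
    · rw [h1]
      have : p % 5 = 1 ∨ p % 5 = 4 := by omega
      have h2 : p ^ 2 % 5 = 1 := by
        rw [Nat.pow_mod]
        rcases this with h | h <;> rw [h]
      have hp1 : 1 ≤ p ^ 2 := Nat.one_le_pow _ _ (by omega)
      omega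
    · rw [h1, ← pow_mul]
      have : p % 5 = 2 ∨ p % 5 = 3 := by omega
      have h2 : p ^ (2 * 2) % 5 = 1 := by
        rw [Nat.pow_mod]
        rcases this with h | h <;> rw [h]
      have hp1 : 1 ≤ p ^ (2 * 2) := Nat.one_le_pow _ _ (by omega)
      omega
  obtain ⟨H0, ⟨e0⟩⟩ := (Cfsg.Agent.S0804.result rfl).2 h5
  have hH0 : Nat.card H0 = 60 := by
    rw [Nat.card_congr e0.toEquiv, nat_card_alternatingGroup, Nat.card_eq_fintype_card,
      Fintype.card_fin]
    rfl
  refine ⟨H0, ?_, ⟨e0⟩⟩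
  apply Cfsg.Agent.H9.DicksonMax.isCoatom_of
  · intro htop
    rw [htop, Subgroup.card_top] at hH0
    omega
  intro L hle hLtop
  have hdvd : Nat.card H0 ∣ Nat.card L := Subgroup.card_dvd_of_le hle
  rw [hH0] at hdvd
  rw [hH0]
  have hLne : Nat.card L ≠ Nat.card (Matrix.ProjectiveSpecialLinearGroup (Fin 2) F) := by
    intro h
    exact hLtop (Subgroup.eq_top_of_card_eq L h)
  have hLle : Nat.card L ≤ Nat.card (Matrix.ProjectiveSpecialLinearGroup (Fin 2) F) :=
    Subgroup.card_le_card_group L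
  -- the embedding of `A₅`
  set ψ : alternatingGroup (Fin 5) →* L :=
    (Subgroup.inclusion hle).comp e0.symm.toMonoidHom with hψ
  have hψ_inj : Function.Injective ψ :=
    (Subgroup.inclusion_injective hle).comp e0.symm.injective
  -- no `A₅` in `PSL₂(p)`-like orders when `q = p²`
  have hno5 : p % 10 = 3 ∨ p % 10 = 7 → ¬ 5 ∣ p * (p ^ 2 - 1) := by
    intro hm hd
    rcases (Nat.Prime.dvd_mul (by norm_num : Nat.Prime 5)).1 hd with h | h
    · exact hp5 h
    · obtain ⟨t, ht⟩ := h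
      have hp1 : 1 ≤ p ^ 2 := Nat.one_le_pow _ _ (by omega)
      have h1 : p ^ 2 % 5 = 1 := by omega
      have : p % 5 = 2 ∨ p % 5 = 3 := by omega
      rw [Nat.pow_mod] at h1
      rcases this with h | h <;> rw [h] at h1 <;> omega
  rcases Cfsg.Agent.H9.DicksonUN.dickson q p rfl L with
    ⟨k, -, ⟨hc, -⟩ | ⟨⟨f⟩⟩⟩ | ⟨P, K', hK', ⟨f⟩⟩ | ⟨⟨f⟩⟩ | ⟨⟨f⟩⟩ | ⟨⟨f⟩⟩ |
    ⟨K', i1, i2, m, hm, ⟨⟨f⟩⟩ | ⟨⟨f⟩⟩⟩
  · exfalso
    have := hc
    exact Cfsg.Agent.H9.DicksonMax.no_cyclic _ _ Cfsg.Agent.H9.DicksonMax.a5_ne ψ hψ_inj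
  · exfalso
    exact Cfsg.Agent.H9.DicksonMax.no_dihedral Cfsg.Agent.H9.DicksonMax.a5a
      Cfsg.Agent.H9.DicksonMax.a5b
      (by rw [Cfsg.Agent.H9.DicksonMax.a5a_order]; norm_num)
      (by rw [Cfsg.Agent.H9.DicksonMax.a5b_order]; norm_num)
      Cfsg.Agent.H9.DicksonMax.a5_ne (f.toMonoidHom.comp ψ) (f.injective.comp hψ_inj)
  · exfalso
    by_cases hp3' : p = 3
    · apply Cfsg.Agent.H9.DicksonMax.no_borel' p (X := alternatingGroup (Fin 5))
        Cfsg.Agent.H9.DicksonMax.a5a Cfsg.Agent.H9.DicksonMax.a5b 1 1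
        (by rw [hp3']; exact Cfsg.Agent.H9.DicksonMax.a5a_pow)
        (by rw [hp3']; exact Cfsg.Agent.H9.DicksonMax.a5b_pow)
        Cfsg.Agent.H9.DicksonMax.a5_ne
        (K'.subtype.comp (f.toMonoidHom.comp ψ))
        (K'.subtype_injective.comp (f.injective.comp hψ_inj)) P
      intro x
      exact hK' (f (ψ x)).2
    · apply Cfsg.Agent.H9.DicksonMax.no_borel p (X := alternatingGroup (Fin 5)) _
        Cfsg.Agent.H9.DicksonMax.a5a Cfsg.Agent.H9.DicksonMax.a5b Cfsg.Agent.H9.DicksonMax.a5_ne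
        (K'.subtype.comp (f.toMonoidHom.comp ψ))
        (K'.subtype_injective.comp (f.injective.comp hψ_inj)) P
      · intro x
        exact hK' (f (ψ x)).2
      · rw [nat_card_alternatingGroup, Nat.card_eq_fintype_card, Fintype.card_fin]
        intro hd
        have h60 : p ∣ 60 := hd
        have hd' : p ∣ 2 * 2 * 3 * 5 := h60
        rcases (Nat.Prime.dvd_mul hpp).1 hd' with h1 | h1
        · rcases (Nat.Prime.dvd_mul hpp).1 h1 with h2 | h2
          · rcases (Nat.Prime.dvd_mul hpp).1 h2 with h3 | h3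
            · have := Nat.le_of_dvd (by norm_num) h3; omega
            · have := Nat.le_of_dvd (by norm_num) h3; omega
          · have := Nat.le_of_dvd (by norm_num) h2; omega
        · have h5e : p = 5 := (Nat.prime_dvd_prime_iff_eq hpp (by norm_num)).1 h1
          exact hp5 (by rw [h5e])
  · exfalso
    have : Nat.card L = 12 := by
      rw [Nat.card_congr f.toEquiv, nat_card_alternatingGroup, Nat.card_eq_fintype_card,
        Fintype.card_fin]
      rfl
    rw [this] at hdvd
    omega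
  · exfalso
    have : Nat.card L = 24 := by
      rw [Nat.card_congr f.toEquiv, Nat.card_eq_fintype_card, Fintype.card_perm,
        Fintype.card_fin]
      rfl
    rw [this] at hdvd
    omega
  · rw [Nat.card_congr f.toEquiv, nat_card_alternatingGroup, Nat.card_eq_fintype_card,
      Fintype.card_fin]
    rfl
  · exfalso
    have h1 := Cfsg.Agent.H9.DicksonMax.card_PSL2_mul K'
    rw [← Nat.card_congr f.toEquiv] at h1
    rcases h with ⟨hF', -⟩ | ⟨hF', hmod⟩
    · rw [hF'] at hm
      obtain ⟨hK, -⟩ := (hpp.pow_eq_iff).1 hm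
      rw [hK] at h1
      rw [hF'] at hG hgcd
      rw [hgcd] at h1
      apply hLne
      omega
    · rw [hF'] at hm
      have hm0 : m ≠ 0 := by
        rintro rfl
        rw [pow_zero] at hm
        nlinarith
      have hKd : Fintype.card K' ∣ p ^ 2 := by
        rw [← hm]; exact dvd_pow_self _ hm0
      obtain ⟨j, hj, hKj⟩ := (Nat.dvd_prime_pow hpp).1 hKd
      have hK1 : 1 < Fintype.card K' := Fintype.one_lt_card
      interval_cases j
      · rw [pow_zero] at hKj; omega
      · rw [pow_one] at hKj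
        rw [hKj] at h1
        have hg2 : Nat.gcd 2 (p - 1) = 2 := by
          have : p - 1 = 2 * ((p - 1) / 2) := by omega
          rw [this]; simp
        rw [hg2] at h1
        apply hno5 hmod
        rw [← h1]
        exact Dvd.dvd.mul_right ((by norm_num : 5 ∣ 60).trans hdvd) 2
      · rw [← hF'] at hKj
        rw [hKj, hgcd] at h1
        apply hLne
        omega
  · exfalso
    have h1 : Nat.card L = Fintype.card K' * (Fintype.card K' ^ 2 - 1) := by
      rw [Nat.card_congr f.toEquiv, Cfsg.Agent.S0265.result,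
        Cfsg.Agent.H9.SubfieldPSL2.card_SL2_all]
    rcases h with ⟨hF', -⟩ | ⟨hF', hmod⟩
    · rw [hF'] at hm
      obtain ⟨hK, -⟩ := (hpp.pow_eq_iff).1 hm
      rw [hK] at h1
      rw [hF'] at hG
      omega
    · rw [hF'] at hm
      have hm0 : m ≠ 0 := by
        rintro rfl
        rw [pow_zero] at hm
        nlinarith
      have hKd : Fintype.card K' ∣ p ^ 2 := by
        rw [← hm]; exact dvd_pow_self _ hm0
      obtain ⟨j, hj, hKj⟩ := (Nat.dvd_prime_pow hpp).1 hKd
      have hK1 : 1 < Fintype.card K' := Fintype.one_lt_card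
      interval_cases j
      · rw [pow_zero] at hKj; omega
      · rw [pow_one] at hKj
        rw [hKj] at h1
        apply hno5 hmod
        rw [← h1]
        exact (by norm_num : 5 ∣ 60).trans hdvd
      · rw [← hF'] at hKj
        rw [hKj] at h1
        omega

end Cfsg.Agent.S5939
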