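import Cfsg.Statements.S5940
import Cfsg.Agent.H9.DicksonMax2
import Cfsg.Agent.S0802
import Cfsg.Agent.S0803
import Cfsg.Agent.S0804

set_option autoImplicit false
open Cfsg

namespace Cfsg.Agent.S5940

/-- Let p ≥ 5 be a prime with p ≡ ±3 (mod 8) and p ≢ ±1 (mod 10), and F a field with p elements. Then PSL_2(F) has a maximal subgroup isomorphic to the alternating group A_4. -/
theorem result {F : Type*} [Field F] [Fintype F] (p : ℕ) [Fact p.Prime] (hF : Fintype.card F = p) (h5 : 5 ≤ p) (h8 : p % 8 = 3 ∨ p % 8 = 5) (h10 : p % 10 ≠ 1 ∧ p % 10 ≠ 9) : ∃ H : Subgroup (Matrix.ProjectiveSpecialLinearGroup (Fin 2) F), IsCoatom H ∧ Nonempty (H ≃* alternatingGroup (Fin 4)) := by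
  classical
  have : CharP F p := charP_of_card_eq_prime hF
  have hpp := (Fact.out : p.Prime)
  -- existence
  obtain ⟨H0, ⟨e0⟩⟩ := (Cfsg.Agent.S0802.result p 1 (by rw [hF, pow_one])).2
    (by rintro ⟨h, -⟩; omega)
  have hH0 : Nat.card H0 = 12 := by
    rw [Nat.card_congr e0.toEquiv, nat_card_alternatingGroup, Nat.card_eq_fintype_card,
      Fintype.card_fin]
    rfl
  -- the order of the whole group
  have hodd : p % 2 = 1 := by omega
  have hgcd : Nat.gcd 2 (p - 1) = 2 := by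
    have : p - 1 = 2 * ((p - 1) / 2) := by omega
    rw [this]; simp
  have hG := Cfsg.Agent.H9.DicksonMax.card_PSL2_mul F
  rw [hF, hgcd] at hG
  have hbig : 5 * 24 ≤ p * (p ^ 2 - 1) := by
    have h1 : 25 ≤ p ^ 2 := by
      have := Nat.pow_le_pow_left h5 2
      omega
    exact Nat.mul_le_mul h5 (by omega)
  refine ⟨H0, ?_, ⟨e0⟩⟩
  apply Cfsg.Agent.H9.DicksonMax.isCoatom_of
  · intro htop
    rw [htop, Subgroup.card_top] at hH0
    omega
  intro L hle hLtop
  have hdvd : Nat.card H0 ∣ Nat.card L := Subgroup.card_dvd_of_le hle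
  rw [hH0] at hdvd
  rw [hH0]
  have hLne : Nat.card L ≠ Nat.card (Matrix.ProjectiveSpecialLinearGroup (Fin 2) F) := by
    intro h
    exact hLtop (Subgroup.eq_top_of_card_eq L h)
  have hLle : Nat.card L ≤ Nat.card (Matrix.ProjectiveSpecialLinearGroup (Fin 2) F) :=
    Subgroup.card_le_card_group L
  -- the embedding of `A₄`
  set ψ : alternatingGroup (Fin 4) →* L :=
    (Subgroup.inclusion hle).comp e0.symm.toMonoidHom with hψ
  have hψ_inj : Function.Injective ψ :=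
    (Subgroup.inclusion_injective hle).comp e0.symm.injective
  rcases Cfsg.Agent.H9.DicksonUN.dickson p p hF L with
    ⟨k, -, ⟨hc, -⟩ | ⟨⟨f⟩⟩⟩ | ⟨P, K', hK', ⟨f⟩⟩ | ⟨⟨f⟩⟩ | ⟨⟨f⟩⟩ | ⟨⟨f⟩⟩ |
    ⟨K', i1, i2, m, hm, ⟨⟨f⟩⟩ | ⟨⟨f⟩⟩⟩
  · exfalso
    have := hc
    exact Cfsg.Agent.H9.DicksonMax.no_cyclic _ _ Cfsg.Agent.H9.DicksonMax.a4_ne ψ hψ_inj
  · exfalso
    exact Cfsg.Agent.H9.DicksonMax.no_dihedral Cfsg.Agent.H9.DicksonMax.a4a
      Cfsg.Agent.H9.DicksonMax.a4b
      (by rw [Cfsg.Agent.H9.DicksonMax.a4a_order]; norm_num)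
      (by rw [Cfsg.Agent.H9.DicksonMax.a4b_order]; norm_num)
      Cfsg.Agent.H9.DicksonMax.a4_ne (f.toMonoidHom.comp ψ) (f.injective.comp hψ_inj)
  · exfalso
    apply Cfsg.Agent.H9.DicksonMax.no_borel p (X := alternatingGroup (Fin 4)) _
      Cfsg.Agent.H9.DicksonMax.a4a Cfsg.Agent.H9.DicksonMax.a4b Cfsg.Agent.H9.DicksonMax.a4_ne
      (K'.subtype.comp (f.toMonoidHom.comp ψ))
      (K'.subtype_injective.comp (f.injective.comp hψ_inj)) P
    · intro x
      exact hK' (f (ψ x)).2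
    · rw [nat_card_alternatingGroup, Nat.card_eq_fintype_card, Fintype.card_fin]
      intro hd
      have : p ∣ 12 := hd
      have := Nat.le_of_dvd (by norm_num) this
      interval_cases p <;> omega
  · rw [Nat.card_congr f.toEquiv, nat_card_alternatingGroup, Nat.card_eq_fintype_card,
      Fintype.card_fin]
    rfl
  · exfalso
    have h16 := (Cfsg.Agent.S0803.result hF).1 ⟨L, ⟨f⟩⟩
    have : p % 16 = 3 ∨ p % 16 = 11 ∨ p % 16 = 5 ∨ p % 16 = 13 := by omega
    rw [Nat.pow_mod] at h16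
    rcases this with h | h | h | h <;> rw [h] at h16 <;> omega
  · exfalso
    have h5' := (Cfsg.Agent.S0804.result hF).1 ⟨L, ⟨f⟩⟩
    have hL60 : Nat.card L = 60 := by
      rw [Nat.card_congr f.toEquiv, nat_card_alternatingGroup, Nat.card_eq_fintype_card,
        Fintype.card_fin]
      rfl
    rcases (Nat.Prime.dvd_mul (by norm_num : Nat.Prime 5)).1 h5' with h | h
    · have hp5 : p = 5 := ((Nat.prime_dvd_prime_iff_eq (by norm_num) hpp).1 h).symm
      rw [hp5] at hG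
      apply hLne
      omega
    · obtain ⟨t, ht⟩ := h
      have hp1 : 1 ≤ p ^ 2 := Nat.one_le_pow _ _ (by omega)
      have h1 : p ^ 2 % 5 = 1 := by omega
      have : p % 5 = 0 ∨ p % 5 = 1 ∨ p % 5 = 2 ∨ p % 5 = 3 ∨ p % 5 = 4 := by omega
      rw [Nat.pow_mod] at h1
      rcases this with h | h | h | h | h <;> rw [h] at h1 <;> omega
  · exfalso
    obtain ⟨hK, -⟩ := (hpp.pow_eq_iff).1 hm
    have h1 := Cfsg.Agent.H9.DicksonMax.card_PSL2_mul K'
    rw [hK, hgcd, ← Nat.card_congr f.toEquiv] at h1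
    apply hLne
    omega
  · exfalso
    have hK : Fintype.card K' = p := ((hpp.pow_eq_iff).1 hm).1
    have h1 : Nat.card L = p * (p ^ 2 - 1) := by
      rw [Nat.card_congr f.toEquiv, Cfsg.Agent.S0265.result,
        Cfsg.Agent.H9.SubfieldPSL2.card_SL2_all, hK]
    omega

end Cfsg.Agent.S5940
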