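import Cfsg.Statements.S5941
import Cfsg.Agent.H9.DicksonSub

set_option autoImplicit false
open Cfsg

namespace Cfsg.Agent.S5941

open Cfsg.Agent.H9.AutPSL2 Cfsg.Agent.H9.SubfieldPSL2 in
/-- the value of `theta` on matrices of determinant one -/
theorem theta_toGL {F K : Type*} [Field F] [Fintype F] [Field K] (ι : K →+* F)
    (hsq : ∀ d : K, d ≠ 0 → IsSquare (ι d)) (m : Matrix.SpecialLinearGroup (Fin 2) K) :
    theta ι hsq (Matrix.SpecialLinearGroup.toGL m) =
      pr (Matrix.SpecialLinearGroup.map ι m) := by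
  show pr (nrm ι hsq (Matrix.SpecialLinearGroup.toGL m)) = _
  rw [pr_eq_iff]
  have h1 := sq_spec ι hsq (Matrix.SpecialLinearGroup.toGL m)
  have hdet : ((Matrix.SpecialLinearGroup.toGL m : GL (Fin 2) K) :
      Matrix (Fin 2) (Fin 2) K).det = 1 := by
    have : ((Matrix.SpecialLinearGroup.toGL m : GL (Fin 2) K) :
      Matrix (Fin 2) (Fin 2) K) = m.1 := rfl
    rw [this]; exact m.2
  rw [hdet, map_one] at h1
  have hfac : (sq ι hsq (Matrix.SpecialLinearGroup.toGL m) - 1) *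
      (sq ι hsq (Matrix.SpecialLinearGroup.toGL m) + 1) = 0 := by linear_combination h1
  have hval : (Matrix.SpecialLinearGroup.map ι m).1 = ι.mapMatrix m.1 := rfl
  rcases mul_eq_zero.1 hfac with h | h
  · left
    apply Subtype.ext
    rw [nrm_val, hval]
    have : sq ι hsq (Matrix.SpecialLinearGroup.toGL m) = 1 := by linear_combination h
    rw [this, inv_one, one_smul]
    rfl
  · right
    apply Subtype.ext
    rw [nrm_val, Matrix.SpecialLinearGroup.coe_neg, hval]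
    have : sq ι hsq (Matrix.SpecialLinearGroup.toGL m) = -1 := by linear_combination h
    rw [this, inv_neg, inv_one, neg_smul, one_smul]
    rfl

open Cfsg.Agent.H9.AutPSL2 in
/-- Let K and F be finite fields of odd characteristic with #F = (#K)². Then PSL_2(F) has a maximal subgroup isomorphic to PGL_2(K). -/
theorem result {F K : Type*} [Field F] [Fintype F] [Field K] [Fintype K] (q : ℕ) (hK : Fintype.card K = q) (hF : Fintype.card F = q ^ 2) (hq : Odd q) : ∃ H : Subgroup (Matrix.ProjectiveSpecialLinearGroup (Fin 2) F), IsCoatom H ∧ Nonempty (H ≃* Matrix.ProjGenLinGroup (Fin 2) K) := by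
  classical
  have hodd2 : Odd (q ^ 2) := hq.pow
  have hFodd : Odd (Fintype.card F) := by rw [hF]; exact hodd2
  obtain ⟨ι⟩ := Cfsg.Agent.H9.SubfieldPSL2.exists_ringHom (F := F) (K := K) 2 (by norm_num)
    (by rw [hK, hF])
  have hsq := Cfsg.Agent.H9.SubfieldPSL2.isSquare_of_even ι 2 (by norm_num) hFodd
    (by rw [hK, hF])
  obtain ⟨p, hpF⟩ := CharP.exists F
  have hpp : p.Prime := CharP.char_is_prime F p
  have : Fact p.Prime := ⟨hpp⟩
  have : CharP K p := RingHom.charP ι ι.injective p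
  obtain ⟨k, -, hk⟩ := FiniteField.card K p
  have hk1 : 1 ≤ (k : ℕ) := k.pos
  rw [hK] at hk
  have hq3 : 3 ≤ q := by
    have : 1 < Fintype.card K := Fintype.one_lt_card
    rw [hK] at this
    obtain ⟨t, ht⟩ := hq
    omega
  have hp2 : p ≠ 2 := by
    rintro rfl
    rw [hk] at hq
    exact (Nat.not_even_iff_odd.2 hq) (Nat.even_pow.2 ⟨even_two, k.ne_zero⟩)
  have hgcd : ∀ n : ℕ, Odd n → Nat.gcd 2 (n - 1) = 2 := by
    intro n hn
    obtain ⟨t, ht⟩ := hn
    have : n - 1 = 2 * t := by omega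
    rw [this]; simp
  obtain ⟨H0, hH0def⟩ : ∃ H0, H0 = (Cfsg.Agent.H9.SubfieldPSL2.theta ι hsq).range := ⟨_, rfl⟩
  have e0 : H0 ≃* Matrix.ProjGenLinGroup (Fin 2) K := by
    rw [hH0def]
    exact ((QuotientGroup.quotientKerEquivRange (Cfsg.Agent.H9.SubfieldPSL2.theta ι hsq)).symm).trans
      (QuotientGroup.quotientMulEquivOfEq (Cfsg.Agent.H9.SubfieldPSL2.theta_ker ι hsq))
  have hH0 : Nat.card H0 = q * (q ^ 2 - 1) := by
    rw [Nat.card_congr e0.toEquiv, Cfsg.Agent.S0265.result,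
      Cfsg.Agent.H9.SubfieldPSL2.card_SL2_all, hK]
  have hG : Nat.card (Matrix.ProjectiveSpecialLinearGroup (Fin 2) F) * 2 =
      q ^ 2 * ((q ^ 2) ^ 2 - 1) := by
    have := Cfsg.Agent.H9.DicksonMax.card_PSL2_mul F
    rw [hF, hgcd _ hodd2] at this
    exact this
  have hq9 : 9 ≤ q ^ 2 := by
    have := Nat.pow_le_pow_left hq3 2
    omega
  have hbig : 3 * 8 ≤ q * (q ^ 2 - 1) := Nat.mul_le_mul hq3 (by omega)
  have hlt : 2 * (q * (q ^ 2 - 1)) < q ^ 2 * ((q ^ 2) ^ 2 - 1) := by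
    have e : (q ^ 2) ^ 2 - 1 = (q ^ 2 - 1) * (q ^ 2 + 1) := by
      obtain ⟨w, hw⟩ : ∃ w, q ^ 2 = w + 1 := ⟨q ^ 2 - 1, by omega⟩
      rw [hw, Nat.add_sub_cancel]
      have : (w + 1) ^ 2 = w * (w + 1 + 1) + 1 := by ring
      rw [this, Nat.add_sub_cancel]
    rw [e]
    have h1 : 2 * q < q ^ 2 * (q ^ 2 + 1) := by nlinarith
    have hpos : 0 < q ^ 2 - 1 := by omega
    calc 2 * (q * (q ^ 2 - 1)) = (2 * q) * (q ^ 2 - 1) := by ring
      _ < (q ^ 2 * (q ^ 2 + 1)) * (q ^ 2 - 1) := Nat.mul_lt_mul_of_pos_right h1 hpos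
      _ = q ^ 2 * ((q ^ 2 - 1) * (q ^ 2 + 1)) := by ring
  refine ⟨H0, ?_, ⟨e0⟩⟩
  apply Cfsg.Agent.H9.DicksonMax.isCoatom_of
  · intro htop
    rw [htop, Subgroup.card_top] at hH0
    omega
  intro L hle hLtop
  have hdvd : Nat.card H0 ∣ Nat.card L := Subgroup.card_dvd_of_le hle
  have hLne : Nat.card L ≠ Nat.card (Matrix.ProjectiveSpecialLinearGroup (Fin 2) F) := by
    intro h
    exact hLtop (Subgroup.eq_top_of_card_eq L h)
  have hLle : Nat.card L ≤ Nat.card (Matrix.ProjectiveSpecialLinearGroup (Fin 2) F) :=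
    Subgroup.card_le_card_group L
  have hLpos : 0 < Nat.card L := Nat.card_pos
  have hH0le : Nat.card H0 ≤ Nat.card L := Nat.le_of_dvd hLpos hdvd
  have hu : pr (u 1) ∈ L := by
    apply hle
    rw [hH0def]
    refine ⟨Matrix.SpecialLinearGroup.toGL (u 1), ?_⟩
    rw [theta_toGL]
    congr 1
    apply ext4 <;> simp
  have hl : pr (l 1) ∈ L := by
    apply hle
    rw [hH0def]
    refine ⟨Matrix.SpecialLinearGroup.toGL (l 1), ?_⟩
    rw [theta_toGL]
    congr 1
    apply ext4 <;> simp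
  rcases Cfsg.Agent.H9.DicksonUN.dickson (q ^ 2) p hF L with
    ⟨k', hk', ⟨hc, -⟩ | ⟨⟨f⟩⟩⟩ | ⟨P, K', hK', ⟨f⟩⟩ | ⟨⟨f⟩⟩ | ⟨⟨f⟩⟩ | ⟨⟨f⟩⟩ |
    ⟨K', i1, i2, m, hm, ⟨⟨f⟩⟩ | ⟨⟨f⟩⟩⟩
  · exact (Cfsg.Agent.H9.DicksonMax.not_cyclic_of_mem L hu hl hc).elim
  · exact (Cfsg.Agent.H9.DicksonMax.not_dihedral_of_mem p hp2 L hu hl f).elim
  · exact (Cfsg.Agent.H9.DicksonMax.not_borel_of_mem p L hu hl P K' hK' f).elim
  · exfalso
    have hL : Nat.card L = 12 := by
      rw [Nat.card_congr f.toEquiv, nat_card_alternatingGroup, Nat.card_eq_fintype_card,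
        Fintype.card_fin]
      rfl
    omega
  · have hL : Nat.card L = 24 := by
      rw [Nat.card_congr f.toEquiv, Nat.card_eq_fintype_card, Fintype.card_perm,
        Fintype.card_fin]
      rfl
    omega
  · exfalso
    have hL : Nat.card L = 60 := by
      rw [Nat.card_congr f.toEquiv, nat_card_alternatingGroup, Nat.card_eq_fintype_card,
        Fintype.card_fin]
      rfl
    have h5 : q < 5 := by
      by_contra hcon
      push Not at hcon
      have h3 : 25 ≤ q ^ 2 := by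
        have := Nat.pow_le_pow_left hcon 2
        omega
      have : 5 * 24 ≤ q * (q ^ 2 - 1) := Nat.mul_le_mul hcon (by omega)
      omega
    have hq3' : q = 3 := by
      obtain ⟨t, ht⟩ := hq
      omega
    rw [hH0, hL, hq3'] at hdvd
    norm_num at hdvd
  · -- `PSL₂(K')`
    exfalso
    have hK1 : 1 < Fintype.card K' := Fintype.one_lt_card
    have hcL := Cfsg.Agent.H9.DicksonMax.card_PSL2_mul K'
    rw [← Nat.card_congr f.toEquiv] at hcL
    have hdiv : p ^ (k : ℕ) * ((p ^ (k : ℕ)) ^ 2 - 1) ∣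
        2 * (Fintype.card K' * (Fintype.card K' ^ 2 - 1)) := by
      rw [← hk, ← hH0, ← hcL]
      exact (hdvd.trans (Dvd.intro _ rfl)).trans (Dvd.intro_left 2 rfl)
    rw [hk] at hm
    rcases Cfsg.Agent.H9.DicksonMax.sub_case_d p k 2 _ m hpp hk1 Nat.prime_two hK1 hm hdiv with
      ⟨ha, -⟩ | ⟨ha, -⟩
    · rw [ha, ← hk, hgcd q hq] at hcL
      omega
    · rw [ha, ← hk, hgcd _ hodd2] at hcL
      apply hLne
      omega
  · -- `PGL₂(K')`
    have hK1 : 1 < Fintype.card K' := Fintype.one_lt_card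
    have hcL : Nat.card L = Fintype.card K' * (Fintype.card K' ^ 2 - 1) := by
      rw [Nat.card_congr f.toEquiv, Cfsg.Agent.S0265.result,
        Cfsg.Agent.H9.SubfieldPSL2.card_SL2_all]
    have hdiv : p ^ (k : ℕ) * ((p ^ (k : ℕ)) ^ 2 - 1) ∣
        2 * (Fintype.card K' * (Fintype.card K' ^ 2 - 1)) := by
      rw [← hk, ← hH0, ← hcL]
      exact hdvd.trans (Dvd.intro_left 2 rfl)
    rw [hk] at hm
    rcases Cfsg.Agent.H9.DicksonMax.sub_case_d p k 2 _ m hpp hk1 Nat.prime_two hK1 hm hdiv with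
      ⟨ha, -⟩ | ⟨ha, -⟩
    · rw [ha, ← hk] at hcL
      rw [hcL, hH0]
    · exfalso
      rw [ha, ← hk] at hcL
      omega

end Cfsg.Agent.S5941
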