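import Cfsg.Statements.S5942
import Cfsg.Agent.H9.DicksonSub
import Cfsg.Agent.S0803
import Cfsg.Agent.S0804
import Cfsg.Agent.S0805

set_option autoImplicit false
open Cfsg

namespace Cfsg.Agent.S5942

open Cfsg.Agent.H9.AutPSL2 in
/-- Let K and F be finite fields of odd characteristic with #F = (#K)^r for an odd prime r. Then PSL_2(F) has a maximal subgroup isomorphic to PSL_2(K). -/
theorem result {F K : Type*} [Field F] [Fintype F] [Field K] [Fintype K] (q r : ℕ) (hK : Fintype.card K = q) (hF : Fintype.card F = q ^ r) (hq : Odd q) (hr : r.Prime) (hr2 : r ≠ 2) : ∃ H : Subgroup (Matrix.ProjectiveSpecialLinearGroup (Fin 2) F), IsCoatom H ∧ Nonempty (H ≃* Matrix.ProjectiveSpecialLinearGroup (Fin 2) K) := by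
  classical
  have hrpos := hr.pos
  obtain ⟨ι⟩ := Cfsg.Agent.H9.SubfieldPSL2.exists_ringHom (F := F) (K := K) r hr.pos
    (by rw [hK, hF])
  obtain ⟨p, hpF⟩ := CharP.exists F
  have hpp : p.Prime := CharP.char_is_prime F p
  have : Fact p.Prime := ⟨hpp⟩
  have : CharP K p := RingHom.charP ι ι.injective p
  obtain ⟨k, -, hk⟩ := FiniteField.card K p
  have hk1 : 1 ≤ (k : ℕ) := k.pos
  rw [hK] at hk
  have hq3 : 3 ≤ q := by
    have : 1 < Fintype.card K := Fintype.one_lt_card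
    rw [hK] at this
    obtain ⟨t, ht⟩ := hq
    omega
  have hp2 : p ≠ 2 := by
    rintro rfl
    rw [hk] at hq
    exact (Nat.not_even_iff_odd.2 hq) (Nat.even_pow.2 ⟨even_two, k.ne_zero⟩)
  have hrodd : Odd r := hr.odd_of_ne_two hr2
  have hQodd : Odd (q ^ r) := hq.pow
  -- orders
  have hgcd : ∀ n : ℕ, Odd n → Nat.gcd 2 (n - 1) = 2 := by
    intro n hn
    obtain ⟨t, ht⟩ := hn
    have : n - 1 = 2 * t := by omega
    rw [this]; simp
  obtain ⟨H0, hH0def⟩ : ∃ H0, H0 = Cfsg.Agent.H9.DicksonMax.stdPSL (F := F) ι := ⟨_, rfl⟩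
  have e0 : H0 ≃* Matrix.ProjectiveSpecialLinearGroup (Fin 2) K := by
    rw [hH0def]; exact Cfsg.Agent.H9.DicksonMax.stdPSL_equiv (F := F) ι
  have hH0 : Nat.card H0 * 2 = q * (q ^ 2 - 1) := by
    have := Cfsg.Agent.H9.DicksonMax.card_PSL2_mul K
    rw [hK, hgcd q hq, ← Nat.card_congr e0.toEquiv] at this
    exact this
  have hG : Nat.card (Matrix.ProjectiveSpecialLinearGroup (Fin 2) F) * 2 =
      q ^ r * ((q ^ r) ^ 2 - 1) := by
    have := Cfsg.Agent.H9.DicksonMax.card_PSL2_mul F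
    rw [hF, hgcd _ hQodd] at this
    exact this
  have hr2' : 2 ≤ r := hr.two_le
  have hQq : q * q ≤ q ^ r := by
    rw [← pow_two]; exact Nat.pow_le_pow_right (by omega) hr2'
  have hlt : q * (q ^ 2 - 1) < q ^ r * ((q ^ r) ^ 2 - 1) := by
    have h1 : q < q ^ r := by nlinarith
    have h2 : q ^ 2 - 1 < (q ^ r) ^ 2 - 1 := by
      have : q ^ 2 < (q ^ r) ^ 2 := Nat.pow_lt_pow_left h1 (by norm_num)
      have : 1 ≤ q ^ 2 := Nat.one_le_pow _ _ (by omega)
      omega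
    exact Nat.mul_lt_mul'' h1 h2
  have hbig : 3 * 8 ≤ q * (q ^ 2 - 1) := by
    have h1 : 9 ≤ q ^ 2 := by
      have := Nat.pow_le_pow_left hq3 2
      omega
    exact Nat.mul_le_mul hq3 (by omega)
  refine ⟨H0, ?_, ⟨e0⟩⟩
  apply Cfsg.Agent.H9.DicksonMax.isCoatom_of
  · intro htop
    rw [htop, Subgroup.card_top] at hH0
    omega
  intro L hle hLtop
  have hdvd : Nat.card H0 ∣ Nat.card L := Subgroup.card_dvd_of_le hle
  have hLne : Nat.card L ≠ Nat.card (Matrix.ProjectiveSpecialLinearGroup (Fin 2) F) := by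
    intro h
    exact hLtop (Subgroup.eq_top_of_card_eq L h)
  have hLle : Nat.card L ≤ Nat.card (Matrix.ProjectiveSpecialLinearGroup (Fin 2) F) :=
    Subgroup.card_le_card_group L
  have hu : pr (u 1) ∈ L := hle (by rw [hH0def]; exact Cfsg.Agent.H9.DicksonMax.u_mem_stdPSL ι)
  have hl : pr (l 1) ∈ L := hle (by rw [hH0def]; exact Cfsg.Agent.H9.DicksonMax.l_mem_stdPSL ι)
  -- small `q` from a bound
  have hsmall : ∀ N : ℕ, 0 < N → N < 168 → Nat.card L = N → q = 3 ∨ q = 5 := by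
    intro N hN hN' hLN
    rw [hLN] at hdvd
    have h1 := Nat.le_of_dvd hN hdvd
    have h2 : q < 7 := by
      by_contra hcon
      push Not at hcon
      have h3 : 49 ≤ q ^ 2 := by
        have := Nat.pow_le_pow_left hcon 2
        omega
      have : 7 * 48 ≤ q * (q ^ 2 - 1) := Nat.mul_le_mul hcon (by omega)
      omega
    obtain ⟨t, ht⟩ := hq
    interval_cases q <;> omega
  have h9 : ∀ t : ℕ, 9 ^ (2 * t + 1) % 16 = 9 := by
    intro t
    rw [pow_succ, pow_mul, Nat.mul_mod, Nat.pow_mod]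
    norm_num
  have h9' : ∀ t : ℕ, 9 ^ (2 * t + 1) % 5 = 4 := by
    intro t
    rw [pow_succ, pow_mul, Nat.mul_mod, Nat.pow_mod]
    norm_num
  rcases Cfsg.Agent.H9.DicksonUN.dickson (q ^ r) p hF L with
    ⟨k', -, ⟨hc, -⟩ | ⟨⟨f⟩⟩⟩ | ⟨P, K', hK', ⟨f⟩⟩ | ⟨⟨f⟩⟩ | ⟨⟨f⟩⟩ | ⟨⟨f⟩⟩ |
    ⟨K', i1, i2, m, hm, ⟨⟨f⟩⟩ | ⟨⟨f⟩⟩⟩
  · exact (Cfsg.Agent.H9.DicksonMax.not_cyclic_of_mem L hu hl hc).elim
  · exact (Cfsg.Agent.H9.DicksonMax.not_dihedral_of_mem p hp2 L hu hl f).elim
  · exact (Cfsg.Agent.H9.DicksonMax.not_borel_of_mem p L hu hl P K' hK' f).elim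
  · have hL : Nat.card L = 12 := by
      rw [Nat.card_congr f.toEquiv, nat_card_alternatingGroup, Nat.card_eq_fintype_card,
        Fintype.card_fin]
      rfl
    rcases hsmall 12 (by norm_num) (by norm_num) hL with h3 | h5
    · rw [h3, show (3 : ℕ) * (3 ^ 2 - 1) = 24 from by norm_num] at hH0
      omega
    · exfalso
      rw [h5, show (5 : ℕ) * (5 ^ 2 - 1) = 120 from by norm_num] at hH0
      rw [hL] at hdvd
      have : Nat.card H0 = 60 := by omega
      rw [this] at hdvd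
      omega
  · exfalso
    have hL : Nat.card L = 24 := by
      rw [Nat.card_congr f.toEquiv, Nat.card_eq_fintype_card, Fintype.card_perm,
        Fintype.card_fin]
      rfl
    rcases hsmall 24 (by norm_num) (by norm_num) hL with h3 | h5
    · have h16 := (Cfsg.Agent.S0803.result hF).1 ⟨L, ⟨f⟩⟩
      rw [h3] at h16
      obtain ⟨t, ht⟩ := hrodd
      have e : (3 ^ r) ^ 2 = 9 ^ (2 * t + 1) := by
        rw [ht, ← pow_mul, mul_comm (2 * t + 1) 2, pow_mul]; norm_num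
      rw [e, h9 t] at h16
      omega
    · rw [h5, show (5 : ℕ) * (5 ^ 2 - 1) = 120 from by norm_num] at hH0
      rw [hL] at hdvd
      have : Nat.card H0 = 60 := by omega
      rw [this] at hdvd
      omega
  · have hL : Nat.card L = 60 := by
      rw [Nat.card_congr f.toEquiv, nat_card_alternatingGroup, Nat.card_eq_fintype_card,
        Fintype.card_fin]
      rfl
    rcases hsmall 60 (by norm_num) (by norm_num) hL with h3 | h5
    · exfalso
      have h5' := (Cfsg.Agent.S0804.result hF).1 ⟨L, ⟨f⟩⟩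
      rw [h3] at h5'
      rcases (Nat.Prime.dvd_mul (by norm_num : Nat.Prime 5)).1 h5' with h | h
      · have := (Nat.Prime.dvd_of_dvd_pow (by norm_num : Nat.Prime 5) h)
        omega
      · obtain ⟨t, ht⟩ := hrodd
        have e : (3 ^ r) ^ 2 = 9 ^ (2 * t + 1) := by
          rw [ht, ← pow_mul, mul_comm (2 * t + 1) 2, pow_mul]; norm_num
        rw [e] at h
        have h1 := h9' t
        have hpos : 1 ≤ 9 ^ (2 * t + 1) := Nat.one_le_pow _ _ (by norm_num)
        obtain ⟨w, hw⟩ := h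
        omega
    · rw [h5, show (5 : ℕ) * (5 ^ 2 - 1) = 120 from by norm_num] at hH0
      omega
  · -- `PSL₂(K')`
    have hK1 : 1 < Fintype.card K' := Fintype.one_lt_card
    have hcL := Cfsg.Agent.H9.DicksonMax.card_PSL2_mul K'
    rw [← Nat.card_congr f.toEquiv] at hcL
    have hdiv : p ^ (k : ℕ) * ((p ^ (k : ℕ)) ^ 2 - 1) ∣
        2 * (Fintype.card K' * (Fintype.card K' ^ 2 - 1)) := by
      rw [← hk, ← hH0, ← hcL]
      have : Nat.card H0 * 2 ∣ Nat.card L * 2 := Nat.mul_dvd_mul_right hdvd 2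
      refine this.trans ?_
      rw [mul_comm (Nat.card L) 2]
      exact Nat.mul_dvd_mul_left 2 (Dvd.intro _ rfl)
    rw [hk] at hm
    rcases Cfsg.Agent.H9.DicksonMax.sub_case_d p k r _ m hpp hk1 hr hK1 hm hdiv with
      ⟨ha, -⟩ | ⟨ha, -⟩
    · rw [ha, ← hk, hgcd q hq] at hcL
      omega
    · exfalso
      rw [ha, ← hk, hgcd _ hQodd] at hcL
      apply hLne
      omega
  · -- `PGL₂(K')`
    exfalso
    have hK1 : 1 < Fintype.card K' := Fintype.one_lt_card
    have hcL : Nat.card L = Fintype.card K' * (Fintype.card K' ^ 2 - 1) := by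
      rw [Nat.card_congr f.toEquiv, Cfsg.Agent.S0265.result,
        Cfsg.Agent.H9.SubfieldPSL2.card_SL2_all]
    have hdiv : p ^ (k : ℕ) * ((p ^ (k : ℕ)) ^ 2 - 1) ∣
        2 * (Fintype.card K' * (Fintype.card K' ^ 2 - 1)) := by
      rw [← hk, ← hH0, ← hcL, mul_comm]
      exact Nat.mul_dvd_mul_left 2 hdvd
    have hm' := hm
    rw [hk] at hm
    rcases Cfsg.Agent.H9.DicksonMax.sub_case_d p k r _ m hpp hk1 hr hK1 hm hdiv with
      ⟨ha, hmr⟩ | ⟨ha, -⟩
    · have hm1 : 1 ≤ m := by rw [hmr]; exact hr.pos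
      have := ((Cfsg.Agent.S0805.result hF hQodd m hm1 hm').2).1 ⟨L, ⟨f⟩⟩
      rw [hmr] at this
      exact (Nat.not_even_iff_odd.2 hrodd) this
    · rw [ha, ← hk] at hcL
      omega

end Cfsg.Agent.S5942
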