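import Cfsg.Statements.S5943
import Cfsg.Agent.H9.DicksonSub

set_option autoImplicit false
open Cfsg

namespace Cfsg.Agent.S5943

open Cfsg.Agent.H9.AutPSL2 in
/-- Let K and F be finite fields of characteristic 2 with #K = q > 2 and #F = q^r for a prime r. Then PSL_2(F) has a maximal subgroup isomorphic to PSL_2(K) (which equals PGL_2(K) in characteristic 2). -/
theorem result {F K : Type*} [Field F] [Fintype F] [Field K] [Fintype K] (q r : ℕ) (hK : Fintype.card K = q) (hF : Fintype.card F = q ^ r) (hq : Even q) (hq2 : q ≠ 2) (hr : r.Prime) : ∃ H : Subgroup (Matrix.ProjectiveSpecialLinearGroup (Fin 2) F), IsCoatom H ∧ Nonempty (H ≃* Matrix.ProjectiveSpecialLinearGroup (Fin 2) K) := by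
  classical
  have hrpos := hr.pos
  obtain ⟨ι⟩ := Cfsg.Agent.H9.SubfieldPSL2.exists_ringHom (F := F) (K := K) r hr.pos
    (by rw [hK, hF])
  obtain ⟨p, hpF⟩ := CharP.exists F
  have hpp : p.Prime := CharP.char_is_prime F p
  have : Fact p.Prime := ⟨hpp⟩
  have : CharP K p := RingHom.charP ι ι.injective p
  obtain ⟨k, -, hk⟩ := FiniteField.card K p
  have hk1 : 1 ≤ (k : ℕ) := k.pos
  rw [hK] at hk
  have hq4 : 4 ≤ q := by
    have : 1 < Fintype.card K := Fintype.one_lt_card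
    rw [hK] at this
    obtain ⟨t, ht⟩ := hq
    omega
  have hQeven : Even (q ^ r) := Nat.even_pow.2 ⟨hq, hrpos.ne'⟩
  -- orders
  have hgcd : ∀ n : ℕ, Even n → 0 < n → Nat.gcd 2 (n - 1) = 1 := by
    intro n hn hpos
    obtain ⟨t, ht⟩ := hn
    have : n - 1 = 2 * (t - 1) + 1 := by omega
    rw [this]; simp
  have hQpos : 0 < q ^ r := Nat.pos_of_ne_zero (pow_ne_zero r (by omega))
  obtain ⟨H0, hH0def⟩ : ∃ H0, H0 = Cfsg.Agent.H9.DicksonMax.stdPSL (F := F) ι := ⟨_, rfl⟩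
  have e0 : H0 ≃* Matrix.ProjectiveSpecialLinearGroup (Fin 2) K := by
    rw [hH0def]; exact Cfsg.Agent.H9.DicksonMax.stdPSL_equiv (F := F) ι
  have hH0 : Nat.card H0 = q * (q ^ 2 - 1) := by
    have := Cfsg.Agent.H9.DicksonMax.card_PSL2_mul K
    rw [hK, hgcd q hq (by omega), ← Nat.card_congr e0.toEquiv, mul_one] at this
    exact this
  have hG : Nat.card (Matrix.ProjectiveSpecialLinearGroup (Fin 2) F) =
      q ^ r * ((q ^ r) ^ 2 - 1) := by
    have := Cfsg.Agent.H9.DicksonMax.card_PSL2_mul F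
    rw [hF, hgcd _ hQeven hQpos, mul_one] at this
    exact this
  have hr2' : 2 ≤ r := hr.two_le
  have hQq : q * q ≤ q ^ r := by
    rw [← pow_two]; exact Nat.pow_le_pow_right (by omega) hr2'
  have hlt : q * (q ^ 2 - 1) < q ^ r * ((q ^ r) ^ 2 - 1) := by
    have h1 : q < q ^ r := by nlinarith
    have h2 : q ^ 2 - 1 < (q ^ r) ^ 2 - 1 := by
      have : q ^ 2 < (q ^ r) ^ 2 := Nat.pow_lt_pow_left h1 (by norm_num)
      have : 1 ≤ q ^ 2 := Nat.one_le_pow _ _ (by omega)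
      omega
    exact Nat.mul_lt_mul'' h1 h2
  have hbig : 4 * 15 ≤ q * (q ^ 2 - 1) := by
    have h1 : 16 ≤ q ^ 2 := by
      have := Nat.pow_le_pow_left hq4 2
      omega
    exact Nat.mul_le_mul hq4 (by omega)
  have h4dvd : 4 ∣ q * (q ^ 2 - 1) := by
    apply Dvd.dvd.mul_right
    rw [hk]
    have hp2 : p = 2 := by
      have h2 : p ∣ q := by rw [hk]; exact dvd_pow_self p k.ne_zero
      obtain ⟨t, ht⟩ := hq
      have : 2 ∣ p ^ (k : ℕ) := by rw [← hk]; exact ⟨t, by omega⟩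
      exact ((Nat.prime_dvd_prime_iff_eq Nat.prime_two hpp).1
        (Nat.prime_two.dvd_of_dvd_pow this)).symm
    rw [hp2]
    have hk2 : 2 ≤ (k : ℕ) := by
      by_contra hcon
      have : (k : ℕ) = 1 := by omega
      rw [hp2, this, pow_one] at hk
      exact hq2 hk
    exact pow_dvd_pow 2 hk2
  refine ⟨H0, ?_, ⟨e0⟩⟩
  apply Cfsg.Agent.H9.DicksonMax.isCoatom_of
  · intro htop
    rw [htop, Subgroup.card_top] at hH0
    omega
  intro L hle hLtop
  have hdvd : Nat.card H0 ∣ Nat.card L := Subgroup.card_dvd_of_le hle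
  have hLne : Nat.card L ≠ Nat.card (Matrix.ProjectiveSpecialLinearGroup (Fin 2) F) := by
    intro h
    exact hLtop (Subgroup.eq_top_of_card_eq L h)
  have hLle : Nat.card L ≤ Nat.card (Matrix.ProjectiveSpecialLinearGroup (Fin 2) F) :=
    Subgroup.card_le_card_group L
  have hLpos : 0 < Nat.card L := Nat.card_pos
  have hH0le : Nat.card H0 ≤ Nat.card L := Nat.le_of_dvd hLpos hdvd
  have hu : pr (u 1) ∈ L := hle (by rw [hH0def]; exact Cfsg.Agent.H9.DicksonMax.u_mem_stdPSL ι)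
  have hl : pr (l 1) ∈ L := hle (by rw [hH0def]; exact Cfsg.Agent.H9.DicksonMax.l_mem_stdPSL ι)
  rcases Cfsg.Agent.H9.DicksonUN.dickson (q ^ r) p hF L with
    ⟨k', hk', ⟨hc, -⟩ | ⟨⟨f⟩⟩⟩ | ⟨P, K', hK', ⟨f⟩⟩ | ⟨⟨f⟩⟩ | ⟨⟨f⟩⟩ | ⟨⟨f⟩⟩ |
    ⟨K', i1, i2, m, hm, ⟨⟨f⟩⟩ | ⟨⟨f⟩⟩⟩
  · exact (Cfsg.Agent.H9.DicksonMax.not_cyclic_of_mem L hu hl hc).elim
  · exfalso
    rw [hgcd _ hQeven hQpos, Nat.div_one, Nat.div_one] at hk'
    have hkodd : Odd k' := by
      obtain ⟨t, ht⟩ := hQeven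
      rcases hk' with h | h
      · exact Odd.of_dvd_nat ⟨t, by omega⟩ h
      · exact Odd.of_dvd_nat ⟨t - 1, by omega⟩ h
    have hL : Nat.card L = 2 * k' := by
      rw [Nat.card_congr f.toEquiv, DihedralGroup.nat_card]
    rw [hH0, hL] at hdvd
    have h4 : 4 ∣ 2 * k' := h4dvd.trans hdvd
    obtain ⟨t, ht⟩ := hkodd
    obtain ⟨w, hw⟩ := h4
    omega
  · exact (Cfsg.Agent.H9.DicksonMax.not_borel_of_mem p L hu hl P K' hK' f).elim
  · exfalso
    have hL : Nat.card L = 12 := by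
      rw [Nat.card_congr f.toEquiv, nat_card_alternatingGroup, Nat.card_eq_fintype_card,
        Fintype.card_fin]
      rfl
    omega
  · exfalso
    have hL : Nat.card L = 24 := by
      rw [Nat.card_congr f.toEquiv, Nat.card_eq_fintype_card, Fintype.card_perm,
        Fintype.card_fin]
      rfl
    omega
  · have hL : Nat.card L = 60 := by
      rw [Nat.card_congr f.toEquiv, nat_card_alternatingGroup, Nat.card_eq_fintype_card,
        Fintype.card_fin]
      rfl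
    omega
  · -- `PSL₂(K')`
    have hK1 : 1 < Fintype.card K' := Fintype.one_lt_card
    have hcL := Cfsg.Agent.H9.DicksonMax.card_PSL2_mul K'
    rw [← Nat.card_congr f.toEquiv] at hcL
    have hdiv : p ^ (k : ℕ) * ((p ^ (k : ℕ)) ^ 2 - 1) ∣
        2 * (Fintype.card K' * (Fintype.card K' ^ 2 - 1)) := by
      rw [← hk, ← hH0, ← hcL]
      exact (hdvd.trans (Dvd.intro _ rfl)).trans (Dvd.intro_left 2 rfl)
    rw [hk] at hm
    rcases Cfsg.Agent.H9.DicksonMax.sub_case_d p k r _ m hpp hk1 hr hK1 hm hdiv with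
      ⟨ha, -⟩ | ⟨ha, -⟩
    · rw [ha, ← hk, hgcd q hq (by omega), mul_one] at hcL
      rw [hcL, hH0]
    · exfalso
      rw [ha, ← hk, hgcd _ hQeven hQpos, mul_one] at hcL
      apply hLne
      rw [hcL, hG]
  · -- `PGL₂(K')`
    have hK1 : 1 < Fintype.card K' := Fintype.one_lt_card
    have hcL : Nat.card L = Fintype.card K' * (Fintype.card K' ^ 2 - 1) := by
      rw [Nat.card_congr f.toEquiv, Cfsg.Agent.S0265.result,
        Cfsg.Agent.H9.SubfieldPSL2.card_SL2_all]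
    have hdiv : p ^ (k : ℕ) * ((p ^ (k : ℕ)) ^ 2 - 1) ∣
        2 * (Fintype.card K' * (Fintype.card K' ^ 2 - 1)) := by
      rw [← hk, ← hH0, ← hcL]
      exact hdvd.trans (Dvd.intro_left 2 rfl)
    rw [hk] at hm
    rcases Cfsg.Agent.H9.DicksonMax.sub_case_d p k r _ m hpp hk1 hr hK1 hm hdiv with
      ⟨ha, -⟩ | ⟨ha, -⟩
    · rw [ha, ← hk] at hcL
      rw [hcL, hH0]
    · exfalso
      rw [ha, ← hk] at hcL
      apply hLne
      rw [hcL, hG]

end Cfsg.Agent.S5943
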