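import Cfsg.Statements.S5944
import Mathlib

set_option autoImplicit false
open Cfsg

namespace Cfsg.Agent.S5944

theorem result (n : ℕ) (hn : n ≠ 4) (H : Subgroup (Equiv.Perm (Fin n))) (hH : H ≠ ⊤) (hA : H ≠ alternatingGroup (Fin n)) : n ≤ H.index := by
  by_contra hlt
  push Not at hlt
  have hidx0 : H.index ≠ 0 := Subgroup.index_ne_zero_of_finite
  have h3 : 3 ≤ H.index := by
    by_contra h
    have h2 : H.index ≤ 2 := by omega
    rcases Nat.lt_or_ge H.index 2 with h1 | h1
    · have : H.index = 1 := by omega
      exact hH (Subgroup.index_eq_one.mp this)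
    · have : H.index = 2 := by omega
      exact hA (Equiv.Perm.eq_alternatingGroup_of_index_eq_two this)
  have hn5 : 5 ≤ n := by omega
  by_cases hN : H.normalCore = ⊥
  · have hinj : Function.Injective (MulAction.toPermHom (Equiv.Perm (Fin n)) (Equiv.Perm (Fin n) ⧸ H)) := by
      rw [← MonoidHom.ker_eq_bot_iff, ← Subgroup.normalCore_eq_ker, hN]
    have hcard := Nat.card_le_card_of_injective _ hinj
    rw [Nat.card_perm, Nat.card_perm, Nat.card_fin, ← Subgroup.index_eq_card] at hcard
    have hpos : 0 < H.index := Nat.pos_of_ne_zero hidx0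
    have := (Nat.factorial_lt hpos).mpr hlt
    omega
  · have hnt : Nontrivial H.normalCore := (Subgroup.nontrivial_iff_ne_bot _).mpr hN
    have hle := Equiv.Perm.alternatingGroup_le_of_normal (α := Fin n) (by simpa using hn5) hnt
    have hAH : alternatingGroup (Fin n) ≤ H := hle.trans (Subgroup.normalCore_le H)
    have hdvd := Subgroup.index_dvd_of_le hAH
    have : Nontrivial (Fin n) := Fin.nontrivial_iff_two_le.mpr (by omega)
    rw [alternatingGroup.index_eq_two] at hdvd
    have := Nat.le_of_dvd (by norm_num) hdvd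
    omega

end Cfsg.Agent.S5944
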