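import Cfsg.Statements.S5945
import Cfsg.Agent.Lib.Lead.SymIndex6Count
import Mathlib

set_option autoImplicit false
open Cfsg

namespace Cfsg.Agent.S5945

/-- The symmetric group S_6 has exactly 12 subgroups of index 6; each of them is isomorphic to S_5, and at least one of them is not the stabilizer of any point. -/
theorem result : Nat.card {H : Subgroup (Equiv.Perm (Fin 6)) // H.index = 6} = 12 ∧ (∀ H : Subgroup (Equiv.Perm (Fin 6)), H.index = 6 → Nonempty (H ≃* Equiv.Perm (Fin 5))) ∧ ∃ H : Subgroup (Equiv.Perm (Fin 6)), H.index = 6 ∧ ∀ a : Fin 6, H ≠ MulAction.stabilizer (Equiv.Perm (Fin 6)) a := by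
  classical
  have h6 : Fintype.card (Fin 6) = 6 := Fintype.card_fin 6
  obtain ⟨H₂, hH₂, hH₂t⟩ := Cfsg.Agent.Lead.SymIndex.exists_exotic h6
  obtain ⟨α₂, x₂, hα₂⟩ := Cfsg.Agent.Lead.SymIndex.exists_aut (by omega) H₂ (by rw [hH₂, h6])
  have hclass := Cfsg.Agent.Lead.SymIndex.six_classify h6 H₂ hH₂ hH₂t (0 : Fin 6)
  -- membership in conjugates
  have hmemc : ∀ (K : Subgroup (Equiv.Perm (Fin 6))) (g k : Equiv.Perm (Fin 6)),
      k ∈ K.map (MulAut.conj g).toMonoidHom ↔ g⁻¹ * k * g ∈ K := by
    intro K g k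
    rw [Subgroup.mem_map_equiv, MulAut.conj_symm_apply]
  have hidxc : ∀ (K : Subgroup (Equiv.Perm (Fin 6))) (g : Equiv.Perm (Fin 6)),
      (K.map (MulAut.conj g).toMonoidHom).index = K.index := by
    intro K g
    exact Subgroup.index_map_equiv K (MulAut.conj g)
  -- conjugates of H₂ are not point stabilizers
  have hconj_ne : ∀ (g : Equiv.Perm (Fin 6)) (a : Fin 6),
      H₂.map (MulAut.conj g).toMonoidHom ≠ MulAction.stabilizer (Equiv.Perm (Fin 6)) a := by
    intro g a h
    apply hH₂t (g⁻¹ a)
    intro k hk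
    rw [MulAction.mem_stabilizer_iff, Equiv.Perm.smul_def]
    have h1 : g * k * g⁻¹ ∈ H₂.map (MulAut.conj g).toMonoidHom := by
      rw [hmemc]
      have : g⁻¹ * (g * k * g⁻¹) * g = k := by group
      rw [this]; exact hk
    rw [h, MulAction.mem_stabilizer_iff, Equiv.Perm.smul_def, Equiv.Perm.mul_apply,
      Equiv.Perm.mul_apply] at h1
    have := congrArg (g⁻¹ : Equiv.Perm (Fin 6)) h1
    simpa using this
  -- the conjugation map on cosets
  let F : Equiv.Perm (Fin 6) → Subgroup (Equiv.Perm (Fin 6)) :=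
    fun g => H₂.map (MulAut.conj g).toMonoidHom
  have hF : ∀ a b : Equiv.Perm (Fin 6), (QuotientGroup.leftRel H₂) a b → F a = F b := by
    intro a b hab
    rw [QuotientGroup.leftRel_apply] at hab
    ext k
    show k ∈ H₂.map (MulAut.conj a).toMonoidHom ↔ k ∈ H₂.map (MulAut.conj b).toMonoidHom
    rw [hmemc, hmemc]
    have e : b⁻¹ * k * b = (a⁻¹ * b)⁻¹ * (a⁻¹ * k * a) * (a⁻¹ * b) := by group
    rw [e]
    constructor
    · intro h
      exact H₂.mul_mem (H₂.mul_mem (H₂.inv_mem hab) h) hab
    · intro h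
      have := H₂.mul_mem (H₂.mul_mem hab h) (H₂.inv_mem hab)
      have e2 : (a⁻¹ * b) * ((a⁻¹ * b)⁻¹ * (a⁻¹ * k * a) * (a⁻¹ * b)) * (a⁻¹ * b)⁻¹ =
          a⁻¹ * k * a := by group
      rw [e2] at this
      exact this
  let Φ : Fin 6 ⊕ (Equiv.Perm (Fin 6) ⧸ H₂) →
      {H : Subgroup (Equiv.Perm (Fin 6)) // H.index = 6} := fun s =>
    match s with
    | Sum.inl x => ⟨MulAction.stabilizer (Equiv.Perm (Fin 6)) x, by
        rw [Cfsg.Agent.Lead.SymIndex.index_stabilizer_eq, h6]⟩
    | Sum.inr q => ⟨Quotient.liftOn' q F hF, by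
        induction q using Quotient.inductionOn' with
        | h g =>
          show (F g).index = 6
          show (H₂.map (MulAut.conj g).toMonoidHom).index = 6
          rw [hidxc, hH₂]⟩
  have hΦ : Function.Bijective Φ := by
    constructor
    · rintro (x | q) (y | r) hxy
      · have h1 : MulAction.stabilizer (Equiv.Perm (Fin 6)) x =
            MulAction.stabilizer (Equiv.Perm (Fin 6)) y := congrArg Subtype.val hxy
        rw [Cfsg.Agent.Lead.SymIndex.eq_of_stabilizer_le (by omega) x y (le_of_eq h1)]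
      · exfalso
        induction r using Quotient.inductionOn' with
        | h g =>
          have h1 : MulAction.stabilizer (Equiv.Perm (Fin 6)) x =
              H₂.map (MulAut.conj g).toMonoidHom := congrArg Subtype.val hxy
          exact hconj_ne g x h1.symm
      · exfalso
        induction q using Quotient.inductionOn' with
        | h g =>
          have h1 : H₂.map (MulAut.conj g).toMonoidHom =
              MulAction.stabilizer (Equiv.Perm (Fin 6)) y := congrArg Subtype.val hxy
          exact hconj_ne g y h1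
      · induction q using Quotient.inductionOn' with
        | h g =>
          induction r using Quotient.inductionOn' with
          | h k =>
            have h1 : H₂.map (MulAut.conj g).toMonoidHom =
                H₂.map (MulAut.conj k).toMonoidHom := congrArg Subtype.val hxy
            congr 1
            apply Quotient.sound'
            rw [QuotientGroup.leftRel_apply]
            apply Cfsg.Agent.Lead.SymIndex.mem_of_conj_eq (by omega) H₂ α₂ x₂ hα₂
            intro m
            have e1 : (k * m * k⁻¹) ∈ H₂.map (MulAut.conj g).toMonoidHom ↔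
                (k * m * k⁻¹) ∈ H₂.map (MulAut.conj k).toMonoidHom := by rw [h1]
            rw [hmemc, hmemc] at e1
            have e2 : g⁻¹ * (k * m * k⁻¹) * g = (g⁻¹ * k) * m * (g⁻¹ * k)⁻¹ := by group
            have e3 : k⁻¹ * (k * m * k⁻¹) * k = m := by group
            rw [e2, e3] at e1
            exact e1.symm
    · rintro ⟨H, hH⟩
      obtain ⟨g, hg | hg⟩ := hclass H hH
      · refine ⟨Sum.inl (g (0 : Fin 6)), ?_⟩
        apply Subtype.ext
        show MulAction.stabilizer (Equiv.Perm (Fin 6)) (g 0) = H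
        rw [← hg, ← Equiv.Perm.smul_def, MulAction.stabilizer_smul_eq_stabilizer_map_conj]
      · refine ⟨Sum.inr (QuotientGroup.mk g), ?_⟩
        apply Subtype.ext
        exact hg
  have hcard : Nat.card {H : Subgroup (Equiv.Perm (Fin 6)) // H.index = 6} = 12 := by
    rw [← Nat.card_congr (Equiv.ofBijective Φ hΦ), Nat.card_sum, ← Subgroup.index_eq_card, hH₂,
      Nat.card_eq_fintype_card, Fintype.card_fin]
  refine ⟨hcard, ?_, ⟨H₂, hH₂, fun a h => hH₂t a (le_of_eq h)⟩⟩
  intro H hH
  obtain ⟨α, x, hα⟩ := Cfsg.Agent.Lead.SymIndex.exists_aut (by omega) H (by rw [hH, h6])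
  have hmap : H.map (α : Equiv.Perm (Fin 6) →* Equiv.Perm (Fin 6)) =
      MulAction.stabilizer (Equiv.Perm (Fin 6)) x := by
    ext k
    rw [Subgroup.mem_map, MulAction.mem_stabilizer_iff, Equiv.Perm.smul_def]
    constructor
    · rintro ⟨g, hg, rfl⟩
      exact (hα g).1 hg
    · intro hk
      obtain ⟨g, rfl⟩ := α.surjective k
      exact ⟨g, (hα g).2 hk, rfl⟩
  exact ⟨(α.subgroupMap H).trans ((MulEquiv.subgroupCongr hmap).trans
    ((Cfsg.Agent.Lead.SymIndex.stabEquiv x).trans
      (Equiv.permCongrHom (finSuccAboveEquiv x).symm)))⟩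

end Cfsg.Agent.S5945
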