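import Cfsg.Statements.S5952

set_option autoImplicit false
open Cfsg

namespace Cfsg.Agent.S5952

open Module

variable {F V : Type*} [Field F] [AddCommGroup V] [Module F V] [FiniteDimensional F V]

/-- Subspaces of every smaller dimension exist. -/
theorem exists_le_finrank_eq (C : Submodule F V) {k : ℕ} (hk : k ≤ finrank F C) :
    ∃ K : Submodule F V, K ≤ C ∧ finrank F K = k := by
  obtain ⟨g, hg⟩ := exists_linearIndependent_of_le_finrank (R := F) (M := ↥C) hk
  refine ⟨(Submodule.span F (Set.range g)).map C.subtype, Submodule.map_subtype_le _ _, ?_⟩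
  rw [Submodule.finrank_map_subtype_eq, finrank_span_eq_card hg, Fintype.card_fin]

/-- One step of the filtration argument. -/
theorem step (f : V →ₗ[F] V) (W P Q : Submodule F V) (hW : W ∈ (Module.End.invtSubmodule f))
    (hP : P ∈ (Module.End.invtSubmodule f)) (hQ : Q ∈ (Module.End.invtSubmodule f)) (hPQ : Disjoint P Q)
    (hirr : ∀ Y : Submodule F V, Y ≤ Q → Y ∈ (Module.End.invtSubmodule f) → Y = ⊥ ∨ Y = Q) :
    finrank F ↥(W ⊓ (P ⊔ Q)) = finrank F ↥(W ⊓ P) ∨
      finrank F ↥(W ⊓ (P ⊔ Q)) = finrank F ↥(W ⊓ P) + finrank F ↥Q := by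
  set W' := W ⊓ (P ⊔ Q) with hW'
  set Y := (W' ⊔ P) ⊓ Q with hY
  have hPQi : P ⊔ Q ∈ (Module.End.invtSubmodule f) := (Module.End.invtSubmodule f).supClosed' hP hQ
  have hW'i : W' ∈ (Module.End.invtSubmodule f) := (Module.End.invtSubmodule f).infClosed' hW hPQi
  have hYi : Y ∈ (Module.End.invtSubmodule f) :=
    (Module.End.invtSubmodule f).infClosed' ((Module.End.invtSubmodule f).supClosed' hW'i hP) hQ
  have hYQ : Y ≤ Q := inf_le_right
  have h1 : W' ⊔ P = P ⊔ Y := by
    have hle : W' ⊔ P ≤ P ⊔ Q := sup_le inf_le_right le_sup_left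
    have hmod : (P ⊔ Q) ⊓ (W' ⊔ P) = P ⊔ Q ⊓ (W' ⊔ P) := sup_inf_assoc_of_le Q le_sup_right
    rw [inf_eq_right.2 hle] at hmod
    rw [hmod, hY, inf_comm]
  have h2 : W' ⊓ P = W ⊓ P := by
    rw [hW', inf_assoc, inf_eq_right.2 (le_sup_left : P ≤ P ⊔ Q)]
  have h3 := Submodule.finrank_sup_add_finrank_inf_eq W' P
  have h4 := Submodule.finrank_sup_add_finrank_inf_eq P Y
  have h5 : P ⊓ Y = ⊥ := by
    apply le_bot_iff.1
    calc P ⊓ Y ≤ P ⊓ Q := inf_le_inf_left P hYQ
      _ = ⊥ := hPQ.eq_bot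
  rw [h5, finrank_bot, add_zero, ← h1] at h4
  rw [h2, h4] at h3
  rcases hirr Y hYQ hYi with h | h
  · left
    rw [h, finrank_bot] at h3
    omega
  · right
    rw [h] at h3
    omega

section
variable (f : V →ₗ[F] V) {s a : ℕ} (C : Submodule F V) (U : Fin s → Submodule F V)

theorem chain (W : Submodule F V) (hW : W ∈ (Module.End.invtSubmodule f)) (hC : C ∈ (Module.End.invtSubmodule f))
    (hU : ∀ j, U j ∈ (Module.End.invtSubmodule f)) (hUdim : ∀ j, finrank F ↥(U j) = a)
    (hUirr : ∀ j, ∀ Y : Submodule F V, Y ≤ U j → Y ∈ (Module.End.invtSubmodule f) → Y = ⊥ ∨ Y = U j)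
    (hdisj : ∀ (j : Fin s) (T : Finset (Fin s)), j ∉ T → Disjoint (C ⊔ ⨆ i ∈ T, U i) (U j))
    (T : Finset (Fin s)) :
    ∃ t : ℕ, finrank F ↥(W ⊓ (C ⊔ ⨆ j ∈ T, U j)) = finrank F ↥(W ⊓ C) + t * a := by
  classical
  induction T using Finset.induction_on with
  | empty =>
    refine ⟨0, ?_⟩
    have : C ⊔ ⨆ j ∈ (∅ : Finset (Fin s)), U j = C := by simp
    rw [this, zero_mul, add_zero]
  | insert j T hj ih =>
    obtain ⟨t, ht⟩ := ih
    have hPi : (C ⊔ ⨆ i ∈ T, U i) ∈ (Module.End.invtSubmodule f) := by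
      rw [Module.End.mem_invtSubmodule, ← Submodule.map_le_iff_le_comap, Submodule.map_sup,
        Submodule.map_iSup]
      refine sup_le_sup (Submodule.map_le_iff_le_comap.2 hC) (iSup_mono fun i => ?_)
      rw [Submodule.map_iSup]
      exact iSup_mono fun _ => Submodule.map_le_iff_le_comap.2 (hU i)
    have heq : C ⊔ ⨆ i ∈ insert j T, U i = (C ⊔ ⨆ i ∈ T, U i) ⊔ U j := by
      rw [Finset.iSup_insert, sup_comm (U j), sup_assoc]
    rw [heq]
    rcases step f W _ (U j) hW hPi (hU j) (hdisj j T hj) (hUirr j) with h | h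
    · exact ⟨t, by rw [h, ht]⟩
    · exact ⟨t + 1, by rw [h, ht, hUdim j]; ring⟩

theorem dim_sum (K : Submodule F V) (hK : K ≤ C) (hUdim : ∀ j, finrank F ↥(U j) = a)
    (hdisj : ∀ (j : Fin s) (T : Finset (Fin s)), j ∉ T → Disjoint (C ⊔ ⨆ i ∈ T, U i) (U j))
    (T : Finset (Fin s)) :
    finrank F ↥(K ⊔ ⨆ j ∈ T, U j) = finrank F ↥K + T.card * a := by
  classical
  induction T using Finset.induction_on with
  | empty =>
    have : K ⊔ ⨆ j ∈ (∅ : Finset (Fin s)), U j = K := by simp
    rw [this, Finset.card_empty, zero_mul, add_zero]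
  | insert j T hj ih =>
    have heq : K ⊔ ⨆ i ∈ insert j T, U i = (K ⊔ ⨆ i ∈ T, U i) ⊔ U j := by
      rw [Finset.iSup_insert, sup_comm (U j), sup_assoc]
    have hd : Disjoint (K ⊔ ⨆ i ∈ T, U i) (U j) :=
      (hdisj j T hj).mono_left (sup_le_sup_right hK _)
    have h := Submodule.finrank_sup_add_finrank_inf_eq (K ⊔ ⨆ i ∈ T, U i) (U j)
    rw [hd.eq_bot, finrank_bot, add_zero, ih, hUdim j] at h
    rw [heq, h, Finset.card_insert_of_notMem hj]
    ring

end

/-- Which dimensions of invariant subspaces a semisimple linear map has. Let `V` be a finite-dimensional vector space over a field `F` and `f` an invertible semisimple linear map of `V`. Suppose `V` is the internal direct sum of the fixed space `C_V(f)` (the eigenspace for 1) and subspaces `U_1, …, U_s`, each `f`-invariant of dimension `a ≥ 1` on which `f` acts irreducibly (no `f`-invariant subspaces other than 0 and `U_j`). Let `0 < m < dim V` and `ℓ = m mod a`. Then `f` leaves some `m`-dimensional subspace invariant if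 and only if `dim C_V(f) ≥ m`, or `a ≤ m` and `dim C_V(f) ≥ ℓ`. -/
theorem result {F V : Type*} [Field F] [AddCommGroup V] [Module F V]
    [FiniteDimensional F V] (f : V →ₗ[F] V) (hf : Function.Bijective f) (hss : Module.End.IsSemisimple f)
    {s a : ℕ} (ha : 1 ≤ a) (U : Fin s → Submodule F V)
    (hUinv : ∀ j, (U j).map f ≤ U j) (hUdim : ∀ j, Module.finrank F ↥(U j) = a)
    (hUirr : ∀ j, ∀ W : Submodule F V, W ≤ U j → W.map f ≤ W → W = ⊥ ∨ W = U j)
    (hdec : DirectSum.IsInternal (fun o : Option (Fin s) => o.elim (Module.End.eigenspace f 1) U))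
    (m : ℕ) (hm : 0 < m) (hmV : m < Module.finrank F V) :
    (∃ W : Submodule F V, Module.finrank F ↥W = m ∧ W.map f ≤ W) ↔
    (m ≤ Module.finrank F ↥(Module.End.eigenspace f 1) ∨
      (a ≤ m ∧ m % a ≤ Module.finrank F ↥(Module.End.eigenspace f 1))) := by
  classical
  set C := Module.End.eigenspace f 1 with hCdef
  set A : Option (Fin s) → Submodule F V := fun o => o.elim C U with hA
  have hind : iSupIndep A := hdec.submodule_iSupIndep
  have htop : ⨆ o, A o = ⊤ := hdec.submodule_iSup_eq_top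
  have hCfix : ∀ v ∈ C, f v = v := by
    intro v hv
    have := Module.End.mem_eigenspace_iff.1 hv
    rwa [one_smul] at this
  have hsub : ∀ K : Submodule F V, K ≤ C → K.map f ≤ K := by
    rintro K hK _ ⟨v, hv, rfl⟩
    rw [hCfix v (hK hv)]
    exact hv
  have hCi : C ∈ (Module.End.invtSubmodule f) :=
    (Module.End.mem_invtSubmodule f).2 (Submodule.map_le_iff_le_comap.1 (hsub C le_rfl))
  have hUi : ∀ j, U j ∈ (Module.End.invtSubmodule f) := fun j =>
    (Module.End.mem_invtSubmodule f).2 (Submodule.map_le_iff_le_comap.1 (hUinv j))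
  have hUirr' : ∀ j, ∀ Y : Submodule F V, Y ≤ U j → Y ∈ (Module.End.invtSubmodule f) → Y = ⊥ ∨ Y = U j :=
    fun j Y hY hYi => hUirr j Y hY (Submodule.map_le_iff_le_comap.2 hYi)
  have hdisj : ∀ (j : Fin s) (T : Finset (Fin s)), j ∉ T →
      Disjoint (C ⊔ ⨆ i ∈ T, U i) (U j) := by
    intro j T hj
    have h := hind (some j)
    refine (h.mono_right ?_).symm
    refine sup_le ?_ (iSup₂_le fun i hi => ?_)
    · exact le_iSup₂ (f := fun o (_ : o ≠ some j) => A o) none (by simp)
    · refine le_iSup₂ (f := fun o (_ : o ≠ some j) => A o) (some i) ?_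
      intro h
      apply hj
      rw [← Option.some.inj h]
      exact hi
  have hall : C ⊔ ⨆ j ∈ (Finset.univ : Finset (Fin s)), U j = ⊤ := by
    rw [← htop, iSup_option]
    simp [A]
  have hdimV : finrank F V = finrank F ↥C + s * a := by
    have := dim_sum C U C le_rfl hUdim hdisj Finset.univ
    rw [hall, finrank_top, Finset.card_univ, Fintype.card_fin] at this
    exact this
  constructor
  · rintro ⟨W, hWm, hWinv⟩
    have hWi : W ∈ (Module.End.invtSubmodule f) :=
      (Module.End.mem_invtSubmodule f).2 (Submodule.map_le_iff_le_comap.1 hWinv)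
    obtain ⟨t, ht⟩ := chain f C U W hWi hCi hUi hUdim hUirr' hdisj Finset.univ
    rw [hall, inf_top_eq, hWm] at ht
    have hk : finrank F ↥(W ⊓ C) ≤ finrank F ↥C := Submodule.finrank_mono inf_le_right
    rcases Nat.eq_zero_or_pos t with h0 | hpos
    · left
      rw [h0, zero_mul, add_zero] at ht
      rw [ht]
      exact hk
    · right
      constructor
      · calc a = 1 * a := (one_mul a).symm
          _ ≤ t * a := Nat.mul_le_mul_right a hpos
          _ ≤ m := by rw [ht]; exact Nat.le_add_left _ _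
      · rw [ht, Nat.add_mul_mod_self_right]
        exact (Nat.mod_le _ _).trans hk
  · intro h
    -- find k, t
    have hkt : ∃ k t : ℕ, k ≤ finrank F ↥C ∧ t ≤ s ∧ m = k + t * a := by
      rcases h with h | ⟨h1, h2⟩
      · exact ⟨m, 0, h, Nat.zero_le _, by simp⟩
      · by_cases hq : m / a ≤ s
        · exact ⟨m % a, m / a, h2, hq, by rw [mul_comm]; exact (Nat.mod_add_div m a).symm⟩
        · have hq' : s + 1 ≤ m / a := by omega
          have h3 : (s + 1) * a ≤ m := by
            calc (s + 1) * a ≤ (m / a) * a := Nat.mul_le_mul_right a hq'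
              _ ≤ m := Nat.div_mul_le_self m a
          have h4 : s * a ≤ m := by
            calc s * a ≤ (s + 1) * a := Nat.mul_le_mul_right a (Nat.le_succ s)
              _ ≤ m := h3
          refine ⟨m - s * a, s, ?_, le_rfl, by omega⟩
          rw [hdimV] at hmV
          omega
    obtain ⟨k, t, hk, ht, hmkt⟩ := hkt
    obtain ⟨K, hKC, hKdim⟩ := exists_le_finrank_eq C hk
    obtain ⟨T, -, hT⟩ := Finset.exists_subset_card_eq (s := (Finset.univ : Finset (Fin s)))
      (n := t) (by rw [Finset.card_univ, Fintype.card_fin]; exact ht)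
    refine ⟨K ⊔ ⨆ j ∈ T, U j, ?_, ?_⟩
    · rw [dim_sum C U K hKC hUdim hdisj T, hKdim, hT, hmkt]
    · rw [Submodule.map_sup, Submodule.map_iSup]
      refine sup_le_sup (hsub K hKC) (iSup_mono fun i => ?_)
      rw [Submodule.map_iSup]
      exact iSup_mono fun _ => hUinv i

end Cfsg.Agent.S5952
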