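import Mathlib
import Cfsg.Statements.S5958
import Cfsg.Agent.Lib.Helper8.DecStH
import Cfsg.Agent.Lib.Helper8.DecStN
import Cfsg.Agent.Lib.Helper8.DecStP

set_option autoImplicit false
open Cfsg

namespace Cfsg.Agent.S5958

open scoped MatrixGroups
open Cfsg.Agent.Lib.Helper8.DecSt

/-- Elements of odd prime order of PSL_n(q) and imprimitive subgroups. Here `T = PSL_n(F)` for a field `F` with `q = p^f` elements (`n ≥ 2`, `(n, q) ≠ (2, 2), (2, 3)`), `n = a·t` with `t ≥ 2`, and Ω is the set of direct-sum decompositions of `F^n` into `t` subspaces of dimension `a` (unordered; their number is the number of ordered ones divided by `t!`), whose stabilizers are the imprimitive subgroups of type GL_a(q) ≀ S_t (maximal except in some small cases; maximality is not assumed); an element of `T` of prime order `r` (a matrix `x` of determinant 1 with `x^r` scalar, `x` not scalar) fixes a point of Ω when it permutes the summands of some such decomposition. Let `r ≠ p` be an odd prime dividing the number of such decompositions, let `c`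 be the multiplicative order of `q` modulo `r`, and write `k = n mod c`, `ℓ = a mod c`. Then every element of `T` of order `r` stabilizes such a decomposition if and only if either `a = 1`, `c = r − 1 > 1` and `n ≤ k·r`, or `c ≤ a` and `k = t·ℓ`. -/
theorem result {F : Type*} [Field F] [Fintype F] {p : ℕ} [Fact p.Prime] [CharP F p] {q : ℕ} (hq : Fintype.card F = q)
    (n a t : ℕ) (hn : 2 ≤ n) (hT : (n, q) ≠ (2, 2) ∧ (n, q) ≠ (2, 3)) (hat : n = a * t) (ha : 1 ≤ a) (ht : 2 ≤ t)
    (r : ℕ) [Fact r.Prime] (hr2 : r ≠ 2) (hrp : r ≠ p) (hΩ : r ∣ Nat.card {D : Fin t → Submodule F (Fin n → F) // Cfsg.Geo.IsMDecomposition a D} / Nat.factorial t)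
    (c : ℕ) (hc : c = orderOf (q : ZMod r)) :
    (∀ x : Matrix.SpecialLinearGroup (Fin n) F,
      (∃ z : F, ((x ^ r : Matrix.SpecialLinearGroup (Fin n) F) : Matrix (Fin n) (Fin n) F) = z • (1 : Matrix (Fin n) (Fin n) F)) →
      (∀ z : F, (x : Matrix (Fin n) (Fin n) F) ≠ z • (1 : Matrix (Fin n) (Fin n) F)) →
      ∃ D : Fin t → Submodule F (Fin n → F), Cfsg.Geo.IsMDecomposition a D ∧
        ∃ σ : Equiv.Perm (Fin t), ∀ j, (D j).map (Matrix.toLin' (x : Matrix (Fin n) (Fin n) F)) = D (σ j)) ↔
    ((a = 1 ∧ 1 < c ∧ c = r - 1 ∧ n ≤ (n % c) * r) ∨ (c ≤ a ∧ n % c = t * (a % c))) := by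
  classical
  have hr : r.Prime := Fact.out
  have hpp : p.Prime := Fact.out
  subst hc
  have hqr : (q : ZMod r) ≠ 0 := by
    intro h0
    rw [ZMod.natCast_eq_zero_iff] at h0
    obtain ⟨f, _, hf⟩ := FiniteField.card F p
    rw [← hq, hf] at h0
    have := hr.dvd_of_dvd_pow h0
    exact hrp ((Nat.prime_dvd_prime_iff_eq hr hpp).1 this)
  have hcpos : 0 < orderOf (q : ZMod r) :=
    Nat.pos_of_dvd_of_pos (ZMod.orderOf_dvd_card_sub_one hqr) (by have := hr.two_le; omega)
  constructor
  · intro H
    rcases Nat.lt_or_ge (orderOf (q : ZMod r)) 2 with h1 | h2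
    · right
      have hc1 : orderOf (q : ZMod r) = 1 := by omega
      rw [hc1]
      exact ⟨ha, by rw [Nat.mod_one, Nat.mod_one, mul_zero]⟩
    · by_cases hcn : orderOf (q : ZMod r) ≤ n
      · exact cond_of_forall_decomp p hq n a t hat ha ht r hr hrp h2 hcn H
      · exfalso
        have h3 := factorial_dvd_card_decomp (F := F) (n := n) a t
        have h4 : r ∣ Nat.card {D : Fin t → Submodule F (Fin n → F) //
            Cfsg.Geo.IsMDecomposition a D} := by
          rw [← Nat.div_mul_cancel h3]
          exact dvd_mul_of_dvd_left hΩ _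
        have h5 := dvd_trans h4 (card_decomp_dvd (F := F) (n := n) a t ha ht hat)
        have h6 := orderOf_le_of_dvd_card_linearEquiv p hq hr hrp h5
        rw [Module.finrank_fin_fun] at h6
        exact hcn h6
  · rintro hcond x ⟨z, hz⟩ _
    exact exists_decomp_of_cond p hq n a t hat ha ht r hr hrp hcond x z hz

end Cfsg.Agent.S5958
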