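import Cfsg.Statements.S5960
import Mathlib
import Cfsg.Agent.H9.SympInv
import Cfsg.Agent.H9.SympForm

set_option autoImplicit false
open scoped MatrixGroups
open Cfsg

namespace Cfsg.Agent.S5960

open Cfsg.Agent.H9.SympInv Cfsg.Agent.H9.SympForm

/-- Involutions of PSp_n(q) and imprimitive subgroups. Here `T = PSp_n(q)`, `n = 2d ≥ 4`, `(n, q) ≠ (4, 2)`, realised through the symplectic matrices over the field `F` with `q` elements and the standard alternating form; `n = a·t` with `a` even and `t ≥ 2`, and Ω is the (nonempty) set of orthogonal decompositions of `F^n` into `t` nondegenerate subspaces of dimension `a` (unordered; counted as ordered ones divided by `t!`), whose stabilizers are the imprimitive subgroups of type Sp_a(q) ≀ S_t (maximality is not assumed); an element of `T` of prime order `r` (a symplectic matrix `x` with `x^r` scalar, `x` not scalar) fixes a point of Ω when it permutes the summands of some such decomposition. If the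 number of such decompositions is even, then every involution of `T` stabilizes one of them (the action is 2-elusive). -/
theorem result {F : Type*} [Field F] [Fintype F] {p : ℕ} [Fact p.Prime] [CharP F p] {q : ℕ} (hq : Fintype.card F = q)
    (d : ℕ) (hd : 2 ≤ d) (hT : (d, q) ≠ (2, 2))
    (a t : ℕ) (hat : 2 * d = a * t) (ha : 2 ≤ a) (hae : Even a) (ht : 2 ≤ t) (hΩ : 2 ∣ Nat.card {D : Fin t → Submodule F (Fin d ⊕ Fin d → F) // (Cfsg.Geo.IsMDecomposition a D ∧ (∀ j, ∀ u ∈ D j, u ≠ 0 → ∃ v ∈ D j, Cfsg.sympForm d F u v ≠ 0) ∧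
          (∀ j j', j ≠ j' → ∀ u ∈ D j, ∀ v ∈ D j', Cfsg.sympForm d F u v = 0))} / Nat.factorial t)
    (x : ↥(Matrix.symplecticGroup (Fin d) F))
    (hx1 : ∃ z : F, ((x ^ 2 : ↥(Matrix.symplecticGroup (Fin d) F)) : Matrix (Fin d ⊕ Fin d) (Fin d ⊕ Fin d) F) = z • (1 : Matrix (Fin d ⊕ Fin d) (Fin d ⊕ Fin d) F))
    (hx2 : ∀ z : F, (x : Matrix (Fin d ⊕ Fin d) (Fin d ⊕ Fin d) F) ≠ z • (1 : Matrix (Fin d ⊕ Fin d) (Fin d ⊕ Fin d) F)) :
    ∃ D : Fin t → Submodule F (Fin d ⊕ Fin d → F), (Cfsg.Geo.IsMDecomposition a D ∧ (∀ j, ∀ u ∈ D j, u ≠ 0 → ∃ v ∈ D j, Cfsg.sympForm d F u v ≠ 0) ∧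
          (∀ j j', j ≠ j' → ∀ u ∈ D j, ∀ v ∈ D j', Cfsg.sympForm d F u v = 0)) ∧
        ∃ σ : Equiv.Perm (Fin t), ∀ j, (D j).map (Matrix.toLin' (x : Matrix (Fin d ⊕ Fin d) (Fin d ⊕ Fin d) F)) = D (σ j) := by
  obtain ⟨z, hz⟩ := hx1
  set M : Matrix (Fin d ⊕ Fin d) (Fin d ⊕ Fin d) F := (x : Matrix (Fin d ⊕ Fin d) (Fin d ⊕ Fin d) F) with hM
  have hMmem : M ∈ Matrix.symplecticGroup (Fin d) F := x.2
  have hMM : M * M = z • (1 : Matrix (Fin d ⊕ Fin d) (Fin d ⊕ Fin d) F) := by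
    rw [← hz, pow_two]; rfl
  have hz0 : z ≠ 0 := by
    rintro rfl
    rw [zero_smul] at hMM
    have hdet : IsUnit (M * M).det := by
      rw [Matrix.det_mul]
      exact (SymplecticGroup.symplectic_det hMmem).mul (SymplecticGroup.symplectic_det hMmem)
    have : Nonempty (Fin d ⊕ Fin d) := ⟨Sum.inl ⟨0, by omega⟩⟩
    rw [hMM, Matrix.det_zero] at hdet
    exact not_isUnit_zero hdet
  have hL : ∀ v, Matrix.toLin' M (Matrix.toLin' M v) = z • v := by
    intro v
    rw [← Matrix.toLin'_mul_apply, hMM]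
    simp
  have hLB : ∀ u v, sympB d F (Matrix.toLin' M u) (Matrix.toLin' M v) = sympB d F u v := by
    intro u v
    rw [Matrix.toLin'_apply, Matrix.toLin'_apply]
    exact sympB_mulVec d F hMmem u v
  obtain ⟨a', ha'⟩ := hae
  have hdim : Module.finrank F (Fin d ⊕ Fin d → F) = 2 * (a' * t) := by
    rw [Module.finrank_fintype_fun_eq_card, Fintype.card_sum, Fintype.card_fin]
    have : a * t = (a' * t) + (a' * t) := by rw [ha']; ring
    omega
  obtain ⟨D, hD1, hD2, hD3, hD4, hD5, σ, hσ⟩ := exists_orth_decomposition (B := sympB d F)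
    (x := Matrix.toLin' M) (z := z) (sympB_self d F) hz0 hLB hL (sympB_nondeg d F) a' t (by omega) hdim
  refine ⟨D, ⟨⟨ht, by omega, fun j => by rw [hD1 j]; omega, hD2, hD3⟩, ?_, ?_⟩, σ, hσ⟩
  · intro j u hu hu0
    obtain ⟨v, hv, huv⟩ := hD4 j u hu hu0
    exact ⟨v, hv, by rwa [sympB_apply] at huv⟩
  · intro j j' hjj' u hu v hv
    rw [← sympB_apply]
    exact hD5 j j' hjj' u hu v hv

end Cfsg.Agent.S5960
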