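import Mathlib
import Cfsg.Statements.S5961
import Cfsg.Agent.Lib.Helper8.SpDecH

set_option autoImplicit false
open Cfsg

namespace Cfsg.Agent.S5961

open scoped MatrixGroups
open Cfsg.Agent.Lib.Helper8.SpDec

/-- Elements of odd prime order of PSp_n(q) and imprimitive subgroups. Here `T = PSp_n(q)`, `n = 2d ≥ 4`, `(n, q) ≠ (4, 2)`, realised through the symplectic matrices over the field `F` with `q` elements and the standard alternating form; `n = a·t` with `a` even and `t ≥ 2`, and Ω is the (nonempty) set of orthogonal decompositions of `F^n` into `t` nondegenerate subspaces of dimension `a` (unordered; counted as ordered ones divided by `t!`), whose stabilizers are the imprimitive subgroups of type Sp_a(q) ≀ S_t (maximality is not assumed); an element of `T` of prime order `r` (a symplectic matrix `x` with `x^r` scalar, `x` not scalar) fixes a point of Ω when it permutes the summands of some such decomposition. Let `r ≠ p` be an odd prime dividing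 the number of such decompositions, let `i` be the multiplicative order of `q` modulo `r`, `c = i` if `i` is even and `c = 2i` if `i` is odd, and write `k = n mod c`, `ℓ = a mod c`. Then every element of `T` of order `r` stabilizes such a decomposition if and only if `c ≤ a` and `k = t·ℓ`. -/
theorem result {F : Type*} [Field F] [Fintype F] {p : ℕ} [Fact p.Prime] [CharP F p] {q : ℕ} (hq : Fintype.card F = q)
    (d : ℕ) (hd : 2 ≤ d) (hT : (d, q) ≠ (2, 2))
    (a t : ℕ) (hat : 2 * d = a * t) (ha : 2 ≤ a) (hae : Even a) (ht : 2 ≤ t)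
    (r : ℕ) [Fact r.Prime] (hr2 : r ≠ 2) (hrp : r ≠ p) (hΩ : r ∣ Nat.card {D : Fin t → Submodule F (Fin d ⊕ Fin d → F) // (Cfsg.Geo.IsMDecomposition a D ∧ (∀ j, ∀ u ∈ D j, u ≠ 0 → ∃ v ∈ D j, Cfsg.sympForm d F u v ≠ 0) ∧
          (∀ j j', j ≠ j' → ∀ u ∈ D j, ∀ v ∈ D j', Cfsg.sympForm d F u v = 0))} / Nat.factorial t)
    (i c : ℕ) (hi : i = orderOf (q : ZMod r)) (hc : c = if Even i then i else 2 * i) :
    (∀ x : ↥(Matrix.symplecticGroup (Fin d) F),
      (∃ z : F, ((x ^ r : ↥(Matrix.symplecticGroup (Fin d) F)) : Matrix (Fin d ⊕ Fin d) (Fin d ⊕ Fin d) F) = z • (1 : Matrix (Fin d ⊕ Fin d) (Fin d ⊕ Fin d) F)) →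
      (∀ z : F, (x : Matrix (Fin d ⊕ Fin d) (Fin d ⊕ Fin d) F) ≠ z • (1 : Matrix (Fin d ⊕ Fin d) (Fin d ⊕ Fin d) F)) →
      ∃ D : Fin t → Submodule F (Fin d ⊕ Fin d → F), (Cfsg.Geo.IsMDecomposition a D ∧ (∀ j, ∀ u ∈ D j, u ≠ 0 → ∃ v ∈ D j, Cfsg.sympForm d F u v ≠ 0) ∧
          (∀ j j', j ≠ j' → ∀ u ∈ D j, ∀ v ∈ D j', Cfsg.sympForm d F u v = 0)) ∧
        ∃ σ : Equiv.Perm (Fin t), ∀ j, (D j).map (Matrix.toLin' (x : Matrix (Fin d ⊕ Fin d) (Fin d ⊕ Fin d) F)) = D (σ j)) ↔
    (c ≤ a ∧ (2 * d) % c = t * (a % c)) := by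
  classical
  have hr : r.Prime := Fact.out
  obtain ⟨a', ha'e⟩ : ∃ a', a = 2 * a' := by
    obtain ⟨k, hk⟩ := hae
    exact ⟨k, by omega⟩
  subst ha'e
  have ha' : 0 < a' := by omega
  have hd' : d = a' * t := by
    have : 2 * d = 2 * (a' * t) := by rw [hat]; ring
    omega
  have hd0 : 0 < d := by omega
  subst hi
  -- `c ≤ 2d`
  have hcd : c ≤ 2 * d := by
    apply c_le_of_dvd_card_sp p hq d hr hrp c hc
    have h1 := factorial_dvd_card_orthDec (F := F) (d := d) (t := t) (2 * a')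
    have h2 := card_orthDec_dvd (F := F) hd' ht ha'
    exact (hΩ.trans (Nat.div_dvd_of_dvd h1)).trans h2
  constructor
  · intro H
    exact cond_of_forall_orthDec p hq d (2 * a') t hat ha ht r hr2 hrp c hc hcd H
  · rintro ⟨hca, hmod⟩ x ⟨z, hz⟩ hx
    have hz2 : z ^ 2 = 1 := sq_eq_one_of_scalar hd0 (x ^ r) z hz
    have hz0 : z ≠ 0 := by
      rintro rfl
      simp at hz2
    set y : ↥(Matrix.symplecticGroup (Fin d) F) := x ^ (r + 1) with hy
    have hyM : (y : Matrix (Fin d ⊕ Fin d) (Fin d ⊕ Fin d) F) =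
        z • (x : Matrix (Fin d ⊕ Fin d) (Fin d ⊕ Fin d) F) := by
      rw [hy, pow_succ]
      change ((x ^ r : ↥(Matrix.symplecticGroup (Fin d) F)) :
        Matrix (Fin d ⊕ Fin d) (Fin d ⊕ Fin d) F) *
          (x : Matrix (Fin d ⊕ Fin d) (Fin d ⊕ Fin d) F) = _
      rw [hz, Matrix.smul_mul, Matrix.one_mul]
    have hyr : y ^ r = 1 := by
      rw [hy, ← pow_mul, mul_comm, pow_mul]
      apply Subtype.ext
      change ((x ^ r : ↥(Matrix.symplecticGroup (Fin d) F)) :
        Matrix (Fin d ⊕ Fin d) (Fin d ⊕ Fin d) F) ^ (r + 1) = 1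
      rw [hz, smul_pow, one_pow]
      obtain ⟨k, hk⟩ := hr.odd_of_ne_two hr2
      have : r + 1 = 2 * (k + 1) := by omega
      rw [this, pow_mul, hz2, one_pow, one_smul]
    obtain ⟨D, hD, hDy⟩ := exists_orthDec_of_cond p hq d a' t hd' ha' ht r hr2 hrp c hc hca hmod
      y hyr
    refine ⟨D, hD, 1, fun j => ?_⟩
    rw [Equiv.Perm.one_apply]
    conv_rhs => rw [← hDy j]
    rw [hyM, map_smul]
    exact (Submodule.map_smul _ (D j) z hz0).symm

end Cfsg.Agent.S5961
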