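import Mathlib
import Cfsg.Statements.S5963
import Cfsg.Agent.Lib.Helper8.PolarA
import Cfsg.Agent.Lib.Helper8.PolarE
import Cfsg.Agent.Lib.Helper8.SpFixA

set_option autoImplicit false
open Cfsg

namespace Cfsg.Agent.S5963

open scoped MatrixGroups
open Cfsg.Agent.Lib.Helper8.Polar Cfsg.Agent.Lib.Helper8.SpFix Cfsg.Agent.Lib.Helper8.SpSS Cfsg.Agent.Lib.Helper5.Symp

/-- Derangements of odd prime order of PSp_n(q), q odd, on pairs of complementary totally isotropic subspaces. Here `T = PSp_n(q)`, `n = 2d ≥ 4`, `q` odd, realised through the symplectic matrices over the field `F` with `q` elements; Ω is the set of unordered pairs `{U, W}` of complementary totally isotropic `d`-spaces (`F^n = U ⊕ W`), whose stabilizers are the subgroups of type GL_d(q).2 (maximal except in some small cases; maximality is not assumed); an element of `T` of prime order `r` (a symplectic matrix `x` with `x^r` scalar, `x` not scalar) fixes such a pair when it fixes or interchanges `U` and `W`.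 For every odd prime `r ≠ p` dividing the number of such pairs, some element of `T` of order `r` fixes no such pair (the action is never `r`-elusive for odd `r ≠ p`). -/
theorem result {F : Type*} [Field F] [Fintype F] {p : ℕ} [Fact p.Prime] [CharP F p] {q : ℕ} (hq : Fintype.card F = q)
    (d : ℕ) (hd : 2 ≤ d) (hT : (d, q) ≠ (2, 2)) (hodd : Odd q)
    (r : ℕ) [Fact r.Prime] (hr2 : r ≠ 2) (hrp : r ≠ p) (hΩ : r ∣ Nat.card {P : Submodule F (Fin d ⊕ Fin d → F) × Submodule F (Fin d ⊕ Fin d → F) // IsCompl P.1 P.2 ∧ (∀ u ∈ P.1, ∀ v ∈ P.1, Cfsg.sympForm d F u v = 0) ∧ (∀ u ∈ P.2, ∀ v ∈ P.2, Cfsg.sympForm d F u v = 0)} / 2) :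
    ∃ x : ↥(Matrix.symplecticGroup (Fin d) F),
      (∃ z : F, ((x ^ r : ↥(Matrix.symplecticGroup (Fin d) F)) : Matrix (Fin d ⊕ Fin d) (Fin d ⊕ Fin d) F) = z • (1 : Matrix (Fin d ⊕ Fin d) (Fin d ⊕ Fin d) F)) ∧
      (∀ z : F, (x : Matrix (Fin d ⊕ Fin d) (Fin d ⊕ Fin d) F) ≠ z • (1 : Matrix (Fin d ⊕ Fin d) (Fin d ⊕ Fin d) F)) ∧
      ¬ (∃ U W : Submodule F (Fin d ⊕ Fin d → F), IsCompl U W ∧ (∀ u ∈ U, ∀ v ∈ U, Cfsg.sympForm d F u v = 0) ∧ (∀ u ∈ W, ∀ v ∈ W, Cfsg.sympForm d F u v = 0) ∧
        ((U.map (Matrix.toLin' (x : Matrix (Fin d ⊕ Fin d) (Fin d ⊕ Fin d) F)) = U ∧ W.map (Matrix.toLin' (x : Matrix (Fin d ⊕ Fin d) (Fin d ⊕ Fin d) F)) = W) ∨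
         (U.map (Matrix.toLin' (x : Matrix (Fin d ⊕ Fin d) (Fin d ⊕ Fin d) F)) = W ∧ W.map (Matrix.toLin' (x : Matrix (Fin d ⊕ Fin d) (Fin d ⊕ Fin d) F)) = U))) := by
  classical
  have hr : r.Prime := Fact.out
  have hd0 : 0 < d := by omega
  have h2N := even_card_polar (F := F) hq hd0 hodd
  have hN : r ∣ Nat.card (PolarSet F d) := hΩ.trans (Nat.div_dvd_of_dvd h2N)
  obtain ⟨j, hj1, hjd, hrj⟩ := exists_dvd_pow_add_one p hq hd0 hr hrp hN
  obtain ⟨heven, hle, hpos⟩ := even_orderOf_of_dvd (q := q) hr2 hj1 hrj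
  obtain ⟨x, hxr, hfix⟩ := exists_sp_test p hq hr2 hrp d (orderOf (q : ZMod r))
    (orderOf (q : ZMod r)) rfl (by rw [if_pos heven]) 1 one_pos (by omega)
  rw [mul_one] at hfix
  set M : Matrix (Fin d ⊕ Fin d) (Fin d ⊕ Fin d) F :=
    (x : Matrix (Fin d ⊕ Fin d) (Fin d ⊕ Fin d) F) with hM
  have hMr : M ^ r = 1 := by
    have := congrArg Subtype.val hxr
    exact this
  have hAr : (Matrix.toLin' M) ^ r = 1 := by
    rw [← Matrix.toLin'_pow, hMr, Matrix.toLin'_one]
    rfl
  have hsep : ∀ u, (∀ y, stdForm F d u y = 0) → u = 0 := by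
    intro u hu
    by_contra hu0
    obtain ⟨y, hy⟩ := exists_sympForm_ne_zero d hu0
    apply hy
    rw [← stdForm_apply]
    exact hu y
  have hinv : ∀ u v, stdForm F d (Matrix.toLin' M u) (Matrix.toLin' M v) = stdForm F d u v := by
    intro u v
    rw [stdForm_apply, stdForm_apply, Matrix.toLin'_apply, Matrix.toLin'_apply]
    exact sympForm_of_mem d x.2 u v
  have hfinV : Module.finrank F (Fin d ⊕ Fin d → F) = 2 * d := by
    rw [Module.finrank_fintype_fun_eq_card, Fintype.card_sum, Fintype.card_fin]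
    ring
  have hfix' : Module.finrank F (LinearMap.ker (Polynomial.aeval (Matrix.toLin' M)
      (Polynomial.X - Polynomial.C (1 : F)))) + orderOf (q : ZMod r) =
      Module.finrank F (Fin d ⊕ Fin d → F) := by
    rw [hfinV, hfix]
    omega
  have hcore : ∀ U W : Submodule F (Fin d ⊕ Fin d → F), IsCompl U W →
      (∀ u ∈ U, ∀ v ∈ U, Cfsg.sympForm d F u v = 0) →
      (∀ u ∈ W, ∀ v ∈ W, Cfsg.sympForm d F u v = 0) →
      U ∈ Module.End.invtSubmodule (Matrix.toLin' M) →
      W ∈ Module.End.invtSubmodule (Matrix.toLin' M) → False := by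
    intro U W hc hU hW hUi hWi
    exact no_invt_pair p hq hr hrp hpos (stdForm F d) hsep (Matrix.toLin' M) hinv hAr hfix' U W hc
      hUi hWi (fun u hu v hv => by rw [stdForm_apply]; exact hU u hu v hv)
      (fun u hu v hv => by rw [stdForm_apply]; exact hW u hu v hv)
  refine ⟨x, ⟨1, ?_⟩, ?_, ?_⟩
  · rw [hxr, one_smul]
    rfl
  · intro z hz
    have hL : Matrix.toLin' M = z • (1 : Module.End F (Fin d ⊕ Fin d → F)) := by
      rw [hM, hz, map_smul, Matrix.toLin'_one]
      rfl
    have hall : ∀ U : Submodule F (Fin d ⊕ Fin d → F),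
        U ∈ Module.End.invtSubmodule (Matrix.toLin' M) := by
      intro U v hv
      rw [Submodule.mem_comap, hL, LinearMap.smul_apply, Module.End.one_apply]
      exact U.smul_mem z hv
    exact hcore (lagR F d) (lagL F d) isCompl_lag lagR_ti lagL_ti (hall _) (hall _)
  · rintro ⟨U, W, hc, hU, hW, ⟨hUx, hWx⟩ | ⟨hUx, hWx⟩⟩
    · refine hcore U W hc hU hW ?_ ?_
      · rw [Module.End.mem_invtSubmodule, ← Submodule.map_le_iff_le_comap, hUx]
      · rw [Module.End.mem_invtSubmodule, ← Submodule.map_le_iff_le_comap, hWx]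
    · -- the square fixes both
      have hUW : ∀ v ∈ U, Matrix.toLin' M v ∈ W := by
        intro v hv
        rw [← hUx]
        exact Submodule.mem_map_of_mem hv
      have hWU : ∀ v ∈ W, Matrix.toLin' M v ∈ U := by
        intro v hv
        rw [← hWx]
        exact Submodule.mem_map_of_mem hv
      have hrodd : Odd r := hr.odd_of_ne_two hr2
      have hAr2 : ((Matrix.toLin' M) ^ 2) ^ r = 1 := by
        rw [← pow_mul, mul_comm, pow_mul, hAr, one_pow]
      have hinv2 : ∀ u v, stdForm F d (((Matrix.toLin' M) ^ 2) u) (((Matrix.toLin' M) ^ 2) v) =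
          stdForm F d u v := by
        intro u v
        rw [pow_two, Module.End.mul_apply, Module.End.mul_apply, hinv, hinv]
      have hfix2 : Module.finrank F (LinearMap.ker (Polynomial.aeval ((Matrix.toLin' M) ^ 2)
          (Polynomial.X - Polynomial.C (1 : F)))) + orderOf (q : ZMod r) =
          Module.finrank F (Fin d ⊕ Fin d → F) := by
        rw [ker_sq_sub_one (Matrix.toLin' M) hrodd hAr]
        exact hfix'
      refine no_invt_pair p hq hr hrp hpos (stdForm F d) hsep ((Matrix.toLin' M) ^ 2) hinv2 hAr2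
        hfix2 U W hc ?_ ?_ (fun u hu v hv => by rw [stdForm_apply]; exact hU u hu v hv)
        (fun u hu v hv => by rw [stdForm_apply]; exact hW u hu v hv)
      · intro v hv
        rw [Submodule.mem_comap, pow_two, Module.End.mul_apply]
        exact hWU _ (hUW v hv)
      · intro v hv
        rw [Submodule.mem_comap, pow_two, Module.End.mul_apply]
        exact hUW _ (hWU v hv)

end Cfsg.Agent.S5963
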