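import Mathlib
import Cfsg.Statements.S5964
import Cfsg.Agent.Lib.Helper8.SubfInvA
import Cfsg.Agent.Lib.Helper8.SubfInvB
import Cfsg.Agent.Lib.Helper8.SubfInvC
import Cfsg.Agent.Lib.Helper8.SubfInvD
import Cfsg.Agent.Lib.Helper8.SubfInvE
import Cfsg.Agent.Lib.Helper8.SubfInvF

set_option autoImplicit false
open Cfsg

namespace Cfsg.Agent.S5964

open scoped MatrixGroups
open Cfsg.Agent.Lib.Helper8.SubfInv

/-- Involutions of PSL_n(q) and subfield subgroups. Here `T = PSL_n(F)` for a field `F` with `q = p^f` elements (`n ≥ 2`, `(n, q) ≠ (2, 2), (2, 3)`), `F₀` is the subfield with `q₀` elements where `q = q₀^k` for a prime `k`, and `H` is the subgroup of matrices of determinant 1 lying in the subfield group of `F₀` (invertible matrices over `F₀` times scalars) — a maximal subgroup of type GL_n(q₀) (the case `n = 2`, `q₀ = 2` is excluded); Ω is the set of `T`-conjugates of `H` (cosets of `H`), so an element of `T` of prime order `r` (a matrix `x` of determinant 1 with `x^r` scalar, `x` not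 scalar) fixes a point of Ω when some conjugate of `x` by a matrix of determinant 1 lies in `H`. Suppose the index of `H` is even. Then every involution of `T` is conjugate in `T` into `H` if and only if either `q` is even, or `k = 2` and `(n)_2 ≤ (q − 1)_2`. (For `q` odd and `k` odd the index of `H` is odd, so that case does not arise.) -/
theorem result {F : Type*} [Field F] [Fintype F] {p : ℕ} [Fact p.Prime] [CharP F p] {q : ℕ} (hq : Fintype.card F = q)
    (n : ℕ) (hn : 2 ≤ n) (hT : (n, q) ≠ (2, 2) ∧ (n, q) ≠ (2, 3))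
    (F₀ : Subfield F) (k q₀ : ℕ) (hk : k.Prime) (hF₀ : Nat.card ↥F₀ = q₀) (hqk : q = q₀ ^ k) (hC5 : ¬ (n = 2 ∧ q₀ = 2)) (hΩ : 2 ∣ ((Cfsg.Geo.subfieldSubgroup F₀ 1).comap (Matrix.SpecialLinearGroup.toGL : Matrix.SpecialLinearGroup (Fin n) F →* GL (Fin n) F)).index) :
    (∀ x : Matrix.SpecialLinearGroup (Fin n) F,
      (∃ z : F, ((x ^ 2 : Matrix.SpecialLinearGroup (Fin n) F) : Matrix (Fin n) (Fin n) F) = z • (1 : Matrix (Fin n) (Fin n) F)) →
      (∀ z : F, (x : Matrix (Fin n) (Fin n) F) ≠ z • (1 : Matrix (Fin n) (Fin n) F)) →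
      ∃ P : Matrix.SpecialLinearGroup (Fin n) F, P⁻¹ * x * P ∈ ((Cfsg.Geo.subfieldSubgroup F₀ 1).comap (Matrix.SpecialLinearGroup.toGL : Matrix.SpecialLinearGroup (Fin n) F →* GL (Fin n) F))) ↔
    (Odd q → (k = 2 ∧ padicValNat 2 n ≤ padicValNat 2 (q - 1))) := by
  classical
  constructor
  · intro hall hodd
    have hk2 : k = 2 := by
      by_contra hne
      have hkodd : Odd k := hk.odd_of_ne_two hne
      exact odd_index F₀ q q₀ k hq hF₀ hqk hodd hkodd (by omega) hΩ
    refine ⟨hk2, ?_⟩
    by_contra hcon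
    push Not at hcon
    subst hk2
    obtain ⟨x, hx2, hxns, hxP⟩ := exists_witness F₀ q q₀ hq hF₀ hqk hodd n (by omega) hcon
    obtain ⟨P, hP⟩ := hall x hx2 hxns
    exact hxP P hP
  · intro hcond x hx2 hns
    obtain ⟨z, hz⟩ := hx2
    set X := (x : Matrix (Fin n) (Fin n) F) with hX
    have hXX : X * X = z • (1 : Matrix (Fin n) (Fin n) F) := by
      rw [← hz, Matrix.SpecialLinearGroup.coe_pow, pow_two]
    have hXdet : X.det = 1 := x.2
    have hz0 : z ≠ 0 := by
      intro h0
      have hne : Nonempty (Fin n) := ⟨⟨0, by omega⟩⟩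
      have := congrArg Matrix.det hXX
      rw [Matrix.det_mul, hXdet, h0, zero_smul, Matrix.det_zero] at this
      rw [mul_one] at this
      exact (one_ne_zero : (1 : F) ≠ 0) this
    have hsq : ∃ s : F, s ^ 2 = z := by
      by_cases h2 : (2 : F) = 0
      · have : CharP F 2 := CharTwo.of_one_ne_zero_of_two_eq_zero one_ne_zero h2
        obtain ⟨r, hr⟩ := FiniteField.isSquare_of_char_two (ringChar.eq F 2) z
        exact ⟨r, by rw [hr, pow_two]⟩
      · have hodd : Odd q := by
          rw [← hq]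
          exact Nat.odd_iff.2 (FiniteField.odd_card_of_char_ne_two (ringChar_ne_two h2))
        obtain ⟨hk2, hv⟩ := hcond hodd
        by_contra hno
        push Not at hno
        obtain ⟨m, hm, hdet⟩ := det_of_no_sqrt_matrix X z hno hXX
        rw [hXdet] at hdet
        have hq₀odd : Odd q₀ := by
          rw [hqk, hk2] at hodd
          exact (Nat.odd_pow_iff (by norm_num)).1 hodd
        have h4 : 4 ∣ q - 1 := by
          obtain ⟨u, hu⟩ := hq₀odd
          refine ⟨u * (u + 1), ?_⟩
          have : q = 4 * (u * (u + 1)) + 1 := by rw [hqk, hk2, hu]; ring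
          omega
        obtain ⟨s, hs⟩ := exists_sq_of_pow q hq h2 h4 z hz0 m (by omega) (by rw [← hm]; exact hv)
          hdet.symm
        exact hno s hs
    obtain ⟨s, hs⟩ := hsq
    have hs0 : s ≠ 0 := by
      intro h0
      rw [h0] at hs
      exact hz0 (by rw [← hs]; ring)
    obtain ⟨P₀, Q₀, A, hPQ, hQP, hconj, hA⟩ := exists_conj_signed X s hs0 (by rw [hs]; exact hXX)
    obtain ⟨P, hP⟩ := exists_sl_of_gl x z hz0 hXX hns P₀ Q₀ hPQ
    refine ⟨P, mem_comap_of_eq_smul F₀ _ s hs0 A ?_ (hP.trans hconj)⟩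
    intro i j
    rcases hA i j with h | h | h
    · rw [h]; exact F₀.zero_mem
    · rw [h]; exact F₀.one_mem
    · rw [h]; exact F₀.neg_mem F₀.one_mem

end Cfsg.Agent.S5964
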