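import Cfsg.Statements.S5966
import Mathlib
import Cfsg.Agent.Lib.Helper4.SubfB
import Cfsg.Agent.Lib.Helper4.ChainMatrix

set_option autoImplicit false
open Cfsg

namespace Cfsg.Agent.S5966

open Cfsg.Agent.Lib.Helper4.Subf

section Field

variable {F : Type*} [Field F] [Fintype F] [CharP F 3]

theorem cube_inj {c c' : F} (h : c ^ 3 = c' ^ 3) : c = c' := by
  haveI : Fact (Nat.Prime 3) := ⟨Nat.prime_three⟩
  have h1 : (c - c') ^ 3 = 0 := by
    rw [sub_pow_char, h, sub_self]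
  exact sub_eq_zero.1 (pow_eq_zero_iff (by norm_num) |>.1 h1)

theorem cube_surj (z : F) : ∃ c : F, c ^ 3 = z :=
  Finite.surjective_of_injective (f := fun c : F => c ^ 3) (fun _ _ h => cube_inj h) z

theorem mem_of_cube_mem (F₀ : Subfield F) {c : F} (h : c ^ 3 ∈ F₀) : c ∈ F₀ := by
  rw [mem_subfield_iff_pow F₀ _ rfl] at h ⊢
  apply cube_inj
  rw [← pow_mul, mul_comm, pow_mul, h]

theorem ringChar_ne_two : ringChar F ≠ 2 := by
  rw [ringChar.eq F 3]; norm_num

theorem odd_card : Fintype.card F % 2 = 1 :=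
  FiniteField.odd_card_of_char_ne_two ringChar_ne_two

variable (F₀ : Subfield F) {k q₀ : ℕ} (hF₀ : Nat.card ↥F₀ = q₀) (hqk : Fintype.card F = q₀ ^ k)

include hF₀ hqk

theorem q₀_odd (hk : k ≠ 0) : q₀ % 2 = 1 := by
  have h1 : Fintype.card F % 2 = 1 := odd_card
  rw [hqk] at h1
  rcases Nat.even_or_odd q₀ with h | h
  · have : Even (q₀ ^ k) := (Nat.even_pow.2 ⟨h, hk⟩)
    rw [Nat.even_iff] at this
    omega
  · exact Nat.odd_iff.1 h

theorem pow_pred_eq_one {β : F} (hβ : β ∈ F₀) (hβ0 : β ≠ 0) : β ^ (q₀ - 1) = 1 := by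
  have h1 := (mem_subfield_iff_pow F₀ q₀ hF₀ β).1 hβ
  have hq : 1 ≤ q₀ := by rw [← hF₀]; exact Nat.card_pos
  have h2 : β ^ (q₀ - 1) * β = 1 * β := by
    rw [← pow_succ, Nat.sub_add_cancel hq, h1, one_mul]
  exact mul_right_cancel₀ hβ0 h2

theorem isSquare_of_mem (hk : k = 2) {β : F} (hβ : β ∈ F₀) : IsSquare β := by
  by_cases hβ0 : β = 0
  · rw [hβ0]; exact IsSquare.zero
  rw [FiniteField.isSquare_iff ringChar_ne_two hβ0, hqk, hk]
  have hodd := q₀_odd F₀ hF₀ hqk (by omega : k ≠ 0)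
  obtain ⟨t, ht⟩ : ∃ t, q₀ = 2 * t + 1 := ⟨q₀ / 2, by omega⟩
  have h1 : q₀ ^ 2 / 2 = (q₀ - 1) * (t + 1) := by
    rw [ht]
    have : (2 * t + 1) ^ 2 = 2 * ((2 * t + 1 - 1) * (t + 1)) + 1 := by
      have : 2 * t + 1 - 1 = 2 * t := by omega
      rw [this]; ring
    omega
  rw [h1, pow_mul, pow_pred_eq_one F₀ hF₀ hqk hβ hβ0, one_pow]

theorem exists_nonsquare_mem (hk : Odd k) : ∃ β : F, β ∈ F₀ ∧ β ≠ 0 ∧ ¬ IsSquare β := by
  classical
  have hk0 : k ≠ 0 := by rintro rfl; simp at hk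
  have hodd := q₀_odd F₀ hF₀ hqk hk0
  obtain ⟨ζ, hζ⟩ := IsCyclic.exists_generator (α := Fˣ)
  have hord : orderOf ζ = Fintype.card F - 1 := by
    rw [orderOf_eq_card_of_forall_mem_zpowers hζ, Nat.card_eq_fintype_card, Fintype.card_units]
  set s := ∑ i ∈ Finset.range k, q₀ ^ i with hs
  have hs1 : s * (q₀ - 1) + 1 = q₀ ^ k := by
    have := geom_sum_mul_add (q₀ - 1) k
    rwa [Nat.sub_add_cancel (by omega : 1 ≤ q₀)] at this
  have hsodd : s % 2 = 1 := by
    rw [hs, Finset.sum_nat_mod]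
    have : ∀ i ∈ Finset.range k, q₀ ^ i % 2 = 1 := by
      intro i _
      simp [Nat.pow_mod, hodd]
    rw [Finset.sum_congr rfl this]
    simp only [Finset.sum_const, Finset.card_range, smul_eq_mul, mul_one]
    exact Nat.odd_iff.1 hk
  have hq1 : Fintype.card F - 1 = s * (q₀ - 1) := by rw [hqk, ← hs1]; omega
  refine ⟨((ζ ^ s : Fˣ) : F), ?_, Units.ne_zero _, ?_⟩
  · rw [mem_subfield_iff_pow F₀ q₀ hF₀]
    have h1 : ((ζ ^ s : Fˣ) : F) ^ (q₀ - 1) = 1 := by
      rw [← Units.val_pow_eq_pow_val, ← pow_mul, ← hq1, ← hord, pow_orderOf_eq_one, Units.val_one]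
    have hq : q₀ = (q₀ - 1) + 1 := by omega
    rw [hq, pow_succ, h1, one_mul]
  · rw [FiniteField.isSquare_iff ringChar_ne_two (Units.ne_zero _), ← Units.val_pow_eq_pow_val,
      ← pow_mul, Units.val_eq_one, ← orderOf_dvd_iff_pow_eq_one, hord]
    intro hdvd
    have hcard : Fintype.card F % 2 = 1 := odd_card
    have h2 : Fintype.card F - 1 = 2 * (Fintype.card F / 2) := by omega
    rw [h2] at hdvd
    have hpos : 0 < Fintype.card F / 2 := by
      have := Fintype.one_lt_card (α := F)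
      omega
    rw [mul_comm 2, mul_comm s, Nat.mul_dvd_mul_iff_left hpos] at hdvd
    omega

theorem exists_sq_mul_mem (hk : Odd k) (δ : F) (hδ : δ ≠ 0) :
    ∃ a β : F, β ∈ F₀ ∧ a ^ 2 * β = δ := by
  by_cases hsq : IsSquare δ
  · obtain ⟨r, hr⟩ := hsq
    exact ⟨r, 1, F₀.one_mem, by rw [mul_one, sq, hr]⟩
  · obtain ⟨β, hβ, hβ0, hβsq⟩ := exists_nonsquare_mem F₀ hF₀ hqk hk
    have h1 : δ ^ (Fintype.card F / 2) = -1 := by
      rcases FiniteField.pow_dichotomy ringChar_ne_two hδ with h | h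
      · exact absurd ((FiniteField.isSquare_iff ringChar_ne_two hδ).2 h) hsq
      · exact h
    have h2 : β ^ (Fintype.card F / 2) = -1 := by
      rcases FiniteField.pow_dichotomy ringChar_ne_two hβ0 with h | h
      · exact absurd ((FiniteField.isSquare_iff ringChar_ne_two hβ0).2 h) hβsq
      · exact h
    have h3 : IsSquare (δ / β) := by
      rw [FiniteField.isSquare_iff ringChar_ne_two (div_ne_zero hδ hβ0), div_pow, h1, h2]
      norm_num
    obtain ⟨r, hr⟩ := h3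
    refine ⟨r, β, hβ, ?_⟩
    rw [sq, ← hr, div_mul_cancel₀ _ hβ0]

end Field

open Cfsg.Agent.Lib.Helper4.Subf Cfsg.Agent.Lib.Helper4.Orth Cfsg.Agent.Lib.Helper4.Chain Matrix

section Back

variable {F : Type*} [Field F] [Fintype F] [CharP F 3]

/-- a matrix with cube the identity is `1 + A` with `A ^ 3 = 0` -/
theorem sub_one_cube {n : ℕ} (hn : 0 < n) (Y : Matrix (Fin n) (Fin n) F) (hY : Y ^ 3 = 1) :
    (Y - 1) ^ 3 = 0 := by
  haveI : Fact (Nat.Prime 3) := ⟨Nat.prime_three⟩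
  haveI : Nonempty (Fin n) := ⟨⟨0, hn⟩⟩
  rw [sub_pow_char_of_commute 3 (Commute.one_right Y), hY, one_pow, sub_self]

theorem backward (n : ℕ) (hn : 2 ≤ n) (F₀ : Subfield F) (k q₀ : ℕ) (hk : k.Prime)
    (hF₀ : Nat.card ↥F₀ = q₀) (hqk : Fintype.card F = q₀ ^ k)
    (hcond : Odd n ∨ (Even n ∧ 2 < k))
    (x : Matrix.SpecialLinearGroup (Fin n) F)
    (hx3 : ∃ z : F, ((x ^ 3 : Matrix.SpecialLinearGroup (Fin n) F) :
      Matrix (Fin n) (Fin n) F) = z • (1 : Matrix (Fin n) (Fin n) F)) :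
    ∃ P : Matrix.SpecialLinearGroup (Fin n) F, P⁻¹ * x * P ∈
      ((Cfsg.Geo.subfieldSubgroup F₀ 1).comap
        (Matrix.SpecialLinearGroup.toGL : Matrix.SpecialLinearGroup (Fin n) F →* GL (Fin n) F)) := by
  classical
  obtain ⟨z, hz⟩ := hx3
  obtain ⟨c, hc⟩ := cube_surj z
  rw [Matrix.SpecialLinearGroup.coe_pow] at hz
  set X : Matrix (Fin n) (Fin n) F := (x : Matrix (Fin n) (Fin n) F) with hX
  have hc0 : c ≠ 0 := by
    rintro rfl
    rw [zero_pow (by norm_num)] at hc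
    have h1 : (X ^ 3).det = 1 := by rw [Matrix.det_pow, hX, Matrix.SpecialLinearGroup.det_coe, one_pow]
    haveI : Nonempty (Fin n) := ⟨⟨0, by omega⟩⟩
    rw [hz, ← hc, zero_smul, Matrix.det_zero] at h1
    exact zero_ne_one h1
  set Y : Matrix (Fin n) (Fin n) F := c⁻¹ • X with hY
  have hY3 : Y ^ 3 = 1 := by
    rw [hY, smul_pow, hz, smul_smul, ← hc, inv_pow, inv_mul_cancel₀ (pow_ne_zero 3 hc0), one_smul]
  have hA3 := sub_one_cube (by omega : 0 < n) Y hY3
  set A : Matrix (Fin n) (Fin n) F := Y - 1 with hA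
  have hXA : X = c • (1 + A) := by
    rw [hA, add_sub_cancel, hY, smul_smul, mul_inv_cancel₀ hc0, one_smul]
  have h2 : Even n → ∀ δ : F, δ ≠ 0 → ∃ a β : F, β ∈ F₀ ∧ a ^ 2 * β = δ := by
    intro hev δ hδ
    rcases hcond with hodd | ⟨-, hk2⟩
    · exact absurd hev (Nat.not_even_iff_odd.2 hodd)
    · exact exists_sq_mul_mem F₀ hF₀ hqk (hk.odd_of_ne_two (by omega)) δ hδ
  obtain ⟨Pm, hdet, hent⟩ := exists_det_one_conj F₀ (by omega : 0 < n) A hA3 cube_surj h2
  let P : Matrix.SpecialLinearGroup (Fin n) F := ⟨Pm, hdet⟩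
  refine ⟨P, ?_⟩
  rw [Subgroup.mem_comap]
  have hPinv : Pm⁻¹ * Pm = 1 := Matrix.nonsing_inv_mul _ (by rw [hdet]; exact isUnit_one)
  have hval : ((Matrix.SpecialLinearGroup.toGL (P⁻¹ * x * P) : GL (Fin n) F) :
      Matrix (Fin n) (Fin n) F) = c • (1 + Pm⁻¹ * A * Pm) := by
    rw [Matrix.SpecialLinearGroup.coe_GL_coe_matrix, Matrix.SpecialLinearGroup.coe_mul,
      Matrix.SpecialLinearGroup.coe_mul, Matrix.SpecialLinearGroup.coe_inv]
    have h3 : Pm⁻¹ = Pm.adjugate := by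
      rw [Matrix.inv_def, hdet, Ring.inverse_one, one_smul]
    show Pm.adjugate * X * Pm = _
    rw [← h3, hXA, Matrix.mul_smul, Matrix.smul_mul, Matrix.mul_add, Matrix.add_mul,
      Matrix.mul_one, hPinv]
  refine mem_subfield_of_smul F₀ 1 _ c hc0 ?_
  intro a ha
  refine ⟨(1 + Pm⁻¹ * A * Pm) *ᵥ a, isRat_mulVec F₀ ?_ ha, ?_⟩
  · intro i j
    rw [Matrix.add_apply]
    refine F₀.add_mem ?_ (hent i j)
    rw [Matrix.one_apply]
    split_ifs
    · exact F₀.one_mem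
    · exact F₀.zero_mem
  · rw [hval, Units.val_one, Matrix.one_mulVec, Matrix.one_mulVec, Matrix.smul_mulVec]

end Back

open Matrix Module

section SumWorld

variable {F : Type*} [Field F]

/-- determinant of a matrix over a subfield lies in the subfield -/
theorem det_mem_subfield (F₀ : Subfield F) {κ : Type*} [Fintype κ] [DecidableEq κ]
    (M : Matrix κ κ F) (h : ∀ i j, M i j ∈ F₀) : M.det ∈ F₀ := by
  rw [Matrix.det_apply']
  refine F₀.sum_mem fun σ _ => F₀.mul_mem (intCast_mem F₀ _) (F₀.prod_mem fun i _ => h _ _)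

/-- from a surjective `m × κ` matrix one can extract `m` columns forming an invertible matrix -/
theorem exists_cols {m : ℕ} {κ : Type} [Fintype κ] [DecidableEq κ] (R : Matrix (Fin m) κ F)
    (hsurj : ∀ y : Fin m → F, ∃ z : κ → F, R *ᵥ z = y) :
    ∃ s : Fin m → κ, (R.submatrix id s).det ≠ 0 := by
  classical
  let col : κ → (Fin m → F) := fun j i => R i j
  obtain ⟨κ', a, -, hspan, hli⟩ := exists_linearIndependent' F col
  have htop : Submodule.span F (Set.range col) = ⊤ := by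
    rw [eq_top_iff]
    intro y _
    obtain ⟨z, rfl⟩ := hsurj y
    have : R *ᵥ z = ∑ j, z j • col j := by
      funext i
      simp only [Matrix.mulVec, dotProduct, Finset.sum_apply, Pi.smul_apply, smul_eq_mul, col]
      exact Finset.sum_congr rfl fun j _ => mul_comm _ _
    rw [this]
    exact Submodule.sum_mem _ fun j _ => Submodule.smul_mem _ _ (Submodule.subset_span ⟨j, rfl⟩)
  let bκ : Basis κ' F (Fin m → F) := Basis.mk hli (by rw [hspan, htop])
  haveI : Fintype κ' := FiniteDimensional.fintypeBasisIndex bκ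
  have hcard : Fintype.card κ' = m := by
    rw [← Module.finrank_eq_card_basis bκ, Module.finrank_fin_fun]
  let e : κ' ≃ Fin m := Fintype.equivFinOfCardEq hcard
  refine ⟨a ∘ e.symm, ?_⟩
  have h1 := (Pi.basisFun F (Fin m)).isUnit_det (bκ.reindex e)
  rw [Basis.det_apply] at h1
  have h2 : (Pi.basisFun F (Fin m)).toMatrix (bκ.reindex e) = R.submatrix id (a ∘ e.symm) := by
    ext i j
    rw [Basis.toMatrix_apply, Pi.basisFun_repr, Basis.reindex_apply, Basis.mk_apply]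
    rfl
  rw [h2] at h1
  exact h1.ne_zero

/-- the lower unitriangular representative -/
def D₁ (m : ℕ) (δ : F) : Matrix (Fin m) (Fin m) F :=
  Matrix.diagonal fun i => if i.val = 0 then δ else 1

theorem det_D₁ {m : ℕ} (hm : 0 < m) (δ : F) : (D₁ m δ).det = δ := by
  rw [D₁, Matrix.det_diagonal, Finset.prod_eq_single (⟨0, hm⟩ : Fin m)]
  · simp
  · intro i _ hi
    rw [if_neg]
    intro h0
    exact hi (Fin.ext h0)
  · intro h; exact absurd (Finset.mem_univ _) h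

/-- the nilpotent part of the representative -/
def Nb (m : ℕ) (δ : F) : Matrix (Fin m ⊕ Fin m) (Fin m ⊕ Fin m) F :=
  Matrix.fromBlocks 0 0 (D₁ m δ) 0

/-- the representative -/
def xb (m : ℕ) (δ : F) : Matrix (Fin m ⊕ Fin m) (Fin m ⊕ Fin m) F :=
  Matrix.fromBlocks 1 0 (D₁ m δ) 1

theorem xb_eq (m : ℕ) (δ : F) : xb m δ = 1 + Nb m δ := by
  rw [xb, Nb, ← Matrix.fromBlocks_one, Matrix.fromBlocks_add]
  simp

theorem Nb_sq (m : ℕ) (δ : F) : Nb m δ * Nb m δ = 0 := by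
  rw [Nb, Matrix.fromBlocks_multiply]
  simp

theorem det_xb (m : ℕ) (δ : F) : (xb m δ).det = 1 := by
  rw [xb, Matrix.det_fromBlocks_zero₁₂, Matrix.det_one, one_mul]

theorem sum_world (F₀ : Subfield F) (hsq : ∀ β ∈ F₀, IsSquare β) {m : ℕ} (hm : 0 < m) (δ : F)
    (hδ : ¬ IsSquare δ) (P' g' : Matrix (Fin m ⊕ Fin m) (Fin m ⊕ Fin m) F)
    (hP₀ : P'.det ∈ F₀) (hP : P'.det ≠ 0) (hg : ∀ i j, g' i j ∈ F₀)
    (hconj : xb m δ * P' = P' * g') : False := by
  classical
  have hδ0 : δ ≠ 0 := by rintro rfl; exact hδ IsSquare.zero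
  set Ng : Matrix (Fin m ⊕ Fin m) (Fin m ⊕ Fin m) F := g' - 1 with hNg
  have hNg₀ : ∀ i j, Ng i j ∈ F₀ := by
    intro i j
    rw [hNg, Matrix.sub_apply, Matrix.one_apply]
    refine F₀.sub_mem (hg i j) ?_
    split_ifs
    · exact F₀.one_mem
    · exact F₀.zero_mem
  have hNP : Nb m δ * P' = P' * Ng := by
    rw [hNg, Matrix.mul_sub, Matrix.mul_one, ← hconj, xb_eq, Matrix.add_mul, Matrix.one_mul,
      add_sub_cancel_left]
  -- choose the columns
  let R : Matrix (Fin m) (Fin m ⊕ Fin m) F := P'.toRows₁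
  have hPu : IsUnit P'.det := isUnit_iff_ne_zero.2 hP
  have hsurj : ∀ y : Fin m → F, ∃ z : Fin m ⊕ Fin m → F, R *ᵥ z = y := by
    intro y
    refine ⟨P'⁻¹ *ᵥ (Sum.elim y 0), ?_⟩
    have h1 : P' *ᵥ (P'⁻¹ *ᵥ (Sum.elim y 0)) = Sum.elim y 0 := by
      rw [Matrix.mulVec_mulVec, Matrix.mul_nonsing_inv _ hPu, Matrix.one_mulVec]
    funext i
    have h2 := congrFun h1 (Sum.inl i)
    rw [Sum.elim_inl] at h2
    rw [← h2]
    rfl
  obtain ⟨s, hs⟩ := exists_cols R hsurj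
  let V₀ : Matrix (Fin m ⊕ Fin m) (Fin m) F := Matrix.of fun a j => if a = s j then 1 else 0
  have hV₀ : ∀ a j, V₀ a j ∈ F₀ := by
    intro a j
    show (if a = s j then (1 : F) else 0) ∈ F₀
    split_ifs
    · exact F₀.one_mem
    · exact F₀.zero_mem
  set V' : Matrix (Fin m ⊕ Fin m) (Fin m) F := P' * V₀ with hV'
  have hV'app : ∀ i j, V' i j = P' i (s j) := by
    intro i j
    rw [hV', Matrix.mul_apply]
    simp only [V₀, Matrix.of_apply, mul_ite, mul_one, mul_zero, Finset.sum_ite_eq',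
      Finset.mem_univ, if_true]
  set A : Matrix (Fin m) (Fin m) F := V'.toRows₁ with hA
  set B : Matrix (Fin m) (Fin m) F := V'.toRows₂ with hB
  have hAdet : A.det ≠ 0 := by
    have : A = R.submatrix id s := by
      ext i j
      rw [hA, Matrix.toRows₁_apply, hV'app]
      rfl
    rw [this]; exact hs
  have hV'rows : V' = Matrix.fromRows A B := (Matrix.fromRows_toRows V').symm
  -- the two computations of `W`
  have hW1 : Matrix.fromCols V' (Nb m δ * V') = Matrix.fromBlocks A 0 B (D₁ m δ * A) := by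
    have h1 : Nb m δ * V' = Matrix.fromRows 0 (D₁ m δ * A) := by
      rw [hV'rows, Nb, Matrix.fromBlocks_mul_fromRows]
      simp
    rw [h1]
    nth_rewrite 1 [hV'rows]
    rw [Matrix.fromCols_fromRows_eq_fromBlocks]
  have hW2 : Matrix.fromCols V' (Nb m δ * V') = P' * Matrix.fromCols V₀ (Ng * V₀) := by
    rw [Matrix.mul_fromCols, ← Matrix.mul_assoc P' Ng, ← hNP, Matrix.mul_assoc]
  have hdet1 : (Matrix.fromCols V' (Nb m δ * V')).det = δ * A.det ^ 2 := by
    rw [hW1, Matrix.det_fromBlocks_zero₁₂, Matrix.det_mul, det_D₁ hm]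
    ring
  have hdet2 : (Matrix.fromCols V' (Nb m δ * V')).det ∈ F₀ := by
    rw [hW2, Matrix.det_mul]
    refine F₀.mul_mem hP₀ (det_mem_subfield F₀ _ ?_)
    rintro i (j | j)
    · rw [Matrix.fromCols_apply_inl]; exact hV₀ i j
    · rw [Matrix.fromCols_apply_inr, Matrix.mul_apply]
      exact F₀.sum_mem fun a _ => F₀.mul_mem (hNg₀ i a) (hV₀ a j)
  obtain ⟨r, hr⟩ := hsq _ hdet2
  rw [hdet1] at hr
  apply hδ
  refine ⟨r / A.det, ?_⟩
  field_simp
  linear_combination hr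

end SumWorld

open Cfsg.Agent.Lib.Helper4.Subf Cfsg.Agent.Lib.Helper4.Orth Matrix

section Forward

variable {F : Type*} [Field F] [Fintype F] [CharP F 3]

theorem xb_cube (m : ℕ) (hm : 0 < m) (δ : F) : xb m δ ^ 3 = 1 := by
  haveI : Fact (Nat.Prime 3) := ⟨Nat.prime_three⟩
  haveI : Nonempty (Fin m ⊕ Fin m) := ⟨Sum.inl ⟨0, hm⟩⟩
  rw [xb_eq, add_pow_char_of_commute 3 (Commute.one_left _), one_pow, pow_succ, pow_two, Nb_sq,
    Matrix.zero_mul, add_zero]

theorem mul_rat (F₀ : Subfield F) {κ : Type*} [Fintype κ] (M M' : Matrix κ κ F)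
    (h : ∀ i j, M i j ∈ F₀) (h' : ∀ i j, M' i j ∈ F₀) : ∀ i j, (M * M') i j ∈ F₀ := by
  intro i j
  rw [Matrix.mul_apply]
  exact F₀.sum_mem fun a _ => F₀.mul_mem (h i a) (h' a j)

theorem forward (n : ℕ) (hn : 2 ≤ n) (F₀ : Subfield F) (q₀ : ℕ)
    (hF₀ : Nat.card ↥F₀ = q₀) (hqk : Fintype.card F = q₀ ^ 2) (hev : Even n)
    (H : ∀ x : Matrix.SpecialLinearGroup (Fin n) F,
      (∃ z : F, ((x ^ 3 : Matrix.SpecialLinearGroup (Fin n) F) : Matrix (Fin n) (Fin n) F) =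
        z • (1 : Matrix (Fin n) (Fin n) F)) →
      (∀ z : F, (x : Matrix (Fin n) (Fin n) F) ≠ z • (1 : Matrix (Fin n) (Fin n) F)) →
      ∃ P : Matrix.SpecialLinearGroup (Fin n) F, P⁻¹ * x * P ∈
        ((Cfsg.Geo.subfieldSubgroup F₀ 1).comap
          (Matrix.SpecialLinearGroup.toGL :
            Matrix.SpecialLinearGroup (Fin n) F →* GL (Fin n) F))) : False := by
  classical
  obtain ⟨m, rfl⟩ := hev
  have hm : 0 < m := by omega
  obtain ⟨δ, hδ⟩ := FiniteField.exists_nonsquare (F := F) ringChar_ne_two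
  have hδ0 : δ ≠ 0 := by rintro rfl; exact hδ IsSquare.zero
  let φ : Matrix (Fin m ⊕ Fin m) (Fin m ⊕ Fin m) F ≃ₐ[F] Matrix (Fin (m + m)) (Fin (m + m)) F :=
    Matrix.reindexAlgEquiv F F (finSumFinEquiv : Fin m ⊕ Fin m ≃ Fin (m + m))
  have hφapp : ∀ (M : Matrix (Fin m ⊕ Fin m) (Fin m ⊕ Fin m) F) i j,
      φ M (finSumFinEquiv i) (finSumFinEquiv j) = M i j := by
    intro M i j
    simp [φ, Matrix.reindexAlgEquiv_apply, Matrix.reindex_apply]
  have hφsymm : ∀ (M : Matrix (Fin (m + m)) (Fin (m + m)) F) i j,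
      φ.symm M i j = M (finSumFinEquiv i) (finSumFinEquiv j) := by
    intro M i j
    rw [← hφapp (φ.symm M) i j, AlgEquiv.apply_symm_apply]
  have hφdet : ∀ M : Matrix (Fin m ⊕ Fin m) (Fin m ⊕ Fin m) F, (φ M).det = M.det := by
    intro M
    exact Matrix.det_reindexAlgEquiv F F _ M
  let xm : Matrix (Fin (m + m)) (Fin (m + m)) F := φ (xb m δ)
  have hxdet : xm.det = 1 := by rw [hφdet, det_xb]
  let x : Matrix.SpecialLinearGroup (Fin (m + m)) F := ⟨xm, hxdet⟩
  have hxm3 : xm ^ 3 = 1 := by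
    show φ (xb m δ) ^ 3 = 1
    rw [← map_pow, xb_cube m hm, map_one]
  have hx3 : x ^ 3 = 1 := by
    apply Subtype.ext
    rw [Matrix.SpecialLinearGroup.coe_pow]
    exact hxm3
  have hx1 : ∃ z : F, ((x ^ 3 : Matrix.SpecialLinearGroup (Fin (m + m)) F) :
      Matrix (Fin (m + m)) (Fin (m + m)) F) = z • (1 : Matrix (Fin (m + m)) (Fin (m + m)) F) := by
    refine ⟨1, ?_⟩
    rw [hx3, one_smul]
    rfl
  have hx2 : ∀ z : F, (x : Matrix (Fin (m + m)) (Fin (m + m)) F) ≠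
      z • (1 : Matrix (Fin (m + m)) (Fin (m + m)) F) := by
    intro z hz
    have h1 := congrFun (congrFun hz (finSumFinEquiv (Sum.inr ⟨0, hm⟩)))
      (finSumFinEquiv (Sum.inl ⟨0, hm⟩))
    have h2 : (x : Matrix (Fin (m + m)) (Fin (m + m)) F) (finSumFinEquiv (Sum.inr ⟨0, hm⟩))
        (finSumFinEquiv (Sum.inl ⟨0, hm⟩)) = δ := by
      show φ (xb m δ) _ _ = δ
      rw [hφapp, xb, Matrix.fromBlocks_apply₂₁, D₁, Matrix.diagonal_apply_eq, if_pos rfl]
    rw [h2, Matrix.smul_apply, Matrix.one_apply_ne (finSumFinEquiv.injective.ne Sum.inr_ne_inl), smul_zero] at h1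
    exact hδ0 h1
  obtain ⟨P, hP⟩ := H x hx1 hx2
  rw [Subgroup.mem_comap] at hP
  obtain ⟨c, hc0, hc⟩ := mem_subfield_elim F₀ 1 _ hP
  set g : Matrix.SpecialLinearGroup (Fin (m + m)) F := P⁻¹ * x * P with hg
  set G : Matrix (Fin (m + m)) (Fin (m + m)) F := (g : Matrix (Fin (m + m)) (Fin (m + m)) F) with hG
  have hg3 : g ^ 3 = 1 := by
    have h1 : g = P⁻¹ * x * P⁻¹⁻¹ := by rw [inv_inv]
    rw [h1, conj_pow, hx3, mul_one, mul_inv_cancel]
  have hG3 : G ^ 3 = 1 := by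
    rw [hG, ← Matrix.SpecialLinearGroup.coe_pow, hg3]
    rfl
  -- `c⁻¹ • G` is rational
  have hRm : ∀ i j, (c⁻¹ • G) i j ∈ F₀ := by
    intro i j
    obtain ⟨b, hb, hgb⟩ := hc (Pi.single j 1) (IsRat.single j F₀.one_mem)
    rw [Units.val_one, Matrix.one_mulVec, Matrix.one_mulVec,
      Matrix.SpecialLinearGroup.coe_GL_coe_matrix] at hgb
    have h1 : G *ᵥ (Pi.single j 1) = c • b := hgb
    have h2 : (c⁻¹ • G) i j = b i := by
      have h3 := congrFun h1 i
      rw [Matrix.mulVec_single_one] at h3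
      rw [Matrix.smul_apply, smul_eq_mul]
      have h4 : G i j = c * b i := h3
      rw [h4, ← mul_assoc, inv_mul_cancel₀ hc0, one_mul]
    rw [h2]
    exact hb i
  have hcube : (c⁻¹ • G) ^ 3 = (c⁻¹) ^ 3 • (1 : Matrix (Fin (m + m)) (Fin (m + m)) F) := by
    rw [smul_pow, hG3]
  have hc₀ : c ∈ F₀ := by
    have h1 : ∀ i j, ((c⁻¹ • G) ^ 3) i j ∈ F₀ := by
      rw [pow_succ, pow_two]
      exact mul_rat F₀ _ _ (mul_rat F₀ _ _ hRm hRm) hRm
    have h2 := h1 ⟨0, by omega⟩ ⟨0, by omega⟩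
    rw [hcube, Matrix.smul_apply, Matrix.one_apply_eq, smul_eq_mul, mul_one] at h2
    have h3 := mem_of_cube_mem F₀ h2
    have h4 := F₀.inv_mem h3
    rwa [inv_inv] at h4
  have hGrat : ∀ i j, G i j ∈ F₀ := by
    intro i j
    have h1 : G i j = c * (c⁻¹ • G) i j := by
      rw [Matrix.smul_apply, smul_eq_mul, ← mul_assoc, mul_inv_cancel₀ hc0, one_mul]
    rw [h1]
    exact F₀.mul_mem hc₀ (hRm i j)
  -- transport to the sum world
  have hPg : (x : Matrix (Fin (m + m)) (Fin (m + m)) F) * (P : Matrix (Fin (m + m)) (Fin (m + m)) F)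
      = (P : Matrix (Fin (m + m)) (Fin (m + m)) F) * G := by
    rw [hG, ← Matrix.SpecialLinearGroup.coe_mul, ← Matrix.SpecialLinearGroup.coe_mul, hg]
    rw [mul_assoc P⁻¹, mul_inv_cancel_left]
  have hconj : xb m δ * φ.symm (P : Matrix (Fin (m + m)) (Fin (m + m)) F) =
      φ.symm (P : Matrix (Fin (m + m)) (Fin (m + m)) F) * φ.symm G := by
    have h1 : φ.symm (x : Matrix (Fin (m + m)) (Fin (m + m)) F) = xb m δ :=
      φ.symm_apply_apply _
    rw [← h1, ← map_mul, ← map_mul, hPg]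
  have hdetP : (φ.symm (P : Matrix (Fin (m + m)) (Fin (m + m)) F)).det = 1 := by
    rw [← hφdet, AlgEquiv.apply_symm_apply, Matrix.SpecialLinearGroup.det_coe]
  refine sum_world F₀ (fun β hβ => isSquare_of_mem F₀ hF₀ hqk rfl hβ) hm δ hδ
    (φ.symm (P : Matrix (Fin (m + m)) (Fin (m + m)) F)) (φ.symm G) ?_ ?_ ?_ hconj
  · rw [hdetP]; exact F₀.one_mem
  · rw [hdetP]; exact one_ne_zero
  · intro i j
    rw [hφsymm]
    exact hGrat _ _

end Forward

/-- Elements of order 3 of PSL_n(q) in characteristic 3 and subfield subgroups. Here `T = PSL_n(F)` for a field `F` with `q` elements, `q` a power of 3 (`n ≥ 2`, `(n, q) ≠ (2, 2), (2, 3)`), `F₀` is the subfield with `q₀` elements where `q = q₀^k` for a prime `k`, and `H` is the subgroup of matrices of determinant 1 lying in the subfield group of `F₀` (invertible matrices over `F₀` times scalars) — a maximal subgroup of type GL_n(q₀) (the case `n = 2`, `q₀ = 2` is excluded); Ω is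 the set of `T`-conjugates of `H` (cosets of `H`), so an element of `T` of prime order `r` (a matrix `x` of determinant 1 with `x^r` scalar, `x` not scalar) fixes a point of Ω when some conjugate of `x` by a matrix of determinant 1 lies in `H`. Suppose 3 divides the index of `H`. Then every element of `T` of order 3 is conjugate in `T` into `H` if and only if `n` is odd, or `n` is even and `k > 2`. -/
theorem result {F : Type*} [Field F] [Fintype F] [CharP F 3] {q : ℕ} (hq : Fintype.card F = q)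
    (n : ℕ) (hn : 2 ≤ n) (hT : (n, q) ≠ (2, 3))
    (F₀ : Subfield F) (k q₀ : ℕ) (hk : k.Prime) (hF₀ : Nat.card ↥F₀ = q₀) (hqk : q = q₀ ^ k) (hC5 : ¬ (n = 2 ∧ q₀ = 2)) (hΩ : 3 ∣ ((Cfsg.Geo.subfieldSubgroup F₀ 1).comap (Matrix.SpecialLinearGroup.toGL : Matrix.SpecialLinearGroup (Fin n) F →* GL (Fin n) F)).index) :
    (∀ x : Matrix.SpecialLinearGroup (Fin n) F,
      (∃ z : F, ((x ^ 3 : Matrix.SpecialLinearGroup (Fin n) F) : Matrix (Fin n) (Fin n) F) = z • (1 : Matrix (Fin n) (Fin n) F)) →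
      (∀ z : F, (x : Matrix (Fin n) (Fin n) F) ≠ z • (1 : Matrix (Fin n) (Fin n) F)) →
      ∃ P : Matrix.SpecialLinearGroup (Fin n) F, P⁻¹ * x * P ∈ ((Cfsg.Geo.subfieldSubgroup F₀ 1).comap (Matrix.SpecialLinearGroup.toGL : Matrix.SpecialLinearGroup (Fin n) F →* GL (Fin n) F))) ↔
    (Odd n ∨ (Even n ∧ 2 < k)) := by
  subst hq
  constructor
  · intro H
    by_contra hcon
    rw [not_or, Nat.not_odd_iff_even, not_and] at hcon
    obtain ⟨hev, hk2⟩ := hcon
    have hk2' : k = 2 := by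
      have := hk.two_le
      have := hk2 hev
      omega
    subst hk2'
    exact forward n hn F₀ q₀ hF₀ hqk hev H
  · intro hcond x hx3 _
    exact backward n hn F₀ k q₀ hk hF₀ hqk hcond x hx3

end Cfsg.Agent.S5966
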