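import Mathlib
import Cfsg.Statements.S5967
import Cfsg.Agent.Lib.Helper8.GSpFormM
import Cfsg.Agent.Lib.Helper8.GSpFormN

set_option autoImplicit false
open Cfsg

namespace Cfsg.Agent.S5967

open scoped MatrixGroups
open Cfsg.Agent.Lib.Helper8.GSpForm

/-- Involutions of PSL_n(q) and the symplectic-type subgroups. Here `T = PSL_n(F)` for a field `F` with `q` elements, `n ≥ 4` even, `f` is a nondegenerate alternating form on `F^n`, and `H` is the subgroup of matrices of determinant 1 preserving `f` up to a scalar — a maximal subgroup of type Sp_n(q); Ω is the set of `T`-conjugates of `H` (cosets of `H`), so an element of `T` of prime order `r` (a matrix `x` of determinant 1 with `x^r` scalar, `x` not scalar) fixes a point of Ω when some conjugate of `x` by a matrix of determinant 1 preserves `f` up to a scalar. Suppose the index of `H` is even. Then every involution of `T` is conjugate in `T` into `H` if and only if `(q − 1)_2 ≤ (n)_2`. -/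
theorem result {F : Type*} [Field F] [Fintype F] {p : ℕ} [Fact p.Prime] [CharP F p] {q : ℕ} (hq : Fintype.card F = q)
    (n : ℕ) (hn : 4 ≤ n) (he : Even n) (f : (Fin n → F) → (Fin n → F) → F) (hf : Cfsg.Geo.IsSymplecticForm f)
    (hΩ : 2 ∣ ((Cfsg.Geo.similarityGroup f).comap (Matrix.SpecialLinearGroup.toGL : Matrix.SpecialLinearGroup (Fin n) F →* GL (Fin n) F)).index) :
    (∀ x : Matrix.SpecialLinearGroup (Fin n) F,
      (∃ z : F, ((x ^ 2 : Matrix.SpecialLinearGroup (Fin n) F) : Matrix (Fin n) (Fin n) F) = z • (1 : Matrix (Fin n) (Fin n) F)) →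
      (∀ z : F, (x : Matrix (Fin n) (Fin n) F) ≠ z • (1 : Matrix (Fin n) (Fin n) F)) →
      ∃ P : Matrix.SpecialLinearGroup (Fin n) F, P⁻¹ * x * P ∈ ((Cfsg.Geo.similarityGroup f).comap (Matrix.SpecialLinearGroup.toGL : Matrix.SpecialLinearGroup (Fin n) F →* GL (Fin n) F))) ↔
    padicValNat 2 (q - 1) ≤ padicValNat 2 n := by
  classical
  constructor
  · intro hall
    by_contra hcon
    push Not at hcon
    obtain ⟨h2, s, hs⟩ := exists_pow_eq_neg_one (F := F) q hq n (by omega) hcon
    obtain ⟨k, rfl⟩ : ∃ k, n = k + 1 := ⟨n - 1, by omega⟩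
    have hk : Odd k := by
      obtain ⟨m, hm⟩ := he
      exact ⟨m - 1, by omega⟩
    obtain ⟨x, hx2, hxns, hxP⟩ := exists_inv_witness hf hk (by omega) h2 s hs
    obtain ⟨P, hP⟩ := hall x hx2 hxns
    exact hxP P hP
  · intro hv x hx2 hns
    obtain ⟨z, hz⟩ := hx2
    exact conj_of_le hf (by omega) he q hq hv x z hz hns

end Cfsg.Agent.S5967
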