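import Mathlib
import Cfsg.Statements.S5968
import Cfsg.Agent.Lib.Helper8.GSpFormC
import Cfsg.Agent.Lib.Helper8.GSpFormF
import Cfsg.Agent.Lib.Helper8.GSpFormG

set_option autoImplicit false
open Cfsg

namespace Cfsg.Agent.S5968

open scoped MatrixGroups
open Cfsg.Agent.Lib.Helper8.GSpForm

/-- Derangements of odd prime order of PSL_n(q) on the cosets of a symplectic-type subgroup. Here `T = PSL_n(F)` for a field `F` with `q` elements, `n ≥ 4` even, `f` is a nondegenerate alternating form on `F^n`, and `H` is the subgroup of matrices of determinant 1 preserving `f` up to a scalar — a maximal subgroup of type Sp_n(q); Ω is the set of `T`-conjugates of `H` (cosets of `H`), so an element of `T` of prime order `r` (a matrix `x` of determinant 1 with `x^r` scalar, `x` not scalar) fixes a point of Ω when some conjugate of `x` by a matrix of determinant 1 preserves `f` up to a scalar. For every odd prime `r` dividing the index of `H`, with `(n, r) ≠ (6, 3)`, there is an element of `T` of order `r` with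 no conjugate in `H`. (For `n = 6`, `r = 3` this can fail: when `(q − 1)_3 = 3` every element of order 3 is conjugate into `H`.) -/
theorem result {F : Type*} [Field F] [Fintype F] {p : ℕ} [Fact p.Prime] [CharP F p] {q : ℕ} (hq : Fintype.card F = q)
    (n : ℕ) (hn : 4 ≤ n) (he : Even n) (f : (Fin n → F) → (Fin n → F) → F) (hf : Cfsg.Geo.IsSymplecticForm f)
    (r : ℕ) [Fact r.Prime] (hr2 : r ≠ 2) (hgap : ¬ (n = 6 ∧ r = 3)) (hΩ : r ∣ ((Cfsg.Geo.similarityGroup f).comap (Matrix.SpecialLinearGroup.toGL : Matrix.SpecialLinearGroup (Fin n) F →* GL (Fin n) F)).index) :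
    ∃ x : Matrix.SpecialLinearGroup (Fin n) F,
      (∃ z : F, ((x ^ r : Matrix.SpecialLinearGroup (Fin n) F) : Matrix (Fin n) (Fin n) F) = z • (1 : Matrix (Fin n) (Fin n) F)) ∧
      (∀ z : F, (x : Matrix (Fin n) (Fin n) F) ≠ z • (1 : Matrix (Fin n) (Fin n) F)) ∧
      ∀ P : Matrix.SpecialLinearGroup (Fin n) F, P⁻¹ * x * P ∉ ((Cfsg.Geo.similarityGroup f).comap (Matrix.SpecialLinearGroup.toGL : Matrix.SpecialLinearGroup (Fin n) F →* GL (Fin n) F)) := by
  classical
  have hr : r.Prime := Fact.out
  have hp : p.Prime := Fact.out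
  obtain ⟨m, hm⟩ := he
  have hn2 : n = 2 * m := by omega
  obtain ⟨fd, -, hcard⟩ := FiniteField.card F p
  rcases dvd_of_dvd_index hf m hn2 (by omega) hq hr hΩ with h | ⟨i, hi, h⟩
  · -- `r = p`: the unipotent witness
    rw [← hq, hcard] at h
    have hrp : r = p := (Nat.prime_dvd_prime_iff_eq hr hp).1 (hr.dvd_of_dvd_pow h)
    subst hrp
    exact exists_unipotent hf (by omega) r hr2
  · -- `r ∣ q ^ (2 i + 1) - 1`
    rw [← hq] at h
    have hq1 : 1 ≤ Fintype.card F ^ (2 * i + 1) := Nat.one_le_pow _ _ Fintype.card_pos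
    have hrp : r ≠ p := by
      intro hrp
      have h1 : r ∣ Fintype.card F := by
        rw [hcard, hrp]
        exact dvd_pow_self p (by positivity)
      have h2 : r ∣ Fintype.card F ^ (2 * i + 1) := dvd_pow h1 (by omega)
      have h3 : r ∣ 1 := by
        have := Nat.dvd_sub h2 h
        rwa [Nat.sub_sub_self hq1] at this
      exact hr.one_lt.ne' (Nat.dvd_one.1 h3)
    have hx : (((Fintype.card F : ℕ) : ZMod r)) ^ (2 * i + 1) = 1 := by
      have h1 : ((Fintype.card F ^ (2 * i + 1) - 1 : ℕ) : ZMod r) = 0 :=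
        (ZMod.natCast_eq_zero_iff _ _).2 h
      rw [Nat.cast_sub hq1, Nat.cast_pow, Nat.cast_one] at h1
      exact sub_eq_zero.1 h1
    have hcdvd : orderOf (((Fintype.card F : ℕ) : ZMod r)) ∣ 2 * i + 1 :=
      orderOf_dvd_of_pow_eq_one hx
    have hodd : Odd (orderOf (((Fintype.card F : ℕ) : ZMod r))) :=
      Odd.of_dvd_nat ⟨i, rfl⟩ hcdvd
    have hcle : orderOf (((Fintype.card F : ℕ) : ZMod r)) ≤ 2 * i + 1 :=
      Nat.le_of_dvd (by omega) hcdvd
    have hcpos : 0 < orderOf (((Fintype.card F : ℕ) : ZMod r)) := hodd.pos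
    by_cases hc1 : orderOf (((Fintype.card F : ℕ) : ZMod r)) = 1
    · -- `r ∣ q - 1`: the diagonal witness
      have hx1 : (((Fintype.card F : ℕ) : ZMod r)) = 1 := orderOf_eq_one_iff.1 hc1
      have hdvd : r ∣ Nat.card Fˣ := by
        rw [Nat.card_units, Nat.card_eq_fintype_card]
        apply (ZMod.natCast_eq_zero_iff _ _).1
        rw [Nat.cast_sub Fintype.card_pos, hx1, Nat.cast_one, sub_self]
      obtain ⟨u, hu⟩ := exists_prime_orderOf_dvd_card' r hdvd
      have hζr : (u : F) ^ r = 1 := by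
        rw [← Units.val_pow_eq_pow_val, ← hu, pow_orderOf_eq_one, Units.val_one]
      have hζ1 : (u : F) ≠ 1 := by
        intro h1
        have : u = 1 := Units.ext h1
        rw [this, orderOf_one] at hu
        exact hr.one_lt.ne hu
      obtain ⟨k, rfl⟩ : ∃ k, n = k + 3 := ⟨n - 3, by omega⟩
      have hk : Odd k := ⟨m - 2, by omega⟩
      exact exists_diag hf hk r hr2 (fun hh => hgap ⟨by omega, hh.2⟩) (u : F) hζr hζ1
    · exact exists_semisimple hf p r hrp (by omega) hodd (by omega)

end Cfsg.Agent.S5968
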