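import Mathlib
import Cfsg.Statements.S5983
import Cfsg.Agent.Lib.Helper8.SpOrthD
import Cfsg.Agent.Lib.Helper8.SpFixA
import Cfsg.Agent.S2593

set_option autoImplicit false
open Cfsg

namespace Cfsg.Agent.S5983

open scoped MatrixGroups
open Matrix Cfsg.Agent.Lib.Helper8.OrbQ Cfsg.Agent.S0245 Cfsg.Agent.Lib.Helper5.Symp
  Cfsg.Agent.Lib.Helper8.SpOrth

/-- Elements of prime order of PSp_n(q), q even, and the subgroups of orthogonal type. Here `T = Sp_{2d}(F)` for a field `F` of characteristic 2 with `q` elements (`d ≥ 2`, `(d, q) ≠ (2, 2)`), realised as the invertible matrices preserving the standard alternating form; `Q` is a non-degenerate quadratic form on `F^{2d}` whose polar form is that alternating form, and `H` is the subgroup of `T` preserving `Q` up to a scalar (equivalently preserving `Q`) — a subgroup of type O^±_{2d}(q) (maximality is not assumed); `Q` is of plus type when `F^{2d}` contains a `d`-dimensional subspace on which `Q` vanishes, of minus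 type otherwise. Ω is the set of cosets of `H` in `T`, so an element of `T` of prime order `r` (`x ∈ T` with `x^r` scalar, `x` not scalar) fixes a point of Ω exactly when some `T`-conjugate of `x` preserves `Q`. Let `r` be a prime dividing the index of `H`. Then every element of `T` of order `r` fixes a point of Ω if and only if `r = 2` and either `Q` is of plus type or `d` is odd. -/
theorem result {F : Type*} [Field F] [Fintype F] {p : ℕ} [Fact p.Prime] [CharP F p] {q : ℕ} (hq : Fintype.card F = q)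
    (hp : p = 2) (d : ℕ) (hd : 2 ≤ d) (hT : (d, q) ≠ (2, 2)) (Q : (Fin d ⊕ Fin d → F) → F) (hQ : Cfsg.Geo.IsNondegenerateQuadraticForm Q)
    (hQf : ∀ u v, QuadraticMap.polar Q u v = Cfsg.sympForm d F u v)
    (r : ℕ) [Fact r.Prime]
    (hΩ : r ∣ (Cfsg.Geo.quadSimilarityGroup Q).relIndex (Cfsg.spGL d F)) :
    (∀ x ∈ Cfsg.spGL d F, (∃ z : F, ((x ^ r : GL (Fin d ⊕ Fin d) F) : Matrix (Fin d ⊕ Fin d) (Fin d ⊕ Fin d) F) = z • (1 : Matrix (Fin d ⊕ Fin d) (Fin d ⊕ Fin d) F)) →
      (∀ z : F, (x : Matrix (Fin d ⊕ Fin d) (Fin d ⊕ Fin d) F) ≠ z • (1 : Matrix (Fin d ⊕ Fin d) (Fin d ⊕ Fin d) F)) →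
      ∃ g ∈ Cfsg.spGL d F, g⁻¹ * x * g ∈ Cfsg.Geo.quadSimilarityGroup Q) ↔
    (r = 2 ∧ (Cfsg.Geo.IsPlusTypeOn Q ⊤ ∨ Odd d)) := by
  subst hp
  have h := isQF_of Q hQ hQf
  have hd0 : 0 < d := by omega
  have h2F : (2 : F) = 0 := CharTwo.two_eq_zero
  constructor
  · intro hall
    have hr2 : r = 2 := by
      by_contra hr2
      have hrprime : r.Prime := Fact.out
      -- the character sum and the index
      have hcardV : Fintype.card (Fin d ⊕ Fin d → F) = q ^ d * q ^ d := by
        rw [Fintype.card_fun, Fintype.card_sum, Fintype.card_fin, hq, pow_add]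
      have hcardV' : (Fintype.card (Fin d ⊕ Fin d → F) : ℤ) = (q : ℤ) ^ (2 * d) := by
        rw [hcardV]
        push_cast
        ring
      obtain ⟨ε, hε, hSQ⟩ : ∃ ε : ℤ, (ε = 1 ∨ ε = -1) ∧ SQ Q = ε * (q : ℤ) ^ d := by
        rcases SQ_eq_or h (sympBilin_nondegenerate (F := F) d) hcardV with h1 | h1
        · exact ⟨1, Or.inl rfl, by rw [h1]; push_cast; ring⟩
        · exact ⟨-1, Or.inr rfl, by rw [h1]; push_cast; ring⟩
      have hR := two_mul_relIndex h hd0
      rw [hcardV', hSQ] at hR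
      have hrq : ¬ r ∣ q := by
        intro hrq
        obtain ⟨n, -, hn⟩ := FiniteField.card F 2
        rw [← hq, hn] at hrq
        have := (Nat.prime_dvd_prime_iff_eq hrprime Nat.prime_two).1
          (hrprime.dvd_of_dvd_pow hrq)
        exact hr2 this
      have hN := nt_core hrq _ ε hR hΩ
      have hq2d : (q : ZMod r) ^ (2 * d) = 1 := by
        rw [pow_mul', hN]
        rcases hε with h1 | h1 <;> rw [h1] <;> norm_num
      -- an element without fixed vectors
      obtain ⟨i, hi⟩ : ∃ i, i = orderOf (q : ZMod r) := ⟨_, rfl⟩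
      have hi_dvd : i ∣ 2 * d := by
        rw [hi]
        exact orderOf_dvd_of_pow_eq_one hq2d
      obtain ⟨c, hc⟩ : ∃ c, c = if Even i then i else 2 * i := ⟨_, rfl⟩
      have hc_dvd : c ∣ 2 * d := by
        by_cases hev : Even i
        · rw [hc, if_pos hev]
          exact hi_dvd
        · rw [hc, if_neg hev]
          have hodd : Odd i := Nat.not_even_iff_odd.1 hev
          have hcop : Nat.Coprime i 2 := Nat.Coprime.symm (Nat.coprime_two_left.2 hodd)
          exact Nat.mul_dvd_mul_left 2 (hcop.dvd_of_dvd_mul_left hi_dvd)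
      obtain ⟨k, hk⟩ := hc_dvd
      have hkpos : 0 < k := by
        rcases Nat.eq_zero_or_pos k with h0 | h0
        · rw [h0, mul_zero] at hk
          omega
        · exact h0
      obtain ⟨a, har, hker⟩ := Cfsg.Agent.Lib.Helper8.SpFix.exists_sp_test 2 hq hr2 hr2 d i c hi hc
        k hkpos (le_of_eq hk.symm)
      rw [hk, Nat.sub_self] at hker
      have hfix : ∀ v : Fin d ⊕ Fin d → F,
          (a : Matrix (Fin d ⊕ Fin d) (Fin d ⊕ Fin d) F) *ᵥ v = v → v = 0 := by
        intro v hv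
        have hmem : v ∈ LinearMap.ker (Polynomial.aeval (Matrix.toLin'
            (a : Matrix (Fin d ⊕ Fin d) (Fin d ⊕ Fin d) F))
            (Polynomial.X - Polynomial.C (1 : F))) := by
          rw [LinearMap.mem_ker, map_sub, Polynomial.aeval_X, Polynomial.aeval_C, map_one,
            LinearMap.sub_apply, Matrix.toLin'_apply, hv, Module.End.one_apply, sub_self]
        rw [Submodule.finrank_eq_zero.1 hker] at hmem
        exact (Submodule.mem_bot F).1 hmem
      obtain ⟨x, hx⟩ : ∃ x : ↥(Cfsg.spGL d F), x = Cfsg.Agent.S0270.toSp d a := ⟨_, rfl⟩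
      have hxmat : ((x : GL (Fin d ⊕ Fin d) F) : Matrix (Fin d ⊕ Fin d) (Fin d ⊕ Fin d) F) =
          (a : Matrix (Fin d ⊕ Fin d) (Fin d ⊕ Fin d) F) := by rw [hx]; rfl
      have hxr : (x : GL (Fin d ⊕ Fin d) F) ^ r = 1 := by
        rw [← Subgroup.coe_pow, hx, ← map_pow, har, map_one, Subgroup.coe_one]
      have hne : (Pi.single (Sum.inl ⟨0, hd0⟩) 1 : Fin d ⊕ Fin d → F) ≠ 0 := by
        intro h0
        have := congrFun h0 (Sum.inl ⟨0, hd0⟩)
        simp at this
      obtain ⟨g, hg, hmem⟩ := hall x.1 x.2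
        ⟨1, by rw [hxr, Units.val_one, one_smul]⟩
        (by
          intro z hz
          have hz1 := scalar_eq_one hd0 x.1 x.2 z hz
          rw [hz1, one_smul, hxmat] at hz
          apply hne
          apply hfix
          rw [hz, Matrix.one_mulVec])
      have h'' := isQF_Qg h g hg
      have hinv := Qg_inv h hd0 x.1 g x.2 hg hmem
      have hdvd := dvd_of_fpf (Q' := Qg Q g) r x.1 hxr (by rw [hxmat]; exact hfix) hinv
      have hcz := card_zero_mul h''
      rw [card_zeros_split h'', SQ_Qg, hSQ, hcardV', Nat.card_eq_fintype_card, hq] at hcz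
      push_cast at hcz
      obtain ⟨hq1, hεm⟩ := nt_count hr2 _ ε hε hN hcz hdvd
      -- the second element
      have hqpos : 1 ≤ q := by rw [← hq]; exact Fintype.card_pos
      have hrq1 : r ∣ q - 1 := by
        rw [← ZMod.natCast_eq_zero_iff, Nat.cast_sub hqpos, hq1]
        simp
      obtain ⟨l, hl⟩ := exists_prime_orderOf_dvd_card' (G := Fˣ) r
        (by rw [Nat.card_units, Nat.card_eq_fintype_card, hq]; exact hrq1)
      have hlr : (l : F) ^ r = 1 := by
        rw [← Units.val_pow_eq_pow_val, ← hl, pow_orderOf_eq_one, Units.val_one]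
      have hl2 : (l : F) ^ 2 ≠ 1 := by
        intro h1
        have h3 : l ^ 2 = 1 := Units.ext (by rw [Units.val_pow_eq_pow_val, h1, Units.val_one])
        have h4 := orderOf_dvd_of_pow_eq_one h3
        rw [hl] at h4
        exact hr2 ((Nat.prime_dvd_prime_iff_eq hrprime Nat.prime_two).1 h4)
      obtain ⟨a₂, ha₂⟩ : ∃ a₂ : ↥(Matrix.symplecticGroup (Fin d) F),
          (a₂ : Matrix (Fin d ⊕ Fin d) (Fin d ⊕ Fin d) F) = Dmat d (l : F) :=
        ⟨⟨Dmat d (l : F), Dmat_mem (l : F) l.ne_zero⟩, rfl⟩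
      have ha₂r : a₂ ^ r = 1 := by
        apply Subtype.ext
        rw [SubmonoidClass.coe_pow, ha₂, Dmat_pow, hlr, Dmat_one]
        rfl
      obtain ⟨x₂, hx₂⟩ : ∃ x₂ : ↥(Cfsg.spGL d F), x₂ = Cfsg.Agent.S0270.toSp d a₂ := ⟨_, rfl⟩
      have hx₂mat : ((x₂ : GL (Fin d ⊕ Fin d) F) : Matrix (Fin d ⊕ Fin d) (Fin d ⊕ Fin d) F) =
          Dmat d (l : F) := by rw [hx₂, ← ha₂]; rfl
      have hx₂r : (x₂ : GL (Fin d ⊕ Fin d) F) ^ r = 1 := by
        rw [← Subgroup.coe_pow, hx₂, ← map_pow, ha₂r, map_one, Subgroup.coe_one]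
      obtain ⟨g₂, hg₂, hmem₂⟩ := hall x₂.1 x₂.2
        ⟨1, by rw [hx₂r, Units.val_one, one_smul]⟩
        (by
          intro z hz
          rw [hx₂mat] at hz
          have h1 := congrFun (congrFun hz (Sum.inl ⟨0, hd0⟩)) (Sum.inl ⟨0, hd0⟩)
          have h3 := congrFun (congrFun hz (Sum.inr ⟨0, hd0⟩)) (Sum.inr ⟨0, hd0⟩)
          simp only [Dmat, Matrix.diagonal_apply_eq, Sum.elim_inl, Sum.elim_inr, Matrix.smul_apply,
            Matrix.one_apply_eq, smul_eq_mul, mul_one] at h1 h3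
          apply hl2
          rw [pow_two]
          nth_rewrite 2 [h1]
          rw [← h3]
          exact mul_inv_cancel₀ l.ne_zero)
      have h₂'' := isQF_Qg h g₂ hg₂
      have hinv₂ := Qg_inv h hd0 x₂.1 g₂ x₂.2 hg₂ hmem₂
      rw [hx₂mat] at hinv₂
      have hSQ₂ := SQ_of_Dmat_inv h₂'' (l : F) hl2 hinv₂
      rw [SQ_Qg, hSQ, hεm, hq] at hSQ₂
      have hpos : (0 : ℤ) < (q : ℤ) ^ d := by positivity
      linarith
    refine ⟨hr2, ?_⟩
    by_contra hcase
    push Not at hcase
    obtain ⟨hnp, hnodd⟩ := hcase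
    have hev : Even d := Nat.not_odd_iff_even.1 hnodd
    obtain ⟨a, ha⟩ : ∃ a : ↥(Matrix.symplecticGroup (Fin d) F),
        a = Cfsg.Agent.S2593.rep F (Cfsg.Agent.S2593.rv d d) d
          (Cfsg.Agent.S2593.rv_good le_rfl) := ⟨_, rfl⟩
    have hamat : (a : Matrix (Fin d ⊕ Fin d) (Fin d ⊕ Fin d) F) =
        Cfsg.Agent.S2593.Amat F (Cfsg.Agent.S2593.rv d d) d := by rw [ha]; rfl
    have halt : ∀ v, Cfsg.sympForm d F v
        ((a : Matrix (Fin d ⊕ Fin d) (Fin d ⊕ Fin d) F) *ᵥ v) = 0 := by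
      rw [ha]
      exact Cfsg.Agent.S2593.rep_rv_alt h2F le_rfl hev
    have hrank : ((a : Matrix (Fin d ⊕ Fin d) (Fin d ⊕ Fin d) F) - 1).rank = d := by
      rw [hamat]
      exact Cfsg.Agent.S2593.rank_Amat (Cfsg.Agent.S2593.rv_good le_rfl) le_rfl
    have haa : a * a = 1 := by
      apply Subtype.ext
      rw [Submonoid.coe_mul, hamat]
      exact Cfsg.Agent.S2593.Amat_sq h2F
    obtain ⟨x, hx⟩ : ∃ x : ↥(Cfsg.spGL d F), x = Cfsg.Agent.S0270.toSp d a := ⟨_, rfl⟩
    have hxmat : ((x : GL (Fin d ⊕ Fin d) F) : Matrix (Fin d ⊕ Fin d) (Fin d ⊕ Fin d) F) =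
        (a : Matrix (Fin d ⊕ Fin d) (Fin d ⊕ Fin d) F) := by rw [hx]; rfl
    have hxr : (x : GL (Fin d ⊕ Fin d) F) ^ r = 1 := by
      rw [hr2, ← Subgroup.coe_pow, hx, ← map_pow, pow_two, haa, map_one, Subgroup.coe_one]
    obtain ⟨g, hg, hmem⟩ := hall x.1 x.2
      ⟨1, by rw [hxr, Units.val_one, one_smul]⟩
      (by
        intro z hz
        have hz1 := scalar_eq_one hd0 x.1 x.2 z hz
        rw [hz1, one_smul, hxmat] at hz
        rw [hz, sub_self, Matrix.rank_zero] at hrank
        omega)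
    exact hnp (plus_of_alt_inv h hd0 x.1 g x.2 hg hmem (by rw [hxmat]; exact halt)
      (by rw [hxmat]; exact hrank))
  · rintro ⟨hr2, hcase⟩ x hx ⟨z, hz⟩ -
    subst hr2
    have hz1 : z = 1 := scalar_eq_one hd0 (x ^ 2) (Subgroup.pow_mem _ hx 2) z hz
    have hx2 : x * x = 1 := by
      apply Units.ext
      rw [← pow_two, hz, hz1, one_smul]
      rfl
    exact exists_conj_of_inv h hcase x hx hx2

end Cfsg.Agent.S5983
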