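import Mathlib
import Cfsg.Statements.S5985
import Cfsg.Agent.Lib.Helper8.NonsingPtB
import Cfsg.Agent.Lib.Helper5.Orth.ParityTwoMain
import Cfsg.Agent.Lib.Helper5.Orth.PlusMinusForm
import Cfsg.Agent.S2595

set_option autoImplicit false
open Cfsg

namespace Cfsg.Agent.S5985

open Module Cfsg.Agent.Lib.Helper8.NonsingPt Cfsg.Agent.Lib.Helper8.OrPrime Cfsg.Agent.Lib.Helper8.QType Cfsg.Agent.Lib.Helper5.OrthPar Cfsg.Agent.Lib.Helper5.OrthPM Cfsg.Agent.S2595 Cfsg.Agent.Lib.Helper8.SpInv

/-- Elements of prime order of Ω⁺_n(q), q even, with no fixed nonsingular 1-space. Here `T = PΩ⁺_n(F)`, `n = 2d ≥ 8`, realised through `Ω⁺_n(q)`, the commutator subgroup of the isometry group of `Q = Σ xᵢyᵢ` over the field `F` with `q` elements; an element of `T` of prime order `r` is an element `x` of `Ω⁺_n(q)` with `x^r` scalar and `x` not scalar; `q` is even (so the centre is trivial). Let Ω be the set of 1-dimensional subspaces spanned by a vector `v` with `Q(v) ≠ 0`, and let `r` be a prime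 dividing their number. Then every element of `T` of order `r` fixes some nonsingular 1-space if and only if `r = 2` and `n ≡ 2 (mod 4)` (that is, `d` is odd). -/
theorem result {F : Type*} [Field F] [Fintype F] {p : ℕ} [Fact p.Prime] [CharP F p] {q : ℕ} (hq : Fintype.card F = q)
    (hp : p = 2) (d : ℕ) (hd : 4 ≤ d) (r : ℕ) [Fact r.Prime]
    (hrΩ : r ∣ Nat.card {W : Submodule F (Fin d ⊕ Fin d → F) // Module.finrank F ↥W = 1 ∧ ∃ v ∈ W, Cfsg.quadFormPlus d F v ≠ 0}) :
    (∀ x : GL (Fin d ⊕ Fin d) F, x ∈ Cfsg.Geo.omegaGL (Cfsg.quadFormPlus d F) →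
      (∃ z : F, ((x ^ r : GL (Fin d ⊕ Fin d) F) : Matrix (Fin d ⊕ Fin d) (Fin d ⊕ Fin d) F) = z • (1 : Matrix (Fin d ⊕ Fin d) (Fin d ⊕ Fin d) F)) →
      (∀ z : F, (x : Matrix (Fin d ⊕ Fin d) (Fin d ⊕ Fin d) F) ≠ z • (1 : Matrix (Fin d ⊕ Fin d) (Fin d ⊕ Fin d) F)) →
      ∃ W : Submodule F (Fin d ⊕ Fin d → F), (Module.finrank F ↥W = 1 ∧ ∃ v ∈ W, Cfsg.quadFormPlus d F v ≠ 0) ∧ W.map (Matrix.toLin' (x : Matrix (Fin d ⊕ Fin d) (Fin d ⊕ Fin d) F)) ≤ W) ↔ (r = 2 ∧ Odd d) := by
  classical
  subst hp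
  have h2F : (2 : F) = 0 := CharTwo.two_eq_zero
  have hd' : d = (d - 1) + 1 := by omega
  have hT : HasType (Cfsg.Agent.S0287.QP (F := F) d) (d - 1) 1 := by
    have := hasType_QP (F := F) (d - 1)
    rwa [← hd'] at this
  have hQnd : Cfsg.Geo.IsNondegenerateQuadraticForm (Cfsg.quadFormPlus d F) :=
    quadFormPlus_nondeg d
  have hsm := hQnd.smul
  have hQ0 : Cfsg.quadFormPlus d F 0 = 0 := by
    have := hsm 0 0
    rw [zero_smul] at this
    rw [this]
    ring
  have hcardι : Fintype.card (Fin d ⊕ Fin d) = 2 * d := by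
    rw [Fintype.card_sum, Fintype.card_fin]
    ring
  have h' : Fintype.card F ≠ 2 ∨ Fintype.card (Fin d ⊕ Fin d) ≠ 4 := by
    right
    rw [hcardι]
    omega
  have : Nonempty (Fin d ⊕ Fin d) := ⟨Sum.inl ⟨0, by omega⟩⟩
  obtain ⟨v₀, hv₀⟩ := exists_nonsing hQnd
  -- a derangement from an isometry in Ω without fixed nonsingular vectors
  have hder : ∀ x : ↥(Cfsg.isometryGroup F (Cfsg.quadFormPlus d F)),
      x ∈ Cfsg.Omega F (Cfsg.quadFormPlus d F) → x ^ r = 1 →
      (¬ ∃ v, Cfsg.quadFormPlus d F v ≠ 0 ∧ (omat x).mulVec v = v) →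
      (∀ x : GL (Fin d ⊕ Fin d) F, x ∈ Cfsg.Geo.omegaGL (Cfsg.quadFormPlus d F) →
      (∃ z : F, ((x ^ r : GL (Fin d ⊕ Fin d) F) : Matrix (Fin d ⊕ Fin d) (Fin d ⊕ Fin d) F) = z • (1 : Matrix (Fin d ⊕ Fin d) (Fin d ⊕ Fin d) F)) →
      (∀ z : F, (x : Matrix (Fin d ⊕ Fin d) (Fin d ⊕ Fin d) F) ≠ z • (1 : Matrix (Fin d ⊕ Fin d) (Fin d ⊕ Fin d) F)) →
      ∃ W : Submodule F (Fin d ⊕ Fin d → F), (Module.finrank F ↥W = 1 ∧ ∃ v ∈ W, Cfsg.quadFormPlus d F v ≠ 0) ∧ W.map (Matrix.toLin' (x : Matrix (Fin d ⊕ Fin d) (Fin d ⊕ Fin d) F)) ≤ W) → False := by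
    intro x hxΩ hxr hnofix hall
    have hM : ∀ v, Cfsg.quadFormPlus d F ((omat x).mulVec v) = Cfsg.quadFormPlus d F v :=
      omat_isom x
    obtain ⟨W, ⟨hW1, hW2⟩, hWM⟩ := hall (x : GL (Fin d ⊕ Fin d) F) ⟨x, hxΩ, rfl⟩
      ⟨1, by
        have : ((x : GL (Fin d ⊕ Fin d) F)) ^ r = 1 := by
          rw [← Subgroup.coe_pow, hxr]; rfl
        rw [this, one_smul]; rfl⟩
      (by
        intro z hz
        apply hnofix
        have hfix := fixed_of_nsp hsm (omat x) hM (F ∙ v₀)
          (finrank_span_singleton (fun h0 => hv₀ (by rw [h0, hQ0])))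
          ⟨v₀, Submodule.mem_span_singleton_self v₀, hv₀⟩ (by
            rw [Submodule.map_span, Set.image_singleton, Matrix.toLin'_apply]
            change Submodule.span F {(omat x).mulVec v₀} ≤ _
            have : omat x = z • (1 : Matrix (Fin d ⊕ Fin d) (Fin d ⊕ Fin d) F) := hz
            rw [this, Matrix.smul_mulVec, Matrix.one_mulVec,
              Submodule.span_singleton_le_iff_mem]
            exact Submodule.smul_mem _ _ (Submodule.mem_span_singleton_self v₀))
        obtain ⟨v, -, hv, hMv⟩ := hfix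
        exact ⟨v, hv, hMv⟩)
    apply hnofix
    obtain ⟨v, -, hv, hMv⟩ := fixed_of_nsp hsm (omat x) hM W hW1 hW2 hWM
    exact ⟨v, hv, hMv⟩
  constructor
  · intro hall
    by_cases hr2 : r = 2
    · refine ⟨hr2, ?_⟩
      subst hr2
      by_contra hodd
      have hev : Even d := Nat.not_odd_iff_even.1 hodd
      set x := repA F d d h2F le_rfl hev with hx
      have hrk := rank_repA (F := F) (m := d) h2F le_rfl hev
      have hord := orderOf_repA (F := F) (m := d) h2F le_rfl hev (by omega)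
      have halt := (isAltQ_iff _).1 (repA_alt (F := F) (m := d) h2F le_rfl hev)
      apply hder x
      · rw [mem_omega_iff_even_all hQnd h', hrk]
        exact hev
      · rw [← hord]; exact pow_orderOf_eq_one x
      · rintro ⟨v, hv, hMv⟩
        have hMM : omat x * omat x = 1 := by
          have h1 : x ^ 2 = 1 := by rw [← hord]; exact pow_orderOf_eq_one x
          have h3 : ((x ^ 2 : ↥(Cfsg.isometryGroup F (Cfsg.quadFormPlus d F))) :
              GL (Fin d ⊕ Fin d) F) = 1 := by rw [h1]; rfl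
          have h4 := congrArg Units.val h3
          rw [Subgroup.coe_pow, Units.val_pow_eq_pow_val, sq] at h4
          exact h4
        have hN : (omat x - 1) * (omat x - 1) = 0 := by
          have e1 : omat x + omat x = 0 := by rw [← two_smul F (omat x), h2F, zero_smul]
          have e2 : (1 : Matrix (Fin d ⊕ Fin d) (Fin d ⊕ Fin d) F) + 1 = 0 := by
            rw [← two_smul F (1 : Matrix (Fin d ⊕ Fin d) (Fin d ⊕ Fin d) F), h2F, zero_smul]
          rw [sub_mul, mul_sub, mul_sub, hMM, mul_one, one_mul, mul_one]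
          have : (1 : Matrix (Fin d ⊕ Fin d) (Fin d ⊕ Fin d) F) - omat x - (omat x - 1) = (1 + 1) - (omat x + omat x) := by
            abel
          rw [this, e1, e2, sub_zero]
        have hk := finrank_ker_of_sq_zero (omat x - 1) hN
        rw [hcardι] at hk
        have hrk' : (omat x - 1).rank = d := hrk
        rw [hrk'] at hk
        -- range = ker
        have hle : LinearMap.range (Matrix.toLin' (omat x - 1)) ≤ LinearMap.ker (Matrix.toLin' (omat x - 1)) := by
          rintro _ ⟨w, rfl⟩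
          rw [LinearMap.mem_ker, Matrix.toLin'_apply, Matrix.toLin'_apply, Matrix.mulVec_mulVec, hN,
            Matrix.zero_mulVec]
        have hrange : Module.finrank F (LinearMap.range (Matrix.toLin' (omat x - 1))) = d := by
          rw [Matrix.toLin'_apply']
          exact hrk'
        have heq := Submodule.eq_of_le_of_finrank_eq hle (by rw [hrange]; omega)
        have hvk : v ∈ LinearMap.ker (Matrix.toLin' (omat x - 1)) := by
          rw [LinearMap.mem_ker, Matrix.toLin'_apply, Matrix.sub_mulVec, Matrix.one_mulVec, hMv, sub_self]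
        rw [← heq] at hvk
        obtain ⟨w, hw⟩ := hvk
        apply hv
        rw [← hw, Matrix.toLin'_apply, Matrix.sub_mulVec, Matrix.one_mulVec]
        have := halt w
        have e3 : (omat x).mulVec w - w = w + (omat x).mulVec w := by
          have : w + w = 0 := by rw [← two_smul F w, h2F, zero_smul]
          have h5 : -w = w := by rw [eq_comm, ← add_eq_zero_iff_eq_neg]; exact this
          rw [sub_eq_add_neg, h5, add_comm]
        rw [e3]
        exact this
      · exact hall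
    · exfalso
      have hrΩ' : r ∣ Nat.card {W : Submodule F (Fin d ⊕ Fin d → F) //
          Module.finrank F ↥W = 1 ∧ ∃ v ∈ W, Cfsg.Agent.S0287.QP (F := F) d v ≠ 0} := by
        simp only [Cfsg.Agent.S0287.QP_apply]
        exact hrΩ
      have hdiv := hdiv_of_dvd (F := F) 2 hr2 (Cfsg.Agent.S0287.QP (F := F) d) hT hrΩ'
      have hex := exists_fpf (F := F) 2 hr2 hr2 (Cfsg.Agent.S0287.QP (F := F) d) hT hdiv
      rw [Cfsg.Agent.S0287.QP_coe] at hex
      obtain ⟨x, hx1, hx2⟩ := hex
      have hxr : x ^ r = 1 := by rw [← hx1]; exact pow_orderOf_eq_one x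
      apply hder x
      · have hidx := omega_index_two hQnd h'
        have hsq := Subgroup.sq_mem_of_index_two hidx x
        obtain ⟨k, hk⟩ := (Fact.out : r.Prime).odd_of_ne_two hr2
        have : x = (x ^ 2) ^ (k + 1) := by
          rw [← pow_mul]
          have : 2 * (k + 1) = r + 1 := by omega
          rw [this, pow_succ, hxr, one_mul]
        rw [this]
        exact Subgroup.pow_mem _ hsq _
      · exact hxr
      · rintro ⟨v, hv, hMv⟩
        apply hx2
        rw [Matrix.eval_charpoly]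
        apply Matrix.exists_mulVec_eq_zero_iff.1
        refine ⟨v, fun h0 => hv (by rw [h0, hQ0]), ?_⟩
        rw [Matrix.sub_mulVec, hMv, map_one, Matrix.one_mulVec, sub_self]
      · exact hall
  · rintro ⟨rfl, hodd⟩ x hxΩ ⟨z, hz⟩ hns
    obtain ⟨g, hgΩ, rfl⟩ := hxΩ
    have hM : ∀ v, Cfsg.quadFormPlus d F ((omat g).mulVec v) = Cfsg.quadFormPlus d F v :=
      omat_isom g
    have hMM : omat g * omat g = z • (1 : Matrix (Fin d ⊕ Fin d) (Fin d ⊕ Fin d) F) := by
      rw [← hz, Units.val_pow_eq_pow_val, sq]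
      rfl
    have hz1 : z = 1 := by
      have h1 := hM ((omat g).mulVec v₀)
      rw [Matrix.mulVec_mulVec, hMM, Matrix.smul_mulVec, Matrix.one_mulVec, hsm, hM] at h1
      have h3 : (z ^ 2 - 1) * Cfsg.quadFormPlus d F v₀ = 0 := by linear_combination h1
      have h4 : z ^ 2 = 1 := by
        rcases mul_eq_zero.1 h3 with h | h
        · linear_combination h
        · exact absurd h hv₀
      have h5 : (z - 1) ^ 2 = 0 := by linear_combination h4 - z * h2F + h2F
      have := pow_eq_zero_iff (two_ne_zero) |>.1 h5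
      linear_combination this
    rw [hz1, one_smul] at hMM
    have hN : (omat g - 1) * (omat g - 1) = 0 := by
      have e1 : omat g + omat g = 0 := by rw [← two_smul F (omat g), h2F, zero_smul]
      have e2 : (1 : Matrix (Fin d ⊕ Fin d) (Fin d ⊕ Fin d) F) + 1 = 0 := by
        rw [← two_smul F (1 : Matrix (Fin d ⊕ Fin d) (Fin d ⊕ Fin d) F), h2F, zero_smul]
      rw [sub_mul, mul_sub, mul_sub, hMM, mul_one, one_mul, mul_one]
      have : (1 : Matrix (Fin d ⊕ Fin d) (Fin d ⊕ Fin d) F) - omat g - (omat g - 1) = (1 + 1) - (omat g + omat g) := by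
        abel
      rw [this, e1, e2, sub_zero]
    have hts : ∀ U : Submodule F (Fin d ⊕ Fin d → F),
        (∀ u ∈ U, Cfsg.quadFormPlus d F u = 0) → Module.finrank F U ≤ d := by
      intro U hU
      have hU' : ∀ u ∈ U, Cfsg.Agent.S0287.QP (F := F) d u = 0 := fun u hu => by
        rw [Cfsg.Agent.S0287.QP_apply]; exact hU u hu
      have h1 := Cfsg.Agent.H9.QuadHalf.two_mul_finrank_le (Cfsg.Agent.S0287.QP (F := F) d) hT.2.1 U hU'
      rw [hT.1] at h1
      omega
    have hk := finrank_ker_of_sq_zero (omat g - 1) hN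
    rw [hcardι] at hk
    have hpar : Even (omat g - 1).rank := (mem_omega_iff_even_all hQnd h' g).1 hgΩ
    obtain ⟨k, hk'⟩ := hpar
    obtain ⟨k₂, hk₂⟩ := hodd
    obtain ⟨v, hv, hMv⟩ := exists_fixed_nonsing (Q := Cfsg.quadFormPlus d F) (omat g) d hts
      (by rw [hcardι]; omega) hN
    exact nsp_of_fixed hQ0 (omat g) v hv hMv

end Cfsg.Agent.S5985
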