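import Mathlib
import Cfsg.Statements.S5986
import Cfsg.Agent.Lib.Helper8.NonsingPtB
import Cfsg.Agent.Lib.Helper5.Orth.ParityTwoMain
import Cfsg.Agent.Lib.Helper5.Orth.PlusMinusForm

set_option autoImplicit false
open Cfsg

namespace Cfsg.Agent.S5986

open Module Cfsg.Agent.Lib.Helper8.NonsingPt Cfsg.Agent.Lib.Helper8.OrPrime Cfsg.Agent.Lib.Helper8.QType Cfsg.Agent.Lib.Helper5.OrthPar Cfsg.Agent.Lib.Helper5.OrthPM

/-- Elements of prime order of Ω⁻_n(q), q even, with no fixed nonsingular 1-space. Here `T = PΩ⁻_n(F)`, `n = 2d ≥ 8`, realised through `Ω⁻_n(q)`, the commutator subgroup of the isometry group of `Q = Σ_{i<d−1} xᵢyᵢ + z₁² + a z₁z₂ + b z₂²` with `z₁² + a z₁z₂ + b z₂²` anisotropic, over the field `F` with `q` elements; an element of `T` of prime order `r` is an element `x` of `Ω⁻_n(q)` with `x^r` scalar and `x` not scalar; `q` is even (so the centre is trivial). Let Ω be the set of 1-dimensional subspaces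 spanned by a vector `v` with `Q(v) ≠ 0`, and let `r` be a prime dividing their number. Then every element of `T` of order `r` fixes some nonsingular 1-space if and only if `r = 2`. -/
theorem result {F : Type*} [Field F] [Fintype F] {p : ℕ} [Fact p.Prime] [CharP F p] {q : ℕ} (hq : Fintype.card F = q)
    (hp : p = 2) (d : ℕ) (hd : 4 ≤ d) (a b : F) (hab : ∀ x y : F, x ^ 2 + a * x * y + b * y ^ 2 = 0 → x = 0 ∧ y = 0) (r : ℕ) [Fact r.Prime]
    (hrΩ : r ∣ Nat.card {W : Submodule F ((Fin (d - 1) ⊕ Fin (d - 1)) ⊕ Fin 2 → F) // Module.finrank F ↥W = 1 ∧ ∃ v ∈ W, Cfsg.quadFormMinus (d - 1) F a b v ≠ 0}) :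
    (∀ x : GL ((Fin (d - 1) ⊕ Fin (d - 1)) ⊕ Fin 2) F, x ∈ Cfsg.Geo.omegaGL (Cfsg.quadFormMinus (d - 1) F a b) →
      (∃ z : F, ((x ^ r : GL ((Fin (d - 1) ⊕ Fin (d - 1)) ⊕ Fin 2) F) : Matrix ((Fin (d - 1) ⊕ Fin (d - 1)) ⊕ Fin 2) ((Fin (d - 1) ⊕ Fin (d - 1)) ⊕ Fin 2) F) = z • (1 : Matrix ((Fin (d - 1) ⊕ Fin (d - 1)) ⊕ Fin 2) ((Fin (d - 1) ⊕ Fin (d - 1)) ⊕ Fin 2) F)) →
      (∀ z : F, (x : Matrix ((Fin (d - 1) ⊕ Fin (d - 1)) ⊕ Fin 2) ((Fin (d - 1) ⊕ Fin (d - 1)) ⊕ Fin 2) F) ≠ z • (1 : Matrix ((Fin (d - 1) ⊕ Fin (d - 1)) ⊕ Fin 2) ((Fin (d - 1) ⊕ Fin (d - 1)) ⊕ Fin 2) F)) →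
      ∃ W : Submodule F ((Fin (d - 1) ⊕ Fin (d - 1)) ⊕ Fin 2 → F), (Module.finrank F ↥W = 1 ∧ ∃ v ∈ W, Cfsg.quadFormMinus (d - 1) F a b v ≠ 0) ∧ W.map (Matrix.toLin' (x : Matrix ((Fin (d - 1) ⊕ Fin (d - 1)) ⊕ Fin 2) ((Fin (d - 1) ⊕ Fin (d - 1)) ⊕ Fin 2) F)) ≤ W) ↔ r = 2 := by
  classical
  subst hp
  have h2F : (2 : F) = 0 := CharTwo.two_eq_zero
  have hd' : d = (d - 1) + 1 := by omega
  generalize d - 1 = l at hd' hrΩ ⊢
  subst hd'
  have hT := hasType_QM (F := F) l a b hab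
  have hQnd : Cfsg.Geo.IsNondegenerateQuadraticForm (Cfsg.quadFormMinus l F a b) :=
    quadFormMinus_nondeg l a b (Cfsg.Agent.S0288.disc_ne_zero a b hab)
  have hsm := hQnd.smul
  have hQ0 : Cfsg.quadFormMinus l F a b 0 = 0 := by
    have := hsm 0 0
    rw [zero_smul] at this
    rw [this]
    ring
  have hcardι : Fintype.card ((Fin l ⊕ Fin l) ⊕ Fin 2) = 2 * l + 2 := by
    rw [Fintype.card_sum, Fintype.card_sum, Fintype.card_fin, Fintype.card_fin]
    ring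
  have h' : Fintype.card F ≠ 2 ∨ Fintype.card ((Fin l ⊕ Fin l) ⊕ Fin 2) ≠ 4 := by
    right
    rw [hcardι]
    omega
  have : Nonempty ((Fin l ⊕ Fin l) ⊕ Fin 2) := ⟨Sum.inr 0⟩
  obtain ⟨v₀, hv₀⟩ := exists_nonsing hQnd
  constructor
  · intro hall
    by_contra hr2
    have hrΩ' : r ∣ Nat.card {W : Submodule F ((Fin l ⊕ Fin l) ⊕ Fin 2 → F) //
        Module.finrank F ↥W = 1 ∧ ∃ v ∈ W, Cfsg.Agent.S0288.QM l a b v ≠ 0} := by
      simp only [Cfsg.Agent.S0288.QM_apply]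
      exact hrΩ
    have hdiv := hdiv_of_dvd 2 hr2 (Cfsg.Agent.S0288.QM l a b) hT hrΩ'
    have hex := exists_fpf 2 hr2 hr2 (Cfsg.Agent.S0288.QM l a b) hT hdiv
    rw [Cfsg.Agent.S0288.QM_coe] at hex
    obtain ⟨x, hx1, hx2⟩ := hex
    have hM : ∀ v, Cfsg.quadFormMinus l F a b ((omat x).mulVec v) = Cfsg.quadFormMinus l F a b v :=
      omat_isom x
    have hnofix : ¬ ∃ v, Cfsg.quadFormMinus l F a b v ≠ 0 ∧ (omat x).mulVec v = v := by
      rintro ⟨v, hv, hMv⟩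
      apply hx2
      rw [Matrix.eval_charpoly]
      apply Matrix.exists_mulVec_eq_zero_iff.1
      refine ⟨v, fun h0 => hv (by rw [h0, hQ0]), ?_⟩
      rw [Matrix.sub_mulVec, hMv, map_one, Matrix.one_mulVec, sub_self]
    have hxΩ : x ∈ Cfsg.Omega F (Cfsg.quadFormMinus l F a b) := by
      have hidx := omega_index_two hQnd h'
      have hsq := Subgroup.sq_mem_of_index_two hidx x
      obtain ⟨k, hk⟩ := (Fact.out : r.Prime).odd_of_ne_two hr2
      have hxr : x ^ r = 1 := by rw [← hx1]; exact pow_orderOf_eq_one x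
      have : x = (x ^ 2) ^ (k + 1) := by
        rw [← pow_mul]
        have : 2 * (k + 1) = r + 1 := by omega
        rw [this, pow_succ, hxr, one_mul]
      rw [this]
      exact Subgroup.pow_mem _ hsq _
    obtain ⟨W, ⟨hW1, hW2⟩, hWM⟩ := hall (x : GL ((Fin l ⊕ Fin l) ⊕ Fin 2) F) ⟨x, hxΩ, rfl⟩
      ⟨1, by
        have hxr : x ^ r = 1 := by rw [← hx1]; exact pow_orderOf_eq_one x
        have : ((x : GL ((Fin l ⊕ Fin l) ⊕ Fin 2) F)) ^ r = 1 := by
          rw [← Subgroup.coe_pow, hxr]; rfl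
        rw [this, one_smul]; rfl⟩
      (by
        intro z hz
        apply hnofix
        have hfix := fixed_of_nsp hsm (omat x) hM (F ∙ v₀)
          (finrank_span_singleton (fun h0 => hv₀ (by rw [h0, hQ0])))
          ⟨v₀, Submodule.mem_span_singleton_self v₀, hv₀⟩ (by
            rw [Submodule.map_span, Set.image_singleton, Matrix.toLin'_apply]
            change Submodule.span F {(omat x).mulVec v₀} ≤ _
            have : omat x = z • (1 : Matrix ((Fin l ⊕ Fin l) ⊕ Fin 2) ((Fin l ⊕ Fin l) ⊕ Fin 2) F) := hz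
            rw [this, Matrix.smul_mulVec, Matrix.one_mulVec,
              Submodule.span_singleton_le_iff_mem]
            exact Submodule.smul_mem _ _ (Submodule.mem_span_singleton_self v₀))
        obtain ⟨v, -, hv, hMv⟩ := hfix
        exact ⟨v, hv, hMv⟩)
    apply hnofix
    obtain ⟨v, -, hv, hMv⟩ := fixed_of_nsp hsm (omat x) hM W hW1 hW2 hWM
    exact ⟨v, hv, hMv⟩
  · rintro rfl x hxΩ ⟨z, hz⟩ hns
    obtain ⟨g, hgΩ, rfl⟩ := hxΩ
    have hM : ∀ v, Cfsg.quadFormMinus l F a b ((omat g).mulVec v) = Cfsg.quadFormMinus l F a b v :=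
      omat_isom g
    have hMM : omat g * omat g = z • (1 : Matrix ((Fin l ⊕ Fin l) ⊕ Fin 2) ((Fin l ⊕ Fin l) ⊕ Fin 2) F) := by
      rw [← hz, Units.val_pow_eq_pow_val, sq]
      rfl
    have hz1 : z = 1 := by
      have h1 := hM ((omat g).mulVec v₀)
      rw [Matrix.mulVec_mulVec, hMM, Matrix.smul_mulVec, Matrix.one_mulVec, hsm, hM] at h1
      have h3 : (z ^ 2 - 1) * Cfsg.quadFormMinus l F a b v₀ = 0 := by linear_combination h1
      have h4 : z ^ 2 = 1 := by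
        rcases mul_eq_zero.1 h3 with h | h
        · linear_combination h
        · exact absurd h hv₀
      have h5 : (z - 1) ^ 2 = 0 := by linear_combination h4 - z * h2F + h2F
      have := pow_eq_zero_iff (two_ne_zero) |>.1 h5
      linear_combination this
    rw [hz1, one_smul] at hMM
    have hN : (omat g - 1) * (omat g - 1) = 0 := by
      have e1 : omat g + omat g = 0 := by rw [← two_smul F (omat g), h2F, zero_smul]
      have e2 : (1 : Matrix ((Fin l ⊕ Fin l) ⊕ Fin 2) ((Fin l ⊕ Fin l) ⊕ Fin 2) F) + 1 = 0 := by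
        rw [← two_smul F (1 : Matrix ((Fin l ⊕ Fin l) ⊕ Fin 2) ((Fin l ⊕ Fin l) ⊕ Fin 2) F), h2F, zero_smul]
      rw [sub_mul, mul_sub, mul_sub, hMM, mul_one, one_mul, mul_one]
      have : (1 : Matrix ((Fin l ⊕ Fin l) ⊕ Fin 2) ((Fin l ⊕ Fin l) ⊕ Fin 2) F) - omat g - (omat g - 1) = (1 + 1) - (omat g + omat g) := by
        abel
      rw [this, e1, e2, sub_zero]
    have hts : ∀ U : Submodule F ((Fin l ⊕ Fin l) ⊕ Fin 2 → F),
        (∀ u ∈ U, Cfsg.quadFormMinus l F a b u = 0) → Module.finrank F U ≤ l := by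
      intro U hU
      have hU' : ∀ u ∈ U, Cfsg.Agent.S0288.QM l a b u = 0 := fun u hu => by
        rw [Cfsg.Agent.S0288.QM_apply]; exact hU u hu
      have h1 := Cfsg.Agent.H9.QuadHalf.two_mul_finrank_le (Cfsg.Agent.S0288.QM l a b) hT.2.1 U hU'
      rw [hT.1] at h1
      by_contra hcon
      have hdim : Module.finrank F U = l + 1 := by omega
      have := eq_one_of_ts hT U hU' hdim
      norm_num at this
    have hk := finrank_ker_of_sq_zero (omat g - 1) hN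
    rw [hcardι] at hk
    obtain ⟨v, hv, hMv⟩ := exists_fixed_nonsing (Q := Cfsg.quadFormMinus l F a b) (omat g) l hts
      (by rw [hcardι]; omega) hN
    exact nsp_of_fixed hQ0 (omat g) v hv hMv

end Cfsg.Agent.S5986
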