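import Cfsg.Statements.S5997
import Cfsg.Agent.H9.Q8Norm
import Cfsg.Agent.H9.PrimeActsOnEight

set_option autoImplicit false
open Cfsg

namespace Cfsg.Agent.S5997

open Matrix
open Cfsg.Agent.H9.Q8Norm Cfsg.Agent.H9.Q8GL2

section aux

variable {F : Type*} [Field F] [Fintype F]

local notation "SL2" => Matrix.SpecialLinearGroup (Fin 2) F
local notation "SLs" => Cfsg.Geo.specialLinear (Fin 2) F

/-- the trace of a non-scalar determinant one matrix with scalar square is zero -/
theorem trace_of_sq_scalar (M : SL2) (z : F) (h : M.1 * M.1 = z • (1 : Matrix (Fin 2) (Fin 2) F))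
    (hns : ¬ ∃ a : F, M.1 = a • (1 : Matrix (Fin 2) (Fin 2) F)) : M.1.trace = 0 := by
  have hch := cayley_hamilton M.1
  rw [h, M.2, one_smul] at hch
  by_contra htr
  apply hns
  refine ⟨(M.1.trace)⁻¹ * (z + 1), ?_⟩
  have : M.1.trace • M.1 = (z + 1) • (1 : Matrix (Fin 2) (Fin 2) F) := by
    rw [add_smul, one_smul, hch, sub_add_cancel]
  rw [mul_smul, ← this, smul_smul, inv_mul_cancel₀ htr, one_smul]

/-- the trace of a non-scalar determinant one matrix with scalar cube is `±1` -/
theorem trace_of_cube_scalar (M : SL2) (z : F)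
    (h : M.1 * M.1 * M.1 = z • (1 : Matrix (Fin 2) (Fin 2) F))
    (hns : ¬ ∃ a : F, M.1 = a • (1 : Matrix (Fin 2) (Fin 2) F)) :
    M.1.trace = 1 ∨ M.1.trace = -1 := by
  have hch := cayley_hamilton M.1
  rw [M.2, one_smul] at hch
  set τ := M.1.trace with hτ
  have h3 : M.1 * M.1 * M.1 = (τ ^ 2 - 1) • M.1 - τ • (1 : Matrix (Fin 2) (Fin 2) F) := by
    rw [hch, Matrix.sub_mul, Matrix.smul_mul, hch, Matrix.one_mul, smul_sub, smul_smul, sub_smul,
      one_smul]
    rw [pow_two]
    abel
  rw [h] at h3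
  have hsq : τ ^ 2 - 1 = 0 := by
    by_contra hne
    apply hns
    refine ⟨(τ ^ 2 - 1)⁻¹ * (z + τ), ?_⟩
    have : (τ ^ 2 - 1) • M.1 = (z + τ) • (1 : Matrix (Fin 2) (Fin 2) F) := by
      rw [add_smul, h3, sub_add_cancel]
    rw [mul_smul, ← this, smul_smul, inv_mul_cancel₀ hne, one_smul]
  have : (τ - 1) * (τ + 1) = 0 := by linear_combination hsq
  rcases mul_eq_zero.1 this with h' | h'
  · left; linear_combination h'
  · right; linear_combination h'

end aux

section aux2

variable {F : Type*} [Field F]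

local notation "SL2" => Matrix.SpecialLinearGroup (Fin 2) F

theorem not_scalar_of_sq (h2 : (2 : F) ≠ 0) (t : SL2) (ht : t.1 * t.1 = -1) :
    ¬ ∃ a : F, t.1 = a • (1 : Matrix (Fin 2) (Fin 2) F) := by
  rintro ⟨a, ha⟩
  have tt := Cfsg.Agent.H9.Hurwitz.trace_zero_of_sq h2 t ht
  have h00 : t.1 0 0 = a := by rw [ha]; simp
  have h11 : t.1 1 1 = a := by rw [ha]; simp
  have h01 : t.1 0 1 = 0 := by rw [ha]; simp
  have hdet := t.2
  rw [Matrix.det_fin_two, h00, h11, h01] at hdet
  rw [h00, h11] at tt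
  have ha0 : a = 0 := by
    have : (2 : F) * a = 0 := by linear_combination tt
    exact (mul_eq_zero.1 this).resolve_left h2
  rw [ha0] at hdet
  simp at hdet

theorem not_scalar_hurwitz (h2 : (2 : F) ≠ 0) (t w x : SL2) (hw : w.1 * w.1 = -1)
    (hx1 : x * t = t * w * x) : ¬ ∃ a : F, x.1 = a • (1 : Matrix (Fin 2) (Fin 2) F) := by
  rintro ⟨a, ha⟩
  have hcomm : x * t = t * x := by
    apply Subtype.ext
    rw [Matrix.SpecialLinearGroup.coe_mul, Matrix.SpecialLinearGroup.coe_mul, ha, Matrix.smul_mul,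
      Matrix.mul_smul, Matrix.one_mul, Matrix.mul_one]
  rw [hcomm, mul_assoc] at hx1
  have h1 : x = w * x := mul_left_cancel hx1
  have h2' : w = 1 := by
    have : 1 * x = w * x := by rw [one_mul]; exact h1
    exact (mul_right_cancel this).symm
  rw [h2'] at hw
  have h00 := congrFun (congrFun hw 0) 0
  simp at h00
  apply h2
  linear_combination h00

end aux2

/-- Elements of prime order of PSL_2(p) and the normalizer of a quaternion subgroup. Here `T = PSL_2(F)` for the field `F` with `p` elements, `p ≥ 5` prime; `R` is a subgroup of GL_2(F) isomorphic to the quaternion group of order 8 (an absolutely irreducible 2-group of symplectic type), and `H` is the subgroup of matrices of determinant 1 normalizing `R` — a subgroup of type 2^{1+2}.O₂⁻(2), isomorphic modulo scalars to A₄ or S₄ (maximality is not assumed). Ω is the set of cosets of `H` in `T`, so an element of `T` of prime order `r` (a matrix `x` of determinant 1 with `x^r` scalar, `x` not scalar) fixes a point of Ω exactly when some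 conjugate of `x` by a matrix of determinant 1 normalizes `R`. Let `r` be a prime dividing the index of `H`. Then every element of `T` of order `r` fixes a point of Ω if and only if `r = 2` or `r = 3`. -/
theorem result {F : Type*} [Field F] [Fintype F] {p : ℕ} [Fact p.Prime] [CharP F p] (hF : Fintype.card F = p) (hp : 5 ≤ p)
    (R : Subgroup (GL (Fin 2) F)) (hR : Nonempty (↥R ≃* QuaternionGroup 2))
    (r : ℕ) [Fact r.Prime]
    (hΩ : r ∣ (Cfsg.Geo.subgroupNormalizer R).relIndex (Cfsg.Geo.specialLinear (Fin 2) F)) :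
    (∀ x ∈ Cfsg.Geo.specialLinear (Fin 2) F, (∃ z : F, ((x ^ r : GL (Fin 2) F) : Matrix (Fin 2) (Fin 2) F) = z • (1 : Matrix (Fin 2) (Fin 2) F)) →
      (∀ z : F, (x : Matrix (Fin 2) (Fin 2) F) ≠ z • (1 : Matrix (Fin 2) (Fin 2) F)) →
      ∃ g ∈ Cfsg.Geo.specialLinear (Fin 2) F, g⁻¹ * x * g ∈ Cfsg.Geo.subgroupNormalizer R) ↔ (r = 2 ∨ r = 3) := by
  classical
  obtain ⟨e⟩ := hR
  have hp' : p.Prime := Fact.out
  have hr : r.Prime := Fact.out
  have h2 : (2 : F) ≠ 0 := by
    intro h
    have h' : ((2 : ℕ) : F) = 0 := by exact_mod_cast h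
    rw [CharP.cast_eq_zero_iff F p] at h'
    have := Nat.le_of_dvd (by norm_num) h'
    omega
  have h3 : (3 : F) ≠ 0 := by
    intro h
    have h' : ((3 : ℕ) : F) = 0 := by exact_mod_cast h
    rw [CharP.cast_eq_zero_iff F p] at h'
    have := Nat.le_of_dvd (by norm_num) h'
    omega
  have h4 : (4 : F) ≠ 0 := by
    have : (4 : F) = 2 * 2 := by norm_num
    rw [this]
    exact mul_ne_zero h2 h2
  have hoddF : Fintype.card F % 2 = 1 := by
    rw [hF]
    rcases hp'.eq_two_or_odd with h | h <;> omega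
  obtain ⟨t, w, htR, hwR, hRcl, htt, hww, htw⟩ := exists_pair h2 R e
  obtain ⟨x, hx1, hx2, hxtr⟩ := Cfsg.Agent.H9.Hurwitz2.exists_hurwitz_trace h2 t w htt hww htw
  have hRN : R ≤ Cfsg.Geo.subgroupNormalizer R := Subgroup.le_normalizer
  have hTW : Matrix.SpecialLinearGroup.toGL x * Matrix.SpecialLinearGroup.toGL t
      * (Matrix.SpecialLinearGroup.toGL x)⁻¹
      = Matrix.SpecialLinearGroup.toGL t * Matrix.SpecialLinearGroup.toGL w := by
    have := congrArg (Matrix.SpecialLinearGroup.toGL (n := Fin 2) (R := F)) hx1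
    rw [map_mul, map_mul, map_mul] at this
    rw [this]
    group
  have hWT : Matrix.SpecialLinearGroup.toGL x * Matrix.SpecialLinearGroup.toGL w
      * (Matrix.SpecialLinearGroup.toGL x)⁻¹ = Matrix.SpecialLinearGroup.toGL t := by
    have := congrArg (Matrix.SpecialLinearGroup.toGL (n := Fin 2) (R := F)) hx2
    rw [map_mul, map_mul] at this
    rw [this]
    group
  have hXN : Matrix.SpecialLinearGroup.toGL x ∈ Cfsg.Geo.subgroupNormalizer R := by
    unfold Cfsg.Geo.subgroupNormalizer
    apply Subgroup.mem_normalizer_fintype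
    intro s hs
    rw [SetLike.mem_coe] at hs ⊢
    have hs' : s ∈ Subgroup.closure {Matrix.SpecialLinearGroup.toGL t,
        Matrix.SpecialLinearGroup.toGL w} := by rw [← hRcl]; exact hs
    induction hs' using Subgroup.closure_induction with
    | mem y hy =>
      rcases hy with rfl | rfl
      · rw [hTW]; exact Subgroup.mul_mem _ htR hwR
      · rw [hWT]; exact htR
    | one => simp
    | mul a b _ _ ha hb =>
      have : Matrix.SpecialLinearGroup.toGL x * (a * b) * (Matrix.SpecialLinearGroup.toGL x)⁻¹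
          = (Matrix.SpecialLinearGroup.toGL x * a * (Matrix.SpecialLinearGroup.toGL x)⁻¹)
            * (Matrix.SpecialLinearGroup.toGL x * b * (Matrix.SpecialLinearGroup.toGL x)⁻¹) := by
        group
      rw [this]
      exact Subgroup.mul_mem _ (ha (by rw [hRcl]; assumption)) (hb (by rw [hRcl]; assumption))
    | inv a _ ha =>
      have : Matrix.SpecialLinearGroup.toGL x * a⁻¹ * (Matrix.SpecialLinearGroup.toGL x)⁻¹
          = (Matrix.SpecialLinearGroup.toGL x * a * (Matrix.SpecialLinearGroup.toGL x)⁻¹)⁻¹ := by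
        group
      rw [this]
      exact Subgroup.inv_mem _ (ha (by rw [hRcl]; assumption))
  have htns := not_scalar_of_sq h2 t htt
  have hxns := not_scalar_hurwitz h2 t w x hww hx1
  have httr : t.1.trace = 0 := by
    rw [Matrix.trace_fin_two, Cfsg.Agent.H9.Hurwitz.trace_zero_of_sq h2 t htt]
    ring
  -- the conjugation step
  have conj_step : ∀ (g0 : GL (Fin 2) F) (hg0 : g0 ∈ Cfsg.Geo.specialLinear (Fin 2) F)
      (m : Matrix.SpecialLinearGroup (Fin 2) F),
      Matrix.SpecialLinearGroup.toGL m ∈ Cfsg.Geo.subgroupNormalizer R →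
      IsConj (ofSLs g0 hg0) m →
      ∃ g ∈ Cfsg.Geo.specialLinear (Fin 2) F, g⁻¹ * g0 * g ∈ Cfsg.Geo.subgroupNormalizer R := by
    intro g0 hg0 m hm hconj
    obtain ⟨c, hc⟩ := isConj_iff.1 hconj
    refine ⟨Matrix.SpecialLinearGroup.toGL c⁻¹, toGL_mem_SLs _, ?_⟩
    have : (Matrix.SpecialLinearGroup.toGL c⁻¹)⁻¹ * g0 * Matrix.SpecialLinearGroup.toGL c⁻¹
        = Matrix.SpecialLinearGroup.toGL m := by
      rw [← hc, map_mul, map_mul, toGL_ofSLs, map_inv, inv_inv]
    rw [this]
    exact hm
  constructor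
  · intro H
    by_contra hr23
    push Not at hr23
    have hr5 : 5 ≤ r := by
      have h2r := hr.two_le
      by_contra hlt
      have : r = 4 := by omega
      rw [this] at hr
      norm_num at hr
    have hdvd : r ∣ Nat.card ↥(Cfsg.Geo.specialLinear (Fin 2) F) :=
      hΩ.trans (Subgroup.relIndex_dvd_card _ _)
    obtain ⟨X₀, hX₀⟩ := exists_prime_orderOf_dvd_card' r hdvd
    have hord : orderOf (X₀ : GL (Fin 2) F) = r := by rw [Subgroup.orderOf_coe]; exact hX₀
    have hsc : ∀ (Y : GL (Fin 2) F), Y ∈ Cfsg.Geo.specialLinear (Fin 2) F → orderOf Y = r →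
        ¬ ∃ z : F, (Y : Matrix (Fin 2) (Fin 2) F) = z • (1 : Matrix (Fin 2) (Fin 2) F) := by
      rintro Y hY hYo ⟨z, hz⟩
      have hdet := (mem_SLs Y).1 hY
      rw [hz, Matrix.det_smul, Matrix.det_one, mul_one, Fintype.card_fin] at hdet
      have hY2 : Y ^ 2 = 1 := by
        apply Units.ext
        rw [Units.val_pow_eq_pow_val, pow_two, hz, Matrix.smul_mul, Matrix.mul_smul,
          Matrix.one_mul, smul_smul, ← pow_two, hdet, one_smul]
        rfl
      have := orderOf_dvd_of_pow_eq_one hY2
      rw [hYo] at this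
      have := Nat.le_of_dvd (by norm_num) this
      omega
    obtain ⟨g, hg, hY⟩ := H (X₀ : GL (Fin 2) F) X₀.2
      ⟨1, by rw [← hord, pow_orderOf_eq_one]; simp⟩
      (fun z hz => hsc _ X₀.2 hord ⟨z, hz⟩)
    set Y := g⁻¹ * (X₀ : GL (Fin 2) F) * g with hYdef
    have hYo : orderOf Y = r := by
      rw [← hord]
      have : Y = (MulAut.conj g⁻¹) (X₀ : GL (Fin 2) F) := by
        rw [MulAut.conj_apply, inv_inv]
      rw [this]
      exact orderOf_injective (MulAut.conj g⁻¹).toMonoidHom (MulAut.conj g⁻¹).injective _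
    have hYS : Y ∈ Cfsg.Geo.specialLinear (Fin 2) F :=
      Subgroup.mul_mem _ (Subgroup.mul_mem _ (Subgroup.inv_mem _ hg) X₀.2) hg
    -- the central involution
    set Z := Matrix.SpecialLinearGroup.toGL t * Matrix.SpecialLinearGroup.toGL t with hZ
    have hZval : (Z : Matrix (Fin 2) (Fin 2) F) = -1 := by
      rw [hZ, Units.val_mul]
      exact htt
    have hZR : Z ∈ R := Subgroup.mul_mem _ htR htR
    have hZ1 : Z ≠ 1 := by
      intro h
      have := congrArg (fun u : GL (Fin 2) F => (u : Matrix (Fin 2) (Fin 2) F) 0 0) h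
      simp only [hZval] at this
      simp at this
      apply h2
      linear_combination -this
    have hZY : Y * Z * Y⁻¹ = Z := by
      have : Y * Z = Z * Y := by
        apply Units.ext
        show (Y : Matrix (Fin 2) (Fin 2) F) * (Z : Matrix (Fin 2) (Fin 2) F)
          = (Z : Matrix (Fin 2) (Fin 2) F) * (Y : Matrix (Fin 2) (Fin 2) F)
        rw [hZval]
        simp
      rw [this]
      group
    have hcardR : Nat.card ↥R = 8 := by
      rw [Nat.card_congr e.toEquiv, Nat.card_eq_fintype_card, QuaternionGroup.card]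
    have hcent := Cfsg.Agent.H9.PrimeActsOnEight.centralizes R hcardR Y hY r hr5 hYo Z hZR hZ1 hZY
    have hYt : (Y : Matrix (Fin 2) (Fin 2) F) * t.1 = t.1 * (Y : Matrix (Fin 2) (Fin 2) F) := by
      have h1 := hcent _ htR
      have h2' : Y * Matrix.SpecialLinearGroup.toGL t = Matrix.SpecialLinearGroup.toGL t * Y := by
        calc Y * Matrix.SpecialLinearGroup.toGL t
            = (Y * Matrix.SpecialLinearGroup.toGL t * Y⁻¹) * Y := by group
          _ = Matrix.SpecialLinearGroup.toGL t * Y := by rw [h1]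
      have := congrArg (fun u : GL (Fin 2) F => (u : Matrix (Fin 2) (Fin 2) F)) h2'
      simpa using this
    have hYw : (Y : Matrix (Fin 2) (Fin 2) F) * w.1 = w.1 * (Y : Matrix (Fin 2) (Fin 2) F) := by
      have h1 := hcent _ hwR
      have h2' : Y * Matrix.SpecialLinearGroup.toGL w = Matrix.SpecialLinearGroup.toGL w * Y := by
        calc Y * Matrix.SpecialLinearGroup.toGL w
            = (Y * Matrix.SpecialLinearGroup.toGL w * Y⁻¹) * Y := by group
          _ = Matrix.SpecialLinearGroup.toGL w * Y := by rw [h1]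
      have := congrArg (fun u : GL (Fin 2) F => (u : Matrix (Fin 2) (Fin 2) F)) h2'
      simpa using this
    exact hsc Y hYS hYo (scalar_of_commute h2 t w htt hww htw _ hYt hYw)
  · rintro (rfl | rfl)
    · -- involutions of the quotient
      intro g0 hg0 hpow hns
      obtain ⟨z, hz⟩ := hpow
      have hM : (ofSLs g0 hg0).1 * (ofSLs g0 hg0).1 = z • (1 : Matrix (Fin 2) (Fin 2) F) := by
        rw [← hz, Units.val_pow_eq_pow_val, pow_two]
        rfl
      have hns' : ¬ ∃ a : F, (ofSLs g0 hg0).1 = a • (1 : Matrix (Fin 2) (Fin 2) F) := by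
        rintro ⟨a, ha⟩
        exact hns a ha
      have htr := trace_of_sq_scalar (ofSLs g0 hg0) z hM hns'
      refine conj_step g0 hg0 t (hRN htR) ?_
      apply Cfsg.Agent.H9.SL2OddCls.isConj_of_trace_eq hoddF _ _ hns' htns (by rw [htr, httr])
      rw [httr]
      intro h
      apply h4
      rw [← h]
      ring
    · intro g0 hg0 hpow hns
      obtain ⟨z, hz⟩ := hpow
      have hM : (ofSLs g0 hg0).1 * (ofSLs g0 hg0).1 * (ofSLs g0 hg0).1
          = z • (1 : Matrix (Fin 2) (Fin 2) F) := by
        rw [← hz, Units.val_pow_eq_pow_val, pow_succ, pow_two]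
        rfl
      have hns' : ¬ ∃ a : F, (ofSLs g0 hg0).1 = a • (1 : Matrix (Fin 2) (Fin 2) F) := by
        rintro ⟨a, ha⟩
        exact hns a ha
      have hreg : ∀ τ : F, τ = 1 ∨ τ = -1 → τ ^ 2 ≠ 4 := by
        rintro τ (rfl | rfl) h
        · apply h3; linear_combination -h
        · apply h3; linear_combination -h
      rcases trace_of_cube_scalar (ofSLs g0 hg0) z hM hns' with htr | htr
      · -- trace one: conjugate to `-x`
        set y := t * t * x with hy
        have hy1 : y.1 = -x.1 := by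
          rw [hy, Matrix.SpecialLinearGroup.coe_mul, Matrix.SpecialLinearGroup.coe_mul, htt]
          simp
        have hyN : Matrix.SpecialLinearGroup.toGL y ∈ Cfsg.Geo.subgroupNormalizer R := by
          rw [hy, map_mul, map_mul]
          exact Subgroup.mul_mem _ (Subgroup.mul_mem _ (hRN htR) (hRN htR)) hXN
        have hyns : ¬ ∃ a : F, y.1 = a • (1 : Matrix (Fin 2) (Fin 2) F) := by
          rintro ⟨a, ha⟩
          apply hxns
          refine ⟨-a, ?_⟩
          rw [hy1] at ha
          rw [neg_smul, ← ha, neg_neg]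
        have hytr : y.1.trace = 1 := by
          rw [hy1, Matrix.trace_neg, hxtr, neg_neg]
        refine conj_step g0 hg0 y hyN ?_
        apply Cfsg.Agent.H9.SL2OddCls.isConj_of_trace_eq hoddF _ _ hns' hyns (by rw [htr, hytr])
        rw [hytr]
        exact hreg 1 (Or.inl rfl)
      · refine conj_step g0 hg0 x hXN ?_
        apply Cfsg.Agent.H9.SL2OddCls.isConj_of_trace_eq hoddF _ _ hns' hxns (by rw [htr, hxtr])
        rw [hxtr]
        exact hreg (-1) (Or.inr rfl)

end Cfsg.Agent.S5997
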