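import Cfsg.Statements.S5998
import Cfsg.Agent.H9.Ex27F
import Cfsg.Agent.Lib.Helper8.Singer3H

set_option autoImplicit false
open scoped MatrixGroups
open Cfsg

namespace Cfsg.Agent.S5998

section aux

open Matrix Cfsg.Agent.H9.Ex27 Cfsg.Agent.Lib.Helper8.Singer3

variable {F : Type*} [Field F] [Fintype F]

/-- cube roots of cube roots of unity exist when `9 ∣ q - 1` -/
theorem exists_cube_root_of_nine {q : ℕ} (hq : Fintype.card F = q) (h9 : 9 ∣ q - 1) (z : F)
    (hz : z ^ 3 = 1) : ∃ c : F, c ^ 3 = z := by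
  classical
  have hq2 : 2 ≤ q := by rw [← hq]; exact Fintype.one_lt_card
  obtain ⟨g, hg⟩ := IsCyclic.exists_generator (α := Fˣ)
  have ho : orderOf g = q - 1 := by
    rw [orderOf_eq_card_of_forall_mem_zpowers hg, card_units_eq hq]
  obtain ⟨m, hm⟩ := h9
  have hm0 : m ≠ 0 := by
    rintro rfl
    omega
  have hou : orderOf (g ^ m) = 9 := by
    rw [orderOf_pow_of_dvd hm0 (by rw [ho, hm]; exact Dvd.intro_left 9 rfl), ho, hm]
    exact Nat.mul_div_cancel _ (Nat.pos_of_ne_zero hm0)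
  set u : Fˣ := g ^ m with hu
  have hu9 : (u : F) ^ 9 = 1 := by
    rw [← Units.val_pow_eq_pow_val, ← hou, pow_orderOf_eq_one, Units.val_one]
  have hw1 : (u : F) ^ 3 ≠ 1 := by
    intro h
    have h1 : u ^ 3 = 1 := Units.ext (by rw [Units.val_pow_eq_pow_val, h, Units.val_one])
    have := orderOf_dvd_of_pow_eq_one h1
    rw [hou] at this
    norm_num at this
  have hw : ((u : F) ^ 3) ^ 2 + (u : F) ^ 3 + 1 = 0 := by
    have h2 : ((u : F) ^ 3 - 1) * (((u : F) ^ 3) ^ 2 + (u : F) ^ 3 + 1) = 0 := by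
      linear_combination hu9
    rcases mul_eq_zero.1 h2 with h4 | h4
    · exact absurd (sub_eq_zero.1 h4) hw1
    · exact h4
  rcases cube_root_cases _ hw z hz with h | h | h
  · exact ⟨1, by rw [h, one_pow]⟩
  · exact ⟨(u : F), h.symm⟩
  · exact ⟨(u : F) ^ 2, by rw [h]; ring⟩

end aux

/-- Elements of prime order of PSL_3(p), p ≡ 1 (mod 3), and the normalizer of an extraspecial subgroup of order 27. Here `T = PSL_3(F)` for the field `F` with `p` elements, `p` a prime with `p ≡ 1 (mod 3)`; `R` is a non-abelian subgroup of GL_3(F) of order 27 and exponent 3 (an extraspecial group 3^{1+2}, acting absolutely irreducibly), and `H` is the subgroup of matrices of determinant 1 normalizing `R` — a subgroup of type 3^{1+2}.Sp₂(3) (maximality is not assumed). Ω is the set of cosets of `H` in `T`, so an element of `T` of prime order `r` (a matrix `x` of determinant 1 with `x^r` scalar, `x` not scalar) fixes a point of Ω exactly when some conjugate of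 `x` by a matrix of determinant 1 normalizes `R`. Let `r` be a prime dividing the index of `H`. Then every element of `T` of order `r` fixes a point of Ω if and only if `r = 2`, or `r = 3` and `p ≡ 1 (mod 9)`. -/
theorem result {F : Type*} [Field F] [Fintype F] {p : ℕ} [Fact p.Prime] [CharP F p] (hF : Fintype.card F = p) (hp3 : p % 3 = 1)
    (R : Subgroup (GL (Fin 3) F)) (hR : Nat.card R = 27) (hRe : Monoid.exponent R = 3) (hRna : ¬ IsMulCommutative R)
    (r : ℕ) [Fact r.Prime]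
    (hΩ : r ∣ (Cfsg.Geo.subgroupNormalizer R).relIndex (Cfsg.Geo.specialLinear (Fin 3) F)) :
    (∀ x ∈ Cfsg.Geo.specialLinear (Fin 3) F, (∃ z : F, ((x ^ r : GL (Fin 3) F) : Matrix (Fin 3) (Fin 3) F) = z • (1 : Matrix (Fin 3) (Fin 3) F)) →
      (∀ z : F, (x : Matrix (Fin 3) (Fin 3) F) ≠ z • (1 : Matrix (Fin 3) (Fin 3) F)) →
      ∃ g ∈ Cfsg.Geo.specialLinear (Fin 3) F, g⁻¹ * x * g ∈ Cfsg.Geo.subgroupNormalizer R) ↔ (r = 2 ∨ (r = 3 ∧ p % 9 = 1)) := by
  classical
  have hp' : p.Prime := Fact.out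
  have hr : r.Prime := Fact.out
  have hp2 : p ≠ 2 := by
    intro h
    rw [h] at hp3
    norm_num at hp3
  have hp3' : p ≠ 3 := by
    intro h
    rw [h] at hp3
    norm_num at hp3
  have h2 : (2 : F) ≠ 0 := by
    intro h
    have h' : ((2 : ℕ) : F) = 0 := by exact_mod_cast h
    rw [CharP.cast_eq_zero_iff F p] at h'
    exact hp2 ((Nat.prime_dvd_prime_iff_eq hp' Nat.prime_two).1 h')
  have h3 : (3 : F) ≠ 0 := Cfsg.Agent.Lib.Helper8.Singer3.three_ne_zero_of p hp3'
  have hq2 : 2 ≤ p := hp'.two_le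
  obtain ⟨ω₀, hω₀⟩ := Cfsg.Agent.Lib.Helper8.Singer3.exists_omega hF (by omega : 3 ∣ p - 1)
  obtain ⟨ω, hω0, G₀, hω, hRG⟩ := Cfsg.Agent.H9.Ex27.exists_std_form h3 ω₀ hω₀ R hR hRe hRna
  have hω3 : ω ^ 3 = 1 := by linear_combination (ω - 1) * hω
  have hω1 : ω ≠ 1 := Cfsg.Agent.Lib.Helper8.Singer3.omega_ne_one h3 ω hω
  have hNmap : ∀ n : GL (Fin 3) F,
      n ∈ Subgroup.normalizer (Cfsg.Agent.H9.Ex27.Rstd ω hω0 : Set (GL (Fin 3) F)) →
      G₀ * n * G₀⁻¹ ∈ Cfsg.Geo.subgroupNormalizer R := by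
    intro n hn
    unfold Cfsg.Geo.subgroupNormalizer
    rw [hRG]
    exact Subgroup.le_normalizer_map _ ⟨n, hn, rfl⟩
  have reduce : ∀ x : GL (Fin 3) F,
      (∀ δ : Fˣ, ∃ k : GL (Fin 3) F, Matrix.GeneralLinearGroup.det k = δ ∧
        k⁻¹ * x * k ∈ Subgroup.normalizer (Cfsg.Agent.H9.Ex27.Rstd ω hω0 : Set (GL (Fin 3) F))) →
      ∃ g ∈ Cfsg.Geo.specialLinear (Fin 3) F, g⁻¹ * x * g ∈ Cfsg.Geo.subgroupNormalizer R := by
    intro x hx
    obtain ⟨k, hkdet, hk⟩ := hx (Matrix.GeneralLinearGroup.det G₀)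
    refine ⟨k * G₀⁻¹, ?_, ?_⟩
    · unfold Cfsg.Geo.specialLinear
      rw [MonoidHom.mem_ker, map_mul, map_inv, hkdet, mul_inv_cancel]
    · have : (k * G₀⁻¹)⁻¹ * x * (k * G₀⁻¹) = G₀ * (k⁻¹ * x * k) * G₀⁻¹ := by group
      rw [this]
      exact hNmap _ hk
  have hdetz : ∀ (x : GL (Fin 3) F) (n : ℕ) (z : F), x ∈ Cfsg.Geo.specialLinear (Fin 3) F →
      ((x ^ n : GL (Fin 3) F) : Matrix (Fin 3) (Fin 3) F) = z • (1 : Matrix (Fin 3) (Fin 3) F) →
      z ^ 3 = 1 := by
    intro x n z hxS hz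
    have hdet := (Cfsg.Agent.H9.Ex27.mem_specialLinear x).1 hxS
    have h1 := congrArg Matrix.det hz
    rw [Units.val_pow_eq_pow_val, Matrix.det_pow, hdet, one_pow, Matrix.det_smul, Matrix.det_one,
      mul_one, Fintype.card_fin] at h1
    exact h1.symm
  -- the group `R` lies in the special linear group
  have hRS : R ≤ Cfsg.Geo.specialLinear (Fin 3) F := by
    rw [hRG, Subgroup.map_le_iff_le_comap]
    unfold Cfsg.Agent.H9.Ex27.Rstd
    rw [Subgroup.closure_le]
    intro s hs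
    rw [SetLike.mem_coe, Subgroup.mem_comap, Cfsg.Agent.H9.Ex27.mem_specialLinear]
    show ((G₀ * s * G₀⁻¹ : GL (Fin 3) F) : Matrix (Fin 3) (Fin 3) F).det = 1
    have hconj : ((G₀ * s * G₀⁻¹ : GL (Fin 3) F) : Matrix (Fin 3) (Fin 3) F).det
        = (s : Matrix (Fin 3) (Fin 3) F).det := by
      rw [Units.val_mul, Units.val_mul, Matrix.det_mul, Matrix.det_mul,
        mul_comm ((G₀ : Matrix (Fin 3) (Fin 3) F).det), mul_assoc, ← Matrix.det_mul, Units.mul_inv,
        Matrix.det_one, mul_one]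
    rw [hconj]
    rcases hs with rfl | rfl
    · rw [Cfsg.Agent.H9.Ex27.Xg_val, Cfsg.Agent.H9.Ex27.Xm, Matrix.det_fin_three]
      simp
    · unfold Cfsg.Agent.H9.Ex27.Yg
      rw [Cfsg.Agent.H9.Ex27.diagG_val, Matrix.det_diagonal, Fin.prod_univ_three]
      show (1 : F) * ω * ω ^ 2 = 1
      linear_combination hω3
  constructor
  · intro H
    by_contra hcon
    push Not at hcon
    obtain ⟨hr2, hr3⟩ := hcon
    by_cases hr3' : r = 3
    · -- contradiction with the index
      have hp9 := hr3 hr3'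
      have hcase : p % 9 = 4 ∨ p % 9 = 7 := by omega
      apply Cfsg.Agent.H9.Ex27.not_81_dvd_card_sl3 hF hcase
      rw [hr3'] at hΩ
      have hle : R.subgroupOf (Cfsg.Geo.specialLinear (Fin 3) F)
          ≤ (Cfsg.Geo.subgroupNormalizer R).subgroupOf (Cfsg.Geo.specialLinear (Fin 3) F) := by
        intro s hs
        rw [Subgroup.mem_subgroupOf] at hs ⊢
        exact Subgroup.le_normalizer hs
      have h27 : 27 ∣ Nat.card ((Cfsg.Geo.subgroupNormalizer R).subgroupOf
          (Cfsg.Geo.specialLinear (Fin 3) F)) := by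
        rw [← hR, ← Nat.card_congr (Subgroup.subgroupOfEquivOfLe hRS).toEquiv]
        exact Subgroup.card_dvd_of_le hle
      have := Subgroup.card_mul_index ((Cfsg.Geo.subgroupNormalizer R).subgroupOf
        (Cfsg.Geo.specialLinear (Fin 3) F))
      rw [← this]
      have h81 : (81 : ℕ) = 27 * 3 := by norm_num
      rw [h81]
      exact Nat.mul_dvd_mul h27 hΩ
    · have hr5 : 5 ≤ r := by
        have h2r := hr.two_le
        by_contra hlt
        have : r = 4 := by omega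
        rw [this] at hr
        norm_num at hr
      have hdvd : r ∣ Nat.card ↥(Cfsg.Geo.specialLinear (Fin 3) F) :=
        hΩ.trans (Subgroup.relIndex_dvd_card _ _)
      obtain ⟨X₀, hX₀⟩ := exists_prime_orderOf_dvd_card' r hdvd
      have hord : orderOf (X₀ : GL (Fin 3) F) = r := by rw [Subgroup.orderOf_coe]; exact hX₀
      have hsc : ∀ (Y : GL (Fin 3) F), Y ∈ Cfsg.Geo.specialLinear (Fin 3) F → orderOf Y = r →
          ¬ ∃ z : F, (Y : Matrix (Fin 3) (Fin 3) F) = z • (1 : Matrix (Fin 3) (Fin 3) F) := by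
        rintro Y hY hYo ⟨z, hz⟩
        have hdet := (Cfsg.Agent.H9.Ex27.mem_specialLinear Y).1 hY
        rw [hz, Matrix.det_smul, Matrix.det_one, mul_one, Fintype.card_fin] at hdet
        have hY3 : Y ^ 3 = 1 := by
          apply Units.ext
          rw [Units.val_pow_eq_pow_val, hz, smul_pow, one_pow, hdet, one_smul]
          rfl
        have := orderOf_dvd_of_pow_eq_one hY3
        rw [hYo] at this
        have := Nat.le_of_dvd (by norm_num) this
        omega
      obtain ⟨g, hg, hY⟩ := H (X₀ : GL (Fin 3) F) X₀.2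
        ⟨1, by rw [← hord, pow_orderOf_eq_one]; simp⟩
        (fun z hz => hsc _ X₀.2 hord ⟨z, hz⟩)
      obtain ⟨Y, hYdef⟩ : ∃ Y, Y = g⁻¹ * (X₀ : GL (Fin 3) F) * g := ⟨_, rfl⟩
      rw [← hYdef] at hY
      have hYo : orderOf Y = r := by
        rw [← hord]
        have : Y = (MulAut.conj g⁻¹) (X₀ : GL (Fin 3) F) := by
          rw [MulAut.conj_apply, inv_inv, hYdef]
        rw [this]
        exact orderOf_injective (MulAut.conj g⁻¹).toMonoidHom (MulAut.conj g⁻¹).injective _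
      have hYS : Y ∈ Cfsg.Geo.specialLinear (Fin 3) F := by
        rw [hYdef]
        exact Subgroup.mul_mem _ (Subgroup.mul_mem _ (Subgroup.inv_mem _ hg) X₀.2) hg
      -- the central element
      set Z := Cfsg.Agent.H9.Ex27.diagG (fun _ : Fin 3 => ω) (fun _ => hω0) with hZ
      have hZcomm : ∀ m : GL (Fin 3) F, Z * m = m * Z :=
        fun m => Cfsg.Agent.H9.Ex27.scalarG_comm ω hω0 m
      have hZR : Z ∈ R := by
        rw [hRG]
        refine ⟨Z, Cfsg.Agent.H9.Ex27.scalar_omega_mem ω hω0 hω3, ?_⟩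
        show G₀ * Z * G₀⁻¹ = Z
        rw [← hZcomm G₀]
        group
      have hZ1 : Z ≠ 1 := by
        intro h
        apply hω1
        have := congrArg (fun u : GL (Fin 3) F => (u : Matrix (Fin 3) (Fin 3) F) 0 0) h
        simpa [hZ] using this
      have hZY : Y * Z * Y⁻¹ = Z := by
        rw [← hZcomm Y]
        group
      have hcent := Cfsg.Agent.H9.Ex27.centralizes27 R hR Y hY r hr5 hYo Z hZR hZ1 hZY
      -- transport to standard coordinates
      obtain ⟨Y', hY'⟩ : ∃ Y', Y' = G₀⁻¹ * Y * G₀ := ⟨_, rfl⟩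
      have hcomm_std : ∀ s ∈ Cfsg.Agent.H9.Ex27.Rstd ω hω0, Y' * s = s * Y' := by
        intro s hs
        have h1 := hcent (G₀ * s * G₀⁻¹) (by rw [hRG]; exact ⟨s, hs, rfl⟩)
        rw [hY']
        have h2 : Y * (G₀ * s * G₀⁻¹) = (G₀ * s * G₀⁻¹) * Y := by
          calc Y * (G₀ * s * G₀⁻¹) = (Y * (G₀ * s * G₀⁻¹) * Y⁻¹) * Y := by group
            _ = (G₀ * s * G₀⁻¹) * Y := by rw [h1]
        calc G₀⁻¹ * Y * G₀ * s = G₀⁻¹ * (Y * (G₀ * s * G₀⁻¹)) * G₀ := by group
          _ = G₀⁻¹ * ((G₀ * s * G₀⁻¹) * Y) * G₀ := by rw [h2]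
          _ = s * (G₀⁻¹ * Y * G₀) := by group
      have hX := congrArg (fun u : GL (Fin 3) F => (u : Matrix (Fin 3) (Fin 3) F))
        (hcomm_std _ (Cfsg.Agent.H9.Ex27.Xg_mem ω hω0))
      have hYc := congrArg (fun u : GL (Fin 3) F => (u : Matrix (Fin 3) (Fin 3) F))
        (hcomm_std _ (Cfsg.Agent.H9.Ex27.Yg_mem ω hω0))
      simp only [Units.val_mul, Cfsg.Agent.H9.Ex27.Xg_val] at hX
      unfold Cfsg.Agent.H9.Ex27.Yg at hYc
      simp only [Units.val_mul, Cfsg.Agent.H9.Ex27.diagG_val] at hYc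
      obtain ⟨c, hc⟩ := Cfsg.Agent.H9.Ex27.scalar_of_commute_std h3 ω hω _ hX hYc
      apply hsc Y hYS hYo
      refine ⟨c, ?_⟩
      have hYeq : Y = G₀ * Y' * G₀⁻¹ := by rw [hY']; group
      rw [hYeq, Units.val_mul, Units.val_mul, hc, Matrix.mul_smul, Matrix.mul_one, Matrix.smul_mul,
        Units.mul_inv]
  · rintro (rfl | ⟨rfl, hp9⟩)
    · intro x hxS hpow hns
      obtain ⟨z, hz⟩ := hpow
      have hz3 := hdetz x 2 z hxS hz
      have hz0 : z ≠ 0 := by
        intro h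
        rw [h] at hz3
        simp at hz3
      apply reduce
      intro δ
      refine Cfsg.Agent.H9.Ex27.conj_sq h2 ω hω0 hω x (z ^ 2) (pow_ne_zero 2 hz0) ?_ ?_ hns δ
      · rw [← pow_two, ← Units.val_pow_eq_pow_val, hz]
        congr 1
        linear_combination (-z) * hz3
      · rw [(Cfsg.Agent.H9.Ex27.mem_specialLinear x).1 hxS]
        linear_combination (-(z ^ 3) - 1) * hz3
    · intro x hxS hpow hns
      obtain ⟨z, hz⟩ := hpow
      have hz3 := hdetz x 3 z hxS hz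
      obtain ⟨c, hc⟩ := exists_cube_root_of_nine hF (by omega : 9 ∣ p - 1) z hz3
      have hc0 : c ≠ 0 := by
        intro h
        rw [h] at hc
        rw [← hc] at hz3
        simp at hz3
      apply reduce
      intro δ
      refine Cfsg.Agent.H9.Ex27.conj_cube h3 ω hω0 hω x c hc0 ?_ δ
      rw [hc, ← hz, Units.val_pow_eq_pow_val, pow_three']

end Cfsg.Agent.S5998
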