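import Cfsg.Statements.S5999
import Cfsg.Agent.H9.Ex27I
import Cfsg.Agent.S5998
import Cfsg.Agent.Lib.Helper8.Singer3H

set_option autoImplicit false
open scoped MatrixGroups
open Cfsg

namespace Cfsg.Agent.S5999

/-- Elements of prime order of PSU_3(p), p ≡ 2 (mod 3), and the normalizer of an extraspecial subgroup of order 27. Here `T = PSU_3(p)` for a prime `p ≥ 5` with `p ≡ 2 (mod 3)`, realised through `SU_3(p)`, the matrices of determinant 1 over the field `F` with `p²` elements preserving the hermitian form `Σ uᵢvᵢ^p`; `R` is a non-abelian subgroup of order 27 and exponent 3 of the full unitary group of that form (an extraspecial group 3^{1+2}, acting absolutely irreducibly), and `H` is the subgroup of `SU_3(p)` normalizing `R` — a subgroup of type 3^{1+2}.Sp₂(3) (maximality is not assumed). Ω is the set of cosets of `H`, so an element of `T` of prime order `r` (`x ∈ SU_3(p)` with `x^r` scalar, `x` not scalar) fixes a point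 of Ω exactly when some `SU_3(p)`-conjugate of `x` normalizes `R`. Let `r` be a prime dividing the index of `H`. Then every element of `T` of order `r` fixes a point of Ω if and only if `r = 2`, or `r = 3` and `p ≡ 8 (mod 9)`. -/
theorem result {F : Type*} [Field F] [Fintype F] {p : ℕ} [Fact p.Prime] [CharP F p] (hF : Fintype.card F = p ^ 2) (hp : 5 ≤ p) (hp3 : p % 3 = 2)
    (R : Subgroup (GL (Fin 3) F)) (hRU : R ≤ Cfsg.GU 3 F p) (hR : Nat.card R = 27) (hRe : Monoid.exponent R = 3) (hRna : ¬ IsMulCommutative R)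
    (r : ℕ) [Fact r.Prime]
    (hΩ : r ∣ (Cfsg.Geo.subgroupNormalizer R).relIndex (Cfsg.GU 3 F p ⊓ Cfsg.Geo.specialLinear (Fin 3) F)) :
    (∀ x ∈ Cfsg.GU 3 F p ⊓ Cfsg.Geo.specialLinear (Fin 3) F, (∃ z : F, ((x ^ r : GL (Fin 3) F) : Matrix (Fin 3) (Fin 3) F) = z • (1 : Matrix (Fin 3) (Fin 3) F)) →
      (∀ z : F, (x : Matrix (Fin 3) (Fin 3) F) ≠ z • (1 : Matrix (Fin 3) (Fin 3) F)) →
      ∃ g ∈ Cfsg.GU 3 F p ⊓ Cfsg.Geo.specialLinear (Fin 3) F, g⁻¹ * x * g ∈ Cfsg.Geo.subgroupNormalizer R) ↔ (r = 2 ∨ (r = 3 ∧ p % 9 = 8)) := by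
  classical
  have hp' : p.Prime := Fact.out
  have hr : r.Prime := Fact.out
  have hp2 : p ≠ 2 := by omega
  have hp3' : p ≠ 3 := by omega
  have h2 : (2 : F) ≠ 0 := by
    intro h
    have h' : ((2 : ℕ) : F) = 0 := by exact_mod_cast h
    rw [CharP.cast_eq_zero_iff F p] at h'
    exact hp2 ((Nat.prime_dvd_prime_iff_eq hp' Nat.prime_two).1 h')
  have h3 : (3 : F) ≠ 0 := Cfsg.Agent.Lib.Helper8.Singer3.three_ne_zero_of p hp3'
  have hq3 : 3 ∣ p + 1 := by omega
  obtain ⟨σ, hσ, hσne, hσ2⟩ := Cfsg.Agent.S0277.exists_frob hF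
  have h3' : 3 ∣ p ^ 2 - 1 := by
    have e : p ^ 2 - 1 = (p + 1) * (p - 1) := by
      have : 1 ≤ p := by omega
      zify [this, Nat.one_le_pow 2 p (by omega)]
      ring
    rw [e]
    exact Dvd.dvd.mul_right hq3 _
  obtain ⟨ω₀, hω₀⟩ := Cfsg.Agent.Lib.Helper8.Singer3.exists_omega hF h3'
  obtain ⟨ω, hω0, G₁, hω, hG₁U, hRG⟩ := Cfsg.Agent.H9.Ex27.exists_unitary_std_form σ hσ hσne hσ2 hq3
    h3 ω₀ hω₀ R hRU hR hRe hRna
  have hω3 : ω ^ 3 = 1 := by linear_combination (ω - 1) * hω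
  have hω1 : ω ≠ 1 := Cfsg.Agent.Lib.Helper8.Singer3.omega_ne_one h3 ω hω
  have hNmap : ∀ n : GL (Fin 3) F,
      n ∈ Subgroup.normalizer (Cfsg.Agent.H9.Ex27.Rstd ω hω0 : Set (GL (Fin 3) F)) →
      G₁ * n * G₁⁻¹ ∈ Cfsg.Geo.subgroupNormalizer R := by
    intro n hn
    unfold Cfsg.Geo.subgroupNormalizer
    rw [hRG]
    exact Subgroup.le_normalizer_map _ ⟨n, hn, rfl⟩
  have hG₁det := Cfsg.Agent.Lib.Helper8.SUReg.det_of_mem_GU σ hσ G₁ hG₁U
  have reduce : ∀ x : GL (Fin 3) F,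
      (∀ δ : Fˣ, (δ : F) * σ δ = 1 → ∃ k : GL (Fin 3) F, k ∈ Cfsg.GU 3 F p ∧
        Matrix.GeneralLinearGroup.det k = δ ∧
        k⁻¹ * x * k ∈ Subgroup.normalizer (Cfsg.Agent.H9.Ex27.Rstd ω hω0 : Set (GL (Fin 3) F))) →
      ∃ g ∈ Cfsg.GU 3 F p ⊓ Cfsg.Geo.specialLinear (Fin 3) F,
        g⁻¹ * x * g ∈ Cfsg.Geo.subgroupNormalizer R := by
    intro x hx
    obtain ⟨k, hkU, hkdet, hk⟩ := hx (Matrix.GeneralLinearGroup.det G₁) (by
      rw [Matrix.GeneralLinearGroup.val_det_apply]; exact hG₁det)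
    refine ⟨k * G₁⁻¹, ⟨Subgroup.mul_mem _ hkU (Subgroup.inv_mem _ hG₁U), ?_⟩, ?_⟩
    · show k * G₁⁻¹ ∈ Cfsg.Geo.specialLinear (Fin 3) F
      unfold Cfsg.Geo.specialLinear
      rw [MonoidHom.mem_ker, map_mul, map_inv, hkdet, mul_inv_cancel]
    · have : (k * G₁⁻¹)⁻¹ * x * (k * G₁⁻¹) = G₁ * (k⁻¹ * x * k) * G₁⁻¹ := by group
      rw [this]
      exact hNmap _ hk
  have hdetz : ∀ (x : GL (Fin 3) F) (n : ℕ) (z : F), x ∈ Cfsg.Geo.specialLinear (Fin 3) F →
      ((x ^ n : GL (Fin 3) F) : Matrix (Fin 3) (Fin 3) F) = z • (1 : Matrix (Fin 3) (Fin 3) F) →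
      z ^ 3 = 1 := by
    intro x n z hxS hz
    have hdet := (Cfsg.Agent.H9.Ex27.mem_specialLinear x).1 hxS
    have h1 := congrArg Matrix.det hz
    rw [Units.val_pow_eq_pow_val, Matrix.det_pow, hdet, one_pow, Matrix.det_smul, Matrix.det_one,
      mul_one, Fintype.card_fin] at h1
    exact h1.symm
  -- the group `R` lies in the special linear group
  have hRS : R ≤ Cfsg.Geo.specialLinear (Fin 3) F := by
    rw [hRG, Subgroup.map_le_iff_le_comap]
    unfold Cfsg.Agent.H9.Ex27.Rstd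
    rw [Subgroup.closure_le]
    intro s hs
    rw [SetLike.mem_coe, Subgroup.mem_comap, Cfsg.Agent.H9.Ex27.mem_specialLinear]
    show ((G₁ * s * G₁⁻¹ : GL (Fin 3) F) : Matrix (Fin 3) (Fin 3) F).det = 1
    have hconj : ((G₁ * s * G₁⁻¹ : GL (Fin 3) F) : Matrix (Fin 3) (Fin 3) F).det
        = (s : Matrix (Fin 3) (Fin 3) F).det := by
      rw [Units.val_mul, Units.val_mul, Matrix.det_mul, Matrix.det_mul,
        mul_comm ((G₁ : Matrix (Fin 3) (Fin 3) F).det), mul_assoc, ← Matrix.det_mul, Units.mul_inv,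
        Matrix.det_one, mul_one]
    rw [hconj]
    rcases hs with rfl | rfl
    · rw [Cfsg.Agent.H9.Ex27.Xg_val, Cfsg.Agent.H9.Ex27.Xm, Matrix.det_fin_three]
      simp
    · unfold Cfsg.Agent.H9.Ex27.Yg
      rw [Cfsg.Agent.H9.Ex27.diagG_val, Matrix.det_diagonal, Fin.prod_univ_three]
      show (1 : F) * ω * ω ^ 2 = 1
      linear_combination hω3
  have hRSU : R ≤ Cfsg.GU 3 F p ⊓ Cfsg.Geo.specialLinear (Fin 3) F := le_inf hRU hRS
  constructor
  · intro H
    by_contra hcon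
    push Not at hcon
    obtain ⟨hr2, hr3⟩ := hcon
    by_cases hr3' : r = 3
    · -- contradiction with the index
      have hp9 := hr3 hr3'
      have hcase : p % 9 = 2 ∨ p % 9 = 5 := by omega
      apply Cfsg.Agent.H9.Ex27.not_81_dvd_card_su3 hF hcase
      rw [hr3'] at hΩ
      have hle : R.subgroupOf (Cfsg.GU 3 F p ⊓ Cfsg.Geo.specialLinear (Fin 3) F)
          ≤ (Cfsg.Geo.subgroupNormalizer R).subgroupOf
            (Cfsg.GU 3 F p ⊓ Cfsg.Geo.specialLinear (Fin 3) F) := by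
        intro s hs
        rw [Subgroup.mem_subgroupOf] at hs ⊢
        exact Subgroup.le_normalizer hs
      have h27 : 27 ∣ Nat.card ((Cfsg.Geo.subgroupNormalizer R).subgroupOf
          (Cfsg.GU 3 F p ⊓ Cfsg.Geo.specialLinear (Fin 3) F)) := by
        rw [← hR, ← Nat.card_congr (Subgroup.subgroupOfEquivOfLe hRSU).toEquiv]
        exact Subgroup.card_dvd_of_le hle
      have := Subgroup.card_mul_index ((Cfsg.Geo.subgroupNormalizer R).subgroupOf
        (Cfsg.GU 3 F p ⊓ Cfsg.Geo.specialLinear (Fin 3) F))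
      rw [← this]
      have h81 : (81 : ℕ) = 27 * 3 := by norm_num
      rw [h81]
      exact Nat.mul_dvd_mul h27 hΩ
    · have hr5 : 5 ≤ r := by
        have h2r := hr.two_le
        by_contra hlt
        have : r = 4 := by omega
        rw [this] at hr
        norm_num at hr
      have hdvd : r ∣ Nat.card ↥(Cfsg.GU 3 F p ⊓ Cfsg.Geo.specialLinear (Fin 3) F) :=
        hΩ.trans (Subgroup.relIndex_dvd_card _ _)
      obtain ⟨X₀, hX₀⟩ := exists_prime_orderOf_dvd_card' r hdvd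
      have hord : orderOf (X₀ : GL (Fin 3) F) = r := by rw [Subgroup.orderOf_coe]; exact hX₀
      have hsc : ∀ (Y : GL (Fin 3) F), Y ∈ Cfsg.Geo.specialLinear (Fin 3) F → orderOf Y = r →
          ¬ ∃ z : F, (Y : Matrix (Fin 3) (Fin 3) F) = z • (1 : Matrix (Fin 3) (Fin 3) F) := by
        rintro Y hY hYo ⟨z, hz⟩
        have hdet := (Cfsg.Agent.H9.Ex27.mem_specialLinear Y).1 hY
        rw [hz, Matrix.det_smul, Matrix.det_one, mul_one, Fintype.card_fin] at hdet
        have hY3 : Y ^ 3 = 1 := by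
          apply Units.ext
          rw [Units.val_pow_eq_pow_val, hz, smul_pow, one_pow, hdet, one_smul]
          rfl
        have := orderOf_dvd_of_pow_eq_one hY3
        rw [hYo] at this
        have := Nat.le_of_dvd (by norm_num) this
        omega
      obtain ⟨g, hg, hY⟩ := H (X₀ : GL (Fin 3) F) X₀.2
        ⟨1, by rw [← hord, pow_orderOf_eq_one]; simp⟩
        (fun z hz => hsc _ X₀.2.2 hord ⟨z, hz⟩)
      obtain ⟨Y, hYdef⟩ : ∃ Y, Y = g⁻¹ * (X₀ : GL (Fin 3) F) * g := ⟨_, rfl⟩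
      rw [← hYdef] at hY
      have hYo : orderOf Y = r := by
        rw [← hord]
        have : Y = (MulAut.conj g⁻¹) (X₀ : GL (Fin 3) F) := by
          rw [MulAut.conj_apply, inv_inv, hYdef]
        rw [this]
        exact orderOf_injective (MulAut.conj g⁻¹).toMonoidHom (MulAut.conj g⁻¹).injective _
      have hYS : Y ∈ Cfsg.Geo.specialLinear (Fin 3) F := by
        rw [hYdef]
        exact Subgroup.mul_mem _ (Subgroup.mul_mem _ (Subgroup.inv_mem _ hg.2) X₀.2.2) hg.2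
      -- the central element
      set Z := Cfsg.Agent.H9.Ex27.diagG (fun _ : Fin 3 => ω) (fun _ => hω0) with hZ
      have hZcomm : ∀ m : GL (Fin 3) F, Z * m = m * Z :=
        fun m => Cfsg.Agent.H9.Ex27.scalarG_comm ω hω0 m
      have hZR : Z ∈ R := by
        rw [hRG]
        refine ⟨Z, Cfsg.Agent.H9.Ex27.scalar_omega_mem ω hω0 hω3, ?_⟩
        show G₁ * Z * G₁⁻¹ = Z
        rw [← hZcomm G₁]
        group
      have hZ1 : Z ≠ 1 := by
        intro h
        apply hω1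
        have := congrArg (fun u : GL (Fin 3) F => (u : Matrix (Fin 3) (Fin 3) F) 0 0) h
        simpa [hZ] using this
      have hZY : Y * Z * Y⁻¹ = Z := by
        rw [← hZcomm Y]
        group
      have hcent := Cfsg.Agent.H9.Ex27.centralizes27 R hR Y hY r hr5 hYo Z hZR hZ1 hZY
      -- transport to standard coordinates
      obtain ⟨Y', hY'⟩ : ∃ Y', Y' = G₁⁻¹ * Y * G₁ := ⟨_, rfl⟩
      have hcomm_std : ∀ s ∈ Cfsg.Agent.H9.Ex27.Rstd ω hω0, Y' * s = s * Y' := by
        intro s hs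
        have h1 := hcent (G₁ * s * G₁⁻¹) (by rw [hRG]; exact ⟨s, hs, rfl⟩)
        rw [hY']
        have h2 : Y * (G₁ * s * G₁⁻¹) = (G₁ * s * G₁⁻¹) * Y := by
          calc Y * (G₁ * s * G₁⁻¹) = (Y * (G₁ * s * G₁⁻¹) * Y⁻¹) * Y := by group
            _ = (G₁ * s * G₁⁻¹) * Y := by rw [h1]
        calc G₁⁻¹ * Y * G₁ * s = G₁⁻¹ * (Y * (G₁ * s * G₁⁻¹)) * G₁ := by group
          _ = G₁⁻¹ * ((G₁ * s * G₁⁻¹) * Y) * G₁ := by rw [h2]
          _ = s * (G₁⁻¹ * Y * G₁) := by group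
      have hX := congrArg (fun u : GL (Fin 3) F => (u : Matrix (Fin 3) (Fin 3) F))
        (hcomm_std _ (Cfsg.Agent.H9.Ex27.Xg_mem ω hω0))
      have hYc := congrArg (fun u : GL (Fin 3) F => (u : Matrix (Fin 3) (Fin 3) F))
        (hcomm_std _ (Cfsg.Agent.H9.Ex27.Yg_mem ω hω0))
      simp only [Units.val_mul, Cfsg.Agent.H9.Ex27.Xg_val] at hX
      unfold Cfsg.Agent.H9.Ex27.Yg at hYc
      simp only [Units.val_mul, Cfsg.Agent.H9.Ex27.diagG_val] at hYc
      obtain ⟨c, hc⟩ := Cfsg.Agent.H9.Ex27.scalar_of_commute_std h3 ω hω _ hX hYc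
      apply hsc Y hYS hYo
      refine ⟨c, ?_⟩
      have hYeq : Y = G₁ * Y' * G₁⁻¹ := by rw [hY']; group
      rw [hYeq, Units.val_mul, Units.val_mul, hc, Matrix.mul_smul, Matrix.mul_one, Matrix.smul_mul,
        Units.mul_inv]
  · rintro (rfl | ⟨rfl, hp9⟩)
    · intro x hxS hpow hns
      obtain ⟨z, hz⟩ := hpow
      have hz3 := hdetz x 2 z hxS.2 hz
      have hz0 : z ≠ 0 := by
        intro h
        rw [h] at hz3
        simp at hz3
      apply reduce
      intro δ hδ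
      have hcn : z ^ 2 * σ (z ^ 2) = 1 :=
        Cfsg.Agent.H9.Ex27.norm_one_of_pow σ hσ 3 hq3 (z ^ 2) (by rw [← pow_mul, mul_comm, pow_mul, hz3, one_pow])
      refine Cfsg.Agent.H9.Ex27.conj_sq_U σ hF hσ h2 ω hω0 hω x hxS.1 (z ^ 2) (pow_ne_zero 2 hz0) hcn
        ?_ ?_ hns δ hδ
      · rw [← pow_two, ← Units.val_pow_eq_pow_val, hz]
        congr 1
        linear_combination (-z) * hz3
      · rw [(Cfsg.Agent.H9.Ex27.mem_specialLinear x).1 hxS.2]
        linear_combination (-(z ^ 3) - 1) * hz3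
    · intro x hxS hpow hns
      obtain ⟨z, hz⟩ := hpow
      have hz3 := hdetz x 3 z hxS.2 hz
      have h9 : 9 ∣ p ^ 2 - 1 := by
        have e : p ^ 2 - 1 = (p + 1) * (p - 1) := by
          have : 1 ≤ p := by omega
          zify [this, Nat.one_le_pow 2 p (by omega)]
          ring
        rw [e]
        exact Dvd.dvd.mul_right (by omega) _
      obtain ⟨c, hc⟩ := Cfsg.Agent.S5998.exists_cube_root_of_nine hF h9 z hz3
      have hc0 : c ≠ 0 := by
        intro h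
        rw [h] at hc
        rw [← hc] at hz3
        simp at hz3
      have hcn : c * σ c = 1 :=
        Cfsg.Agent.H9.Ex27.norm_one_of_pow σ hσ 9 (by omega) c (by
          have : c ^ 9 = (c ^ 3) ^ 3 := by ring
          rw [this, hc, hz3])
      apply reduce
      intro δ hδ
      refine Cfsg.Agent.H9.Ex27.conj_cube_U σ hF hσ hq3 h3 ω hω0 hω x hxS.1 c hc0 hcn ?_ δ hδ
      rw [hc, ← hz, Units.val_pow_eq_pow_val, pow_three']

end Cfsg.Agent.S5999
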