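import Cfsg.Statements.S6000
import Cfsg.Agent.H9.Pauli4S
import Cfsg.Agent.H9.Pauli4T
import Cfsg.Agent.H9.Ex27A
import Cfsg.Agent.Lib.Lead.PauliForm
import Cfsg.Agent.Lib.Helper8.InvSubE
import Cfsg.Agent.Lib.Helper8.Singer3H

set_option autoImplicit false
open scoped MatrixGroups
open Cfsg

namespace Cfsg.Agent.S6000

/-- Elements of prime order of PSL_4(p), p ≡ 1 (mod 4), and the normalizer of a 2-group of symplectic type of order 2⁶. Here `T = PSL_4(F)` for the field `F` with `p` elements, `p` a prime with `p ≡ 1 (mod 4)`; `R` is an absolutely irreducible subgroup of GL_4(F) of order 2⁶ that is a 2-group of symplectic type of exponent 4 with centre of order 4 (the central product of the scalars of order 4 with an extraspecial group 2^{1+4}), and `H` is the subgroup of matrices of determinant 1 normalizing `R` — a subgroup of type 2⁴.Sp₄(2) (maximality is not assumed). Ω is the set of cosets of `H` in `T`, so an element of `T`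 of prime order `r` (a matrix `x` of determinant 1 with `x^r` scalar, `x` not scalar) fixes a point of Ω exactly when some conjugate of `x` by a matrix of determinant 1 normalizes `R`. Let `r` be a prime dividing the index of `H`. Then every element of `T` of order `r` fixes a point of Ω if and only if `r = 2`, or `r = 3` and `p ≡ 2 (mod 3)`, or `r = 5` and `p ≡ ±2 (mod 5)` (`p` has multiplicative order 4 modulo 5). -/
theorem result {F : Type*} [Field F] [Fintype F] {p : ℕ} [Fact p.Prime] [CharP F p] (hF : Fintype.card F = p) (hp4 : p % 4 = 1)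
    (R : Subgroup (GL (Fin 4) F)) (hR : Cfsg.Geo.IsLinearSymplecticTypeData 2 R) (hR6 : Nat.card R = 2 ^ 6)
    (r : ℕ) [Fact r.Prime]
    (hΩ : r ∣ (Cfsg.Geo.subgroupNormalizer R).relIndex (Cfsg.Geo.specialLinear (Fin 4) F)) :
    (∀ x ∈ Cfsg.Geo.specialLinear (Fin 4) F, (∃ z : F, ((x ^ r : GL (Fin 4) F) : Matrix (Fin 4) (Fin 4) F) = z • (1 : Matrix (Fin 4) (Fin 4) F)) →
      (∀ z : F, (x : Matrix (Fin 4) (Fin 4) F) ≠ z • (1 : Matrix (Fin 4) (Fin 4) F)) →
      ∃ g ∈ Cfsg.Geo.specialLinear (Fin 4) F, g⁻¹ * x * g ∈ Cfsg.Geo.subgroupNormalizer R) ↔ (r = 2 ∨ (r = 3 ∧ p % 3 = 2) ∨ (r = 5 ∧ orderOf (p : ZMod 5) = 4)) := by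
  classical
  have hp' : p.Prime := Fact.out
  have hr : r.Prime := Fact.out
  have hp2 : p ≠ 2 := by
    intro h
    rw [h] at hp4
    norm_num at hp4
  have hp3' : p ≠ 3 := by
    intro h
    rw [h] at hp4
    norm_num at hp4
  have h2 : (2 : F) ≠ 0 := by
    intro h
    have h' : ((2 : ℕ) : F) = 0 := by exact_mod_cast h
    rw [CharP.cast_eq_zero_iff F p] at h'
    exact hp2 ((Nat.prime_dvd_prime_iff_eq hp' Nat.prime_two).1 h')
  have h3 : (3 : F) ≠ 0 := Cfsg.Agent.Lib.Helper8.Singer3.three_ne_zero_of p hp3'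
  have hodd : Fintype.card F % 2 = 1 := by rw [hF]; omega
  have hcardF : Nat.card F = p := by rw [Nat.card_eq_fintype_card, hF]
  -- the centre has order four
  have hRZ : Nat.card (Subgroup.center R) = 4 := by
    obtain ⟨p', e, _, _, hcase⟩ := hR.field
    rcases hcase with ⟨hodd', _⟩ | ⟨_, _, h, _⟩ | ⟨_, _, hc, _⟩
    · exact absurd hodd' (by decide)
    · exact h
    · simp at hc
  obtain ⟨i, hi, G₀, hi2, hRG⟩ :=
    Cfsg.Agent.Lib.Lead.PauliForm.exists_pauli_form h2 R hR.symplecticType hR.absIrred hR6 hRZ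
  have hcard : Nat.card ↥(Cfsg.Agent.H9.Pauli4.Pstd i hi) = 64 := by
    have h := hR6
    rw [hRG, Subgroup.card_map_of_injective (MulAut.conj G₀).injective] at h
    rw [h]
    norm_num
  have hNmap : ∀ n : GL (Fin 4) F,
      n ∈ Subgroup.normalizer (Cfsg.Agent.H9.Pauli4.Pstd i hi : Set (GL (Fin 4) F)) →
      G₀ * n * G₀⁻¹ ∈ Cfsg.Geo.subgroupNormalizer R := by
    intro n hn
    unfold Cfsg.Geo.subgroupNormalizer
    rw [hRG]
    exact Subgroup.le_normalizer_map _ ⟨n, hn, rfl⟩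
  have hNmap' : ∀ Y : GL (Fin 4) F, Y ∈ Cfsg.Geo.subgroupNormalizer R →
      G₀⁻¹ * Y * G₀ ∈ Subgroup.normalizer (Cfsg.Agent.H9.Pauli4.Pstd i hi : Set (GL (Fin 4) F)) := by
    intro Y hY
    unfold Cfsg.Geo.subgroupNormalizer at hY
    rw [hRG, ← Subgroup.map_equiv_normalizer_eq] at hY
    obtain ⟨n, hn, hnY⟩ := hY
    have hY' : Y = G₀ * n * G₀⁻¹ := hnY.symm
    have : G₀⁻¹ * Y * G₀ = n := by rw [hY']; group
    rw [this]
    exact hn
  have reduce : ∀ x : GL (Fin 4) F,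
      (∀ δ : Fˣ, ∃ k : GL (Fin 4) F, Matrix.GeneralLinearGroup.det k = δ ∧
        k⁻¹ * x * k ∈ Subgroup.normalizer (Cfsg.Agent.H9.Pauli4.Pstd i hi : Set (GL (Fin 4) F))) →
      ∃ g ∈ Cfsg.Geo.specialLinear (Fin 4) F, g⁻¹ * x * g ∈ Cfsg.Geo.subgroupNormalizer R := by
    intro x hx
    obtain ⟨k, hkdet, hk⟩ := hx (Matrix.GeneralLinearGroup.det G₀)
    refine ⟨k * G₀⁻¹, ?_, ?_⟩
    · unfold Cfsg.Geo.specialLinear
      rw [MonoidHom.mem_ker, map_mul, map_inv, hkdet, mul_inv_cancel]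
    · have : (k * G₀⁻¹)⁻¹ * x * (k * G₀⁻¹) = G₀ * (k⁻¹ * x * k) * G₀⁻¹ := by group
      rw [this]
      exact hNmap _ hk
  have hdetz : ∀ (x : GL (Fin 4) F) (n : ℕ) (z : F), x ∈ Cfsg.Geo.specialLinear (Fin 4) F →
      ((x ^ n : GL (Fin 4) F) : Matrix (Fin 4) (Fin 4) F) = z • (1 : Matrix (Fin 4) (Fin 4) F) →
      z ^ 4 = 1 := by
    intro x n z hxS hz
    have hdet := (Cfsg.Agent.H9.Ex27.mem_specialLinear x).1 hxS
    have h1 := congrArg Matrix.det hz
    rw [Units.val_pow_eq_pow_val, Matrix.det_pow, hdet, one_pow, Matrix.det_smul, Matrix.det_one,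
      mul_one, Fintype.card_fin] at h1
    exact h1.symm
  constructor
  · intro H
    -- every suitable element has a conjugate in the normalizer of the standard group
    have obstruct : ∀ x : GL (Fin 4) F, x ∈ Cfsg.Geo.specialLinear (Fin 4) F →
        (∃ z : F, ((x ^ r : GL (Fin 4) F) : Matrix (Fin 4) (Fin 4) F)
          = z • (1 : Matrix (Fin 4) (Fin 4) F)) →
        (∀ z : F, (x : Matrix (Fin 4) (Fin 4) F) ≠ z • (1 : Matrix (Fin 4) (Fin 4) F)) →
        ∃ k : GL (Fin 4) F, k⁻¹ * x * k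
          ∈ Subgroup.normalizer (Cfsg.Agent.H9.Pauli4.Pstd i hi : Set (GL (Fin 4) F)) := by
      intro x hxS hz hns
      obtain ⟨g, _, hY⟩ := H x hxS hz hns
      refine ⟨g * G₀, ?_⟩
      have : (g * G₀)⁻¹ * x * (g * G₀) = G₀⁻¹ * (g⁻¹ * x * g) * G₀ := by group
      rw [this]
      exact hNmap' _ hY
    by_contra hcon
    push Not at hcon
    obtain ⟨hr2, hr3, hr5⟩ := hcon
    by_cases hr3' : r = 3
    · subst hr3'
      have hp3 : p % 3 ≠ 2 := hr3 rfl
      have hp31 : p % 3 = 1 := by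
        have : p % 3 ≠ 0 := by
          intro h
          exact hp3' ((Nat.prime_dvd_prime_iff_eq Nat.prime_three hp').1
            (Nat.dvd_of_mod_eq_zero h)).symm
        omega
      obtain ⟨ω, hω⟩ := Cfsg.Agent.Lib.Helper8.Singer3.exists_omega hF (by omega : 3 ∣ p - 1)
      have hω3 : ω ^ 3 = 1 := by linear_combination (ω - 1) * hω
      have hω1 : ω ≠ 1 := by
        rintro rfl
        apply h3
        linear_combination hω
      have hω0 : ω ≠ 0 := by
        rintro rfl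
        simp at hω3
      obtain ⟨k, hk⟩ := obstruct (Cfsg.Agent.H9.Pauli4.x3 ω hω0)
        ((Cfsg.Agent.H9.Ex27.mem_specialLinear _).2 (Cfsg.Agent.H9.Pauli4.det_x3 ω hω0 hω3))
        ⟨1, by rw [Cfsg.Agent.H9.Pauli4.x3_pow ω hω0 hω3, Units.val_one, one_smul]⟩
        (Cfsg.Agent.H9.Pauli4.x3_not_scalar ω hω0 hω1)
      exact Cfsg.Agent.H9.Pauli4.no_conj_three i hi h2 h3 hi2 hcard ω hω0 hω hω1 k hk
    by_cases hr5' : r = 5
    · subst hr5'
      have hord : orderOf (p : ZMod 5) ≠ 4 := hr5 rfl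
      by_cases hp5 : p = 5
      · have h5 : (5 : F) = 0 := by
          have : ((5 : ℕ) : F) = 0 := by
            rw [CharP.cast_eq_zero_iff F p, hp5]
          exact_mod_cast this
        obtain ⟨k, hk⟩ := obstruct (Cfsg.Agent.H9.Pauli4.xu)
          ((Cfsg.Agent.H9.Ex27.mem_specialLinear _).2 Cfsg.Agent.H9.Pauli4.det_xu)
          ⟨1, by rw [Cfsg.Agent.H9.Pauli4.xu_pow h5, Units.val_one, one_smul]⟩
          Cfsg.Agent.H9.Pauli4.xu_not_scalar
        exact Cfsg.Agent.H9.Pauli4.no_conj_unip i hi h2 h3 h5 hcard k hk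
      · have h5 : (5 : F) ≠ 0 := by
          intro h
          have h' : ((5 : ℕ) : F) = 0 := by exact_mod_cast h
          rw [CharP.cast_eq_zero_iff F p] at h'
          exact hp5 ((Nat.prime_dvd_prime_iff_eq hp' Nat.prime_five).1 h')
        obtain ⟨t, ht⟩ := Cfsg.Agent.H9.Pauli4.exists_golden (F := F) hp4 hp5 hord h2
        obtain ⟨k, hk⟩ := obstruct (Cfsg.Agent.H9.Pauli4.x5 t)
          ((Cfsg.Agent.H9.Ex27.mem_specialLinear _).2 (Cfsg.Agent.H9.Pauli4.det_x5 t))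
          ⟨1, by rw [Cfsg.Agent.H9.Pauli4.x5_pow t ht, Units.val_one, one_smul]⟩
          (Cfsg.Agent.H9.Pauli4.x5_not_scalar t)
        exact Cfsg.Agent.H9.Pauli4.no_conj_five i hi h2 h5 hi2 hcard t ht k hk
    · have hr7 : 7 ≤ r := by
        have h2r := hr.two_le
        by_contra hlt
        have : r = 4 ∨ r = 6 := by omega
        rcases this with h | h <;> rw [h] at hr <;> norm_num at hr
      have hdvd : r ∣ Nat.card ↥(Cfsg.Geo.specialLinear (Fin 4) F) :=
        hΩ.trans (Subgroup.relIndex_dvd_card _ _)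
      obtain ⟨X₀, hX₀⟩ := exists_prime_orderOf_dvd_card' r hdvd
      have hord : orderOf (X₀ : GL (Fin 4) F) = r := by rw [Subgroup.orderOf_coe]; exact hX₀
      have hsc : ∀ z : F, ((X₀ : GL (Fin 4) F) : Matrix (Fin 4) (Fin 4) F)
          ≠ z • (1 : Matrix (Fin 4) (Fin 4) F) := by
        intro z hz
        have hdet := (Cfsg.Agent.H9.Ex27.mem_specialLinear (X₀ : GL (Fin 4) F)).1 X₀.2
        rw [hz, Matrix.det_smul, Matrix.det_one, mul_one, Fintype.card_fin] at hdet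
        have hY4 : (X₀ : GL (Fin 4) F) ^ 4 = 1 := by
          apply Units.ext
          rw [Units.val_pow_eq_pow_val, hz, smul_pow, one_pow, hdet, one_smul]
          rfl
        have := orderOf_dvd_of_pow_eq_one hY4
        rw [hord] at this
        have := Nat.le_of_dvd (by norm_num) this
        omega
      have hpow : ((((X₀ : GL (Fin 4) F)) ^ r : GL (Fin 4) F) : Matrix (Fin 4) (Fin 4) F)
          = (1 : F) • (1 : Matrix (Fin 4) (Fin 4) F) := by
        rw [← hord, pow_orderOf_eq_one, Units.val_one, one_smul]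
      obtain ⟨k, hk⟩ := obstruct (X₀ : GL (Fin 4) F) X₀.2 ⟨1, hpow⟩ hsc
      obtain ⟨c, hc⟩ := Cfsg.Agent.H9.Pauli4.scalar_of_seven_le i hi h2 hi2 hcard r hr7 _ hk 1
        (Cfsg.Agent.H9.Pauli4.conj_pow_scalar _ k r 1 hpow)
      exact Cfsg.Agent.H9.Pauli4.conj_not_scalar _ k hsc c hc
  · rintro (rfl | ⟨rfl, hp3⟩ | ⟨rfl, hord⟩)
    · intro x hxS hpow hns
      obtain ⟨z, hz⟩ := hpow
      have hz4 := hdetz x 2 z hxS hz
      have hz0 : z ≠ 0 := by
        intro h
        rw [h] at hz4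
        simp at hz4
      apply reduce
      intro δ
      by_cases hsq : ∃ c : F, c ^ 2 = z
      · obtain ⟨c, hc⟩ := hsq
        have hc0 : c ≠ 0 := by
          rintro rfl
          apply hz0
          rw [← hc]
          simp
        refine Cfsg.Agent.H9.Pauli4.conj_sq4 i hi h2 hi2 x c hc0 ?_ δ
        rw [← pow_two, ← Units.val_pow_eq_pow_val, hz, hc]
      · exfalso
        push Not at hsq
        obtain ⟨k, hk4, hkdet⟩ := Cfsg.Agent.Lib.Helper8.InvSub.det_of_not_pow Nat.prime_two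
          (x : Matrix (Fin 4) (Fin 4) F) z hsq (by rw [← Units.val_pow_eq_pow_val, hz])
        have hk2 : k = 2 := by omega
        rw [hk2, (Cfsg.Agent.H9.Ex27.mem_specialLinear x).1 hxS] at hkdet
        have hz2 : (z - 1) * (z + 1) = 0 := by linear_combination -hkdet
        rcases mul_eq_zero.1 hz2 with h | h
        · exact hsq 1 (by rw [one_pow]; linear_combination -h)
        · exact hsq i (by rw [hi2]; linear_combination -h)
    · intro x hxS hpow hns
      obtain ⟨z, hz⟩ := hpow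
      have hz4 := hdetz x 3 z hxS hz
      have hz0 : z ≠ 0 := by
        intro h
        rw [h] at hz4
        simp at hz4
      apply reduce
      intro δ
      obtain ⟨x', hx'⟩ : ∃ x', x' = Cfsg.Agent.H9.Pauli4.sc4 z hz0 * x := ⟨_, rfl⟩
      have hx'3 : x' ^ 3 = 1 := by
        rw [hx', (show Commute (Cfsg.Agent.H9.Pauli4.sc4 z hz0) x from
          Cfsg.Agent.H9.Pauli4.sc4_comm z hz0 x).mul_pow]
        apply Units.ext
        rw [Units.val_mul, hz, Units.val_pow_eq_pow_val, Cfsg.Agent.H9.Pauli4.sc4_val, smul_pow,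
          one_pow, Matrix.smul_mul, Matrix.one_mul, smul_smul, Units.val_one]
        have : z ^ 3 * z = 1 := by linear_combination hz4
        rw [this, one_smul]
      have hx'1 : x' ≠ 1 := by
        intro h
        apply hns z⁻¹
        have : x = (Cfsg.Agent.H9.Pauli4.sc4 z hz0)⁻¹ := by
          rw [eq_inv_iff_mul_eq_one, ← Cfsg.Agent.H9.Pauli4.sc4_comm, ← hx', h]
        rw [this, Cfsg.Agent.H9.Pauli4.sc4]
        rw [Cfsg.Agent.H9.Pauli4.dg4_inv, Cfsg.Agent.H9.Pauli4.dg4_val,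
          Cfsg.Agent.H9.Pauli4.diagonal_const4]
      obtain ⟨k, hkdet, hk⟩ := Cfsg.Agent.H9.Pauli4.conj_cube4 i hi h2 h3 hi2 hodd
        (Cfsg.Agent.H9.Pauli4.no_omega hF hp3 h3) x' hx'3 hx'1 δ
      refine ⟨k, hkdet, ?_⟩
      have : k⁻¹ * x * k = (Cfsg.Agent.H9.Pauli4.sc4 z hz0)⁻¹ * (k⁻¹ * x' * k) := by
        rw [hx']
        have hc := Cfsg.Agent.H9.Pauli4.sc4_comm z hz0 k⁻¹
        calc k⁻¹ * x * k = (Cfsg.Agent.H9.Pauli4.sc4 z hz0)⁻¹
              * (Cfsg.Agent.H9.Pauli4.sc4 z hz0 * k⁻¹) * x * k := by group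
          _ = (Cfsg.Agent.H9.Pauli4.sc4 z hz0)⁻¹
              * (k⁻¹ * Cfsg.Agent.H9.Pauli4.sc4 z hz0) * x * k := by rw [hc]
          _ = (Cfsg.Agent.H9.Pauli4.sc4 z hz0)⁻¹
              * (k⁻¹ * (Cfsg.Agent.H9.Pauli4.sc4 z hz0 * x) * k) := by group
      rw [this]
      exact Subgroup.mul_mem _ (Subgroup.inv_mem _
        (Cfsg.Agent.H9.Pauli4.sc4_mem_normalizer i hi z hz0)) hk
    · intro x hxS hpow hns
      obtain ⟨z, hz⟩ := hpow
      have hz4 := hdetz x 5 z hxS hz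
      have hz0 : z ≠ 0 := by
        intro h
        rw [h] at hz4
        simp at hz4
      apply reduce
      intro δ
      have hzi0 : z⁻¹ ≠ 0 := inv_ne_zero hz0
      obtain ⟨x', hx'⟩ : ∃ x', x' = Cfsg.Agent.H9.Pauli4.sc4 z⁻¹ hzi0 * x := ⟨_, rfl⟩
      have hx'5 : x' ^ 5 = 1 := by
        rw [hx', (show Commute (Cfsg.Agent.H9.Pauli4.sc4 z⁻¹ hzi0) x from
          Cfsg.Agent.H9.Pauli4.sc4_comm z⁻¹ hzi0 x).mul_pow]
        apply Units.ext
        rw [Units.val_mul, hz, Units.val_pow_eq_pow_val, Cfsg.Agent.H9.Pauli4.sc4_val, smul_pow,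
          one_pow, Matrix.smul_mul, Matrix.one_mul, smul_smul, Units.val_one]
        have : z⁻¹ ^ 5 * z = 1 := by
          have h1 : z⁻¹ ^ 5 * z = (z⁻¹ ^ 4) * (z⁻¹ * z) := by ring
          rw [h1, inv_mul_cancel₀ hz0, mul_one, inv_pow, hz4, inv_one]
        rw [this, one_smul]
      have hx'1 : x' ≠ 1 := by
        intro h
        apply hns z
        have : x = (Cfsg.Agent.H9.Pauli4.sc4 z⁻¹ hzi0)⁻¹ := by
          rw [eq_inv_iff_mul_eq_one, ← Cfsg.Agent.H9.Pauli4.sc4_comm, ← hx', h]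
        rw [this, Cfsg.Agent.H9.Pauli4.sc4]
        rw [Cfsg.Agent.H9.Pauli4.dg4_inv, Cfsg.Agent.H9.Pauli4.dg4_val]
        simp only [inv_inv]
        rw [Cfsg.Agent.H9.Pauli4.diagonal_const4]
      obtain ⟨k, hkdet, hk⟩ := Cfsg.Agent.H9.Pauli4.conj_five4 i hi h2 hi2 p hcardF hord
        x' hx'5 hx'1 δ
      refine ⟨k, hkdet, ?_⟩
      have : k⁻¹ * x * k = (Cfsg.Agent.H9.Pauli4.sc4 z⁻¹ hzi0)⁻¹ * (k⁻¹ * x' * k) := by
        rw [hx']
        have hc := Cfsg.Agent.H9.Pauli4.sc4_comm z⁻¹ hzi0 k⁻¹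
        calc k⁻¹ * x * k = (Cfsg.Agent.H9.Pauli4.sc4 z⁻¹ hzi0)⁻¹
              * (Cfsg.Agent.H9.Pauli4.sc4 z⁻¹ hzi0 * k⁻¹) * x * k := by group
          _ = (Cfsg.Agent.H9.Pauli4.sc4 z⁻¹ hzi0)⁻¹
              * (k⁻¹ * Cfsg.Agent.H9.Pauli4.sc4 z⁻¹ hzi0) * x * k := by rw [hc]
          _ = (Cfsg.Agent.H9.Pauli4.sc4 z⁻¹ hzi0)⁻¹
              * (k⁻¹ * (Cfsg.Agent.H9.Pauli4.sc4 z⁻¹ hzi0 * x) * k) := by group
      rw [this]
      exact Subgroup.mul_mem _ (Subgroup.inv_mem _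
        (Cfsg.Agent.H9.Pauli4.sc4_mem_normalizer i hi z⁻¹ hzi0)) hk

end Cfsg.Agent.S6000
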