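import Cfsg.Statements.S6001
import Cfsg.Agent.H9.Pauli4U6
import Cfsg.Agent.H9.Pauli4U8
import Cfsg.Agent.H9.Pauli4U9
import Cfsg.Agent.H9.Ex27I
import Cfsg.Agent.Lib.Helper8.Singer3H

set_option autoImplicit false
open scoped MatrixGroups
open Cfsg

namespace Cfsg.Agent.S6001

/-- Elements of prime order of PSU_4(p), p ≡ 3 (mod 4), and the normalizer of a 2-group of symplectic type of order 2⁶. Here `T = PSU_4(p)` for a prime `p ≡ 3 (mod 4)`, realised through `SU_4(p)`, the matrices of determinant 1 over the field `F` with `p²` elements preserving the hermitian form `f = Σ uᵢvᵢ^p`; `R` is an absolutely irreducible subgroup of the full unitary group of `f` of order 2⁶ that is a 2-group of symplectic type of exponent 4 with centre of order 4, and `H` is the subgroup of `SU_4(p)` normalizing `R` — a subgroup of type 2⁴.Sp₄(2) (maximality is not assumed). Ω is the set of cosets of `H`, so an element of `T` of prime order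 `r` (`x ∈ SU_4(p)` with `x^r` scalar, `x` not scalar) fixes a point of Ω exactly when some `SU_4(p)`-conjugate of `x` normalizes `R`. Let `r` be a prime dividing the index of `H`. Then every element of `T` of order `r` fixes a point of Ω if and only if `r = 2`, or `r = 3` and `p ≡ 1 (mod 3)`, or `r = 5` and `p ≡ ±2 (mod 5)` (`p` has multiplicative order 4 modulo 5). -/
theorem result {F : Type*} [Field F] [Fintype F] {p : ℕ} [Fact p.Prime] [CharP F p] (hF : Fintype.card F = p ^ 2) (hp4 : p % 4 = 3)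
    (R : Subgroup (GL (Fin 4) F)) (hRs : Cfsg.Geo.IsSymplecticTypeGroup 2 R) (hRi : Cfsg.Geo.ActsAbsolutelyIrreducibly (Cfsg.Geo.matrixSet R))
    (hRU : R ≤ Cfsg.GU 4 F p) (hR6 : Nat.card R = 2 ^ 6) (hRZ : Nat.card (Subgroup.center R) = 4)
    (r : ℕ) [Fact r.Prime]
    (hΩ : r ∣ (Cfsg.Geo.subgroupNormalizer R).relIndex (Cfsg.GU 4 F p ⊓ Cfsg.Geo.specialLinear (Fin 4) F)) :
    (∀ x ∈ Cfsg.GU 4 F p ⊓ Cfsg.Geo.specialLinear (Fin 4) F, (∃ z : F, ((x ^ r : GL (Fin 4) F) : Matrix (Fin 4) (Fin 4) F) = z • (1 : Matrix (Fin 4) (Fin 4) F)) →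
      (∀ z : F, (x : Matrix (Fin 4) (Fin 4) F) ≠ z • (1 : Matrix (Fin 4) (Fin 4) F)) →
      ∃ g ∈ Cfsg.GU 4 F p ⊓ Cfsg.Geo.specialLinear (Fin 4) F, g⁻¹ * x * g ∈ Cfsg.Geo.subgroupNormalizer R) ↔ (r = 2 ∨ (r = 3 ∧ p % 3 = 1) ∨ (r = 5 ∧ orderOf (p : ZMod 5) = 4)) := by
  classical
  have hp' : p.Prime := Fact.out
  have hr : r.Prime := Fact.out
  have hp2 : p ≠ 2 := by
    intro h
    rw [h] at hp4
    norm_num at hp4
  have hp5 : p ≠ 5 := by
    intro h
    rw [h] at hp4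
    norm_num at hp4
  have hpodd : p % 2 = 1 := by omega
  have h2 : (2 : F) ≠ 0 := by
    intro h
    have h' : ((2 : ℕ) : F) = 0 := by exact_mod_cast h
    rw [CharP.cast_eq_zero_iff F p] at h'
    exact hp2 ((Nat.prime_dvd_prime_iff_eq hp' Nat.prime_two).1 h')
  have h5 : (5 : F) ≠ 0 := by
    intro h
    have h' : ((5 : ℕ) : F) = 0 := by exact_mod_cast h
    rw [CharP.cast_eq_zero_iff F p] at h'
    exact hp5 ((Nat.prime_dvd_prime_iff_eq hp' Nat.prime_five).1 h')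
  obtain ⟨σ, hσ, hσne, hσ2⟩ := Cfsg.Agent.S0277.exists_frob hF
  obtain ⟨i, hi, G₁, hi2, hG₁U, hRG⟩ :=
    Cfsg.Agent.H9.Pauli4.exists_unitary_pauli_form σ hσ hσne hσ2 h2 R hRs hRi hRU hR6 hRZ
  have hσi : σ i = -i := Cfsg.Agent.H9.Pauli4.sigma_i σ hσ hp4 i hi2
  have hcard : Nat.card ↥(Cfsg.Agent.H9.Pauli4.Pstd i hi) = 64 := by
    have h := hR6
    rw [hRG, Subgroup.card_map_of_injective (MulAut.conj G₁).injective] at h
    rw [h]
    norm_num
  have hNmap : ∀ n : GL (Fin 4) F,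
      n ∈ Subgroup.normalizer (Cfsg.Agent.H9.Pauli4.Pstd i hi : Set (GL (Fin 4) F)) →
      G₁ * n * G₁⁻¹ ∈ Cfsg.Geo.subgroupNormalizer R := by
    intro n hn
    unfold Cfsg.Geo.subgroupNormalizer
    rw [hRG]
    exact Subgroup.le_normalizer_map _ ⟨n, hn, rfl⟩
  have hNmap' : ∀ Y : GL (Fin 4) F, Y ∈ Cfsg.Geo.subgroupNormalizer R →
      G₁⁻¹ * Y * G₁ ∈ Subgroup.normalizer (Cfsg.Agent.H9.Pauli4.Pstd i hi : Set (GL (Fin 4) F)) := by
    intro Y hY
    unfold Cfsg.Geo.subgroupNormalizer at hY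
    rw [hRG, ← Subgroup.map_equiv_normalizer_eq] at hY
    obtain ⟨n, hn, hnY⟩ := hY
    have hY' : Y = G₁ * n * G₁⁻¹ := hnY.symm
    have : G₁⁻¹ * Y * G₁ = n := by rw [hY']; group
    rw [this]
    exact hn
  have hG₁det := Cfsg.Agent.Lib.Helper8.SUReg.det_of_mem_GU σ hσ G₁ hG₁U
  have reduce : ∀ x : GL (Fin 4) F,
      (∀ δ : Fˣ, (δ : F) * σ δ = 1 → ∃ k : GL (Fin 4) F, k ∈ Cfsg.GU 4 F p ∧
        Matrix.GeneralLinearGroup.det k = δ ∧
        k⁻¹ * x * k ∈ Subgroup.normalizer (Cfsg.Agent.H9.Pauli4.Pstd i hi : Set (GL (Fin 4) F))) →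
      ∃ g ∈ Cfsg.GU 4 F p ⊓ Cfsg.Geo.specialLinear (Fin 4) F,
        g⁻¹ * x * g ∈ Cfsg.Geo.subgroupNormalizer R := by
    intro x hx
    obtain ⟨k, hkU, hkdet, hk⟩ := hx (Matrix.GeneralLinearGroup.det G₁) (by
      rw [Matrix.GeneralLinearGroup.val_det_apply]; exact hG₁det)
    refine ⟨k * G₁⁻¹, ⟨Subgroup.mul_mem _ hkU (Subgroup.inv_mem _ hG₁U), ?_⟩, ?_⟩
    · show k * G₁⁻¹ ∈ Cfsg.Geo.specialLinear (Fin 4) F
      unfold Cfsg.Geo.specialLinear
      rw [MonoidHom.mem_ker, map_mul, map_inv, hkdet, mul_inv_cancel]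
    · have : (k * G₁⁻¹)⁻¹ * x * (k * G₁⁻¹) = G₁ * (k⁻¹ * x * k) * G₁⁻¹ := by group
      rw [this]
      exact hNmap _ hk
  have hdetz : ∀ (x : GL (Fin 4) F) (n : ℕ) (z : F), x ∈ Cfsg.Geo.specialLinear (Fin 4) F →
      ((x ^ n : GL (Fin 4) F) : Matrix (Fin 4) (Fin 4) F) = z • (1 : Matrix (Fin 4) (Fin 4) F) →
      z ^ 4 = 1 := by
    intro x n z hxS hz
    have hdet := (Cfsg.Agent.H9.Ex27.mem_specialLinear x).1 hxS
    have h1 := congrArg Matrix.det hz
    rw [Units.val_pow_eq_pow_val, Matrix.det_pow, hdet, one_pow, Matrix.det_smul, Matrix.det_one,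
      mul_one, Fintype.card_fin] at h1
    exact h1.symm
  constructor
  · intro H
    -- every suitable element has a conjugate in the normalizer of the standard group
    have obstruct : ∀ x : GL (Fin 4) F, x ∈ Cfsg.GU 4 F p ⊓ Cfsg.Geo.specialLinear (Fin 4) F →
        (∃ z : F, ((x ^ r : GL (Fin 4) F) : Matrix (Fin 4) (Fin 4) F)
          = z • (1 : Matrix (Fin 4) (Fin 4) F)) →
        (∀ z : F, (x : Matrix (Fin 4) (Fin 4) F) ≠ z • (1 : Matrix (Fin 4) (Fin 4) F)) →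
        ∃ k : GL (Fin 4) F, k⁻¹ * x * k
          ∈ Subgroup.normalizer (Cfsg.Agent.H9.Pauli4.Pstd i hi : Set (GL (Fin 4) F)) := by
      intro x hxS hz hns
      obtain ⟨g, _, hY⟩ := H x hxS hz hns
      refine ⟨g * G₁, ?_⟩
      have : (g * G₁)⁻¹ * x * (g * G₁) = G₁⁻¹ * (g⁻¹ * x * g) * G₁ := by group
      rw [this]
      exact hNmap' _ hY
    by_contra hcon
    push Not at hcon
    obtain ⟨hr2, hr3, hr5⟩ := hcon
    by_cases hr3' : r = 3
    · subst hr3'
      have hp3 : p % 3 ≠ 1 := hr3 rfl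
      by_cases hp3' : p = 3
      · -- characteristic three: a unitary transvection
        have h3 : (3 : F) = 0 := by
          have : ((3 : ℕ) : F) = 0 := by
            rw [CharP.cast_eq_zero_iff F p, hp3']
          exact_mod_cast this
        obtain ⟨k, hk⟩ := obstruct (Cfsg.Agent.H9.Pauli4.xt i hi2 h3)
          ⟨Cfsg.Agent.H9.Pauli4.xt_mem_GU σ i hσ hi2 h3 hσi,
            (Cfsg.Agent.H9.Ex27.mem_specialLinear _).2 (Cfsg.Agent.H9.Pauli4.det_xt i hi2 h3)⟩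
          ⟨1, by rw [Cfsg.Agent.H9.Pauli4.xt_pow i hi2 h3, Units.val_one, one_smul]⟩
          (Cfsg.Agent.H9.Pauli4.xt_not_scalar i hi hi2 h3)
        exact Cfsg.Agent.H9.Pauli4.no_conj_transv i hi h2 hi2 h3 hcard k hk
      · have hp32 : p % 3 = 2 := by
          have : p % 3 ≠ 0 := by
            intro h
            exact hp3' ((Nat.prime_dvd_prime_iff_eq Nat.prime_three hp').1
              (Nat.dvd_of_mod_eq_zero h)).symm
          omega
        have h3 : (3 : F) ≠ 0 := Cfsg.Agent.Lib.Helper8.Singer3.three_ne_zero_of p hp3'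
        have h3' : 3 ∣ p ^ 2 - 1 := by
          have e : p ^ 2 - 1 = (p + 1) * (p - 1) := by
            have : 1 ≤ p := by omega
            zify [this, Nat.one_le_pow 2 p (by omega)]
            ring
          rw [e]
          exact Dvd.dvd.mul_right (by omega) _
        obtain ⟨ω, hω⟩ := Cfsg.Agent.Lib.Helper8.Singer3.exists_omega hF h3'
        have hω3 : ω ^ 3 = 1 := by linear_combination (ω - 1) * hω
        have hω1 : ω ≠ 1 := by
          rintro rfl
          apply h3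
          linear_combination hω
        have hω0 : ω ≠ 0 := by
          rintro rfl
          simp at hω3
        have hωn : ω * σ ω = 1 := by
          rw [hσ, ← pow_succ']
          obtain ⟨m, hm⟩ : ∃ m, p = 3 * m + 2 := ⟨p / 3, by omega⟩
          rw [hm]
          have : 3 * m + 2 + 1 = 3 * (m + 1) := by ring
          rw [this, pow_mul, hω3, one_pow]
        obtain ⟨k, hk⟩ := obstruct (Cfsg.Agent.H9.Pauli4.x3 ω hω0)
          ⟨Cfsg.Agent.H9.Pauli4.x3_mem_GU σ hσ ω hω0 hωn,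
            (Cfsg.Agent.H9.Ex27.mem_specialLinear _).2 (Cfsg.Agent.H9.Pauli4.det_x3 ω hω0 hω3)⟩
          ⟨1, by rw [Cfsg.Agent.H9.Pauli4.x3_pow ω hω0 hω3, Units.val_one, one_smul]⟩
          (Cfsg.Agent.H9.Pauli4.x3_not_scalar ω hω0 hω1)
        exact Cfsg.Agent.H9.Pauli4.no_conj_three i hi h2 h3 hi2 hcard ω hω0 hω hω1 k hk
    by_cases hr5' : r = 5
    · subst hr5'
      have hord : orderOf (p : ZMod 5) ≠ 4 := hr5 rfl
      obtain ⟨t, ht, htp⟩ := Cfsg.Agent.H9.Pauli4.exists_golden_fixed (F := F) hp2 hp5 hord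
      have hσt : σ t = t := by rw [hσ]; exact htp
      obtain ⟨a, b, hab, hn⟩ := Cfsg.Agent.H9.Pauli4.exists_unitary_block σ hσ2 hσne t hσt
      have ht' : (a + σ a) ^ 2 + (a + σ a) - 1 = 0 := by rw [hab]; exact ht
      obtain ⟨k, hk⟩ := obstruct (Cfsg.Agent.H9.Pauli4.x5U σ a b hn)
        ⟨Cfsg.Agent.H9.Pauli4.x5U_mem_GU σ a b hσ hσ2 hn,
          (Cfsg.Agent.H9.Ex27.mem_specialLinear _).2 (Cfsg.Agent.H9.Pauli4.det_x5U σ a b hn)⟩
        ⟨1, by rw [Cfsg.Agent.H9.Pauli4.x5U_pow σ a b hn ht', Units.val_one, one_smul]⟩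
        (Cfsg.Agent.H9.Pauli4.x5U_not_scalar σ a b h5 hn ht')
      exact Cfsg.Agent.H9.Pauli4.no_conj_five_U σ i hi a b h2 h5 hi2 hcard hn ht' k hk
    · have hr7 : 7 ≤ r := by
        have h2r := hr.two_le
        by_contra hlt
        have : r = 4 ∨ r = 6 := by omega
        rcases this with h | h <;> rw [h] at hr <;> norm_num at hr
      have hdvd : r ∣ Nat.card ↥(Cfsg.GU 4 F p ⊓ Cfsg.Geo.specialLinear (Fin 4) F) :=
        hΩ.trans (Subgroup.relIndex_dvd_card _ _)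
      obtain ⟨X₀, hX₀⟩ := exists_prime_orderOf_dvd_card' r hdvd
      have hord : orderOf (X₀ : GL (Fin 4) F) = r := by rw [Subgroup.orderOf_coe]; exact hX₀
      have hsc : ∀ z : F, ((X₀ : GL (Fin 4) F) : Matrix (Fin 4) (Fin 4) F)
          ≠ z • (1 : Matrix (Fin 4) (Fin 4) F) := by
        intro z hz
        have hdet := (Cfsg.Agent.H9.Ex27.mem_specialLinear (X₀ : GL (Fin 4) F)).1 X₀.2.2
        rw [hz, Matrix.det_smul, Matrix.det_one, mul_one, Fintype.card_fin] at hdet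
        have hY4 : (X₀ : GL (Fin 4) F) ^ 4 = 1 := by
          apply Units.ext
          rw [Units.val_pow_eq_pow_val, hz, smul_pow, one_pow, hdet, one_smul]
          rfl
        have := orderOf_dvd_of_pow_eq_one hY4
        rw [hord] at this
        have := Nat.le_of_dvd (by norm_num) this
        omega
      have hpow : ((((X₀ : GL (Fin 4) F)) ^ r : GL (Fin 4) F) : Matrix (Fin 4) (Fin 4) F)
          = (1 : F) • (1 : Matrix (Fin 4) (Fin 4) F) := by
        rw [← hord, pow_orderOf_eq_one, Units.val_one, one_smul]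
      obtain ⟨k, hk⟩ := obstruct (X₀ : GL (Fin 4) F) X₀.2 ⟨1, hpow⟩ hsc
      obtain ⟨c, hc⟩ := Cfsg.Agent.H9.Pauli4.scalar_of_seven_le i hi h2 hi2 hcard r hr7 _ hk 1
        (Cfsg.Agent.H9.Pauli4.conj_pow_scalar _ k r 1 hpow)
      exact Cfsg.Agent.H9.Pauli4.conj_not_scalar _ k hsc c hc
  · rintro (rfl | ⟨rfl, hp3⟩ | ⟨rfl, hord⟩)
    · intro x hxS hpow hns
      obtain ⟨z, hz⟩ := hpow
      have hz4 := hdetz x 2 z hxS.2 hz
      apply reduce
      intro δ hδ
      obtain ⟨c, hc⟩ := Cfsg.Agent.H9.Pauli4.exists_sqrt_of_pow_four hF h2 hp4 z hz4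
      have hc0 : c ≠ 0 := by
        rintro rfl
        rw [← hc] at hz4
        simp at hz4
      have hx2 : (x : Matrix (Fin 4) (Fin 4) F) * x
          = (c ^ 2) • (1 : Matrix (Fin 4) (Fin 4) F) := by
        rw [← pow_two, ← Units.val_pow_eq_pow_val, hz, hc]
      have hn2 := Cfsg.Agent.H9.Pauli4.norm_sq_eq_one σ hσ hp4 c (by rw [hc]; exact hz4)
      have hfac : (c * σ c - 1) * (c * σ c + 1) = 0 := by linear_combination hn2
      rcases mul_eq_zero.1 hfac with h | h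
      · exact Cfsg.Agent.H9.Pauli4.conj_sq_U4a σ i hi hF hσ hσ2 hσne h2 hi2 x hxS.1 c hc0
          (by linear_combination h) hx2 δ hδ
      · have hcn : c * σ c = -1 := by linear_combination h
        have hc4 : c ^ 4 = -1 := by
          have hz2 : (z ^ 2 - 1) * (z ^ 2 + 1) = 0 := by linear_combination hz4
          rcases mul_eq_zero.1 hz2 with h' | h'
          · exfalso
            have hc41 : c ^ 4 = 1 := by
              have : c ^ 4 = (c ^ 2) ^ 2 := by ring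
              rw [this, hc]
              linear_combination h'
            have := Cfsg.Agent.H9.Pauli4.norm_pow_four σ hσ hp4 c hc41
            rw [hcn] at this
            apply h2
            linear_combination -this
          · have : c ^ 4 = (c ^ 2) ^ 2 := by ring
            rw [this, hc]
            linear_combination h'
        exact Cfsg.Agent.H9.Pauli4.conj_sq_U4b σ i hi hF hσ hσ2 hσne h2 x hxS.1 c hc0 hcn hc4
          hx2 δ hδ
    · intro x hxS hpow hns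
      obtain ⟨z, hz⟩ := hpow
      have hz4 := hdetz x 3 z hxS.2 hz
      have hz0 : z ≠ 0 := by
        intro h
        rw [h] at hz4
        simp at hz4
      have hp3' : p ≠ 3 := by
        intro h
        rw [h] at hp3
        norm_num at hp3
      have h3 : (3 : F) ≠ 0 := Cfsg.Agent.Lib.Helper8.Singer3.three_ne_zero_of p hp3'
      have h3' : 3 ∣ p ^ 2 - 1 := by
        have e : p ^ 2 - 1 = (p + 1) * (p - 1) := by
          have : 1 ≤ p := by omega
          zify [this, Nat.one_le_pow 2 p (by omega)]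
          ring
        rw [e]
        exact Dvd.dvd.mul_left (by omega) _
      obtain ⟨ω, hω⟩ := Cfsg.Agent.Lib.Helper8.Singer3.exists_omega hF h3'
      have hω3 : ω ^ 3 = 1 := by linear_combination (ω - 1) * hω
      have hσω : σ ω = ω := by
        rw [hσ]
        obtain ⟨m, hm⟩ : ∃ m, p = 3 * m + 1 := ⟨p / 3, by omega⟩
        rw [hm, pow_succ, pow_mul, hω3, one_pow, one_mul]
      apply reduce
      intro δ hδ
      obtain ⟨x', hx'⟩ : ∃ x', x' = Cfsg.Agent.H9.Pauli4.sc4 z hz0 * x := ⟨_, rfl⟩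
      have hzU : Cfsg.Agent.H9.Pauli4.sc4 z hz0 ∈ Cfsg.GU 4 F p :=
        Cfsg.Agent.H9.Pauli4.sc4_mem_GU σ hσ z hz0
          (Cfsg.Agent.H9.Pauli4.norm_pow_four σ hσ hp4 z hz4)
      have hx'U : x' ∈ Cfsg.GU 4 F p := by
        rw [hx']
        exact Subgroup.mul_mem _ hzU hxS.1
      have hx'3 : x' ^ 3 = 1 := by
        rw [hx', (show Commute (Cfsg.Agent.H9.Pauli4.sc4 z hz0) x from
          Cfsg.Agent.H9.Pauli4.sc4_comm z hz0 x).mul_pow]
        apply Units.ext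
        rw [Units.val_mul, hz, Units.val_pow_eq_pow_val, Cfsg.Agent.H9.Pauli4.sc4_val, smul_pow,
          one_pow, Matrix.smul_mul, Matrix.one_mul, smul_smul, Units.val_one]
        have : z ^ 3 * z = 1 := by linear_combination hz4
        rw [this, one_smul]
      have hx'1 : x' ≠ 1 := by
        intro h
        apply hns z⁻¹
        have : x = (Cfsg.Agent.H9.Pauli4.sc4 z hz0)⁻¹ := by
          rw [eq_inv_iff_mul_eq_one, ← Cfsg.Agent.H9.Pauli4.sc4_comm, ← hx', h]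
        rw [this, Cfsg.Agent.H9.Pauli4.sc4]
        rw [Cfsg.Agent.H9.Pauli4.dg4_inv, Cfsg.Agent.H9.Pauli4.dg4_val,
          Cfsg.Agent.H9.Pauli4.diagonal_const4]
      obtain ⟨k, hkU, hkdet, hk⟩ := Cfsg.Agent.H9.Pauli4.conj_cube_U4 σ i hi hF hσ hσ2 hσne h2 h3
        hi2 hσi ω hω hσω x' hx'U hx'3 hx'1 δ hδ
      refine ⟨k, hkU, hkdet, ?_⟩
      have : k⁻¹ * x * k = (Cfsg.Agent.H9.Pauli4.sc4 z hz0)⁻¹ * (k⁻¹ * x' * k) := by
        rw [hx']
        have hc := Cfsg.Agent.H9.Pauli4.sc4_comm z hz0 k⁻¹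
        calc k⁻¹ * x * k = (Cfsg.Agent.H9.Pauli4.sc4 z hz0)⁻¹
              * (Cfsg.Agent.H9.Pauli4.sc4 z hz0 * k⁻¹) * x * k := by group
          _ = (Cfsg.Agent.H9.Pauli4.sc4 z hz0)⁻¹
              * (k⁻¹ * Cfsg.Agent.H9.Pauli4.sc4 z hz0) * x * k := by rw [hc]
          _ = (Cfsg.Agent.H9.Pauli4.sc4 z hz0)⁻¹
              * (k⁻¹ * (Cfsg.Agent.H9.Pauli4.sc4 z hz0 * x) * k) := by group
      rw [this]
      exact Subgroup.mul_mem _ (Subgroup.inv_mem _
        (Cfsg.Agent.H9.Pauli4.sc4_mem_normalizer i hi z hz0)) hk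
    · intro x hxS hpow hns
      obtain ⟨z, hz⟩ := hpow
      have hz4 := hdetz x 5 z hxS.2 hz
      have hz0 : z ≠ 0 := by
        intro h
        rw [h] at hz4
        simp at hz4
      have hno := Cfsg.Agent.H9.Pauli4.no_fifth_root hF h5 hord
      obtain ⟨t₁, ht₁, hmoved⟩ := Cfsg.Agent.H9.Pauli4.exists_t_moved σ hF hσ h2 hpodd hno
      obtain ⟨t₂, ht₂def⟩ : ∃ t₂, t₂ = σ t₁ := ⟨_, rfl⟩
      have ht₂root : t₂ ^ 2 + t₂ - 1 = 0 := by
        rw [ht₂def, ← map_pow, ← map_add, ← map_one σ, ← map_sub, ht₁, map_zero]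
      have hne : t₁ ≠ t₂ := by
        rw [ht₂def]
        exact fun h => hmoved h.symm
      have ht₂ : t₂ = -1 - t₁ := by
        have hfac : (t₂ - t₁) * (t₂ + t₁ + 1) = 0 := by linear_combination ht₂root - ht₁
        rcases mul_eq_zero.1 hfac with h | h
        · exact absurd (sub_eq_zero.1 h).symm hne
        · linear_combination h
      apply reduce
      intro δ hδ
      have hzi0 : z⁻¹ ≠ 0 := inv_ne_zero hz0
      have hzi4 : z⁻¹ ^ 4 = 1 := by rw [inv_pow, hz4, inv_one]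
      obtain ⟨x', hx'⟩ : ∃ x', x' = Cfsg.Agent.H9.Pauli4.sc4 z⁻¹ hzi0 * x := ⟨_, rfl⟩
      have hzU : Cfsg.Agent.H9.Pauli4.sc4 z⁻¹ hzi0 ∈ Cfsg.GU 4 F p :=
        Cfsg.Agent.H9.Pauli4.sc4_mem_GU σ hσ z⁻¹ hzi0
          (Cfsg.Agent.H9.Pauli4.norm_pow_four σ hσ hp4 z⁻¹ hzi4)
      have hx'U : x' ∈ Cfsg.GU 4 F p := by
        rw [hx']
        exact Subgroup.mul_mem _ hzU hxS.1
      have hx'5 : x' ^ 5 = 1 := by
        rw [hx', (show Commute (Cfsg.Agent.H9.Pauli4.sc4 z⁻¹ hzi0) x from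
          Cfsg.Agent.H9.Pauli4.sc4_comm z⁻¹ hzi0 x).mul_pow]
        apply Units.ext
        rw [Units.val_mul, hz, Units.val_pow_eq_pow_val, Cfsg.Agent.H9.Pauli4.sc4_val, smul_pow,
          one_pow, Matrix.smul_mul, Matrix.one_mul, smul_smul, Units.val_one]
        have : z⁻¹ ^ 5 * z = 1 := by
          have h1 : z⁻¹ ^ 5 * z = (z⁻¹ ^ 4) * (z⁻¹ * z) := by ring
          rw [h1, inv_mul_cancel₀ hz0, mul_one, hzi4]
        rw [this, one_smul]
      have hx'1 : x' ≠ 1 := by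
        intro h
        apply hns z
        have : x = (Cfsg.Agent.H9.Pauli4.sc4 z⁻¹ hzi0)⁻¹ := by
          rw [eq_inv_iff_mul_eq_one, ← Cfsg.Agent.H9.Pauli4.sc4_comm, ← hx', h]
        rw [this, Cfsg.Agent.H9.Pauli4.sc4]
        rw [Cfsg.Agent.H9.Pauli4.dg4_inv, Cfsg.Agent.H9.Pauli4.dg4_val]
        simp only [inv_inv]
        rw [Cfsg.Agent.H9.Pauli4.diagonal_const4]
      obtain ⟨k, hkU, hkdet, hk⟩ := Cfsg.Agent.H9.Pauli4.conj_five_U4 σ i hi hF hσ hσ2 hσne h2 h5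
        hi2 hσi t₁ t₂ ht₁ ht₂ hne ht₂def.symm hno x' hx'U hx'5 hx'1 δ hδ
      refine ⟨k, hkU, hkdet, ?_⟩
      have : k⁻¹ * x * k = (Cfsg.Agent.H9.Pauli4.sc4 z⁻¹ hzi0)⁻¹ * (k⁻¹ * x' * k) := by
        rw [hx']
        have hc := Cfsg.Agent.H9.Pauli4.sc4_comm z⁻¹ hzi0 k⁻¹
        calc k⁻¹ * x * k = (Cfsg.Agent.H9.Pauli4.sc4 z⁻¹ hzi0)⁻¹
              * (Cfsg.Agent.H9.Pauli4.sc4 z⁻¹ hzi0 * k⁻¹) * x * k := by group
          _ = (Cfsg.Agent.H9.Pauli4.sc4 z⁻¹ hzi0)⁻¹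
              * (k⁻¹ * Cfsg.Agent.H9.Pauli4.sc4 z⁻¹ hzi0) * x * k := by rw [hc]
          _ = (Cfsg.Agent.H9.Pauli4.sc4 z⁻¹ hzi0)⁻¹
              * (k⁻¹ * (Cfsg.Agent.H9.Pauli4.sc4 z⁻¹ hzi0 * x) * k) := by group
      rw [this]
      exact Subgroup.mul_mem _ (Subgroup.inv_mem _
        (Cfsg.Agent.H9.Pauli4.sc4_mem_normalizer i hi z⁻¹ hzi0)) hk

end Cfsg.Agent.S6001
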