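import Cfsg.Statements.S6002
import Cfsg.Agent.H9.Sp4F
import Cfsg.Agent.H9.Sp4J
import Cfsg.Agent.H9.Sp4P
import Cfsg.Agent.H9.Sp4Q
import Cfsg.Agent.H9.Sp4U
import Cfsg.Agent.H9.Pauli4U9

set_option autoImplicit false
open scoped MatrixGroups
open Cfsg

namespace Cfsg.Agent.S6002

/-- Elements of prime order of PSp_4(p), p odd, and the normalizer of an extraspecial 2-group of order 2⁵ of minus type. Here `T = PSp_4(F)` for the field `F` with `p` elements, `p` an odd prime, realised through the matrices preserving the standard alternating form `f`; `R` is an absolutely irreducible subgroup of `T` (it preserves `f`) that is a 2-group of symplectic type of exponent 4, order 2⁵ and centre of order 2, of minus type (no elementary abelian subgroup of order 2³), and `H` is the subgroup of `T` normalizing `R` — a subgroup of type 2^{1+4}.O₄⁻(2) (maximality is not assumed). Ω is the set of cosets of `H` in `T`, so an element of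 `T` of prime order `r` (`x ∈ T` with `x^r` scalar, `x` not scalar) fixes a point of Ω exactly when some `T`-conjugate of `x` normalizes `R`. Let `r` be a prime dividing the index of `H`. Then every element of `T` of order `r` fixes a point of Ω if and only if `r = 2`, or `r = 5` and `p` has multiplicative order 4 modulo 5. -/
theorem result {F : Type*} [Field F] [Fintype F] {p : ℕ} [Fact p.Prime] [CharP F p] (hF : Fintype.card F = p) (hodd : Odd p)
    (R : Subgroup (GL (Fin 2 ⊕ Fin 2) F)) (hRs : Cfsg.Geo.IsSymplecticTypeGroup 2 R) (hRi : Cfsg.Geo.ActsAbsolutelyIrreducibly (Cfsg.Geo.matrixSet R))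
    (hRf : R ≤ Cfsg.spGL 2 F) (hR5 : Nat.card R = 2 ^ 5) (hRZ : Nat.card (Subgroup.center R) = 2) (hRm : Cfsg.Geo.IsOfMinusType 2 R)
    (r : ℕ) [Fact r.Prime]
    (hΩ : r ∣ (Cfsg.Geo.subgroupNormalizer R).relIndex (Cfsg.spGL 2 F)) :
    (∀ x ∈ Cfsg.spGL 2 F, (∃ z : F, ((x ^ r : GL (Fin 2 ⊕ Fin 2) F) : Matrix (Fin 2 ⊕ Fin 2) (Fin 2 ⊕ Fin 2) F) = z • (1 : Matrix (Fin 2 ⊕ Fin 2) (Fin 2 ⊕ Fin 2) F)) →
      (∀ z : F, (x : Matrix (Fin 2 ⊕ Fin 2) (Fin 2 ⊕ Fin 2) F) ≠ z • (1 : Matrix (Fin 2 ⊕ Fin 2) (Fin 2 ⊕ Fin 2) F)) →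
      ∃ g ∈ Cfsg.spGL 2 F, g⁻¹ * x * g ∈ Cfsg.Geo.subgroupNormalizer R) ↔ (r = 2 ∨ (r = 5 ∧ orderOf (p : ZMod 5) = 4)) := by
  classical
  have hp' : p.Prime := Fact.out
  have hr : r.Prime := Fact.out
  have hp2 : p ≠ 2 := by
    rintro rfl
    exact absurd hodd (by decide)
  have h2 : (2 : F) ≠ 0 := by
    intro h
    have h' : ((2 : ℕ) : F) = 0 := by exact_mod_cast h
    rw [CharP.cast_eq_zero_iff F p] at h'
    exact hp2 ((Nat.prime_dvd_prime_iff_eq hp' Nat.prime_two).1 h')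
  have hcardF : Nat.card F = p := by rw [Nat.card_eq_fintype_card, hF]
  obtain ⟨n, a1, b1, a2, b2, h⟩ := Cfsg.Agent.H9.Sp4.exists_ESData R hRs hRi hR5 hRZ hRm
  have hι : Fintype.card (Fin 2 ⊕ Fin 2) = 4 := Cfsg.Agent.H9.Sp4.card_index4
  have hn1 : n ≠ 1 := h.n_ne_one hι h2
  have hRN : ∀ y ∈ R, y ∈ Cfsg.Geo.subgroupNormalizer R := fun y hy =>
    Subgroup.le_normalizer hy
  -- scalars in the symplectic group
  have hscal : ∀ (x : GL (Fin 2 ⊕ Fin 2) F) (z : F), x ∈ Cfsg.spGL 2 F →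
      (x : Matrix (Fin 2 ⊕ Fin 2) (Fin 2 ⊕ Fin 2) F) = z • (1 : Matrix (Fin 2 ⊕ Fin 2) (Fin 2 ⊕ Fin 2) F) →
      z = 1 ∨ z = -1 := by
    intro x z hx hz
    have := (Cfsg.Agent.H9.Sp4.mem_spGL_iff 2 x).1 hx
    rw [hz] at this
    exact mul_self_eq_one_iff.mp (Cfsg.Agent.H9.Sp4.sq_eq_one_of_scalar_mem z this)
  -- non-central elements are not scalar
  have hnons : ∀ a b : GL (Fin 2 ⊕ Fin 2) F, a * b = n * (b * a) →
      ∀ c : F, (a : Matrix (Fin 2 ⊕ Fin 2) (Fin 2 ⊕ Fin 2) F)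
        ≠ c • (1 : Matrix (Fin 2 ⊕ Fin 2) (Fin 2 ⊕ Fin 2) F) := by
    intro a b hab c hc
    exact Cfsg.Agent.H9.Sp4.ne_of_anti n h.n_comm' h.n_sq hn1 hab
      (Cfsg.Agent.H9.Sp4.central_of_scalar a c hc b)
  obtain ⟨e1, e2, e3, e4, e5, e6, e7, e8, e9, e10⟩ := h.gens
  constructor
  · intro H
    by_contra hcon
    push Not at hcon
    obtain ⟨hr2, hr5⟩ := hcon
    have obstruct : ∀ x : GL (Fin 2 ⊕ Fin 2) F, x ∈ Cfsg.spGL 2 F →
        (∃ z : F, ((x ^ r : GL (Fin 2 ⊕ Fin 2) F) : Matrix (Fin 2 ⊕ Fin 2) (Fin 2 ⊕ Fin 2) F)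
          = z • (1 : Matrix (Fin 2 ⊕ Fin 2) (Fin 2 ⊕ Fin 2) F)) →
        (∀ z : F, (x : Matrix (Fin 2 ⊕ Fin 2) (Fin 2 ⊕ Fin 2) F)
          ≠ z • (1 : Matrix (Fin 2 ⊕ Fin 2) (Fin 2 ⊕ Fin 2) F)) →
        ∃ k : GL (Fin 2 ⊕ Fin 2) F, k⁻¹ * x * k
          ∈ Subgroup.normalizer (R : Set (GL (Fin 2 ⊕ Fin 2) F)) := by
      intro x hx hz hns
      obtain ⟨g, _, hg⟩ := H x hx hz hns
      exact ⟨g, hg⟩
    by_cases hr3' : r = 3
    · subst hr3'
      by_cases hp3 : p = 3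
      · have h3 : ((3 : ℕ) : F) = 0 := by
          rw [CharP.cast_eq_zero_iff F p, hp3]
        obtain ⟨k, hk⟩ := obstruct Cfsg.Agent.H9.Sp4.yu Cfsg.Agent.H9.Sp4.yu_mem
          ⟨1, by rw [Cfsg.Agent.H9.Sp4.yu_pow 3 h3, Units.val_one, one_smul]⟩
          Cfsg.Agent.H9.Sp4.yu_not_scalar
        exact Cfsg.Agent.H9.Sp4.no_conj_unip h h2 3 h3 (by norm_num) k hk
      · have h3 : (3 : F) ≠ 0 := by
          intro h'
          have h'' : ((3 : ℕ) : F) = 0 := by exact_mod_cast h'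
          rw [CharP.cast_eq_zero_iff F p] at h''
          exact hp3 ((Nat.prime_dvd_prime_iff_eq hp' Nat.prime_three).1 h'')
        obtain ⟨k, hk⟩ := obstruct Cfsg.Agent.H9.Sp4.y3 Cfsg.Agent.H9.Sp4.y3_mem
          ⟨1, by rw [Cfsg.Agent.H9.Sp4.y3_pow, Units.val_one, one_smul]⟩
          Cfsg.Agent.H9.Sp4.y3_not_scalar
        exact Cfsg.Agent.H9.Sp4.no_conj_three h h2 h3 k hk
    by_cases hr5' : r = 5
    · subst hr5'
      have hord : orderOf (p : ZMod 5) ≠ 4 := hr5 rfl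
      by_cases hp5 : p = 5
      · have h5 : ((5 : ℕ) : F) = 0 := by
          rw [CharP.cast_eq_zero_iff F p, hp5]
        obtain ⟨k, hk⟩ := obstruct Cfsg.Agent.H9.Sp4.yu Cfsg.Agent.H9.Sp4.yu_mem
          ⟨1, by rw [Cfsg.Agent.H9.Sp4.yu_pow 5 h5, Units.val_one, one_smul]⟩
          Cfsg.Agent.H9.Sp4.yu_not_scalar
        exact Cfsg.Agent.H9.Sp4.no_conj_unip h h2 5 h5 (by norm_num) k hk
      · have h5 : (5 : F) ≠ 0 := by
          intro h'
          have h'' : ((5 : ℕ) : F) = 0 := by exact_mod_cast h'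
          rw [CharP.cast_eq_zero_iff F p] at h''
          exact hp5 ((Nat.prime_dvd_prime_iff_eq hp' Nat.prime_five).1 h'')
        obtain ⟨t, ht, _⟩ := Cfsg.Agent.H9.Pauli4.exists_golden_fixed (F := F) hp2 hp5 hord
        obtain ⟨k, hk⟩ := obstruct (Cfsg.Agent.H9.Sp4.y5 t) (Cfsg.Agent.H9.Sp4.y5_mem t)
          ⟨1, by rw [Cfsg.Agent.H9.Sp4.y5_pow t ht, Units.val_one, one_smul]⟩
          (Cfsg.Agent.H9.Sp4.y5_not_scalar t)
        exact Cfsg.Agent.H9.Sp4.no_conj_five h h2 h5 t ht k hk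
    · have hr7 : 7 ≤ r := by
        have h2r := hr.two_le
        by_contra hlt
        have : r = 4 ∨ r = 6 := by omega
        rcases this with h' | h' <;> rw [h'] at hr <;> norm_num at hr
      have hdvd : r ∣ Nat.card ↥(Cfsg.spGL 2 F) :=
        hΩ.trans (Subgroup.relIndex_dvd_card _ _)
      obtain ⟨X₀, hX₀⟩ := exists_prime_orderOf_dvd_card' r hdvd
      have hordX : orderOf (X₀ : GL (Fin 2 ⊕ Fin 2) F) = r := by
        rw [Subgroup.orderOf_coe]; exact hX₀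
      have hsc : ∀ z : F, ((X₀ : GL (Fin 2 ⊕ Fin 2) F) : Matrix (Fin 2 ⊕ Fin 2) (Fin 2 ⊕ Fin 2) F)
          ≠ z • (1 : Matrix (Fin 2 ⊕ Fin 2) (Fin 2 ⊕ Fin 2) F) := by
        intro z hz
        have hzz : z * z = 1 := by
          rcases hscal _ z X₀.2 hz with rfl | rfl <;> ring
        have hY2 : (X₀ : GL (Fin 2 ⊕ Fin 2) F) ^ 2 = 1 := by
          apply Units.ext
          rw [Units.val_pow_eq_pow_val, hz, smul_pow, one_pow, pow_two, hzz, one_smul]
          rfl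
        have := orderOf_dvd_of_pow_eq_one hY2
        rw [hordX] at this
        have := Nat.le_of_dvd (by norm_num) this
        omega
      have hpow : ((((X₀ : GL (Fin 2 ⊕ Fin 2) F)) ^ r : GL (Fin 2 ⊕ Fin 2) F) :
          Matrix (Fin 2 ⊕ Fin 2) (Fin 2 ⊕ Fin 2) F)
          = (1 : F) • (1 : Matrix (Fin 2 ⊕ Fin 2) (Fin 2 ⊕ Fin 2) F) := by
        rw [← hordX, pow_orderOf_eq_one, Units.val_one, one_smul]
      obtain ⟨k, hk⟩ := obstruct (X₀ : GL (Fin 2 ⊕ Fin 2) F) X₀.2 ⟨1, hpow⟩ hsc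
      obtain ⟨c, hc⟩ := h.scalar_of_seven_le hι h2 r hr7 _ hk 1
        (Cfsg.Agent.H9.Sp4.conj_pow_scalar k _ r 1 hpow)
      exact Cfsg.Agent.H9.Sp4.conj_not_scalar k _ hsc c hc
  · rintro (rfl | ⟨rfl, hord⟩)
    · intro x hx hpow hns
      obtain ⟨z, hz⟩ := hpow
      have hx2 : x ^ 2 ∈ Cfsg.spGL 2 F := Subgroup.pow_mem _ hx 2
      have hxsq : (x : Matrix (Fin 2 ⊕ Fin 2) (Fin 2 ⊕ Fin 2) F) * x
          = z • (1 : Matrix (Fin 2 ⊕ Fin 2) (Fin 2 ⊕ Fin 2) F) := by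
        rw [← hz, pow_two, Units.val_mul]
      rcases hscal (x ^ 2) z hx2 hz with hz1 | hz1
      · have hysq : (a1 : Matrix (Fin 2 ⊕ Fin 2) (Fin 2 ⊕ Fin 2) F) * a1
            = z • (1 : Matrix (Fin 2 ⊕ Fin 2) (Fin 2 ⊕ Fin 2) F) := by
          rw [← Units.val_mul, e1, hz1, one_smul, Units.val_one]
        obtain ⟨g, hg, hgx⟩ := Cfsg.Agent.H9.Sp4.sp_conj_of_sq h2 x a1 hx (hRf h.a1_mem) z
          (by rw [hz1]; ring) hxsq hysq hns (hnons a1 b1 e5)
        exact ⟨g, hg, by rw [hgx]; exact hRN _ h.a1_mem⟩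
      · have hysq : (a2 : Matrix (Fin 2 ⊕ Fin 2) (Fin 2 ⊕ Fin 2) F) * a2
            = z • (1 : Matrix (Fin 2 ⊕ Fin 2) (Fin 2 ⊕ Fin 2) F) := by
          rw [← Units.val_mul, e3, hz1, neg_smul, one_smul, h.n_val]
        obtain ⟨g, hg, hgx⟩ := Cfsg.Agent.H9.Sp4.sp_conj_of_sq h2 x a2 hx (hRf h.a2_mem) z
          (by rw [hz1]; ring) hxsq hysq hns (hnons a2 b2 e6)
        exact ⟨g, hg, by rw [hgx]; exact hRN _ h.a2_mem⟩
    · intro x hx hpow hns
      obtain ⟨z, hz⟩ := hpow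
      have hp5 : p ≠ 5 := by
        intro hp5
        have h0 : (p : ZMod 5) = 0 := by
          rw [hp5]
          exact ZMod.natCast_self 5
        rw [h0] at hord
        have h00 : orderOf (0 : ZMod 5) = 0 := by
          rw [orderOf_eq_zero_iff]
          intro hfin
          obtain ⟨m, hm, hm'⟩ := hfin.exists_pow_eq_one
          rw [zero_pow (by omega)] at hm'
          exact zero_ne_one hm'
        omega
      have h5 : (5 : F) ≠ 0 := by
        intro h'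
        have h'' : ((5 : ℕ) : F) = 0 := by exact_mod_cast h'
        rw [CharP.cast_eq_zero_iff F p] at h''
        exact hp5 ((Nat.prime_dvd_prime_iff_eq hp' Nat.prime_five).1 h'')
      obtain ⟨x₁, hx₁sp, hx₁n, hx₁5, hx₁1⟩ := h.exists_normalizer_five h2 hRf
      have hx5 : x ^ 5 ∈ Cfsg.spGL 2 F := Subgroup.pow_mem _ hx 5
      have hn5 : n ^ 5 = n := by
        have : n ^ 5 = (n * n) * (n * n) * n := by
          rw [pow_succ, pow_succ, pow_succ, pow_succ, pow_one]; group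
        rw [this, h.n_sq, one_mul, one_mul]
      rcases hscal (x ^ 5) z hx5 hz with hz1 | hz1
      · have hx51 : x ^ 5 = 1 := by
          apply Units.ext
          rw [hz, hz1, one_smul, Units.val_one]
        have hx1 : x ≠ 1 := by
          intro h'
          apply hns 1
          rw [h', Units.val_one, one_smul]
        obtain ⟨g, hg, hgx⟩ := Cfsg.Agent.H9.Sp4.sp_conj_of_pow_five p hcardF hord h5 x x₁ hx
          hx₁sp hx51 hx1 hx₁5 hx₁1
        exact ⟨g, hg, by rw [hgx]; exact hx₁n⟩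
      · have hcm : Commute n x := h.n_comm x
        have hx51 : (n * x) ^ 5 = 1 := by
          rw [hcm.mul_pow, hn5]
          apply Units.ext
          rw [h.val_n_mul, hz, hz1, neg_smul, one_smul, neg_neg, Units.val_one]
        have hx1 : n * x ≠ 1 := by
          intro h'
          apply hns (-1)
          have : x = n := by
            have e : n * (n * x) = n * 1 := by rw [h']
            rw [← mul_assoc, h.n_sq, one_mul, mul_one] at e
            exact e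
          rw [this, h.n_val, neg_smul, one_smul]
        obtain ⟨g, hg, hgx⟩ := Cfsg.Agent.H9.Sp4.sp_conj_of_pow_five p hcardF hord h5 (n * x) x₁
          (Subgroup.mul_mem _ (hRf h.n_mem) hx) hx₁sp hx51 hx1 hx₁5 hx₁1
        refine ⟨g, hg, ?_⟩
        have e : g⁻¹ * x * g = n * x₁ := by
          rw [← hgx]
          calc g⁻¹ * x * g = (n * n) * (g⁻¹ * x * g) := by rw [h.n_sq, one_mul]
            _ = n * (g⁻¹ * (n * x) * g) := by
              have := h.n_comm g⁻¹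
              calc (n * n) * (g⁻¹ * x * g) = n * ((n * g⁻¹) * x * g) := by group
                _ = n * ((g⁻¹ * n) * x * g) := by rw [this]
                _ = n * (g⁻¹ * (n * x) * g) := by group
        rw [e]
        exact Subgroup.mul_mem _ (hRN _ h.n_mem) hx₁n

end Cfsg.Agent.S6002
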